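import Cfsg.Agent.Lib.StabCert.Chain

/-!
# Data: chain of the triple cover
-/

set_option autoImplicit false
set_option maxRecDepth 20000
set_option linter.style.longLine false

namespace Cfsg.Agent.MultiplierMcL

/-- Part of a closure certificate. -/
def pLev0c0 : List (ℕ × List ℕ) :=
  [(1, []),
   (3, []),
   (5, []),
   (7, []),
   (9, []),
   (11, []),
   (13, []),
   (15, []),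
   (17, []),
   (4, [5, 5, 5, 4, 6, 9, 10, 10, 11, 11]),
   (20, []),
   (21, []),
   (22, []),
   (24, []),
   (26, []),
   (28, []),
   (30, []),
   (32, []),
   (34, []),
   (36, []),
   (38, []),
   (40, []),
   (42, []),
   (44, []),
   (46, []),
   (18, [5, 4, 5, 4, 7, 8, 9, 11]),
   (49, []),
   (51, []),
   (53, []),
   (33, [4, 5, 4, 5, 5, 4, 4, 4, 8, 6, 6, 9]),
   (54, []),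
   (56, []),
   (58, []),
   (60, []),
   (62, []),
   (29, [5, 4, 6, 9, 6, 10]),
   (19, [4, 4, 5, 4, 8, 6, 6, 9, 11]),
   (64, []),
   (66, []),
   (68, []),
   (69, []),
   (71, []),
   (73, []),
   (75, []),
   (77, []),
   (41, [4, 4, 5, 4, 5, 9, 6, 7, 10, 10, 11]),
   (79, []),
   (57, [4, 4, 4, 4, 5, 4, 5, 8, 9, 10, 11]),
   (80, []),
   (72, [4, 4, 4, 9, 8, 7, 11]),
   (74, [5, 4, 4, 4, 5, 4, 4, 7, 9, 7, 10, 10, 11]),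
   (50, [5, 4, 4, 5, 4, 5, 5, 7, 7, 9, 6]),
   (84, []),
   (86, []),
   (87, []),
   (2, [4]),
   (61, [5, 4, 4, 4, 5, 4, 4, 6, 9, 7, 10]),
   (88, []),
   (90, []),
   (92, []),
   (70, [5, 5, 4, 5, 4, 5, 5, 8, 7, 9, 11]),
   (37, [5, 4, 4, 5, 4, 5, 7, 11, 11]),
   (95, []),
   (52, [5, 5, 5, 4, 5, 4, 9, 7, 9, 6]),
   (98, []),
   (99, []),
   (10, [9, 7, 8, 6, 11, 11]),
   (35, [5, 4, 5, 4, 4, 8, 8, 6, 10]),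
   (103, []),
   (105, []),
   (43, [5, 5, 5, 5, 4, 5, 7, 6, 6, 10]),
   (93, [5, 4, 5, 5, 5, 5, 8, 7, 9, 7, 10, 10]),
   (14, [4, 5, 5, 4, 6, 7, 11, 11]),
   (108, []),
   (27, [5, 4, 5, 5, 5, 5, 9, 6, 7, 10, 11, 11]),
   (67, [4, 5, 5, 5, 4, 5, 4, 9, 7, 7, 6, 10, 10, 11, 11]),
   (110, [4, 4, 4, 5, 4, 4, 4, 7, 9, 10, 10]),
   (104, [5, 5, 4, 5, 4, 4, 4, 6, 8, 9, 7, 10]),
   (114, []),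
   (115, []),
   (116, []),
   (117, []),
   (119, []),
   (120, []),
   (122, []),
   (8, [4, 4, 5, 4, 5, 5, 4, 6, 10, 10]),
   (0, [11, 11]),
   (124, [5, 4, 5, 4, 5, 5, 6, 9, 7, 8, 6, 10, 10, 11]),
   (102, [5, 7, 9, 7, 6, 10, 10, 11, 11]),
   (109, [5, 5, 4, 4, 5, 4, 5, 7, 9, 8, 6, 11, 11]),
   (127, []),
   (82, [4, 5, 4, 5, 7, 6, 10, 11]),
   (118, [4, 8, 9, 6, 6]),
   (123, [5, 4, 4, 4, 7, 7, 9, 6, 11]),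
   (65, [4, 4, 4, 5, 4, 5, 8, 6, 6, 9, 10, 11, 11]),
   (89, [5, 4, 6, 8, 9, 7, 10, 10, 11, 11]),
   (130, []),
   (131, []),
   (129, [5, 4, 4, 5, 5, 5, 6, 9, 8, 6, 10, 10]),
   (132, []),
   (76, [5, 5, 4, 4, 5, 4, 5, 6, 9, 10, 11]),
   (31, [4, 5, 4, 5, 4, 4, 9, 8, 6, 11]),
   (134, []),
   (135, []),
   (137, []),
   (55, [4, 4, 5, 6, 6, 11, 11]),
   (16, [5, 5, 5, 4, 5, 5, 4, 8, 7, 10, 10, 11, 11]),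
   (138, []),
   (140, []),
   (141, []),
   (142, []),
   (97, [4, 4, 5, 10, 10, 11]),
   (39, [5, 5, 4, 5, 5, 8, 7, 7, 6, 11, 11]),
   (48, [5, 5, 4, 4, 8, 9, 6, 6, 11]),
   (143, [4, 5, 4, 5, 5, 4, 4, 4, 6, 8, 6, 6, 10, 10]),
   (146, []),
   (125, [5, 5, 5, 7, 8, 9, 7, 10, 10]),
   (78, [4, 4, 4, 5, 4, 9, 6, 7, 10, 11, 11]),
   (23, [4, 4, 5, 4, 5, 6, 7, 10]),
   (100, [4, 4, 5, 4, 4, 4, 9, 6, 9, 10, 10]),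
   (148, []),
   (45, [4, 5, 4, 5, 5, 8, 7, 7, 6, 10, 10, 11, 11]),
   (145, [4, 5, 5, 5, 4, 5, 5, 4, 6, 9, 6, 7, 10, 10]),
   (150, []),
   (151, []),
   (111, [4, 5, 5, 5, 5, 4, 5, 4, 6, 8, 9, 7, 10, 10, 11, 11]),
   (153, []),
   (147, [5, 4, 5, 4, 4, 4, 8, 9, 6, 9, 10, 10, 11, 11]),
   (94, [4, 4, 5, 5, 5, 5, 9, 7, 8, 6, 11]),
   (101, [4, 4, 5, 4, 5, 5, 4, 7, 7, 9, 6, 10]),
   (12, [4, 5, 4, 5, 7, 9, 8, 7, 10, 11, 11]),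
   (113, [5, 5, 4, 4, 6, 9, 7, 10, 10, 11]),
   (155, []),
   (106, [5, 4, 4, 5, 4, 4, 4, 7, 9, 7, 11]),
   (126, [4, 5, 4, 5, 9, 6, 9]),
   (139, [5, 6, 9, 8, 6, 6, 11, 11]),
   (156, []),
   (59, [4, 4, 4, 5, 5, 5, 9, 7, 8, 6]),
   (107, [4, 5, 4, 4, 4, 8, 9, 6, 9, 10]),
   (136, [5, 5, 5, 4, 7, 9, 6]),
   (96, [4, 4, 5, 5, 5, 4, 8, 7, 9]),
   (25, [4, 4, 4, 5, 5, 5, 4, 8, 6, 6, 9, 10, 11, 11]),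
   (154, [5, 5, 5, 4, 5, 4, 4, 4, 7, 9, 6, 6, 10, 10]),
   (157, []),
   (47, [4, 5, 5, 5, 4, 5, 8, 9, 6, 6, 10]),
   (83, [4, 5, 5, 6, 9, 10, 10]),
   (152, [5, 5, 5, 4, 5, 5, 4, 8, 7, 10, 10, 11, 11]),
   (85, [4, 4, 4, 5, 4, 4, 4, 7, 6, 6, 10, 10, 11]),
   (63, [5, 4, 5, 5, 4, 5, 5, 7, 7, 6, 10, 10, 11, 11]),
   (81, [4, 5, 4, 5, 5, 5, 5, 9, 7, 9, 10, 10, 11]),
   (159, []),
   (133, [4, 5, 5, 4, 5, 5, 4, 7, 9, 8, 7, 10, 10, 11]),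
   (6, [5, 5, 7, 10, 11]),
   (144, [4, 4, 5, 4, 5, 4, 5, 7, 8, 9, 11]),
   (91, [4, 4, 5, 4, 5, 6, 8, 9, 7, 11, 11]),
   (160, []),
   (112, [5, 5, 4, 4, 4, 9, 8, 7, 10, 10, 11, 11]),
   (158, [4, 4, 5, 4, 5, 4, 5, 9, 8, 7, 9, 10]),
   (149, [4, 5, 5, 5, 4, 5, 5, 4, 9, 6, 9, 11, 11]),
   (121, [4, 5, 5, 5, 4, 7, 8, 6]),
   (161, [4, 5, 5, 5, 4, 8, 9, 6, 9, 11, 11]),
   (128, [4, 5, 4, 5, 4, 6, 9, 8, 6, 11]),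
   (2, []),
   (4, []),
   (6, []),
   (8, []),
   (10, []),
   (12, []),
   (14, []),
   (16, []),
   (18, []),
   (19, []),
   (11, [5, 4, 4, 5, 5, 5, 8, 9, 7, 6, 10, 11, 11]),
   (7, [4, 4, 5, 5, 5, 5, 7, 7, 9, 10, 10]),
   (23, []),
   (25, []),
   (27, []),
   (29, []),
   (31, []),
   (33, []),
   (35, []),
   (37, []),
   (39, []),
   (41, []),
   (43, []),
   (45, []),
   (47, []),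
   (48, []),
   (50, []),
   (52, []),
   (51, [4, 5, 5, 4, 5, 5, 4, 7, 9, 7, 10, 11, 11]),
   (3, [5, 5, 5, 4, 5, 5, 4, 9, 7, 10, 11, 11]),
   (55, []),
   (57, []),
   (59, []),
   (61, []),
   (63, []),
   (15, [5, 4, 5, 5, 5, 4, 8, 8, 6, 10, 10, 11]),
   (60, [4, 5, 5, 5, 4, 5, 5, 4, 8, 9, 7, 10, 11, 11]),
   (65, []),
   (67, []),
   (1, [4, 5, 4, 5, 5, 5, 5, 6, 8, 6, 6]),
   (70, []),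
   (72, []),
   (74, []),
   (76, []),
   (58, [4, 5, 5, 8, 7, 9, 11, 11]),
   (78, []),
   (36, [5, 5, 4, 5, 5, 5, 4, 9, 7, 6]),
   (42, [4, 4, 7, 6, 11, 11]),
   (81, []),
   (38, [5, 5, 5, 4, 4, 4, 8, 9, 10, 10, 11]),
   (82, []),
   (83, []),
   (85, []),
   (34, [4, 5, 4, 8, 6, 6, 10, 10]),
   (62, [5, 5, 4, 5, 7, 7, 8, 9]),
   (68, [4, 4, 5, 5, 5, 4, 7, 6, 6, 10, 10, 11]),
   (0, [5]),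
   (89, [])]

/-- Part of a closure certificate. -/
def pLev0c1 : List (ℕ × List ℕ) :=
  [(91, []),
   (93, []),
   (94, []),
   (86, [4, 4, 5, 4, 5, 6, 7, 10, 10, 11, 11]),
   (96, []),
   (97, []),
   (24, [4, 4, 5, 4, 4, 4, 7, 9, 8, 7, 10, 11]),
   (100, []),
   (101, []),
   (102, []),
   (104, []),
   (44, [4, 5, 5, 5, 4, 8, 9, 7, 6, 11, 11]),
   (106, []),
   (66, [4, 4, 4, 5, 5, 5, 9, 7, 9, 10, 11]),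
   (107, []),
   (109, []),
   (110, []),
   (111, []),
   (112, []),
   (113, []),
   (75, [4, 5, 4, 5, 5, 5, 4, 7, 9, 7, 11, 11]),
   (20, [5, 5, 5, 4, 5, 4, 4, 4, 9, 6, 10]),
   (98, [4, 5, 4, 5, 5, 5, 4, 6, 6, 9, 6, 6, 11]),
   (118, []),
   (71, [5, 5, 5, 4, 5, 4, 7, 7, 9, 6, 11]),
   (121, []),
   (123, []),
   (53, [4, 5, 4, 5, 5, 4, 9, 7, 7, 6, 10, 10, 11]),
   (124, []),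
   (125, []),
   (126, []),
   (79, [4, 4, 5, 5, 4, 4, 4, 7, 9, 7, 6, 10, 11, 11]),
   (13, [5, 4, 6, 9, 6, 10, 11, 11]),
   (128, []),
   (69, [5, 4, 5, 5, 4, 4, 4, 9, 8, 7, 10, 10, 11]),
   (32, [4, 5, 4, 5, 5, 4, 4, 4, 6, 9, 6, 7, 10, 11, 11]),
   (103, [4, 4, 5, 4, 4, 4, 6, 6, 9, 10, 10]),
   (129, []),
   (9, [5, 4, 6, 9, 6, 6, 10, 11]),
   (56, [5, 4, 4, 5, 4, 5, 4, 7, 7, 9, 6, 11, 11]),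
   (87, [4, 4, 5, 4, 5, 8, 7, 9, 7, 10]),
   (133, []),
   (80, [5, 5, 4, 5, 5, 4, 6, 9, 10, 10]),
   (17, [4, 9, 8, 7, 10, 10]),
   (28, [5, 5, 4, 5, 5, 4, 4, 4, 9, 8, 7, 11, 11]),
   (136, []),
   (116, [5, 4, 5, 5, 4, 4, 4, 6, 9, 7, 8, 6, 10, 10]),
   (30, [5, 5, 6, 9, 8, 6, 6, 11, 11]),
   (5, [5, 4, 5, 4, 4, 6, 7, 10, 11]),
   (139, []),
   (137, [4, 4, 5, 5, 5, 5, 6, 9, 11]),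
   (130, [5, 5, 4, 5, 5, 6, 8, 6, 6, 11]),
   (21, [5, 5, 5, 4, 4, 4, 9, 7, 9, 6, 11]),
   (143, []),
   (144, []),
   (92, [4, 5, 4, 5, 8, 7, 10]),
   (145, []),
   (147, []),
   (122, [5, 5, 4, 5, 5, 5, 4, 9, 8, 7, 9, 10, 11, 11]),
   (127, [4, 5, 5, 8, 9, 10]),
   (141, [4, 5, 4, 5, 4, 5, 7, 10, 11]),
   (46, [4, 4, 4, 6, 9, 7, 8, 6, 11, 11]),
   (149, []),
   (95, [4, 5, 4, 4, 6, 9, 8, 6, 11, 11]),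
   (135, [5, 5, 5, 4, 4, 4, 9, 7, 11, 11]),
   (134, [4, 4, 4, 4, 5, 4, 5, 9, 6, 10, 10, 11, 11]),
   (152, []),
   (54, [4, 5, 5, 4, 5, 5, 4, 7, 6, 6]),
   (115, [5, 4, 9, 6, 9, 10, 10, 11, 11]),
   (99, [5, 4, 4, 5, 4, 5, 6, 6]),
   (153, [5, 5, 4, 5, 5, 9, 6, 7, 11, 11]),
   (151, [5, 4, 4, 7, 7, 9, 10, 10, 11, 11]),
   (90, [4, 4, 4, 4, 5, 4, 5, 8, 6, 9, 6, 10, 11, 11]),
   (154, []),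
   (88, [5, 7, 8, 9, 7, 10, 10, 11]),
   (131, [4, 4, 4, 4, 5, 4, 5, 6, 6, 9, 6, 6, 10, 10, 11, 11]),
   (84, [5, 4, 5, 5, 4, 5, 5, 7, 9, 7, 6]),
   (155, [4, 5, 5, 5, 4, 5, 5, 4, 7, 10, 10, 11]),
   (22, [4, 5, 7, 9, 7, 6, 10, 10]),
   (114, [4, 4, 4, 4, 5, 4, 4, 7, 7, 6, 11]),
   (105, [4, 4, 5, 5, 5, 5, 9, 8, 6, 6, 10, 10, 11, 11]),
   (142, [4, 4, 5, 4, 5, 5, 4, 8, 7, 9, 7, 10, 10]),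
   (40, [4, 6, 8, 6, 6, 10, 10, 11, 11]),
   (120, [4, 5, 4, 4, 8, 9, 7, 6, 11, 11]),
   (64, [4, 5, 4, 5, 5, 5, 4, 7, 8, 9, 10, 10, 11]),
   (140, [5, 4, 4, 5, 5, 5, 7, 6, 10]),
   (119, [4, 5, 4, 5, 9, 8, 6, 10, 10]),
   (157, [4, 5, 4, 5, 5, 7, 8, 6, 11]),
   (158, []),
   (108, [4, 4, 8, 7, 11]),
   (132, [4, 4, 4, 5, 5, 5, 4, 7, 8, 9, 7, 10, 11, 11]),
   (73, [5, 4, 5, 5, 4, 4, 4, 7, 11]),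
   (138, [4, 5, 4, 4, 7, 7, 9, 6]),
   (159, [4, 4, 5, 5, 5, 5, 4, 5, 4, 7, 9, 6, 6, 11]),
   (26, [5, 5, 5, 4, 5, 8, 6, 10, 10, 11, 11]),
   (146, [5, 5, 4, 5, 4, 5, 5, 8, 9, 11]),
   (117, [4, 5, 5, 4, 4, 4, 6, 8, 6, 6]),
   (156, [5, 5, 4, 5, 5, 4, 6, 8, 9, 7, 10]),
   (150, [4, 4, 4, 5, 4, 5, 7, 9, 8, 7]),
   (160, [4, 5, 4, 5, 4, 4, 7, 7, 6]),
   (161, []),
   (49, [5, 4, 4, 4, 5, 4, 4, 9, 8, 6, 6, 10, 10, 11]),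
   (148, [4, 4, 4, 5, 5, 5, 4, 7, 9, 8, 6, 10, 10, 11, 11]),
   (77, [5, 5, 8, 9, 7, 6, 10, 11, 11]),
   (0, [4]),
   (19, [4, 5, 5, 4, 6, 9]),
   (4, [4, 4, 5, 4, 5, 4, 5, 6, 6, 10, 10, 11]),
   (144, [4, 5, 5, 5, 5, 9, 6, 7, 11]),
   (40, [5, 4, 5, 4, 4, 4, 9, 7, 9, 10, 10, 11]),
   (74, [5, 4, 4, 5, 4, 5, 8, 9, 7, 6, 10, 10, 11, 11]),
   (142, [4, 5, 5, 4, 5, 5]),
   (109, [5, 4, 5, 4, 5, 9, 7, 6, 11, 11]),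
   (59, [4, 5, 5, 4, 5, 5, 4, 9, 8, 6, 6, 10, 10]),
   (55, [5, 4, 5, 5, 7, 7, 6, 10, 10]),
   (132, [5, 5, 5, 6, 9, 6, 6, 10, 11, 11]),
   (25, [4, 4, 4, 5, 5, 5, 7, 7, 9, 10, 10, 11]),
   (160, [5, 4, 5, 4, 9, 6, 7, 10, 10, 11, 11]),
   (18, [5, 5, 5, 4, 5, 7, 7, 10]),
   (30, [4, 4, 5, 4, 5, 4, 5, 8, 7, 7, 6, 10, 10, 11]),
   (83, [4, 4, 5, 4, 5, 5, 4, 8, 9, 10, 10, 11]),
   (145, [5, 4, 4, 4, 5, 4, 4, 6, 9, 6, 6, 10, 11]),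
   (31, [5, 4, 4, 4, 6]),
   (93, [4, 5, 4, 5, 4, 5, 6, 10, 10]),
   (7, [5, 5, 4, 5, 5, 5, 4, 7, 7, 9, 10, 11, 11]),
   (82, [4, 5, 4, 4, 9, 7, 7, 6, 11, 11]),
   (121, [4, 4, 4, 5, 4, 5, 9, 7, 9, 6, 11, 11]),
   (84, [5, 4, 5, 4, 4, 4, 6, 6, 9, 6, 6, 10, 10]),
   (98, [4, 4, 4, 5, 4, 5, 8, 6, 6, 10, 11, 11]),
   (61, [4, 5, 4, 5, 5, 5, 4, 7, 9, 6, 10, 11, 11]),
   (117, [4, 5, 7, 7, 6, 10]),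
   (141, [4, 5, 4, 5, 5, 4, 6, 9, 6, 10, 10, 11, 11]),
   (80, [4, 5, 5, 5, 4, 5, 5, 4, 7, 9, 8, 6, 10, 10, 11]),
   (136, [4, 5, 4, 5, 8, 6, 10, 10, 11]),
   (97, [4, 5, 4, 5, 5, 5, 4, 7, 7, 9, 10, 11, 11]),
   (152, [5, 4, 5, 5, 7, 8, 6, 10]),
   (70, [4, 4, 5, 4, 7, 7, 9, 10]),
   (67, [6, 9]),
   (140, [4, 5, 4, 5, 5, 5, 4, 7, 7, 10]),
   (52, [4, 5, 4, 5, 4, 5, 8, 6, 9, 6, 10, 10, 11, 11]),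
   (43, [5, 5, 4, 4, 8, 9, 7, 10]),
   (119, [5, 5, 4, 4, 5, 4, 5, 9, 8, 7, 9, 10, 11]),
   (77, [5, 5, 4, 5, 5, 4, 7, 9, 8, 6, 10, 10, 11, 11]),
   (108, [5, 4, 5, 7, 9, 6, 6, 10, 11]),
   (34, [5, 5, 4, 5, 11, 11]),
   (155, [4, 4, 5, 6, 9, 6, 6, 10, 10, 11, 11]),
   (153, [5, 5, 5, 4, 4, 4, 7, 7, 9, 6, 10, 11, 11]),
   (161, [4, 5, 5, 5, 4, 5, 5, 4, 8, 7, 7, 6, 10, 11]),
   (26, [4, 5, 4, 5, 6, 8, 6, 6, 11, 11]),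
   (62, [5, 5, 4, 6, 9, 7, 11]),
   (50, [4, 4, 4, 5, 5, 5, 4, 7, 9, 8, 6, 10, 10]),
   (147, [5, 4, 4, 5, 5, 4, 4, 4, 7, 7, 10, 11]),
   (54, [4, 5, 4, 5, 5, 5, 4, 8, 6, 6, 9, 11]),
   (75, [4, 5, 4, 5, 5, 4, 4, 4, 9, 8, 6, 10, 10]),
   (139, [4, 4, 4, 5, 4, 7, 6, 6, 11, 11]),
   (48, [4, 5, 4, 5, 7, 9, 6, 6, 10]),
   (156, [4, 4, 5, 4, 5, 9, 7, 9, 11]),
   (91, [4, 5, 5, 5, 4, 5, 5, 4, 9, 8, 7, 11]),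
   (46, [4, 4, 4, 4, 5, 4, 5, 8, 6, 6, 9]),
   (57, [4, 4, 4, 4, 5, 4, 4, 7, 7, 9, 11, 11]),
   (17, [5, 4, 4, 5, 4, 6, 6, 10, 10]),
   (9, [5, 5, 4, 4, 6, 10]),
   (107, [4, 4, 4, 5, 4, 5, 7, 6, 6, 10]),
   (92, [4, 5, 5, 4, 7, 9, 8, 7]),
   (6, [4, 4, 4, 5, 5, 5, 7, 7, 11, 11]),
   (33, [4, 4, 5, 4, 7, 9, 8, 6, 11, 11]),
   (2, [4, 4, 4, 4, 5, 4, 5, 7, 8, 9, 7, 10, 11, 11]),
   (69, [4, 4, 5, 5, 5, 4, 7, 8, 6, 10]),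
   (131, [4, 5, 5, 5, 5, 4, 5, 4, 7, 8, 6, 10, 11]),
   (113, [5, 5, 4, 4, 6, 8, 9, 7, 10]),
   (24, [4, 5, 4, 4, 5, 4, 4, 7, 9, 7, 10, 10, 11]),
   (102, [5, 4, 4, 5, 4, 5, 8, 9, 6, 9, 10, 10]),
   (127, [5, 4, 5, 4, 5, 4, 5, 6, 9, 6, 6, 10]),
   (45, [5, 4, 5, 4, 5, 5, 7, 6, 10, 11, 11]),
   (8, [5, 4, 5, 4, 7, 8, 9]),
   (116, [5, 5, 4, 5, 4, 4, 4, 7, 7, 11]),
   (103, [5, 4, 5, 4, 4, 9, 7, 9, 10, 10, 11]),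
   (16, [5, 4, 4, 5, 4, 5, 8, 9, 10, 11]),
   (79, [4, 4, 5, 4, 5, 5, 6, 8, 6, 6, 11, 11]),
   (89, [4, 5, 4, 5, 5, 4, 7, 7, 6, 11, 11]),
   (105, [4, 5, 5, 4, 4, 4, 7, 9, 7, 10]),
   (38, [5, 4, 4, 5, 4, 5, 7, 7, 8, 9, 10, 11, 11]),
   (88, [4, 5, 5, 4, 5, 5, 7, 10, 10, 11, 11]),
   (68, [4, 4, 9, 6, 9, 11, 11]),
   (71, [4, 4, 4, 5, 5, 5, 4, 9, 8, 6, 10]),
   (158, [5, 5, 5, 5, 9, 7, 10, 10, 11]),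
   (23, [4, 5, 4, 5, 4, 4, 6, 9, 6, 6, 11, 11]),
   (29, [5, 4, 5, 4, 4, 4, 9, 7, 10, 10]),
   (58, [5, 5, 4, 4, 5, 4, 5, 8, 6]),
   (137, [4, 4, 4, 5, 5, 5, 4, 8, 9, 7, 10, 10, 11, 11]),
   (138, [4, 4, 5, 5, 5, 9, 7, 7, 6]),
   (36, [5, 4, 5, 4, 5, 5, 9, 7, 10, 11, 11]),
   (81, [5, 4, 4, 4, 5, 4, 4, 9, 6, 7, 10, 10, 11]),
   (120, [5, 5, 5, 4, 5, 8, 7, 9, 7, 11]),
   (95, [4, 4, 4, 4, 5, 4, 5, 7, 6, 10, 11]),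
   (129, [5, 4, 4, 4, 8, 7, 9, 7]),
   (114, [4, 5, 4, 4, 4, 6, 9, 10, 10, 11, 11]),
   (64, [5, 9, 7, 10, 10, 11]),
   (150, [5, 5, 5, 4, 5, 7, 9, 7, 11, 11]),
   (85, [4, 4, 4, 5, 4, 4, 4, 8, 9, 10, 10, 11, 11]),
   (135, [5, 4, 4, 5, 5, 4, 4, 4, 8, 9, 6, 6, 10, 11]),
   (63, [4, 4, 5, 4, 7, 10, 10, 11]),
   (115, [4, 4, 7, 6, 6, 11, 11]),
   (128, [5, 5, 4, 5, 7, 8, 9, 10]),
   (133, [5, 5, 4, 4, 5, 4, 5, 6, 9, 8, 6]),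
   (86, [5, 5, 4, 4, 7, 8, 9, 10, 10, 11, 11]),
   (106, [5, 4, 4, 9, 8, 7, 9, 11, 11]),
   (159, [5, 4, 5, 4, 5, 4, 5, 7, 8, 9, 7, 11, 11]),
   (14, [5, 5, 4, 5, 5, 4, 6, 9, 8, 6, 10, 10, 11]),
   (125, [5, 4, 4, 5, 5, 4, 4, 4, 8, 6, 6, 9, 10, 11]),
   (78, [5, 5, 4, 7, 9, 6, 11, 11]),
   (66, [4, 5, 4, 5, 4, 4, 7, 7, 9, 10]),
   (94, [5, 5, 7, 7, 9, 10]),
   (148, [5, 4, 5, 4, 5, 8, 6, 6, 9, 11, 11]),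
   (11, [5, 5, 4, 4, 4, 9, 6, 7, 10, 11]),
   (122, [4, 4, 5, 4, 4, 7, 7, 6, 10, 11]),
   (13, [5, 4, 4, 5, 4, 5, 4, 7, 9, 6, 10, 10, 11]),
   (151, [4, 5, 4, 5, 5, 4, 7, 6, 6, 10, 10]),
   (146, [5, 5, 4, 5, 4, 9, 7, 8, 6, 11]),
   (112, [4, 4, 5, 4, 5, 4, 9, 7, 10, 10]),
   (42, [5, 4, 4, 4, 5, 4, 4, 7, 9, 7, 10, 10])]

/-- Part of a closure certificate. -/
def pLev0c2 : List (ℕ × List ℕ) :=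
  [(56, [4, 5, 5, 4, 5, 5, 8, 9, 7, 6, 10, 10, 11, 11]),
   (1, [4, 5, 4, 5, 5, 5, 4, 6, 9, 8, 6, 11, 11]),
   (154, [4, 4, 4, 9, 8, 7, 9, 10, 10, 11]),
   (22, [4, 5, 5, 5, 4, 5, 4, 6, 7, 10, 10, 11, 11]),
   (53, [5, 4, 4, 5, 4, 4, 7, 7, 9]),
   (110, [5, 4, 5, 4, 5, 4, 5, 8, 6, 6, 10, 11]),
   (12, [4, 5, 7, 7, 8, 9, 11]),
   (126, [4, 5, 4, 5, 5, 4, 4, 4, 9, 6, 6, 10]),
   (35, [4, 5, 4, 5, 4, 9, 7, 8, 6, 10, 10, 11, 11]),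
   (60, [4, 4, 4, 5, 5, 5, 9, 6]),
   (118, [5, 4, 5, 5, 4, 4, 4, 7, 9, 10, 10]),
   (27, [5, 5, 5, 4, 5, 4, 9, 7, 9, 6, 11, 11]),
   (10, [5, 6, 9, 8, 6, 11, 11]),
   (96, [4, 5, 5, 5, 5, 7, 9, 6]),
   (134, [4, 5, 4, 5, 4, 5, 8, 7, 10, 10, 11, 11]),
   (99, [4, 5, 5, 4, 9, 7, 6, 11]),
   (87, [5, 4, 4, 5, 4, 5, 5, 7, 7, 6]),
   (90, [4, 4, 4, 4, 5, 4, 5, 8, 9, 6, 6, 10, 10, 11, 11]),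
   (104, [9, 10, 11, 11]),
   (41, [5, 4, 4, 5, 4, 8, 6, 10]),
   (101, [5, 5, 4, 5, 4, 9, 6, 6, 10, 11]),
   (100, [4, 5, 4, 5, 5, 4, 4, 4, 7, 9, 6, 11, 11]),
   (47, [5, 5, 5, 4, 5, 5, 4, 6, 7, 10, 10, 11]),
   (149, [4, 5, 4, 5, 4, 5, 7, 6, 6, 11, 11]),
   (130, [4, 5, 5, 5, 5, 9, 10, 11]),
   (3, [5, 4, 4, 5, 4, 5, 4, 6, 9, 7, 8, 6]),
   (44, [5, 5, 4, 5, 4, 5, 5, 9, 10, 11, 11]),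
   (32, [5, 4, 4, 5, 4, 4, 6, 6, 10, 11, 11]),
   (124, [4, 6, 6, 9, 10, 10]),
   (76, [4, 5, 4, 5, 5, 5, 4, 9, 6, 9, 10, 11, 11]),
   (15, [4, 5, 5, 5, 4, 5, 5, 4, 9, 7, 10, 11, 11]),
   (37, [5, 4, 5, 4, 5, 6, 7, 10, 10, 11, 11]),
   (72, [4, 5, 4, 5, 4, 5, 6, 7, 10]),
   (123, [4, 4, 5, 5, 5, 5, 6, 9, 11, 11]),
   (51, [4, 5, 5, 5, 5, 4, 5, 4, 9, 7, 6, 10, 10]),
   (39, [5, 5, 4, 5, 4, 5, 5, 9, 8, 6, 6, 10, 10, 11, 11]),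
   (73, [4, 4, 5, 5, 5, 9, 6, 6, 10, 10, 11, 11]),
   (5, [4, 4, 4, 5, 5, 5, 7, 7, 8, 9, 10, 11]),
   (49, [4, 4, 4, 4, 5, 4, 4, 8, 8, 6, 10, 10, 11]),
   (65, [4, 5, 5, 5, 4, 5, 4, 9, 8, 6, 6, 10]),
   (111, [5, 4, 4, 5, 4, 5, 4, 6, 9, 7, 10, 10, 11]),
   (21, [4, 4, 4, 5, 5, 5, 4, 6, 9, 7, 10, 10, 11]),
   (143, [5, 5, 5, 4, 5, 5, 4, 6, 6, 9, 6, 6, 10, 10, 11]),
   (28, [5, 4, 4, 5, 4, 5, 4, 7, 9, 7, 6, 10, 10, 11, 11]),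
   (157, [5, 5, 4, 5, 5, 9, 8, 7, 9, 11]),
   (20, [6, 7, 10, 11, 11]),
   (0, [5]),
   (16, [5, 5, 5, 4, 5, 5, 4, 9, 7, 10, 11, 11]),
   (27, [4, 5, 5, 4, 6, 7, 11, 11]),
   (149, [4, 5, 5, 4, 5, 5, 4, 7, 9, 7, 10, 11, 11]),
   (24, [4, 5, 4, 5, 5, 4, 5, 5, 6, 9, 6, 7, 10, 10, 11]),
   (31, [5, 5, 5, 4, 5, 5, 4, 8, 7, 10, 10, 11, 11]),
   (106, [5, 4, 5, 4, 5, 7, 7, 8, 9, 10, 10]),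
   (85, [4, 5, 5, 5, 9, 11]),
   (103, [4, 4, 5, 5, 5, 4, 9, 6, 7, 10, 10]),
   (41, [4, 5, 5, 4, 5, 5, 7, 7, 9, 10, 11]),
   (59, [4, 9, 8, 7, 10, 10]),
   (13, [4, 9, 7, 6, 10, 10]),
   (23, [4, 5, 5, 4, 4, 4, 7, 9, 7, 10, 10]),
   (104, [5, 5, 5, 4, 5, 4, 4, 4, 9, 6, 10]),
   (22, [5, 5, 4, 5, 5, 7, 7, 9]),
   (14, [5, 5, 7, 10, 11]),
   (125, [4, 5, 5, 4, 5, 5, 4, 7, 6, 6]),
   (35, [5, 4, 4, 5, 5, 4, 4, 4, 9, 7, 9, 6, 11]),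
   (131, [4, 5, 5, 4, 8, 6, 9, 6]),
   (100, [5, 5, 5, 4, 4, 4, 8, 9, 6, 6]),
   (29, [4, 4, 5, 4, 5, 6]),
   (6, [4, 5, 5, 6, 9, 8, 6, 6, 11, 11]),
   (140, [5, 5, 4, 4, 4, 7, 8, 9]),
   (157, [4, 4, 5, 4, 5, 4, 6, 9, 7, 8, 6]),
   (40, [5, 4, 5, 5, 4, 5, 5, 8, 9, 7, 6, 10, 10, 11]),
   (10, [4, 5, 4, 4, 5, 4, 4, 8, 6, 9, 6, 10, 10]),
   (123, [4, 5, 4, 4, 5, 4, 4, 9, 8, 7, 10, 10, 11, 11]),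
   (70, [4, 4, 5, 5, 5, 5, 7, 7]),
   (25, [11, 11]),
   (7, [4, 4, 4, 9, 6, 9, 10, 10, 11]),
   (38, [4, 5, 5, 5, 4, 5, 4, 7, 7, 10, 11]),
   (112, [5, 4, 5, 4, 5, 5, 6, 10, 10, 11, 11]),
   (5, [5, 4, 5, 5, 4, 5, 5, 8, 9, 7, 6]),
   (1, [4, 5, 5, 5, 4, 7, 10, 10]),
   (67, [5, 5, 4, 4, 8, 7, 9, 7, 10, 10, 11]),
   (155, [4, 4, 5, 5, 4, 4, 4, 7, 9, 8, 6, 10, 11]),
   (133, [7, 8, 9, 7, 10, 11]),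
   (95, [5, 5, 5, 4, 4, 4, 8, 7, 7, 6, 11, 11]),
   (8, [4, 5, 4, 5, 5, 5, 5, 8, 9, 7, 6]),
   (144, [4, 5, 5, 7, 9, 7, 6]),
   (114, [4, 4, 4, 5, 4, 5, 7, 8, 9]),
   (135, [4, 4, 5, 5, 5, 5, 9, 6, 9, 11]),
   (76, [4, 4, 5, 4, 4, 4, 9, 7, 6, 6, 10]),
   (61, [4, 4, 4, 5, 5, 5, 9, 7, 9, 11]),
   (121, [4, 5, 5, 7, 7, 9, 10, 10, 11]),
   (69, [5, 4, 4, 4, 5, 4, 4, 6, 9, 7, 10, 11]),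
   (153, [4, 5, 4, 5, 5, 4, 4, 4, 9, 7, 7, 6, 11, 11]),
   (82, [4, 4, 5, 4, 5, 5, 4, 6, 6, 9, 10, 11, 11]),
   (129, [4, 5, 4, 5, 5, 7, 7, 10]),
   (46, [5, 5, 4, 9, 6, 10, 10]),
   (78, [4, 5, 4, 5, 5, 5, 5, 6, 9, 7, 8, 6, 10]),
   (18, [5, 4, 4, 4, 5, 4, 4, 6, 7, 10, 10, 11, 11]),
   (77, [5, 4, 4, 5, 5, 5, 9, 7, 7, 6, 10, 11]),
   (39, [11, 11]),
   (107, [4, 5, 4, 4, 4, 7, 9, 6, 6, 10, 10]),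
   (55, [4, 4, 4, 5, 4, 4, 6, 9, 8, 6, 10, 11, 11]),
   (89, [5, 4, 4, 5, 4, 5, 4, 8, 7, 10, 10, 11, 11]),
   (138, [4, 4, 5, 5, 5, 4, 8, 7, 9, 10, 10, 11, 11]),
   (93, [5, 4, 5, 4, 4, 4, 6, 6, 10, 11]),
   (145, [4, 5, 5, 5, 5, 7, 6, 6, 11]),
   (160, [8, 9, 6, 9, 10, 10]),
   (143, [5, 5, 4, 5, 5, 8, 7, 9, 10, 11]),
   (99, [4, 4, 5, 4, 5, 4, 5, 7, 7, 8, 9]),
   (148, [4, 5, 4, 5, 7, 9, 6, 6, 10, 10]),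
   (94, [5, 4, 5, 4, 7, 6, 10, 11]),
   (49, [5, 4, 5, 5, 4, 9, 8, 7, 10, 10, 11, 11]),
   (84, [5, 4, 5, 5, 4, 5, 5, 8, 8, 6, 10, 10, 11]),
   (2, [4, 4, 4, 5, 4, 5, 7, 7, 6, 10, 10]),
   (87, [5, 4, 5, 4, 4, 9, 7, 8, 6, 10, 10, 11, 11]),
   (50, [11, 11]),
   (34, [5, 5, 7, 8, 6, 11]),
   (68, [4, 4, 4, 5, 4, 4, 8, 7, 7, 6, 10]),
   (15, [5, 5, 4, 7, 9, 8, 6]),
   (60, [4, 4, 5, 5, 4, 4, 4, 7, 8, 9, 11, 11]),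
   (32, [4, 4, 4, 4, 5, 4, 5, 6, 8, 9, 7, 10, 10, 11]),
   (33, [5, 5, 4, 5, 5, 4, 4, 4, 8, 6, 6, 10, 10]),
   (108, [4, 4, 4, 5, 4, 5, 7, 9, 7, 6, 10]),
   (91, [5, 7, 9, 8, 6, 10, 10, 11, 11]),
   (97, [5, 4, 4, 5, 4, 6, 8, 6, 6, 11, 11]),
   (110, [4, 5, 4, 4, 4, 8, 8, 6, 10]),
   (9, [5, 4, 4, 9, 7, 9, 6, 10, 10, 11, 11]),
   (161, [5, 4, 4, 5, 4, 4, 4, 9, 7, 7, 6, 10, 11, 11]),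
   (42, [4, 5, 4, 5, 7, 8, 6, 10, 10, 11, 11]),
   (86, [5, 4, 4, 4, 8, 6, 9, 6, 11, 11]),
   (79, [4, 4, 5, 4, 5, 5, 4, 9, 7, 7, 6, 10, 10, 11, 11]),
   (134, [5, 4, 4, 5, 4, 9, 7, 9, 6]),
   (63, [11, 11]),
   (128, [5, 4, 5, 4, 5, 5, 7, 9, 6, 10, 10, 11, 11]),
   (53, [4, 5, 5, 4, 4, 4, 7, 9, 7, 6, 10]),
   (127, [5, 4, 4, 5, 4, 4, 6, 8, 9, 7, 10, 11, 11]),
   (96, [5, 4, 5, 4, 5, 7, 9, 6, 6, 11]),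
   (151, [4, 5, 4, 4, 8, 9, 6, 6, 10, 11]),
   (71, [5, 5, 4, 5, 6, 9, 6, 10, 10, 11]),
   (101, [5, 5, 4, 5, 7, 6, 10, 11]),
   (146, [4, 5, 4, 5, 4, 4, 7, 6, 6, 10]),
   (118, [4, 4, 5, 5, 5, 8, 6, 9, 6, 11]),
   (21, [5, 4, 5, 5, 4, 5, 5, 7, 9, 7, 10, 11]),
   (45, [5, 5, 4, 5, 5, 9, 7, 8, 6, 10, 10, 11]),
   (130, [4, 5, 5, 4, 8, 9, 7, 10, 11]),
   (156, [5, 4, 5, 4, 5, 5, 7, 7, 6, 10, 11]),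
   (36, [5, 4, 5, 4, 5, 9, 7]),
   (159, [5, 5, 5, 4, 5, 4, 4, 4, 9, 8, 6, 11]),
   (73, [4, 5, 4, 4, 7, 10, 10, 11, 11]),
   (111, [4, 5, 4, 5, 5, 4, 4, 4, 7, 7, 9, 6, 10, 10]),
   (113, [5, 4, 5, 4, 6, 9, 6, 7, 10, 10, 11, 11]),
   (58, [4, 5, 5, 8, 7, 9, 11]),
   (90, [4, 5, 4, 4, 4, 5, 4, 4, 9, 6, 7, 11]),
   (62, [5, 5, 4, 4, 4, 9, 8, 7, 10, 10, 11, 11]),
   (47, [5, 5, 5, 4, 4, 4, 6, 8, 6, 6, 10, 11, 11]),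
   (51, [4, 5, 5, 4, 4, 4, 6, 9, 6, 7, 10, 10, 11]),
   (119, [5, 5, 4, 4, 9, 7, 6, 6, 10, 10, 11]),
   (30, [4, 5, 5, 7, 7, 8, 9, 10, 10, 11]),
   (74, [4, 5, 4, 4, 9, 6, 9, 10, 11]),
   (142, [5, 5, 5, 4, 5, 4, 4, 4, 9, 6, 7, 11]),
   (116, [5, 4, 5, 5, 4, 5, 5, 8, 9, 6, 9, 11]),
   (83, [11, 11]),
   (4, [4, 4, 5, 4, 5, 5, 9, 8, 6, 11, 11]),
   (44, [5, 5, 5, 4, 5, 5, 4, 9, 7, 7, 6, 11, 11]),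
   (141, [5, 4, 4, 4, 5, 4, 4, 8, 8, 6]),
   (66, [4, 5, 4, 5, 5, 5, 4, 6, 6, 10]),
   (124, [4, 4, 5, 5, 4, 4, 4, 9, 8, 7, 10, 10, 11]),
   (57, [5, 5, 4, 5, 5, 5, 4, 8, 6, 10]),
   (137, [5, 5, 4, 5, 4, 5, 5, 8, 7, 7, 6, 10, 11, 11]),
   (17, [5, 5, 4, 4, 5, 4, 5, 6, 9, 6, 10, 11]),
   (43, [5, 4, 4, 5, 4, 4, 7, 8, 6, 10, 10, 11, 11]),
   (75, [4, 4, 5, 4, 5, 5, 4, 8, 9, 6, 6, 10, 10, 11, 11]),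
   (52, [4, 5, 5, 5, 4, 5, 6, 9, 8, 6, 6]),
   (3, [4, 4, 4, 6, 9, 8, 6, 10, 10]),
   (92, [5, 5, 5, 4, 4, 4, 7, 9, 6, 10, 11, 11]),
   (12, [4, 5, 4, 5, 5, 4, 5, 5, 9, 8, 7, 9, 10, 10, 11]),
   (64, [5, 4, 4, 5, 4, 5, 5, 7, 7, 8, 9, 10, 11]),
   (152, [5, 4, 4, 5, 4, 5, 4, 7, 7, 9, 6, 11, 11]),
   (81, [4, 4, 4, 4, 5, 4, 5, 9, 8, 6, 10, 11, 11]),
   (136, [5, 4, 5, 4, 4, 7, 7, 11, 11]),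
   (20, [4, 5, 5, 5, 4, 5, 9, 8, 7, 9, 10, 10, 11, 11]),
   (139, [5, 4, 4, 5, 4, 5, 5, 9, 7, 9, 6, 10, 10, 11]),
   (19, [4, 4, 8, 9, 7, 10]),
   (132, [4, 4, 4, 5, 4, 4, 6, 9, 6, 6, 11, 11]),
   (117, [4, 4, 5, 4, 5, 8, 6, 6, 9, 10, 10]),
   (80, [5, 5, 5, 4, 7, 7, 9, 10, 10, 11]),
   (72, [4, 4, 5, 4, 5, 9, 6, 7, 10, 10]),
   (154, [4, 5, 4, 5, 5, 4, 5, 5, 6, 10, 11]),
   (11, [4, 4, 4, 5, 4, 4, 6, 8, 9, 7]),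
   (120, [4, 4, 4, 5, 4, 4, 4, 9, 11]),
   (158, [4, 5, 4, 5, 4, 5, 9, 7, 8, 6, 11]),
   (28, [4, 4, 4, 5, 5, 5, 8, 7, 9, 7, 10, 11, 11]),
   (98, [4, 5, 4, 5, 5, 5, 4, 6, 6, 9, 6, 6]),
   (65, [5, 5, 5, 5, 9, 7, 7, 6]),
   (115, [5, 5, 4, 6, 9, 6, 6, 10, 10, 11, 11]),
   (56, [5, 5, 5, 5, 9, 6, 9, 11]),
   (102, [4, 4, 5, 4, 4, 7, 9, 8, 7, 10, 11]),
   (126, [5, 4, 5, 4, 5, 5, 6, 9, 7, 8, 6, 10, 10]),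
   (109, [4, 4, 5, 4, 5, 5, 4, 6, 6, 9, 6, 6, 10, 10, 11]),
   (147, [5, 5, 4, 5, 4, 6, 9, 8, 6, 6, 11]),
   (37, [5, 5, 4, 5, 5, 4, 8, 9, 7, 6, 11]),
   (26, [4, 5, 5, 5, 4, 5, 5, 4, 6, 9, 10, 10, 11, 11]),
   (54, [4, 4, 5, 4, 5, 5, 4, 9, 7, 6, 6, 10, 10, 11, 11]),
   (48, [4, 5, 4, 4, 9, 8, 6, 10]),
   (88, [5, 4, 5, 5, 6, 6, 9, 6, 6, 10, 11]),
   (105, [4, 4, 5, 6, 9, 8, 6, 10, 11]),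
   (150, [4, 5, 4, 5, 5, 5, 4, 7, 7, 9, 11]),
   (122, [5, 5, 5, 4, 5, 4, 6, 9, 7, 11, 11]),
   (0, [6]),
   (38, [5, 4, 4, 5, 5, 4, 4, 4, 6, 8, 6, 6, 10, 10, 11, 11]),
   (143, [5, 4, 9, 8, 7, 9, 10, 11]),
   (118, [4, 5, 5, 6, 9, 6, 6]),
   (4, [5, 5, 5, 5, 8, 6, 11, 11]),
   (56, [5, 4, 5, 4, 5, 5, 7]),
   (159, [5, 4, 5, 4, 5, 5, 8, 6, 6, 9, 10, 10, 11, 11]),
   (54, [4, 4, 5, 4, 5, 4, 5, 8, 6, 6]),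
   (152, [5, 4, 4, 5, 5, 5, 6, 8, 9, 7, 10]),
   (74, [4, 5, 4, 5, 4, 4, 8, 9, 7, 10]),
   (44, [4, 5, 5, 5, 4, 5, 8, 6, 6, 10, 10, 11, 11]),
   (150, [5, 4, 5, 5, 4, 5, 5, 8, 9, 6, 6, 11, 11])]

/-- Part of a closure certificate. -/
def pLev0c3 : List (ℕ × List ℕ) :=
  [(10, [5, 4, 5, 4, 5, 5, 7, 8, 9, 7, 10]),
   (33, [4, 5, 5, 5, 5, 4, 5, 4, 9, 11]),
   (100, [5, 4, 4, 5, 5, 5, 9, 6, 7, 10, 10, 11]),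
   (73, [4, 5, 4, 4, 4, 5, 4, 4, 6, 6, 9, 10, 10]),
   (140, [4, 5, 5, 5, 6, 9, 10]),
   (141, [5, 4, 4, 5, 4, 7, 9, 6, 10, 10]),
   (90, [5, 4, 5, 4, 5, 8, 9, 7, 6]),
   (119, [4, 4, 4, 4, 5, 4, 4, 9, 7, 9, 6, 10, 10]),
   (42, [5, 4, 5, 4, 4, 4, 7, 9, 11, 11]),
   (62, [4, 4, 5, 4, 4, 9, 8, 6, 10, 11]),
   (104, [4, 4, 5, 4, 4, 4, 6, 6]),
   (110, [4, 5, 4, 4, 8, 9, 6, 9, 10, 11]),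
   (24, [5, 4, 4, 5, 4, 5, 5, 7, 6, 10, 10, 11, 11]),
   (81, [4, 4, 4, 5, 5, 5, 4, 8, 7, 10, 11]),
   (154, [5, 5, 5, 4, 5, 4, 4, 4, 9, 6, 7, 11]),
   (9, [5, 7, 7, 10, 10, 11, 11]),
   (19, [4, 5, 5, 4, 5, 8, 6, 10, 10, 11, 11]),
   (25, [4, 5, 5, 4, 7, 8, 9, 7, 10, 10, 11, 11]),
   (72, [4, 5, 4, 5, 5, 5, 5, 9, 8, 7, 9, 10, 11]),
   (34, [5, 5, 5, 4, 5, 4, 4, 4, 7, 9, 6, 6, 10, 10]),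
   (95, [4, 5, 4, 5, 4, 4, 6, 9, 7, 10, 11, 11]),
   (109, [5, 4, 4, 5, 4, 5, 4, 8, 6, 6, 10, 10]),
   (80, [4, 5, 5, 4, 5, 5, 4, 9, 6, 9, 10, 11, 11]),
   (61, [4, 5, 4, 9, 8, 6, 6]),
   (96, [4, 6, 9, 7, 10, 10, 11]),
   (153, [5, 4, 5, 4, 5, 4, 5, 7, 8, 9, 10, 10]),
   (142, [4, 5, 7, 7]),
   (43, [5, 4, 5, 4, 5, 5, 7, 7]),
   (39, [5, 4, 5, 5, 5, 4, 6, 9, 10, 10, 11]),
   (5, [4, 7, 7, 10, 10]),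
   (148, [5, 4, 4, 5, 4, 4, 4, 7, 11, 11]),
   (40, [5, 4, 5, 4, 9, 8, 7, 9, 10, 10, 11]),
   (12, [4, 4, 5, 4, 4, 4, 7, 8, 9, 7, 10, 10]),
   (6, [4, 5, 5, 7, 7, 8, 9, 10, 11]),
   (89, [5, 5, 5, 4, 5, 4, 4, 4, 6, 9, 6, 10, 10, 11]),
   (115, [5, 4, 5, 5, 9, 6, 6, 10, 11]),
   (131, [5, 5, 5, 4, 5, 5, 4, 7, 6, 6, 10, 11, 11]),
   (77, [4, 5, 5, 4, 5, 5, 9, 7, 9, 6, 10, 11, 11]),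
   (50, [9, 7, 6, 6]),
   (51, [4, 5, 4, 5, 4, 5, 9, 7, 8, 6, 10, 11]),
   (53, [4, 4, 4, 5, 4, 7, 9]),
   (91, [5, 4, 4, 5, 4, 5, 9, 6, 10]),
   (138, [5, 4, 4, 5, 4, 5, 9, 7, 10, 10, 11, 11]),
   (70, [5, 5, 5, 4, 5, 4, 4, 4, 6, 7, 10, 10]),
   (41, [5, 5, 5, 4, 5, 6]),
   (57, [5, 4, 4, 5, 5, 4, 4, 4, 7, 9, 6, 10, 11]),
   (156, [5, 5, 4, 5, 9, 7, 6, 6, 11, 11]),
   (108, [4, 5, 4, 5, 5, 4, 5, 5, 9, 8, 7, 9, 10, 11]),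
   (121, [5, 5, 5, 5, 9, 6, 10, 11, 11]),
   (127, [4, 4, 5, 4, 5, 5, 9, 8, 7, 9, 11]),
   (129, [5, 5, 4, 4, 4, 8, 6, 6, 9]),
   (145, [5, 5, 5, 4, 9, 7, 6]),
   (47, [4, 5, 6, 9, 10, 11, 11]),
   (123, [5, 4, 4, 4, 5, 4, 4, 6, 6, 10, 10, 11]),
   (86, [4, 5, 5, 4, 5, 6, 6, 9, 6, 6, 10, 10]),
   (155, [5, 5, 4, 5, 9, 6, 9, 10, 11]),
   (98, [4, 4, 8, 6, 6, 11, 11]),
   (105, [5, 5, 4, 5, 4, 4, 4, 6, 10, 11]),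
   (114, [5, 5, 4, 4, 8, 7, 7, 6, 10, 11]),
   (48, [4, 5, 4, 4, 7, 7, 6, 11]),
   (92, [5, 5, 4, 5, 4, 5, 5, 8, 7, 7, 6, 10, 10, 11]),
   (130, [5, 5, 4, 4, 4, 8, 9, 7, 10, 10, 11, 11]),
   (27, [5, 4, 4, 5, 4, 4, 4, 7, 9, 10, 10]),
   (134, [5, 4, 5, 5, 5, 4, 7, 7, 10, 11]),
   (16, [5, 5, 4, 4, 5, 4, 5, 7, 6, 6, 11]),
   (151, [5, 4, 4, 5, 4, 4, 8, 6, 10, 10]),
   (161, [4, 4, 4, 5, 4, 5, 7, 9, 6, 10, 10, 11, 11]),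
   (160, [4, 5, 4, 4, 4, 5, 4, 4, 7, 9, 6, 6, 11, 11]),
   (31, [5, 4, 5, 7, 6, 10, 10]),
   (29, [5, 5, 5, 5, 4, 5, 6, 7]),
   (82, [4, 5, 5, 5, 7, 10]),
   (22, [4, 5, 4, 5, 5, 5, 4, 6, 9, 7, 8, 6, 10, 10]),
   (14, [5, 5, 4, 5, 4, 5, 5, 7]),
   (60, [5, 5, 4, 5, 4]),
   (133, [4, 5, 4, 4, 4, 8, 6, 6, 10]),
   (87, [4, 5, 4, 5, 5, 7, 9, 8, 7, 10, 10]),
   (37, [5, 5, 4, 5, 9, 6, 11]),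
   (158, [4, 5, 5, 6, 9, 7, 8, 6, 10, 11]),
   (99, [4, 4, 4, 4, 5, 4, 4, 9, 7, 9, 6, 10, 10, 11, 11]),
   (52, [4, 5, 5, 5, 9, 7, 10]),
   (30, [4, 4, 5, 4, 4, 8, 7, 7, 6, 10, 10, 11]),
   (102, [5, 5, 5, 4, 5, 9, 8, 6, 10, 10]),
   (58, [5, 4, 5, 4, 5, 5, 8, 6]),
   (139, [5, 5, 4, 5, 4, 5, 5, 6, 6, 9, 10, 10, 11, 11]),
   (122, [4, 4, 5, 4, 9, 8, 6, 6, 10, 10]),
   (75, [5, 4, 4, 6, 9, 6, 6, 10, 11]),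
   (125, [5, 5, 5, 4, 5, 7, 9, 6, 6, 11]),
   (18, [5, 5, 5, 4, 5, 4, 9, 7, 9, 6, 10, 11, 11]),
   (84, [4, 5, 5, 5, 4, 5, 8, 7, 7, 6, 10, 11]),
   (101, [4, 5, 4, 5, 5, 4, 5, 5, 8, 9, 10, 10, 11]),
   (103, [5, 5, 5, 4, 5, 4, 4, 4, 8, 9, 6, 9, 10, 10]),
   (93, [4, 4, 5, 4, 5, 5, 4, 8, 9, 10, 10, 11]),
   (83, [4, 5, 5, 4, 5, 5, 4, 6, 6, 9, 10, 10, 11]),
   (113, [4, 5, 4, 5, 5, 4, 5, 5, 9, 8, 7, 9, 10, 11, 11]),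
   (63, [4, 4, 5, 4, 4, 6, 6, 9, 10, 11]),
   (59, [5, 4, 5, 9, 7, 8, 6]),
   (107, [4, 5, 5, 5, 4, 9, 8, 6, 11]),
   (13, [4, 5, 4, 5, 5, 4, 4, 4, 7, 6, 6, 10, 10, 11]),
   (137, [5, 5, 5, 5, 4, 5, 4, 9, 7, 7, 6, 10, 10, 11]),
   (79, [5, 4, 5, 4, 4, 6, 8, 6, 6]),
   (135, [5, 5, 4, 5, 5, 9, 7, 7, 6, 10, 11, 11]),
   (69, [5, 4, 4, 6, 9, 7, 10, 10, 11]),
   (55, [5, 4, 5, 4, 5, 5, 7, 7, 10, 11]),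
   (64, [5, 5, 4, 4, 4, 7, 9, 7, 6, 10, 10, 11, 11]),
   (65, [5, 5, 4, 5, 4, 5, 5, 6, 6, 9, 6, 6, 10, 10]),
   (8, [5, 5, 5, 4, 5, 5, 4, 7, 9]),
   (124, [5, 5, 4, 4, 4, 9, 7, 9, 6, 11, 11]),
   (28, [4, 4, 5, 5, 5, 5, 4, 5, 4, 6, 9, 8, 6, 6]),
   (26, [5, 4, 4, 4, 5, 4, 9, 7, 7, 6, 11, 11]),
   (85, [5, 4, 4, 5, 4, 4, 9, 7, 8, 6, 10, 10, 11]),
   (36, [5, 4, 5, 4, 5, 5, 8, 6, 10, 10, 11, 11]),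
   (116, [5, 5, 5, 4, 5, 4, 4, 4, 8, 7, 7, 6, 10]),
   (3, [4, 4, 5, 5, 5, 5, 4, 5, 4, 8, 9, 6, 9, 10, 11]),
   (68, [4, 5, 4, 5, 5, 4, 4, 4, 6, 9, 8, 6, 10, 11]),
   (112, [4, 5, 5, 5, 4, 5, 4, 7, 6, 6, 10, 10]),
   (35, [4, 4, 5, 5, 5, 7, 9, 7, 6, 10]),
   (146, [5, 4, 5, 5, 5, 5, 6, 8, 6, 6, 11]),
   (21, [4, 4, 5, 4, 5, 4, 5, 9, 7, 6, 6, 10, 11]),
   (15, [4, 4, 4, 5, 4, 6, 9, 6, 6, 10, 11]),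
   (71, [4, 4, 4, 5, 4, 4, 4, 7, 7, 8, 9, 11]),
   (128, [4, 5, 4, 5, 5, 4, 6, 10, 10, 11, 11]),
   (66, [5, 5, 5, 5, 8, 6, 9, 6, 10, 11, 11]),
   (97, [5, 4, 4, 4, 5, 4, 8, 7, 10, 10, 11, 11]),
   (126, [5, 5, 4, 5, 5, 7, 7, 8, 9, 10, 10, 11, 11]),
   (11, [4, 4, 4, 4, 5, 4, 4, 7, 6, 10, 10, 11]),
   (23, [5, 4, 4, 5, 5, 4, 4, 4, 8, 6, 9, 6, 10]),
   (7, [5, 4, 5, 5, 5, 5, 8, 6, 10, 11, 11]),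
   (32, [5, 5, 4, 6, 10, 11]),
   (76, [4, 4, 5, 4, 5, 5, 4, 7, 7, 9, 6, 10, 10, 11]),
   (149, [5, 5, 4, 9, 10]),
   (1, [4, 5, 4, 4, 4, 7, 9, 10, 10]),
   (147, [4, 5, 5, 4, 5, 7, 7, 6, 10]),
   (67, [5, 4, 4, 5, 5, 5, 9, 7, 8, 6, 10, 11, 11]),
   (106, [4, 4, 5, 4, 5, 5, 8, 9, 7, 10, 11, 11]),
   (132, [4, 4, 5, 4, 5, 5, 4, 9, 8, 7, 9, 10, 10, 11, 11]),
   (2, [4, 5, 4, 5, 4, 6, 7, 11]),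
   (20, [4, 4, 5, 4, 4, 6, 6, 9, 10, 10, 11]),
   (17, [5, 5, 4, 5, 7, 7, 9, 6, 11]),
   (136, [4, 5, 4, 5, 5, 4, 7, 9, 6, 6, 10, 11]),
   (49, [5, 4, 4, 5, 4, 4, 4, 6, 9, 6, 7, 10, 10, 11, 11]),
   (117, [5, 4, 4, 5, 5, 5, 8, 9, 10]),
   (88, [4, 4, 5, 4, 5, 5, 8, 6, 6, 9, 10, 11, 11]),
   (120, [5, 5, 5, 4, 8, 6, 10, 11, 11]),
   (144, [5, 4, 5, 5, 4, 4, 4, 7, 7, 8, 9, 11, 11]),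
   (94, [5, 5, 5, 5, 4, 5, 4, 9, 7, 6, 6, 10, 10, 11, 11]),
   (78, [5, 5, 4, 4, 7, 7, 6, 11, 11]),
   (46, [5, 5, 4, 5, 4, 4, 4, 8, 6, 9, 6, 10, 10]),
   (45, [5, 5, 4, 5, 4, 7, 10]),
   (111, [4, 4, 4, 5, 5, 5, 6, 9, 10, 10]),
   (157, [5, 5, 4, 4, 4, 6, 8, 9, 7, 10, 11]),
   (0, [7]),
   (38, [5, 5, 5, 6, 9, 7, 8, 6, 11, 11]),
   (77, [5, 5, 4, 5, 8, 6, 6, 11]),
   (34, [4, 4, 4, 5, 4, 4, 6, 9, 8, 6, 10, 10]),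
   (127, [5, 4, 5, 4, 5, 5, 9, 7, 9, 6]),
   (2, [5, 5, 4, 5, 5, 4, 4, 4, 10]),
   (152, [4, 4, 4, 5, 5, 5, 4, 7, 9, 8, 7]),
   (20, [4, 4, 5, 5, 5, 5, 9, 6, 6, 10]),
   (76, [4, 4, 4, 5, 4, 4, 7, 8, 6, 10, 10]),
   (17, [5, 4, 5, 4, 5, 5, 6, 6, 9, 10, 11, 11]),
   (109, [5, 5, 4, 4, 8, 9, 6, 6, 10, 10, 11, 11]),
   (136, [5, 5, 7, 9, 7, 6, 11, 11]),
   (58, [4, 4, 5, 4, 6, 6, 9, 10, 10, 11]),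
   (12, [5, 5, 5, 5, 7, 9, 6, 10, 11, 11]),
   (10, [5, 4, 4, 4, 5, 4, 9, 7, 8, 6, 10, 11]),
   (7, [4, 5, 4, 5, 8, 9, 7, 6, 11]),
   (117, [4, 5, 5, 6, 7, 10, 10, 11, 11]),
   (149, [5, 5, 5, 4, 4, 4, 7, 7, 9, 6]),
   (28, [5, 5, 4, 5, 4, 4, 4, 6, 9, 8, 6, 10, 11]),
   (99, [4, 5, 4, 4, 4, 5, 4, 4, 7, 10]),
   (15, [4, 5, 8, 8, 6, 10]),
   (21, [5, 4, 4, 5, 4, 5, 4, 9, 6, 10, 11]),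
   (161, [5, 5, 4, 5, 5, 8, 7, 7, 6, 11]),
   (54, [4, 4, 5, 5, 4, 4, 4, 9, 8, 6, 11, 11]),
   (154, [4, 5, 5, 5, 5, 9, 8, 7, 9, 10, 11, 11]),
   (98, [4, 4, 5, 5, 4, 4, 4, 7, 9, 7, 6, 10]),
   (26, [4, 4, 5, 5, 5, 5, 4, 5, 4, 8, 7, 10, 11]),
   (74, [5, 4, 4, 8, 7, 9, 7, 10, 10]),
   (72, [5, 4, 4, 5, 4, 5, 6, 9, 6, 6, 10]),
   (111, [4, 5, 5, 5, 4, 5, 5, 4, 8, 8, 6]),
   (97, [5, 7, 7, 9, 6, 10, 11]),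
   (3, [5, 5, 5, 4, 7, 9, 6, 10, 11, 11]),
   (67, [5, 4, 8, 6, 6]),
   (94, [4, 4, 5, 5, 5, 5, 7, 6, 10, 10, 11, 11]),
   (31, [4, 4, 5, 5, 5, 5, 4, 5, 4, 7, 9, 7, 6, 10, 10, 11, 11]),
   (4, [4, 4, 4, 5, 4, 4, 4, 7, 8, 9, 7, 11, 11]),
   (122, [4, 4, 5, 4, 5, 5, 4, 8, 7, 9, 7]),
   (95, [5, 4, 4, 4, 5, 4, 4, 7, 8, 9, 10, 10, 11, 11]),
   (101, [4, 4, 5, 4, 5, 6, 9, 8, 6, 6, 10, 11, 11]),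
   (40, [5, 4, 4, 5, 4, 9, 7, 8, 6, 10, 11]),
   (123, [4, 4, 4, 5, 4, 7, 8, 6, 10, 10]),
   (46, [4, 4, 5, 4, 4, 4, 6, 6, 9, 6, 6, 10, 10, 11]),
   (138, [4, 4, 5, 5, 5, 5, 4, 5, 4, 9, 8, 7, 9, 10, 10, 11, 11]),
   (65, [5, 4, 4, 5, 4, 4, 7, 7, 9, 6, 11, 11]),
   (84, [5, 5, 4, 4, 4, 9, 7, 7, 6, 10]),
   (16, [5, 5, 4, 5, 5, 8, 9, 7, 6, 10, 10]),
   (143, [5, 4, 4, 5, 4, 4, 4, 9, 8, 6, 6, 10, 10, 11]),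
   (68, [4, 5, 4, 5, 9, 8, 7, 9, 10, 11]),
   (108, [4, 4, 5, 5, 4, 4, 4, 7, 9, 8, 7, 10, 11, 11]),
   (89, [5, 5, 4, 5, 4, 6, 8, 9, 7, 10, 11, 11]),
   (62, [4, 4, 5, 5, 4, 4, 4, 9, 8, 6, 6, 10, 11]),
   (66, [5, 5, 5, 8, 6, 9, 6, 11, 11]),
   (144, [5, 5, 4, 5, 4, 5, 5, 7, 9, 6, 10, 11]),
   (37, [5, 5, 5, 4, 5, 4, 8, 6, 10]),
   (130, [5, 4, 4, 5, 4, 5, 5, 8, 6, 6, 9, 10, 10]),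
   (114, [5, 4, 4, 5, 5, 4, 4, 4, 6, 9, 6, 6, 10, 10]),
   (49, [5, 4, 5, 5, 4, 5, 5, 9, 8, 6, 10]),
   (57, [4, 5, 4, 5, 5, 9, 7, 9, 6]),
   (13, [4, 5, 4, 5, 4, 4, 9, 7, 8, 6, 11, 11]),
   (69, [5, 5, 5, 5, 8, 7, 9, 7, 10, 11, 11]),
   (59, [5, 4, 5, 4, 5, 4, 5, 7, 7, 10, 11, 11]),
   (61, [5, 5, 4, 5, 7, 9, 7, 10, 11, 11]),
   (129, [4, 5, 6, 7, 10, 10, 11, 11]),
   (104, [5, 4, 5, 4, 5, 5, 6, 9, 7, 10]),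
   (25, [4, 4, 4, 5, 4, 4, 7, 7, 9, 10, 11, 11]),
   (116, [4, 4, 6, 10, 11]),
   (86, [5, 5, 5, 4, 5, 9, 6]),
   (91, [4, 5, 5, 5, 8, 8, 6]),
   (160, [4, 4, 5, 5, 5, 8, 9, 6, 6, 11, 11]),
   (60, [4, 4, 4, 5, 4, 4, 4, 6, 8, 9, 7, 10, 10])]

/-- Part of a closure certificate. -/
def pLev0c4 : List (ℕ × List ℕ) :=
  [(112, [4, 5, 5, 4, 4, 4, 9, 8, 6, 6, 10, 10, 11, 11]),
   (105, [4, 5, 4, 5, 5, 4, 5, 5, 7, 7, 10, 10, 11, 11]),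
   (18, [5, 5, 5, 4, 5, 5, 4, 6, 9, 11, 11]),
   (148, [4, 5, 5, 5, 4, 5, 4, 7, 7, 6, 10]),
   (141, [4, 4, 4, 4, 5, 4, 4, 6, 9, 8, 6, 10, 10]),
   (92, [4, 5, 4, 5, 4, 5, 7, 6, 10, 10, 11, 11]),
   (146, [5, 5, 4, 5, 5, 5, 4, 7, 8, 9, 7, 10, 11]),
   (5, [4, 4, 4, 5, 4, 9, 7, 9, 6, 11]),
   (145, [5, 4, 4, 5, 5, 4, 4, 4, 6, 9, 8, 6, 10, 11, 11]),
   (81, [4, 9, 7, 9, 6, 11]),
   (124, [4, 4, 4, 4, 5, 4, 5, 7, 7, 10, 11, 11]),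
   (115, [4, 4, 4, 5, 4, 4, 7, 7, 6, 10, 10, 11, 11]),
   (82, [5, 4, 5, 4, 5, 5, 6, 6, 9, 10]),
   (106, [4, 5, 5, 5, 4, 5, 9, 6, 7, 10, 10]),
   (156, [4, 5, 5, 4, 5, 6, 9, 11, 11]),
   (48, [4, 6, 6, 9, 10, 10, 11, 11]),
   (51, [7, 7, 11, 11]),
   (87, [4, 5, 4, 4]),
   (155, [5, 5, 4, 5, 5, 4, 4, 4, 8, 7, 7, 6, 10, 11]),
   (56, [5, 4, 5, 5, 4, 5, 5, 8, 6, 6, 9, 10]),
   (30, [4, 4, 5, 4, 4, 4, 9, 8, 7, 10, 11]),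
   (32, [5, 4, 5, 7, 8, 9, 7, 10, 11, 11]),
   (119, [4, 5, 4, 5, 4, 5, 7, 8, 9, 7, 10, 11]),
   (22, [4, 4, 4, 5, 4, 8, 9, 6, 9, 11, 11]),
   (100, [5, 4, 5, 5, 4, 6, 6, 9, 10, 11, 11]),
   (53, [5, 4, 4, 5, 5, 5, 6, 9, 8, 6, 6, 10, 10]),
   (36, [5, 5, 5, 4, 9, 8, 7, 11, 11]),
   (90, [5, 5, 4, 5, 5, 5, 4, 9, 8, 7, 11]),
   (64, [4, 4, 5, 5, 5, 4, 9, 7, 6, 6, 10, 11, 11]),
   (134, [4, 4, 5, 4, 5, 4, 8, 6, 10, 11]),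
   (33, [5, 5, 5, 4, 5, 4, 8, 6, 10, 10, 11]),
   (1, [4, 5, 5, 4, 5, 5, 4, 8, 7, 7, 6, 10, 11, 11]),
   (78, [4, 5, 4, 5, 5, 4, 7, 9, 6, 6, 11, 11]),
   (63, [4, 5, 4, 5, 7, 9, 6, 6, 10, 10, 11, 11]),
   (103, [4, 5, 4, 5, 5, 5, 4, 7, 9, 10, 10]),
   (107, [4, 4, 5, 5, 5, 5, 4, 5, 4, 8, 7, 9]),
   (157, [5, 5, 4, 7, 7, 9, 6, 10]),
   (71, [4, 5, 5, 4, 4, 4, 8, 7, 9, 11]),
   (85, [5, 5, 4, 5, 5, 4, 8, 9, 7, 10, 11]),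
   (14, [5, 5, 5, 4, 9, 8, 7, 10, 10]),
   (73, [5, 4, 4, 5, 5, 5, 9, 8, 7, 11]),
   (125, [4, 5, 5, 4, 5, 5, 6, 9, 10, 11, 11]),
   (126, [5, 5, 5, 5, 4, 5, 4, 8, 8, 6, 10, 10, 11, 11]),
   (131, [4, 4, 5, 5, 4, 4, 4, 9, 6, 6, 10, 11, 11]),
   (135, [4, 5, 5, 5, 4, 5, 4, 7, 9, 6, 11, 11]),
   (79, [5, 5, 4, 7, 7, 10, 10]),
   (43, [5, 5, 5, 5, 4, 5, 9, 7, 10, 11]),
   (45, [5, 5, 4, 4, 5, 4, 5, 9, 7, 9, 10, 11, 11]),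
   (80, [4, 5, 4, 5, 5, 4, 9, 6, 10, 11, 11]),
   (75, [5, 5, 5, 5, 4, 5, 8, 6, 9, 6, 11, 11]),
   (24, [5, 5, 4, 5, 5, 4, 6, 7, 10]),
   (113, [4, 5, 5, 4, 5, 8, 7, 7, 6, 10, 10]),
   (96, [5, 5, 4, 5, 5, 4, 4, 4, 8, 9, 11, 11]),
   (39, [4, 4, 5, 4, 5, 5, 4, 6, 8, 6, 6, 11, 11]),
   (118, [5, 4, 5, 4, 4, 9, 7, 8, 6]),
   (29, [5, 5, 4, 5, 5, 7, 8, 9, 10, 10, 11]),
   (70, [4, 4, 5, 4, 7, 9, 6, 10, 11, 11]),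
   (35, [5, 4, 9, 7, 6, 10, 11]),
   (6, [5, 4, 4, 5, 4, 4, 8, 7, 9, 10, 11, 11]),
   (50, [7, 9, 7]),
   (23, [5, 5, 5, 5, 4, 5, 4, 9, 7, 9, 10, 10, 11, 11]),
   (121, [5, 5, 4, 5, 9, 8, 6, 10, 10, 11]),
   (140, [4, 5, 4, 4, 5, 4, 4, 9, 8, 6, 10, 10]),
   (133, [4, 5, 5, 5, 4, 9, 8, 6, 6, 10, 11]),
   (19, [4, 4, 5, 4, 5, 6, 8, 9, 7, 10, 10, 11, 11]),
   (55, [4, 4, 4, 7, 10, 10]),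
   (150, [4, 4, 4, 4, 5, 4, 4, 7, 7, 9, 10, 11]),
   (42, [5, 4, 4, 4, 8, 9, 7, 6, 10, 11, 11]),
   (137, [4, 4, 4, 5, 4, 4, 8, 6, 6, 10, 10, 11]),
   (88, [4, 5, 4, 4, 4, 5, 4, 4, 7, 7, 6, 10, 10, 11, 11]),
   (159, [5, 4, 5, 4, 7, 9, 7, 6, 11]),
   (27, [5, 4, 5, 4, 4, 7, 8, 9, 7, 10, 11, 11]),
   (142, [5, 4, 5, 5, 5, 4]),
   (41, [5, 4, 4, 5, 5, 4, 4, 4, 7, 9, 8, 6, 10, 10, 11, 11]),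
   (153, [4, 5, 4, 5, 5, 4, 4, 4, 9, 8, 7, 10, 10]),
   (102, [4, 4, 4, 4, 5, 4, 4, 9, 8, 6, 10, 10, 11, 11]),
   (8, [4, 4, 4, 5, 4, 4, 9, 7, 9, 6, 10, 10, 11]),
   (158, [4, 4, 5, 5, 5, 8, 9, 6, 6, 10, 10, 11]),
   (110, [5, 5, 5, 4, 5, 4, 9, 7, 6, 6, 11]),
   (9, [5, 4, 5, 5, 9, 7, 8, 6, 10, 10]),
   (11, [4, 4, 4, 5, 4, 9, 10]),
   (147, [5, 4, 5, 7, 7, 9, 10, 11]),
   (128, [4, 4, 4, 6, 9, 7, 10, 11]),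
   (52, [4, 4, 4, 5, 5, 5, 4, 7, 7, 9, 10, 10]),
   (120, [4, 4, 4, 5, 4, 5, 7, 7, 9, 6, 10, 10, 11, 11]),
   (139, [5, 5, 4, 7, 9, 10, 10, 11, 11]),
   (44, [5, 5, 4, 4, 9, 6, 7, 11]),
   (83, [5, 5, 4, 5, 5, 5, 4, 7, 7]),
   (151, [5, 5, 4, 5, 5, 5, 4, 7, 7, 9, 10, 10, 11]),
   (132, [5, 5, 4, 5, 5, 6, 8, 6, 6, 10, 11]),
   (47, [5, 4, 5, 4, 8, 9, 7, 11, 11]),
   (93, [5, 5, 5, 4, 4, 4, 8, 9, 7, 10, 11]),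
   (0, [6, 10]),
   (16, [5, 5, 5, 5, 8, 7, 9, 7, 11, 11]),
   (5, [5, 5, 4, 5, 4, 5, 5, 6, 6, 9, 6, 6, 11]),
   (141, [4, 4, 5, 5, 5, 8, 6, 6, 10, 10, 11]),
   (147, [4, 4, 4, 5, 4, 4, 8, 9, 6, 6, 10, 10, 11, 11]),
   (89, [5, 5, 5, 4, 5, 4, 6, 9, 6, 11]),
   (152, [5, 4, 5, 5, 5, 5, 9, 6, 6, 10, 10, 11]),
   (68, [5, 5, 4, 5, 5, 5, 4, 7, 6, 11, 11]),
   (101, [5, 4, 4, 4, 8, 6, 6, 11, 11]),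
   (80, [5, 4, 4, 4, 5, 4, 4, 8, 7, 10, 10]),
   (47, [5, 5, 5, 4, 5, 5, 4, 6, 9, 6, 7, 11, 11]),
   (87, [4, 5, 5, 7, 6, 6, 10, 11, 11]),
   (145, [4, 5, 5, 4, 5, 8, 6, 9, 6, 11]),
   (98, [4, 4, 8, 6, 6, 10, 11, 11]),
   (138, [4, 4, 5, 9, 6, 6, 10, 11, 11]),
   (78, [5, 5, 4, 5, 5, 4, 6, 9, 10, 10, 11]),
   (38, [4, 5, 5, 5, 5, 7, 6, 11]),
   (39, [4, 4, 4, 4, 5, 4, 5, 9, 7, 9, 6, 10, 10, 11, 11]),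
   (133, [4, 5, 4, 5, 5, 5, 4, 9, 8, 7, 9, 10, 11]),
   (66, [5, 5, 4, 5, 5, 4, 9, 7, 9, 10]),
   (44, [4, 5, 4, 5, 4, 8, 6, 10, 11, 11]),
   (71, [5, 4, 4, 5, 4, 5, 9, 8, 7, 9, 10, 10]),
   (12, [4, 5, 4, 5, 5, 5, 4, 7, 6, 6, 10, 11]),
   (33, [5, 4, 5, 5, 4, 6, 7, 10, 10, 11, 11]),
   (67, [4, 5, 4, 4, 7, 7, 6]),
   (161, [4, 5, 4, 5, 4, 5, 7, 9, 8, 7, 10, 10, 11, 11]),
   (37, [4, 5, 5, 5, 4, 6, 9, 8, 6, 6, 10, 10, 11, 11]),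
   (65, [5, 5, 5, 4, 5, 4, 4, 4, 9, 7, 10, 11, 11]),
   (90, [4, 5, 4, 4, 4, 5, 4, 4, 9, 8, 6, 6, 10, 10, 11]),
   (10, [5, 4, 5, 4, 7, 8, 6, 10, 10, 11, 11]),
   (86, [5, 4, 5, 4, 7, 9, 7]),
   (40, [5, 5, 5, 4, 5, 9, 7, 9, 10, 11, 11]),
   (144, [5, 5, 4, 5, 5, 9, 7, 6, 6, 10, 10]),
   (20, [4, 4, 5, 5, 5, 4, 8, 6, 6, 11, 11]),
   (112, [4, 5, 4, 5, 5, 8, 6, 9, 6, 10]),
   (46, [4, 4, 4, 4, 5, 4, 4, 6, 9, 7, 10, 10, 11, 11]),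
   (57, [4, 4, 5, 4, 4, 4, 7, 7, 9, 6, 10, 10]),
   (24, [5, 5, 5, 5, 4, 5, 4, 8, 6, 9, 6, 10]),
   (128, [4, 4, 4, 5, 4, 4, 4, 8, 6, 6, 10, 10, 11]),
   (27, [5, 4, 5, 5, 5, 5, 6, 6, 9, 6, 6, 10, 10, 11, 11]),
   (118, [4, 5, 4, 5, 9, 8, 6, 10, 10, 11]),
   (49, [5, 4, 4, 5, 4, 4, 4, 9, 7, 6, 11]),
   (111, [4, 5, 4, 5, 5, 5, 5, 7, 9, 7, 6]),
   (70, [5, 5, 8, 9, 7, 6, 11]),
   (23, [5, 4, 4, 4, 5, 4, 7, 9, 8, 6]),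
   (117, [5, 5, 5, 4, 7, 9, 8, 6, 11]),
   (127, [4, 5, 4, 4, 4, 6, 9]),
   (94, [4, 4, 5, 4, 4, 4, 6, 9, 8, 6, 6, 11, 11]),
   (105, [5, 4, 5, 6, 10, 10, 11, 11]),
   (151, [5, 4, 5, 4, 5, 4, 5, 6, 9, 6, 6, 10, 11, 11]),
   (60, [5, 5, 4, 4, 4, 7, 9, 6, 10, 10, 11]),
   (18, [4, 4, 5, 5, 4, 4, 4, 9, 8, 6, 10]),
   (154, [5, 5, 4, 5, 5, 5, 4, 7, 7, 9, 10, 10, 11]),
   (91, [5, 4, 5, 4, 4, 4, 7, 9, 8, 7, 10, 11, 11]),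
   (106, [4, 5, 5, 4, 5, 5, 4, 6, 9, 7, 8, 6, 11, 11]),
   (34, [4, 4, 5, 4, 7, 9, 7, 6, 10, 10]),
   (4, [5, 4, 4, 4, 5, 4, 4, 6, 9, 6, 7, 11]),
   (36, [4, 4, 5, 6, 7, 10, 10, 11, 11]),
   (73, [5, 4, 5, 5, 4, 6, 6, 9, 10, 11, 11]),
   (121, [5, 5, 5, 5, 8, 7, 10, 11, 11]),
   (21, [4, 5, 4, 4, 4, 8, 7, 7, 6, 10]),
   (56, [5, 5, 4, 6, 9, 7, 8, 6]),
   (113, [4, 4, 4, 5, 4, 8, 7, 9]),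
   (25, [4, 5, 4, 5, 4, 5, 6, 9, 6, 6, 10, 10, 11]),
   (42, [4, 4, 4, 5, 5, 5, 4, 7, 7, 6, 10, 10, 11, 11]),
   (17, [5, 4, 4, 4, 5, 4, 4, 9, 7, 9, 6, 11, 11]),
   (30, [4, 4, 5, 5, 5, 9, 7, 8, 6]),
   (26, [4, 5, 4, 5, 5, 4, 7, 7, 9, 6, 10, 11, 11]),
   (110, [5, 4, 4, 5, 4, 5, 4, 8, 9]),
   (85, [5, 5, 5, 4, 5, 4, 8, 9, 7, 10, 10, 11, 11]),
   (43, [4, 4, 4, 5, 4, 8, 8, 6, 10, 11]),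
   (50, [5, 4, 4, 5, 4, 4, 4, 6, 9, 6, 7, 10, 10]),
   (99, [4, 5, 5, 5, 5, 8, 7, 7, 6, 10, 11]),
   (14, [4, 5, 4, 5, 5, 5, 4, 8, 6]),
   (114, [5, 5, 5, 4, 5, 4, 4, 4, 9, 8, 6, 10, 11]),
   (51, [4, 4, 5, 4, 4, 4, 9, 8, 7, 10, 11]),
   (140, [4, 5, 5, 7, 6, 10]),
   (35, [5, 5, 4, 4, 9, 6, 10, 11]),
   (137, [5, 4, 5, 4, 4, 9, 7, 8, 6, 10, 11, 11]),
   (13, [4, 4, 5, 4, 7, 10, 10, 11]),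
   (9, [5, 5, 4, 5, 5, 5, 4, 7, 8, 9, 7, 10, 11]),
   (7, [5, 4, 4, 5, 5, 4, 4, 4, 8, 9, 10, 10, 11, 11]),
   (82, [4, 5, 5, 5, 6, 6, 9, 6, 6, 10, 10, 11]),
   (125, [4, 4, 5, 5, 5, 5, 9, 7, 10, 10, 11]),
   (79, [4, 4, 4, 4, 5, 4, 4, 8, 6, 11, 11]),
   (48, [4, 4, 4, 5, 4, 5, 8, 6, 9, 6, 11, 11]),
   (19, [4, 4, 5, 4, 5, 4, 5, 7, 9, 6, 10, 10, 11]),
   (11, [5, 5, 5, 4, 5, 5, 4, 8, 7, 9, 10]),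
   (53, [4, 5, 5, 5, 5, 4, 5, 4, 6, 9, 7, 10]),
   (158, [5, 5, 5, 7, 7, 6, 10, 10]),
   (97, [4, 5, 4, 5, 4, 4, 7, 9, 8, 7, 10, 10, 11]),
   (155, [5, 4, 4, 5, 4, 5, 4, 6, 8, 6, 6, 10, 11, 11]),
   (72, [4, 5, 4, 4, 5, 4, 4, 6, 9, 10, 10]),
   (54, [5, 4, 4, 4, 7, 7, 6]),
   (29, [4, 5, 4, 5, 5, 5, 5, 8, 6, 6, 9, 10, 10, 11]),
   (32, [4, 5, 5, 6, 9, 7, 11, 11]),
   (122, [4, 5, 5, 5, 4, 9, 6, 9, 10]),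
   (119, [4, 5, 4, 5, 5, 5, 5, 8, 9, 6, 6, 10]),
   (84, [4, 4, 5, 4, 11]),
   (134, [5, 4, 5, 4, 4, 6, 8, 6, 6, 10, 11]),
   (22, [4, 4, 5, 4, 4, 6, 9, 8, 6, 10, 11]),
   (159, [4, 5, 4, 5, 4, 8, 7, 7, 6, 10]),
   (115, [4, 5, 4, 4, 4, 5, 4, 4, 6, 9, 6, 6, 11, 11]),
   (109, [5, 4, 4, 5, 5, 4, 4, 4, 11, 11]),
   (15, [4, 4, 4, 5, 5, 5, 4, 9, 7, 9, 10, 10, 11]),
   (69, [4, 4, 5, 4, 5, 4, 8, 7, 7, 6, 10]),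
   (148, [5, 4, 4, 6, 9, 6, 10]),
   (59, [5, 4, 5, 5, 4, 4, 4, 7, 10, 10, 11]),
   (62, [4, 5, 4, 5, 5, 4, 6, 10]),
   (157, [4, 5, 4, 4, 6, 9, 8, 6, 6, 10, 11]),
   (81, [5, 5, 5, 4, 5, 8, 6, 10, 10, 11]),
   (130, [4, 5, 5, 8, 9, 6, 9]),
   (124, [5, 4, 4, 8, 7, 7, 6, 11, 11]),
   (129, [5, 5, 5, 4, 5, 4, 4, 4, 8, 8, 6, 11]),
   (149, [4, 5, 5, 5, 9, 6, 7, 10]),
   (83, [4, 5, 5, 5, 5, 4, 5, 4, 9, 7, 8, 6]),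
   (31, [4, 5, 5, 4, 5, 5, 4, 7, 9, 10, 11]),
   (146, [4, 4, 5, 8, 7, 9, 7, 11, 11]),
   (116, [4, 5, 5, 4, 5, 5, 4, 7, 8, 9, 7, 10, 11, 11]),
   (28, [5, 5, 5, 5, 4, 5, 8, 6, 6, 9]),
   (52, [5, 8, 8, 6, 11]),
   (131, [5, 5, 5, 4, 5, 5, 4, 7, 11]),
   (96, [5, 4, 5, 5, 4, 5, 5, 7, 7, 10, 11]),
   (135, [4, 4, 8, 9, 7, 6, 10, 10, 11]),
   (55, [9, 7, 9, 11]),
   (102, [5, 5, 5, 5, 4, 5, 9, 6, 10, 10]),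
   (74, [5, 4, 5, 5, 4, 7, 9, 10, 10]),
   (77, [5, 4, 5, 4, 5, 7, 7, 9, 10])]

/-- Part of a closure certificate. -/
def pLev0c5 : List (ℕ × List ℕ) :=
  [(1, [5, 5, 5, 5, 4, 5, 4, 9, 6, 10, 10]),
   (108, [4, 4, 4, 5, 4, 4, 4, 9, 6, 7, 10, 10, 11]),
   (64, [4, 4, 9, 6, 9, 10, 10, 11, 11]),
   (107, [5, 4, 5, 4, 4, 4, 7, 7, 9, 10, 11, 11]),
   (45, [4, 4, 5, 4, 4, 4, 9, 8, 6, 6, 10]),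
   (75, [4, 4, 4, 4, 5, 4, 4, 9, 8, 7, 9, 10, 10]),
   (92, [5, 5, 4, 5, 4, 4, 4, 8, 6]),
   (123, [4, 5, 5, 5, 4, 5, 4, 6, 8, 9, 7, 10, 10, 11]),
   (150, [5, 5, 5, 4, 5, 4, 8, 7, 7, 6, 10, 10]),
   (104, [4, 4, 5, 4, 5, 7, 9, 10, 11]),
   (58, [5, 5, 4, 5, 4, 5, 5, 8, 6, 6, 9, 10, 10]),
   (120, [4, 4, 5, 4, 5, 5, 6, 9, 7, 10, 11]),
   (6, [5, 4, 4, 5, 4, 7, 7, 8, 9, 10, 10, 11]),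
   (3, [5, 5, 5, 4, 5, 4, 4, 4, 6, 9, 7, 8, 6, 10, 10, 11]),
   (8, [4, 5, 4, 5, 5, 5, 5, 6, 9, 6, 10, 10, 11]),
   (41, [4, 5, 5, 5, 4, 5, 5, 4, 9, 7, 6]),
   (153, [4, 5, 4, 5, 9, 8, 7, 10, 10, 11]),
   (100, [4, 4, 5, 4, 5, 9, 8, 6, 10, 10]),
   (132, [4, 4, 5, 4, 4, 4, 6, 7, 10]),
   (61, [4, 5, 4, 6, 6, 9, 10, 11, 11]),
   (93, [4, 4, 5, 5, 4, 4, 4, 7, 7, 9, 6, 10, 10, 11]),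
   (126, [4, 5, 4, 5, 5, 4, 4, 4, 7, 8, 9, 10, 11, 11]),
   (136, [4, 4, 5, 4, 5, 5, 9, 7, 6, 10, 10]),
   (143, [4, 4, 5, 5, 4, 4, 4, 8, 6, 10, 11]),
   (76, [5, 4, 4, 6, 11]),
   (95, [8, 7, 9, 10, 10, 11, 11]),
   (139, [5, 4, 5, 4, 5, 9, 8, 6, 6, 10, 11, 11]),
   (88, [4, 5, 5, 5, 4, 5, 9, 6, 9, 10]),
   (103, [5, 4, 4, 5, 4, 4, 4, 9, 7, 9, 6, 10, 10]),
   (156, [4, 4, 4, 5, 5, 5, 9, 7, 9, 6, 11, 11]),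
   (2, [4, 5, 5, 4, 5, 5, 8, 6, 6, 9, 10, 11]),
   (142, [4, 5, 4, 4, 5, 4, 4, 7, 8, 9, 7, 10, 10, 11]),
   (63, [4, 4, 4, 5, 5, 5, 7, 11]),
   (160, [5, 4, 8, 6, 9, 6, 11]),
   (0, [9]),
   (6, [4, 5, 4, 5, 5, 4, 9, 6, 6, 10, 11, 11]),
   (158, [5, 4, 5, 5, 4, 4, 4, 6, 9, 7, 11, 11]),
   (9, [5, 5, 4, 5, 5, 7, 7]),
   (46, [4, 5, 4, 5, 5, 6, 8, 6, 6]),
   (151, [4, 4, 5, 5, 5, 7, 9, 8, 7, 10]),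
   (101, [5, 5, 5, 4, 5, 7, 7, 9, 11, 11]),
   (14, [4, 4, 5, 5, 5, 9, 8, 7, 9, 10, 11]),
   (152, [5, 4, 5, 5, 4, 7, 9, 7, 10, 11, 11]),
   (80, [4, 5, 4, 4, 8, 7, 10, 11, 11]),
   (72, [5, 4, 4, 5, 4, 4, 8, 7, 9, 10, 11]),
   (150, [4, 4, 5, 5, 5, 4, 7, 9, 6, 6, 10, 10, 11, 11]),
   (25, [4, 4, 5, 5, 4, 4, 4, 8, 7, 9, 7, 10, 10, 11]),
   (90, [5, 5, 5, 4, 5, 5, 4, 8, 6, 10, 10]),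
   (130, [4, 4, 4, 4, 5, 4, 5, 7, 10]),
   (30, [5, 4, 4, 7, 10, 10]),
   (146, [4, 4, 5, 4, 5, 7, 9, 7, 6]),
   (34, [5, 4, 5, 4, 7, 9, 8, 7, 10, 10]),
   (15, [4, 5, 7, 7, 9, 11, 11]),
   (54, [5, 4, 5, 4, 5, 9, 6, 7, 11, 11]),
   (111, [4, 4, 4, 5, 4, 5, 6, 7]),
   (108, [4, 4, 5, 5, 5, 7, 9, 8, 7, 10, 10, 11]),
   (83, [5, 4, 5, 5, 4, 5, 5, 9, 8, 6, 10]),
   (64, [4, 5, 5, 5, 4, 7, 7, 10]),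
   (95, [4, 4, 5, 4, 5, 4, 5, 9, 7, 10, 10]),
   (109, [5, 5, 5, 4, 8, 7, 11, 11]),
   (144, [4, 4, 4, 4, 5, 4, 5, 9, 8, 7, 10, 11, 11]),
   (124, [5, 5, 4, 4, 4, 6, 7, 10, 10, 11, 11]),
   (98, [5, 7, 9, 8, 6, 11, 11]),
   (28, [5, 4, 5, 4, 5, 4, 5, 7, 6, 10]),
   (148, [4, 5, 5, 4, 7, 9, 6, 10]),
   (31, [5, 5, 4, 5, 11, 11]),
   (37, [4, 7, 9, 8, 6, 11, 11]),
   (7, [4, 5, 5, 5, 5, 4, 5, 4, 8, 9, 7, 6, 10, 10]),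
   (27, [5, 5, 5, 5, 4, 5, 4, 6, 9, 7, 10, 10, 11]),
   (147, [4, 5, 4, 5, 5, 5, 5, 9, 10]),
   (57, [5, 5, 4, 5, 5, 8, 9, 7, 6, 10, 11, 11]),
   (53, [4, 5, 4, 5, 4, 4, 9, 7, 7, 6, 10]),
   (76, [4, 5, 5, 4, 4, 4, 9, 8, 7, 11]),
   (112, [5, 5, 4, 5, 5, 4, 4, 4, 8, 9, 7, 10, 10, 11, 11]),
   (116, [5, 5, 4, 5, 4, 5, 5, 7, 8, 9, 7, 10, 11]),
   (143, [5, 4, 5, 5, 4, 4, 4, 9, 6, 7, 10, 10]),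
   (44, [5, 4, 5, 4, 4, 4, 7, 7, 9, 6, 10, 10]),
   (135, [5, 5, 5, 4, 5, 7, 6, 6, 10, 10, 11, 11]),
   (110, [5, 4, 4, 5, 5, 5, 6, 6, 9, 6, 6, 10, 11]),
   (8, [5, 4, 4, 8, 6, 6, 11, 11]),
   (127, [4, 4, 5, 4, 5, 4, 8, 9, 7, 10, 11]),
   (97, [4, 5, 5, 5, 5, 4, 5, 4, 9, 10, 11]),
   (105, [5, 5, 5, 4, 5, 4, 4, 4, 7, 8, 9, 10, 10]),
   (89, [5, 4, 4, 5, 4, 7, 9, 8, 6, 10, 10]),
   (113, [4, 5, 5, 4, 5, 5, 4, 7, 9, 7, 6, 10, 10]),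
   (93, [5, 5, 5, 7, 7, 8, 9, 10, 10, 11, 11]),
   (32, [4, 5, 4, 5, 4, 9, 7, 6, 6, 10, 10, 11]),
   (52, [5, 4, 5, 4, 5, 5, 9, 7, 9, 6, 10]),
   (75, [5, 4, 5, 4, 7, 9, 6, 11]),
   (39, [5, 5, 4, 4, 9, 7, 6, 11]),
   (4, [4, 5, 5, 5, 7, 7, 9, 6]),
   (36, [4, 4, 5, 4, 9, 7, 10, 10, 11]),
   (42, [4, 5, 4, 5, 5, 4, 5, 5, 9, 11]),
   (69, [5, 4, 4, 5, 5, 5, 8, 9, 7, 6, 10, 11, 11]),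
   (50, [5, 4, 5, 4, 5, 7, 8, 9, 7, 10, 10]),
   (77, [5, 5, 4, 5, 4, 5, 5, 8, 7, 9, 7, 11, 11]),
   (60, [4, 5, 4, 4, 4, 5, 4, 4, 8, 6, 9, 6, 10]),
   (145, [5, 5, 5, 4, 9, 7, 8, 6, 10, 11, 11]),
   (73, [5, 5, 4, 5, 4, 4, 4, 8, 9, 10, 10]),
   (55, [5, 4, 5, 5, 4, 4, 4, 8, 9, 6, 6, 10, 11]),
   (78, [4, 4, 4, 5, 4, 9, 8, 7, 9, 10]),
   (155, [4, 5, 4, 4, 4, 6, 9, 8, 6, 10, 10, 11]),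
   (23, [5, 4, 5, 4, 8, 6, 6, 11, 11]),
   (85, [5, 5, 5, 4, 5, 4, 6, 6, 9, 10, 10]),
   (43, [4, 5, 4, 5, 5, 4, 4, 4, 6, 9, 7, 10, 10, 11]),
   (21, [4, 5, 7, 6, 6, 10, 10]),
   (84, [5, 4, 4, 4, 6, 8, 6, 6, 10]),
   (68, [4, 4, 4, 4, 5, 4, 5, 6, 9, 8, 6, 6]),
   (74, [5, 5, 4, 5, 9, 8, 7, 9, 10, 10, 11, 11]),
   (137, [5, 4, 5, 4, 7, 6, 11, 11]),
   (142, [5, 5, 4, 5, 5, 4, 4, 4, 7, 9, 6, 11]),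
   (35, [4, 5, 4, 6, 9, 7, 10, 10]),
   (51, [5, 4, 4, 5, 5, 4, 4, 4, 7, 7, 8, 9, 11, 11]),
   (92, [5, 4, 5, 4, 9, 8, 7, 10, 11, 11]),
   (141, [4, 4, 4, 5, 5, 5, 9, 6]),
   (20, [4, 4, 5, 5, 5, 5, 8, 6, 6, 10]),
   (82, [4, 4, 5, 5, 4, 4, 4, 8, 6, 6, 11]),
   (103, [4, 5, 4, 5, 6, 9, 6, 10, 10, 11]),
   (119, [4, 4, 5, 4, 5, 10, 11, 11]),
   (107, [4, 4, 5, 5, 4, 4, 4, 6, 9, 6, 11]),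
   (104, [4, 5, 5, 5, 4, 5, 4, 9, 8, 6, 10, 10, 11]),
   (136, [4, 4, 4, 5, 4, 4, 4, 9, 8, 7, 10, 10, 11, 11]),
   (24, [4, 4, 5, 4, 5, 9, 7, 6, 6]),
   (5, [5, 4, 5, 4, 5, 4, 5, 7, 9, 7, 10, 11]),
   (94, [4, 5, 5, 5, 4, 5, 7, 7, 9, 6, 11, 11]),
   (26, [4, 5, 5, 4, 8, 6]),
   (47, [4, 4, 5, 5, 5, 5, 4, 5, 4, 7, 8, 6, 10, 10, 11]),
   (66, [5, 5, 4, 8, 6, 6, 11, 11]),
   (134, [4, 5, 5, 5, 5, 4, 5, 4, 9, 7]),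
   (154, [5, 4, 5, 4, 9, 6, 7, 10]),
   (122, [4, 5, 5, 5, 5, 4, 5, 4, 7, 9, 10, 10]),
   (79, [5, 5, 4, 5, 5, 9, 11, 11]),
   (99, [5, 5, 5, 4, 5, 5, 4, 8, 7, 9, 10, 11, 11]),
   (29, [5, 7, 9, 6, 11, 11]),
   (160, [4, 4, 5, 4, 5, 4, 7, 9, 6, 11, 11]),
   (132, [5, 5, 5, 4, 4, 4, 10, 11]),
   (157, [4, 5, 4, 4, 8, 7, 9, 7, 10, 10, 11, 11]),
   (161, [5, 5, 5, 9, 7, 7, 6, 10, 11, 11]),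
   (133, [5, 4, 4, 5, 4, 5, 4, 8, 7, 9, 10, 10, 11, 11]),
   (121, [4, 6, 6]),
   (86, [4, 5, 5, 5, 4, 5, 5, 4, 7, 9, 6, 6, 10, 11, 11]),
   (59, [5, 4, 4, 4, 6, 9, 7, 10, 11]),
   (129, [4, 5, 5, 4, 5, 5, 8, 8, 6, 10]),
   (115, [4, 5, 4, 4, 4, 5, 4, 4, 7, 10, 10, 11, 11]),
   (58, [4, 4, 4, 5, 5, 5, 7, 9, 7, 6, 11, 11]),
   (138, [5, 5, 4, 8, 9, 6, 6, 10, 10, 11]),
   (65, [5, 5, 4, 5, 5, 4, 4, 4, 6, 6, 10, 11, 11]),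
   (62, [4, 4, 5, 5, 5, 4, 6, 9, 7, 10, 11, 11]),
   (126, [5, 4, 4, 4, 5, 4, 4, 6, 9, 8, 6, 11]),
   (12, [5, 4, 5, 4, 5, 7, 7, 10, 10, 11]),
   (40, [4, 4, 8, 9, 6, 6, 10, 10]),
   (38, [5, 4, 4, 5, 5, 5, 6, 6]),
   (118, [8, 9, 6, 9, 10]),
   (10, [4, 4, 5, 5, 5, 5, 7, 7, 10, 10, 11, 11]),
   (91, [4, 5, 5, 5, 5, 7, 6, 6, 10, 11]),
   (131, [4, 5, 5, 5, 4, 5, 4, 8, 9]),
   (96, [5, 4, 5, 5, 4, 5, 5, 6, 6, 9, 10, 10, 11, 11]),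
   (70, [5, 4, 5, 4, 5, 8, 7, 9, 10]),
   (17, [5, 4, 5, 9, 7, 7, 6, 11, 11]),
   (100, [5, 4, 4, 4, 5, 4, 4, 9, 6, 11]),
   (114, [4, 5, 5, 5, 5, 4, 5, 4, 7, 7, 8, 9, 10, 11, 11]),
   (56, [5, 5, 5, 4, 5, 6, 6, 9, 11, 11]),
   (45, [5, 4, 4, 5, 4, 4, 4, 8, 9, 7, 6, 10, 11]),
   (71, [4, 5, 4, 5, 5, 4, 6, 9, 8, 6, 6, 10, 11]),
   (33, [5, 4, 4, 5, 4, 8, 8, 6, 11, 11]),
   (48, [4, 4, 5, 4, 5, 5, 4, 7, 8, 9, 10, 10]),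
   (1, [4, 4, 5, 5, 5, 8, 6, 6, 10, 10]),
   (106, [4, 4, 5, 4, 8, 9, 10, 10, 11]),
   (13, [5, 4, 4, 5, 4, 5, 7, 7, 8, 9, 10, 11, 11]),
   (123, [5, 4, 5, 5, 5, 4, 9, 6, 9]),
   (87, [4, 4, 5, 4, 5, 6, 9, 7, 8, 6]),
   (19, [5, 4, 5, 5, 5, 4, 9, 6, 10, 11]),
   (81, [4, 4, 5, 4, 4, 7, 7, 9, 10, 11, 11]),
   (153, [4, 5, 5, 4, 4, 4, 6, 6, 9, 11]),
   (16, [4, 5, 5, 4, 5, 5, 9, 6, 9, 10, 11, 11]),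
   (3, [5, 5, 4, 4, 4, 9, 8, 6, 10, 10]),
   (117, [4, 5, 5, 4, 5, 5, 4, 9, 7, 10, 11]),
   (2, [5, 4, 4, 7, 7, 6, 10, 11, 11]),
   (120, [4, 5, 5, 4, 4, 4, 8, 9, 6, 6, 10]),
   (102, [4, 5, 5, 5, 5, 6, 9, 6, 6, 10, 10, 11, 11]),
   (159, [4, 4, 5, 4, 5, 4, 5, 6, 9, 8, 6, 6, 10, 11]),
   (61, [5, 4, 4, 4, 8, 6, 6]),
   (18, [5, 5, 5, 4, 5, 4, 7, 7, 6]),
   (149, [5, 4, 4, 5, 5, 5, 7, 7, 9, 6, 10, 11, 11]),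
   (11, [4, 4, 5, 4, 4, 4, 9, 8, 7, 10, 11, 11]),
   (49, [4, 4, 5, 4, 5, 7, 8, 6, 11]),
   (128, [5, 5, 5, 4, 5, 5, 4, 6, 9]),
   (67, [5, 4, 4, 4, 8, 9, 6, 6, 10, 10]),
   (88, [4, 5, 5, 4, 5, 5, 7, 9, 8, 6, 10, 11]),
   (139, [5, 4, 5, 7, 6, 11]),
   (125, [4, 5, 5, 4, 5, 9, 8, 7, 11]),
   (63, [4, 5, 4, 4, 5, 4, 4, 8, 7, 10, 11]),
   (41, [4, 5, 4, 4, 7, 7, 6, 10, 10, 11, 11]),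
   (140, [4, 5, 5, 5, 4, 5, 5, 4, 7, 7, 9, 11]),
   (156, [5, 5, 5, 6, 6, 11]),
   (22, [4, 5, 4, 5, 4, 5, 6, 9, 8, 6]),
   (0, [10]),
   (76, [4, 5, 5, 5, 8, 9, 10, 11]),
   (41, [5, 5, 5, 4, 5, 4, 4, 4, 9, 7, 7, 6, 11]),
   (17, [5, 4, 5, 5, 4, 8, 9, 6, 9, 10, 10, 11, 11]),
   (143, [5, 5, 8, 9, 7, 10, 10, 11, 11]),
   (46, [4, 4, 6, 7, 10]),
   (8, [4, 4, 8, 7, 7, 6, 11, 11]),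
   (125, [5, 4, 4, 5, 4, 4, 9, 8, 7, 10, 10]),
   (101, [4, 5, 5, 5, 4, 5, 8, 7, 11]),
   (34, [5, 4, 4, 5, 4, 4, 7, 6, 6, 10, 11, 11]),
   (64, [4, 5, 5, 4, 4, 4, 8, 6, 6, 11, 11]),
   (87, [4, 5, 5, 4, 8, 9, 7, 10, 10, 11, 11]),
   (63, [4, 9, 6, 7, 10, 11]),
   (68, [10]),
   (54, [5, 5, 4, 4, 5, 4, 5, 8, 7, 7, 6, 10]),
   (157, [4, 5, 5, 4, 5, 5, 6, 9, 10, 10, 11, 11]),
   (1, [4, 4, 5, 4, 4, 4, 9, 8, 6, 11]),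
   (40, [5, 5, 5, 4, 4, 4, 8, 6, 6, 9, 10, 11]),
   (86, [5, 5, 9, 6, 10, 10, 11, 11]),
   (133, [5, 5, 4, 4, 6, 8, 6, 6]),
   (10, [4, 5, 4, 5, 5, 4, 4, 4, 7, 9, 6, 10, 11, 11]),
   (131, [5, 4, 4, 4, 5, 4, 9, 6, 9, 10, 10]),
   (44, [5, 4, 4, 5, 4, 4, 4, 7, 6, 6, 10, 11, 11]),
   (13, [5, 5, 4, 5, 4, 4, 4, 6, 6, 10])]

/-- Part of a closure certificate. -/
def pLev0c6 : List (ℕ × List ℕ) :=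
  [(144, [4, 5, 4, 4, 5, 4, 4, 8, 9, 7, 6, 10, 10, 11]),
   (78, [4, 4, 4, 5, 5, 5, 4, 7, 9, 6, 10]),
   (88, [5, 4, 5, 5, 4, 9, 7, 10, 10, 11]),
   (116, [4, 5, 5, 4, 5, 5, 4, 7, 7, 6, 10]),
   (18, [4, 4, 5, 4, 5, 4, 7, 9, 6]),
   (12, [5, 4, 4, 5, 4, 4, 8, 6]),
   (66, [5, 5, 5, 5, 4, 5, 4, 6, 10, 10, 11, 11]),
   (43, [4, 4, 4, 5, 4, 4, 4, 6, 9, 8, 6, 6, 11]),
   (155, [5, 5, 4, 4, 4, 9, 6, 7, 10, 10, 11]),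
   (148, [5, 4, 5, 5, 5, 5, 9, 10, 11]),
   (126, [5, 5, 5, 4, 5, 5, 4, 6, 9, 8, 6, 10, 10]),
   (158, [4, 4, 5, 5, 5, 6, 8, 9, 7, 10, 11, 11]),
   (57, [5, 4, 5, 4, 4, 7, 7, 9, 6, 11, 11]),
   (24, [5, 5, 4, 4, 5, 4, 5, 7, 9, 8, 6, 10, 10]),
   (132, [4, 4, 4, 4, 5, 4, 5, 7, 8, 9, 11]),
   (74, [5, 4, 4, 5, 5, 5, 7, 8, 9, 7]),
   (3, [5, 4, 4, 4, 5, 4, 7, 7, 6, 10]),
   (151, [9, 8, 6, 6, 10]),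
   (160, [4, 5, 4, 4, 8, 9, 6, 9]),
   (55, [5, 4, 4, 5, 4, 6, 8, 6, 6, 10, 10]),
   (137, [5, 5, 4, 6, 9, 6, 7, 10, 10]),
   (152, [4, 4, 5, 9, 8, 6, 6]),
   (61, [4, 5, 4, 5, 4, 4, 6, 6, 9, 10, 10, 11, 11]),
   (156, [5, 4, 5, 4, 5, 4, 5, 8, 6, 6, 11]),
   (69, [5, 4, 5, 5, 4, 4, 4, 6, 9, 6, 7, 11, 11]),
   (77, [5, 5, 7, 9, 8, 6]),
   (85, [4, 4, 4, 4, 5, 4, 4, 8, 9, 10, 11, 11]),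
   (99, [4, 4, 5, 5, 5, 4, 7, 7, 8, 9, 10, 10, 11]),
   (26, [5, 5, 5, 5, 4, 5, 6, 8, 6, 6, 10, 10]),
   (53, [4, 5, 4, 6, 9, 6, 6, 10, 10, 11]),
   (145, [5, 4, 5, 4, 6, 6, 10, 11]),
   (31, [4, 5, 4, 4, 5, 4, 4, 11, 11]),
   (4, [5, 5, 5, 4, 5, 7, 10, 10]),
   (122, [5, 4, 5, 5, 5, 4, 8, 9, 7, 6, 10]),
   (15, [5, 4, 5, 4, 5, 4, 5, 7, 7, 10, 11, 11]),
   (60, [9, 7, 7, 6, 10, 11]),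
   (129, [5, 5, 5, 5, 8, 7, 9, 7, 10, 10, 11, 11]),
   (5, [4, 4, 4, 5, 5, 5, 4, 7, 9, 8, 7]),
   (105, [4, 4, 4, 5, 4, 4, 4, 7, 7, 6, 10, 10, 11, 11]),
   (29, [5, 4, 4, 5, 5, 5, 9, 6, 10, 11, 11]),
   (20, [5, 4, 5, 5, 5, 4, 6, 9, 10, 11, 11]),
   (149, [5, 5, 5, 5, 8, 9, 11]),
   (92, [5, 5, 8, 7, 9, 7, 10, 11]),
   (120, [5, 4, 5, 4, 5, 4, 5, 9, 7, 6, 10]),
   (23, [5, 5, 5, 4, 5, 5, 4, 6, 9, 10, 10]),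
   (121, [4, 4, 6, 9, 7, 8, 6, 10, 11]),
   (39, [5, 4, 5, 7, 7, 9, 6, 11]),
   (50, [5, 4, 4, 5, 4, 4, 9, 6, 7, 10, 11, 11]),
   (90, [5, 4, 4, 5, 4, 5, 4, 9, 7, 10, 10, 11, 11]),
   (84, [5, 4, 4, 4, 5, 4, 4, 9, 7, 7, 6, 10, 10, 11]),
   (70, [4, 5, 5, 5, 4, 5, 5, 4, 10, 11, 11]),
   (51, [4, 4, 5, 4, 4, 4, 9, 7, 6, 6, 10, 10, 11]),
   (16, [4, 5, 4, 5, 4, 4, 9, 8, 7, 9, 10, 10, 11]),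
   (127, [5, 4, 5, 6, 6, 9, 11, 11]),
   (110, [5, 8, 9, 7, 6, 10, 10, 11]),
   (109, [5, 4, 5, 5, 4, 5, 5, 7, 9, 10, 11, 11]),
   (27, [5, 5, 5, 8, 7, 9]),
   (138, [5, 4, 5, 4, 6, 9, 11, 11]),
   (82, [6, 9, 8, 6, 10]),
   (98, [4, 4, 5, 6, 9, 8, 6, 6, 11, 11]),
   (111, [4, 4, 5, 4, 4, 4, 6, 9, 8, 6, 6, 10]),
   (71, [5, 5, 4, 4, 5, 4, 5, 8, 9, 6, 9, 10, 10, 11, 11]),
   (28, [5, 4, 4, 4, 5, 4, 4, 7, 9, 7, 10, 11]),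
   (136, [5, 5, 4, 5, 4, 5, 5, 7, 6, 6, 10, 10, 11]),
   (52, [4, 5, 5, 6, 9, 8, 6, 6, 10, 11]),
   (89, [5, 4, 4, 4, 5, 4, 8, 9, 6, 9, 10, 11]),
   (134, [5, 4, 5, 4, 5, 7, 9, 7, 6, 10, 11, 11]),
   (67, [4, 4, 4, 5, 4, 4, 4, 6, 6]),
   (30, [4, 5, 5, 4, 7, 6]),
   (7, [4, 4, 4, 4, 5, 4, 5, 9, 8, 7]),
   (81, [5, 4, 5, 4, 4, 4, 8, 6, 6, 11, 11]),
   (139, [4, 4, 4, 5, 4, 5, 9, 8, 7, 9, 10]),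
   (96, [5, 4, 5, 4, 5, 5, 8, 9, 7]),
   (19, [4, 5, 4, 5, 5, 5, 4, 7, 9, 7, 6, 10, 10]),
   (100, [4, 4, 5, 4, 8, 9, 6, 6, 10, 10, 11, 11]),
   (75, [5, 5, 6, 9, 6]),
   (83, [4, 5, 5, 4, 5, 7, 8, 9, 10, 10, 11]),
   (6, [5, 5, 4, 5, 5, 5, 4, 9, 6, 7]),
   (47, [4, 5, 5, 5, 4, 5, 4, 6, 9, 6, 10, 10, 11]),
   (33, [4, 6, 10, 10, 11]),
   (130, [4, 5, 4, 5, 5, 4, 5, 5, 7, 9, 10, 11, 11]),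
   (113, [4, 4, 5, 5, 5, 4, 6, 6, 9, 6, 6, 10, 10, 11, 11]),
   (42, [5, 4, 4, 4, 5, 4, 4, 9, 7, 9, 11]),
   (107, [5, 7, 8, 9, 10, 11]),
   (21, [5, 4, 5, 5, 4, 5, 5, 7, 9, 6, 10, 11]),
   (161, [4, 5, 4, 4, 9, 6, 9, 10, 11, 11]),
   (25, [5, 4, 5, 4, 8, 6, 6, 9]),
   (73, [5, 5, 4, 5, 5, 4, 4, 4, 9, 7, 6, 6, 10]),
   (118, [4, 5, 4, 4, 9, 11]),
   (62, [5, 4, 4, 5, 4, 5, 4, 7, 8, 6, 10, 11, 11]),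
   (141, [5, 4, 7, 7, 8, 9]),
   (104, [4, 5, 4, 5, 5, 5, 4, 9, 6, 11, 11]),
   (80, [5, 5, 4, 4, 7, 8, 6, 10]),
   (128, [5, 5, 4, 5, 5, 6, 6, 9, 10, 11]),
   (123, [4, 5, 4, 4, 4, 5, 4, 4, 8, 8, 6, 10]),
   (119, [4, 5, 4, 5, 4, 4, 9, 7, 9]),
   (91, [4, 5, 5, 4, 5, 6, 8, 9, 7, 11]),
   (48, [6, 8, 6, 6, 10, 11, 11]),
   (36, [4, 5, 4, 5, 5, 5, 5, 8, 7, 9, 7]),
   (112, [5, 4, 4, 5, 4, 5, 4, 6, 10, 10, 11, 11]),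
   (114, [4, 5, 4, 5, 5, 4, 4, 4, 8, 7, 9, 10]),
   (93, [5, 5, 4, 4, 4, 6, 9, 11]),
   (9, [5, 4, 5, 5, 4, 5, 5, 8, 6, 6, 9, 10, 11, 11]),
   (49, [4, 4, 4, 5, 4, 4, 4, 6, 8, 9, 7, 10, 10]),
   (142, [5, 5, 4, 5, 5, 4, 4, 4, 9, 6, 10, 10, 11]),
   (59, [4, 5, 4, 6, 8, 6, 6, 10]),
   (115, [4, 5, 4, 4, 4, 8, 9, 7, 10, 10, 11]),
   (108, [5, 4, 5, 5, 4, 5, 5, 7, 7, 10, 11]),
   (159, [5, 4, 5, 5, 4, 5, 5, 7, 8, 9, 7, 11]),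
   (97, [4, 5, 5, 4, 5, 8, 9, 6, 6, 10, 10]),
   (72, [5, 5, 5, 4, 5, 5, 4, 7, 7, 9, 6, 11, 11]),
   (65, [4, 5, 5, 5, 5, 4, 5, 4, 6, 9, 6, 6]),
   (11, [5, 4, 5, 9, 8, 7, 11, 11]),
   (22, [4, 4, 4, 5, 4, 4, 9, 6, 7, 10]),
   (94, [5, 4, 5, 6, 9, 7, 10, 11, 11]),
   (154, [5, 4, 5, 4, 7, 9, 6, 10, 10]),
   (45, [4, 4, 5, 4, 5, 5, 6, 9, 7, 8, 6, 10, 10]),
   (124, [5, 4, 5, 5, 4, 4, 4, 6, 6, 9, 6, 6, 10, 10]),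
   (117, [5, 5, 5, 5, 6, 9, 6, 7, 10]),
   (56, [5, 4, 4, 8, 7, 7, 6, 10, 11, 11]),
   (37, [4, 4, 4, 5, 4, 5, 6, 9, 6, 10, 10]),
   (14, [5, 5, 5, 4, 5, 4, 4, 4, 8, 7, 7, 6, 11, 11]),
   (146, [5, 5, 5, 4, 5, 4, 4, 4, 9, 7, 7, 6, 10]),
   (35, [7, 8, 9, 7, 10, 10, 11]),
   (103, [5, 4, 5, 4, 5, 8, 7, 9, 7, 10, 11]),
   (135, [4, 4, 5, 5, 5, 7, 9, 6, 6, 11, 11]),
   (150, [4, 4, 5, 4, 5, 7, 9, 6, 6, 10, 11]),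
   (2, [4, 4, 5, 4, 4, 6, 9, 7, 8, 6, 10, 10, 11]),
   (140, [4, 4, 5, 4, 4, 7, 8, 6, 10, 10]),
   (32, [5, 4, 5, 4, 5, 7, 8, 9, 10, 11]),
   (95, [5, 4, 4, 5, 4, 5, 5, 7, 7, 8, 9, 10, 11, 11]),
   (153, [5, 5, 5, 4, 5, 4, 7, 8, 9, 10, 10, 11]),
   (102, [5, 4, 4, 5, 4, 8, 7, 9, 7, 11, 11]),
   (58, [4, 4, 5, 5, 5, 4, 6, 7, 10, 10, 11, 11]),
   (147, [4, 4, 5, 4, 5, 4, 8, 9, 6, 6, 10, 11]),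
   (38, [5, 5, 5, 8, 6, 6, 10, 11]),
   (106, [5, 5, 4, 7, 7, 9, 6, 10, 10]),
   (79, [5, 5, 4, 5, 5, 4]),
   (0, [11]),
   (1, [11]),
   (2, [11]),
   (3, [11]),
   (4, [11]),
   (5, [11]),
   (6, [11]),
   (7, [11]),
   (8, [11]),
   (9, [11]),
   (10, [11]),
   (11, [11]),
   (12, [11]),
   (13, [11]),
   (14, [11]),
   (15, [11]),
   (16, [11]),
   (17, [11]),
   (18, [11]),
   (19, [11]),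
   (20, [11]),
   (21, [11]),
   (22, [11]),
   (23, [11]),
   (24, [11]),
   (25, [11]),
   (26, [11]),
   (27, [11]),
   (28, [11]),
   (29, [11]),
   (30, [11]),
   (31, [11]),
   (32, [11]),
   (33, [11]),
   (34, [11]),
   (35, [11]),
   (36, [11]),
   (37, [11]),
   (38, [11]),
   (39, [11]),
   (40, [11]),
   (41, [11]),
   (42, [11]),
   (43, [11]),
   (44, [11]),
   (45, [11]),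
   (46, [11]),
   (47, [11]),
   (48, [11]),
   (49, [11]),
   (50, [11]),
   (51, [11]),
   (52, [11]),
   (53, [11]),
   (54, [11]),
   (55, [11]),
   (56, [11]),
   (57, [11]),
   (58, [11]),
   (59, [11]),
   (60, [11]),
   (61, [11]),
   (62, [11]),
   (63, [11]),
   (64, [11]),
   (65, [11]),
   (66, [11]),
   (67, [11]),
   (68, [11]),
   (69, [11]),
   (70, [11]),
   (71, [11]),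
   (72, [11]),
   (73, [11]),
   (74, [11]),
   (75, [11]),
   (76, [11]),
   (77, [11]),
   (78, [11]),
   (79, [11]),
   (80, [11]),
   (81, [11])]

/-- Part of a closure certificate. -/
def pLev0c7 : List (ℕ × List ℕ) :=
  [(82, [11]),
   (83, [11]),
   (84, [11]),
   (85, [11]),
   (86, [11]),
   (87, [11]),
   (88, [11]),
   (89, [11]),
   (90, [11]),
   (91, [11]),
   (92, [11]),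
   (93, [11]),
   (94, [11]),
   (95, [11]),
   (96, [11]),
   (97, [11]),
   (98, [11]),
   (99, [11]),
   (100, [11]),
   (101, [11]),
   (102, [11]),
   (103, [11]),
   (104, [11]),
   (105, [11]),
   (106, [11]),
   (107, [11]),
   (108, [11]),
   (109, [11]),
   (110, [11]),
   (111, [11]),
   (112, [11]),
   (113, [11]),
   (114, [11]),
   (115, [11]),
   (116, [11]),
   (117, [11]),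
   (118, [11]),
   (119, [11]),
   (120, [11]),
   (121, [11]),
   (122, [11]),
   (123, [11]),
   (124, [11]),
   (125, [11]),
   (126, [11]),
   (127, [11]),
   (128, [11]),
   (129, [11]),
   (130, [11]),
   (131, [11]),
   (132, [11]),
   (133, [11]),
   (134, [11]),
   (135, [11]),
   (136, [11]),
   (137, [11]),
   (138, [11]),
   (139, [11]),
   (140, [11]),
   (141, [11]),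
   (142, [11]),
   (143, [11]),
   (144, [11]),
   (145, [11]),
   (146, [11]),
   (147, [11]),
   (148, [11]),
   (149, [11]),
   (150, [11]),
   (151, [11]),
   (152, [11]),
   (153, [11]),
   (154, [11]),
   (155, [11]),
   (156, [11]),
   (157, [11]),
   (158, [11]),
   (159, [11]),
   (160, [11]),
   (161, [11])]

/-- The transversal of a level. -/
def pLev0w : List (List ℕ) :=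
  [[], [2], [3], [2, 2], [3, 2], [2, 3], [3, 3], [2, 2, 2], [3, 2, 2], [2, 3, 2], [3, 3, 2], [2, 2, 3], [3, 2, 3], [2, 3, 3], [3, 3, 3], [2, 2, 2, 2], [3, 2, 2, 2], [2, 3, 2, 2], [3, 3, 2, 2], [3, 2, 3, 2], [2, 3, 3, 2], [2, 2, 2, 3], [2, 3, 2, 3], [3, 3, 2, 3], [2, 2, 3, 3], [3, 2, 3, 3], [2, 3, 3, 3], [3, 3, 3, 3], [2, 2, 2, 2, 2], [3, 2, 2, 2, 2], [2, 3, 2, 2, 2], [3, 3, 2, 2, 2], [2, 2, 3, 2, 2], [3, 2, 3, 2, 2], [2, 3, 3, 2, 2], [3, 3, 3, 2, 2], [2, 3, 2, 3, 2], [3, 3, 2, 3, 2], [2, 2, 3, 3, 2], [3, 2, 3, 3, 2], [2, 2, 2, 2, 3], [3, 2, 2, 2, 3], [2, 2, 3, 2, 3], [3, 2, 3, 2, 3], [2, 3, 3, 2, 3], [3, 3, 3, 2, 3], [2, 2, 2, 3, 3], [3, 2, 2, 3, 3], [3, 3, 2, 3, 3], [2, 2, 3, 3, 3], [3, 2, 3, 3, 3], [2, 3, 3, 3, 3], [3, 3, 3, 3, 3], [2, 2, 2, 2, 2, 2], [2,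 2, 3, 2, 2, 2], [3, 2, 3, 2, 2, 2], [2, 3, 3, 2, 2, 2], [3, 3, 3, 2, 2, 2], [2, 2, 2, 3, 2, 2], [3, 2, 2, 3, 2, 2], [2, 3, 2, 3, 2, 2], [3, 3, 2, 3, 2, 2], [2, 2, 3, 3, 2, 2], [3, 2, 3, 3, 2, 2], [2, 3, 3, 2, 3, 2], [3, 3, 3, 2, 3, 2], [2, 2, 2, 3, 3, 2], [3, 2, 2, 3, 3, 2], [2, 3, 2, 3, 3, 2], [2, 2, 2, 2, 2, 3], [3, 2, 2, 2, 2, 3], [2, 3, 2, 2, 2, 3], [3, 3, 2, 2, 2, 3], [2, 2, 2, 3, 2, 3], [3, 2, 2, 3, 2, 3], [2, 3, 2, 3, 2, 3], [3, 3, 2, 3, 2, 3], [2, 2, 3, 3, 2, 3], [3, 3, 3, 3, 2, 3], [2, 2, 2, 2, 3, 3], [2, 3, 3, 2, 3, 3], [3, 3, 3, 2, 3, 3], [3, 3, 2, 3, 3, 3], [3, 2, 3, 3, 3, 3], [2, 3, 3, 3, 3, 3], [3, 3, 3, 3, 3, 3], [2, 2, 2, 2, 2, 2, 2], [2, 2, 2, 3, 2, 2, 2], [2, 3, 3, 3, 2, 2, 2], [3, 3, 3, 3, 2, 2, 2], [2, 2, 2, 2, 3, 2, 2], [3, 2, 2, 2, 3,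 2, 2], [2, 3, 2, 2, 3, 2, 2], [3, 3, 2, 2, 3, 2, 2], [3, 2, 3, 2, 3, 2, 2], [2, 2, 2, 3, 3, 2, 2], [3, 2, 2, 3, 3, 2, 2], [3, 3, 2, 3, 3, 2, 2], [2, 2, 3, 3, 2, 3, 2], [2, 3, 3, 3, 2, 3, 2], [3, 3, 3, 3, 2, 3, 2], [3, 2, 2, 2, 3, 3, 2], [3, 3, 2, 2, 3, 3, 2], [2, 2, 3, 2, 3, 3, 2], [3, 2, 3, 2, 3, 3, 2], [2, 2, 2, 2, 2, 2, 3], [3, 3, 2, 2, 2, 2, 3], [3, 3, 3, 2, 2, 2, 3], [2, 2, 2, 2, 3, 2, 3], [3, 2, 2, 2, 3, 2, 3], [3, 3, 2, 2, 3, 2, 3], [3, 2, 3, 2, 3, 2, 3], [3, 3, 3, 2, 3, 2, 3], [3, 2, 2, 3, 3, 2, 3], [2, 3, 3, 3, 3, 2, 3], [2, 2, 2, 2, 2, 3, 3], [2, 2, 3, 3, 2, 3, 3], [2, 3, 3, 3, 2, 3, 3], [3, 3, 3, 3, 2, 3, 3], [2, 3, 3, 2, 3, 3, 3], [2, 3, 2, 3, 3, 3, 3], [3, 3, 2, 3, 3, 3, 3], [2, 2, 3, 3, 3, 3, 3], [3, 2, 3, 3, 3, 3, 3], [3, 2, 2, 2, 2, 2, 2, 2],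 [3, 2, 2, 2, 3, 2, 2, 2], [3, 2, 3, 3, 3, 2, 2, 2], [2, 2, 2, 2, 2, 3, 2, 2], [3, 3, 2, 2, 2, 3, 2, 2], [3, 2, 2, 2, 3, 3, 2, 2], [2, 3, 2, 2, 3, 3, 2, 2], [2, 3, 3, 2, 3, 3, 2, 2], [2, 2, 3, 3, 3, 2, 3, 2], [3, 2, 3, 3, 3, 2, 3, 2], [2, 3, 3, 2, 2, 3, 3, 2], [2, 2, 2, 3, 2, 3, 3, 2], [3, 2, 2, 3, 2, 3, 3, 2], [2, 3, 2, 3, 2, 3, 3, 2], [2, 3, 3, 3, 2, 2, 2, 3], [3, 3, 3, 3, 2, 2, 2, 3], [2, 2, 2, 2, 2, 3, 2, 3], [2, 3, 2, 2, 2, 3, 2, 3], [2, 3, 3, 2, 2, 3, 2, 3], [3, 3, 2, 3, 2, 3, 2, 3], [3, 3, 3, 3, 2, 3, 2, 3], [3, 2, 3, 3, 3, 3, 2, 3], [2, 2, 2, 2, 2, 2, 3, 3], [3, 2, 2, 2, 2, 2, 3, 3], [2, 2, 3, 2, 3, 3, 3, 3], [3, 2, 3, 2, 3, 3, 3, 3], [2, 3, 2, 3, 3, 3, 3, 3], [2, 3, 2, 2, 2, 2, 2, 2, 2], [3, 3, 2, 2, 2, 2, 2, 2, 2], [2, 3, 2, 3, 3, 3, 2, 2, 2], [3,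 2, 3, 3, 2, 3, 3, 2, 2], [2, 2, 2, 3, 3, 3, 2, 3, 2], [2, 3, 2, 2, 3, 2, 3, 3, 2], [2, 3, 3, 2, 3, 2, 3, 2, 3], [3, 2, 2, 2, 2, 2, 2, 3, 3], [2, 2, 3, 2, 3, 3, 3, 3, 3], [2, 2, 2, 2, 3, 3, 3, 2, 3, 2], [3, 3, 2, 2, 2, 2, 2, 2, 3, 3]]

/-- A level. -/
def pLev0 : StabCert.Lev :=
  ⟨1, [2, 3, 4, 5, 6, 7, 8, 9, 10, 11], pLev0w, pLev0c0 ++ pLev0c1 ++ pLev0c2 ++ pLev0c3 ++ pLev0c4 ++ pLev0c5 ++ pLev0c6 ++ pLev0c7⟩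

/-- Part of a closure certificate. -/
def pLev1c0 : List (ℕ × List ℕ) :=
  [(1, []),
   (3, []),
   (5, []),
   (7, []),
   (9, []),
   (11, []),
   (13, []),
   (2, [6, 6, 11]),
   (16, []),
   (18, []),
   (20, []),
   (0, [6]),
   (22, []),
   (14, [8, 7, 7, 6, 11]),
   (25, []),
   (27, []),
   (29, []),
   (24, [8, 9, 10, 11, 11]),
   (31, []),
   (33, []),
   (26, [6, 10, 10, 11, 11]),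
   (36, []),
   (37, []),
   (39, []),
   (41, []),
   (43, []),
   (44, []),
   (45, []),
   (47, []),
   (49, []),
   (51, []),
   (35, [10]),
   (34, [7, 7, 9, 11, 11]),
   (53, []),
   (46, [8, 6, 9, 6, 10, 11, 11]),
   (55, []),
   (57, []),
   (59, []),
   (61, []),
   (28, [8, 9, 7, 6]),
   (62, []),
   (64, []),
   (66, []),
   (67, []),
   (69, []),
   (71, []),
   (60, [8, 7, 9, 7]),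
   (74, []),
   (54, [6, 11]),
   (76, []),
   (78, []),
   (8, [6, 9]),
   (40, [7, 9, 8, 7]),
   (32, [8, 6, 6, 9, 10, 10, 11, 11]),
   (80, []),
   (82, []),
   (83, []),
   (85, []),
   (86, []),
   (88, []),
   (19, [6, 9, 8, 6, 6, 11]),
   (90, []),
   (63, [9, 10, 10, 11, 11]),
   (38, [8, 9, 10, 10]),
   (87, [8, 7, 9, 10, 11]),
   (6, [6, 10, 11, 11]),
   (79, []),
   (65, [8, 7, 10]),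
   (15, [6, 6, 10, 10, 11, 11]),
   (70, [7, 10]),
   (95, []),
   (58, [7, 9, 11, 11]),
   (42, [7, 9, 6, 6, 10, 10, 11]),
   (92, [6, 9, 7, 11]),
   (94, [9, 7, 6]),
   (98, []),
   (30, [9, 7, 11, 11]),
   (100, []),
   (48, [7, 8, 9, 7, 10, 11]),
   (81, [7, 10, 11, 11]),
   (75, [9, 8, 6, 6]),
   (101, []),
   (4, [10, 10, 11]),
   (17, [6, 9]),
   (102, []),
   (77, [7, 8, 6, 10, 11, 11]),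
   (68, [8, 9, 6, 6, 10]),
   (56, [6, 9, 6, 11, 11]),
   (84, [9, 7, 6, 6, 11]),
   (96, [7, 8, 6, 10, 10]),
   (52, [9, 8, 6, 10, 11, 11]),
   (21, [7, 6, 6, 11]),
   (97, [8, 9, 7, 6, 10, 11, 11]),
   (99, [7, 6, 6, 10, 10, 11]),
   (103, []),
   (10, [8, 8, 6, 10, 11, 11]),
   (93, [9, 8, 7, 9, 10, 10, 11]),
   (89, [9, 7, 9, 6, 10, 11]),
   (50, [7, 7, 8, 9, 10]),
   (73, [6, 9, 6, 11]),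
   (91, [11, 11]),
   (104, []),
   (12, [6, 6, 9, 11]),
   (23, [6, 10]),
   (72, [8, 9, 7, 6, 11]),
   (2, []),
   (4, []),
   (6, []),
   (8, []),
   (10, []),
   (12, []),
   (14, []),
   (15, []),
   (17, []),
   (19, []),
   (21, []),
   (1, [7, 11, 11]),
   (23, []),
   (24, []),
   (26, []),
   (28, []),
   (30, []),
   (16, [9, 7, 6, 11, 11]),
   (32, []),
   (34, []),
   (35, []),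
   (11, [7, 7]),
   (38, []),
   (40, []),
   (42, []),
   (7, [7, 10, 11, 11]),
   (0, [11, 11]),
   (46, []),
   (48, []),
   (50, []),
   (3, [9, 11]),
   (52, []),
   (36, [8, 6, 6, 9, 10]),
   (44, [8, 9, 6, 6, 10, 11, 11]),
   (54, []),
   (56, []),
   (58, []),
   (60, []),
   (59, [6, 9, 6, 7, 11]),
   (47, [6, 9, 6, 6, 10]),
   (63, []),
   (65, []),
   (53, [8, 6, 6, 9, 10]),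
   (68, []),
   (70, []),
   (72, []),
   (73, []),
   (75, []),
   (25, [8, 6, 6, 11]),
   (77, []),
   (22, [9, 8, 6, 10]),
   (62, [7, 9, 10, 10, 11]),
   (41, [6, 6, 9, 10, 11, 11]),
   (79, []),
   (81, []),
   (67, [8, 6, 6, 10, 10]),
   (84, []),
   (49, [8, 9, 7, 6, 10, 10]),
   (87, []),
   (29, [6, 6]),
   (89, []),
   (91, []),
   (90, [8, 9, 6, 9, 11]),
   (5, [11, 11]),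
   (92, []),
   (93, []),
   (94, []),
   (57, [6, 10, 11]),
   (66, [6, 8, 6, 6, 10, 11]),
   (20, [9, 7, 6, 11]),
   (83, [7, 7, 6, 10, 10, 11]),
   (95, [7, 10]),
   (51, [8, 9, 6, 6, 10]),
   (96, []),
   (97, []),
   (99, []),
   (27, [9, 7, 6, 6, 11]),
   (55, [8, 9, 6, 9, 10, 10]),
   (88, [8, 7, 9, 10, 10, 11, 11]),
   (13, [7, 7, 9, 10, 10, 11, 11]),
   (33, [7, 8, 9, 10, 11, 11]),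
   (9, [11, 11]),
   (39, [7, 9, 7, 6]),
   (80, [8, 7, 7, 6, 10, 11, 11]),
   (69, [9, 11, 11]),
   (37, [10, 10, 11, 11]),
   (61, [6, 11]),
   (18, [7, 7, 9, 10, 10, 11, 11]),
   (64, [6, 9, 8, 6, 6]),
   (101, [11]),
   (45, [7, 10, 11, 11]),
   (71, [7, 7, 10, 10, 11]),
   (98, [9, 6, 7, 10, 11]),
   (31, [9, 8, 7, 9, 11]),
   (100, [7, 7, 11]),
   (86, [10, 11, 11]),
   (76, [6, 6, 9, 11, 11]),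
   (103, [7, 9, 7, 6, 11, 11]),
   (78, [7, 9, 6, 10, 10]),
   (82, [8, 8, 6, 10, 10, 11]),
   (43, [8, 7, 10, 10, 11]),
   (85, [10, 11, 11]),
   (74, [9, 7, 6, 6, 10, 10]),
   (104, [6, 9, 8, 6, 11, 11]),
   (102, [6, 9, 10, 11, 11]),
   (0, [6]),
   (31, []),
   (25, [8, 7, 7, 6, 11]),
   (49, []),
   (44, [6, 10, 10, 11, 11]),
   (59, []),
   (67, []),
   (71, []),
   (64, [8, 9, 10, 11, 11]),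
   (32, [8, 6, 6, 9, 10, 10, 11, 11])]

/-- Part of a closure certificate. -/
def pLev1c1 : List (ℕ × List ℕ) :=
  [(85, []),
   (2, [8, 8, 6, 11]),
   (47, [8, 9, 7, 6]),
   (87, [8, 7, 9, 10, 11]),
   (70, [7, 10]),
   (94, [9, 7, 6]),
   (16, [6, 9]),
   (76, [9, 7, 6, 11, 11]),
   (60, [9, 6, 7]),
   (19, [7, 7, 9, 10, 10, 11]),
   (4, [10, 10, 11]),
   (3, [7, 8, 6, 10, 11]),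
   (52, [9, 8, 6, 10, 11, 11]),
   (38, [7, 9, 6, 6, 10, 10]),
   (81, [7, 10, 11, 11]),
   (11, [8, 8, 6, 10, 11]),
   (7, [11, 11]),
   (33, [8, 9, 6, 6, 10, 11, 11]),
   (75, [9, 6, 10, 11]),
   (54, [9, 8, 7, 10, 11, 11]),
   (5, [6, 6, 9, 11, 11]),
   (63, [6, 6, 11]),
   (77, [6, 9, 8, 6, 6, 11, 11]),
   (95, [6, 9, 6, 6, 10, 11]),
   (98, [9, 8, 6, 6]),
   (24, [8, 6, 6, 10, 10]),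
   (15, [8, 9, 7, 6, 10, 10]),
   (53, [6, 9, 8, 6, 6, 11]),
   (102, [7, 7, 9, 6]),
   (103, [8, 7, 9, 7, 10, 10, 11, 11]),
   (90, [8, 9, 10, 10]),
   (14, [7, 7, 10, 10]),
   (46, [9, 11]),
   (45, [6, 6, 10, 10, 11, 11]),
   (20, [8, 8, 6, 10, 11, 11]),
   (79, [7, 9, 6, 6, 10, 10, 11]),
   (89, [6, 9, 6, 10]),
   (78, [7, 7, 8, 9, 10]),
   (65, [6, 10]),
   (21, [7, 6, 6]),
   (88, [9, 8, 6, 10]),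
   (61, [9, 7]),
   (56, [7, 9, 6, 6, 11]),
   (104, [7, 10, 11, 11]),
   (72, [8, 9, 7, 6, 11]),
   (13, [8, 6, 11]),
   (22, [6, 6, 9, 11]),
   (51, [6, 9, 7, 8, 6, 10, 11]),
   (17, [9, 7, 6]),
   (30, [9, 7, 6, 6, 11, 11]),
   (99, [9, 8, 7, 10, 10, 11, 11]),
   (57, [7, 6, 6, 11]),
   (62, [8, 7, 11]),
   (1, [6, 11, 11]),
   (96, [6, 8, 9, 7, 10]),
   (92, [8, 6]),
   (39, [6, 10]),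
   (100, [8, 6, 10, 10]),
   (101, [7, 6]),
   (69, [7, 9, 6, 6, 10, 10]),
   (41, [6, 10, 11, 11]),
   (26, [11]),
   (29, [8, 7, 7, 6]),
   (73, [9, 7, 7, 6, 10]),
   (93, [9, 7, 6, 6, 10, 11, 11]),
   (97, [9, 7, 7, 6, 10, 11]),
   (58, [7, 6, 11, 11]),
   (9, [9, 8, 6, 10, 11, 11]),
   (12, [8, 7, 9, 10, 10]),
   (43, [9, 7, 6, 6]),
   (34, [6, 8, 9, 7, 10, 11, 11]),
   (35, [10, 11, 11]),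
   (74, [9, 8, 7, 9]),
   (50, [8, 9, 6, 9, 10, 11, 11]),
   (10, [9, 8, 7, 9, 10, 11, 11]),
   (84, [9, 7, 6, 6, 10, 10]),
   (40, [9, 10]),
   (55, [9, 6, 6, 10, 11]),
   (83, [6, 9, 6, 6, 11, 11]),
   (42, [8, 6, 6, 11]),
   (86, [7, 9, 7, 10, 11]),
   (68, [8, 6, 6, 11, 11]),
   (48, [7, 6, 6, 10, 10, 11, 11]),
   (82, [9, 7, 6, 6, 11]),
   (36, [7, 7, 6, 11]),
   (27, [8, 9, 7, 6, 11, 11]),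
   (8, [6, 6, 9]),
   (28, [6, 9, 6, 11, 11]),
   (80, [8, 7, 11]),
   (18, [8, 7, 7, 6, 10, 10, 11, 11]),
   (6, [7, 6, 10, 10, 11]),
   (91, [7, 8, 6, 10, 10]),
   (23, [6, 7, 10, 11]),
   (66, [9, 7, 6, 6, 11]),
   (37, [6, 9, 7, 10, 11]),
   (0, [7]),
   (53, [8, 6, 6, 9, 10, 10]),
   (20, [6, 10, 11]),
   (98, [9, 7, 9, 10, 10]),
   (11, [10, 10, 11, 11]),
   (46, [6, 9, 7, 8, 6, 10, 10, 11]),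
   (86, [7, 9, 6, 6, 10, 10, 11]),
   (104, [8, 9, 7, 6, 11, 11]),
   (67, [8, 6, 6, 9, 10, 11]),
   (66, [11]),
   (29, [8, 9, 7, 6, 10, 10, 11]),
   (68, [7, 6, 10, 11]),
   (78, [7, 7, 9, 6, 10, 10, 11, 11]),
   (73, [6, 9, 6, 6, 11]),
   (10, [9, 7, 6, 11, 11]),
   (92, [6, 9, 8, 6, 6, 10, 10, 11]),
   (83, [11]),
   (85, [6, 9, 6, 7, 11, 11]),
   (99, [8, 9, 11, 11]),
   (97, [9, 6, 9, 10, 11]),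
   (23, [7, 9, 7, 6, 11]),
   (82, [8, 6, 6, 10, 11, 11]),
   (27, [7, 10]),
   (2, [9, 10, 10, 11, 11]),
   (6, [7, 7, 9, 10, 10]),
   (102, [9, 6, 6, 10, 11]),
   (51, [9, 7, 11]),
   (32, [8, 6, 9, 6, 10, 10, 11, 11]),
   (19, [8, 6, 6, 9, 11, 11]),
   (14, [9, 7, 9, 11, 11]),
   (65, [7, 9, 8, 7, 10, 10]),
   (61, [6, 9, 6]),
   (22, [9, 6, 6, 11]),
   (56, [6, 9, 6]),
   (93, [6, 9, 6, 7, 10, 11]),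
   (8, [7, 9, 7, 11]),
   (42, [6, 6, 9, 10, 10, 11]),
   (26, [6, 9, 8, 6, 10]),
   (44, [7, 9, 11]),
   (77, [9, 7, 6, 6, 10]),
   (100, [8, 9, 10, 10, 11, 11]),
   (17, [9, 7, 9, 6, 10, 10, 11]),
   (48, [9, 7, 6, 10, 10]),
   (34, [9, 7, 8, 6, 10]),
   (91, [7, 6, 10, 11]),
   (74, [6, 9, 6, 7, 10, 10, 11]),
   (94, [8, 9, 6, 9, 11, 11]),
   (12, [7, 9, 10, 10, 11]),
   (36, [7, 8, 6, 10]),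
   (45, [7, 7, 10, 10, 11]),
   (16, [7, 9, 7, 6]),
   (37, [8, 6, 10, 11, 11]),
   (9, [7, 9, 8, 6, 10, 10, 11]),
   (57, [8, 7, 10, 10, 11]),
   (84, [6, 9, 10]),
   (13, [7, 8, 6, 10, 11, 11]),
   (103, [7, 9, 8, 7, 10, 10, 11]),
   (1, [8, 7, 9, 7, 10, 11]),
   (54, [7, 9, 8, 6]),
   (15, [9, 7, 6, 11, 11]),
   (18, [7, 9, 7, 10]),
   (71, [9, 7, 11]),
   (62, [9, 6, 9, 11, 11]),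
   (7, [6, 6, 11, 11]),
   (81, [9, 7, 8, 6, 10, 10, 11]),
   (89, [9, 8, 7, 10, 10, 11, 11]),
   (52, [6, 8, 9, 7, 10]),
   (35, [7, 9, 6, 10, 10]),
   (4, [7, 6]),
   (69, [7, 7, 9, 11, 11]),
   (72, [9, 10, 10]),
   (31, [6, 6]),
   (76, [9, 8, 7, 9, 10, 10]),
   (55, [7, 9, 7, 11, 11]),
   (49, [9, 7, 6, 6, 10, 10, 11, 11]),
   (75, [9, 8, 6, 6, 10, 11, 11]),
   (70, [6, 9, 8, 6, 11, 11]),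
   (95, [9, 7, 6, 6, 10, 11, 11]),
   (47, [9, 11, 11]),
   (3, [6, 9, 8, 6]),
   (21, [7, 9, 6, 6, 10, 10]),
   (90, [9, 6, 7]),
   (80, [9, 6, 7, 11]),
   (50, [8, 9, 10, 10]),
   (58, [9, 8, 6, 6, 10, 10, 11]),
   (41, [6, 9, 8, 6, 6, 10, 10]),
   (24, [8, 9, 10, 11, 11]),
   (87, [9, 6, 7, 10, 11, 11]),
   (88, [7, 7, 9, 6, 11]),
   (30, [7, 8, 9, 10, 11, 11]),
   (64, [6, 8, 6, 6, 10, 11]),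
   (38, [9, 6, 10, 10, 11, 11]),
   (59, [7, 7, 10, 10, 11, 11]),
   (43, [9, 7, 8, 6, 10, 10, 11, 11]),
   (5, [7, 6, 11, 11]),
   (39, []),
   (40, [8, 7, 10]),
   (28, [7, 6, 6, 11]),
   (79, [7, 7, 6, 10, 11, 11]),
   (60, [6, 9, 6, 6, 11, 11]),
   (96, [7, 7, 8, 9, 11, 11]),
   (25, [6]),
   (101, [9, 8, 7, 9, 10, 11, 11]),
   (33, [9, 10, 11]),
   (63, [7, 7, 8, 9, 11]),
   (0, [6, 10]),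
   (52, [6, 9, 10]),
   (53, [7, 8, 9, 10]),
   (74, [7, 9, 7, 6, 10, 10]),
   (51, [9, 11, 11]),
   (37, [8, 9, 6, 9, 11]),
   (100, [9, 6, 7, 11, 11]),
   (15, [8, 7, 10]),
   (35, [9, 8, 7, 9, 10, 11, 11]),
   (59, [9, 8, 6, 6, 10, 11, 11]),
   (29, [9, 7]),
   (56, [6, 6, 10, 10]),
   (78, [9, 6, 6, 11, 11]),
   (90, [6, 9, 8, 6, 6, 10, 10, 11]),
   (83, [9, 7, 6, 6, 11, 11]),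
   (57, [7, 8, 9, 10, 11, 11]),
   (85, [7, 8, 9, 10, 10]),
   (10, [9, 7, 6, 11, 11]),
   (62, [8, 7, 7, 6, 10, 11]),
   (34, [9, 6, 6, 11, 11])]

/-- Part of a closure certificate. -/
def pLev1c2 : List (ℕ × List ℕ) :=
  [(27, [9, 7, 6, 6, 10, 10]),
   (45, [7, 9, 6, 6, 10, 10]),
   (65, [7, 8, 9, 7, 10, 10]),
   (36, [8, 6, 10, 11, 11]),
   (73, [8, 9, 6, 6, 10, 11, 11]),
   (46, [8, 9, 11]),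
   (95, [8, 8, 6, 10, 11, 11]),
   (101, [6, 6, 9, 11]),
   (82, [8, 6, 6, 10, 11, 11]),
   (76, [9, 8, 6, 10, 11]),
   (23, [7, 7, 9, 11, 11]),
   (5, [9, 8, 6, 10, 10, 11]),
   (61, [7, 9, 8, 7]),
   (42, [9, 7, 9, 6, 10]),
   (75, [9, 6, 11]),
   (86, [6, 10, 10, 11, 11]),
   (68, [6, 8, 9, 7, 10, 11, 11]),
   (48, [6, 9, 7, 8, 6, 10, 10]),
   (77, [7, 9, 6, 10, 10, 11, 11]),
   (94, [9, 6, 7, 10, 10, 11]),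
   (8, [9, 7, 11]),
   (84, [6, 6, 11]),
   (9, [6, 10, 11, 11]),
   (80, [6, 9, 7, 10, 10, 11]),
   (92, [6, 9, 6, 6, 10, 10, 11, 11]),
   (43, [6, 9, 6]),
   (44, [6, 9, 11, 11]),
   (69, [7, 10, 10, 11]),
   (31, [9, 7, 9, 6, 10, 10, 11, 11]),
   (19, [8, 7]),
   (14, [9, 8, 6, 10]),
   (102, [7, 7, 9, 10, 10, 11, 11]),
   (26, [6, 6, 9, 10, 11, 11]),
   (91, [9, 10, 10, 11]),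
   (70, [8, 9, 7, 6]),
   (67, [8, 7, 9, 11, 11]),
   (38, [8, 9, 10, 11]),
   (89, [7, 7, 8, 9, 10, 10]),
   (50, [6]),
   (33, [6, 9, 6, 6, 11]),
   (99, [7, 9, 6, 10, 10, 11, 11]),
   (103, [7, 7, 11, 11]),
   (18, [6, 6, 9, 11]),
   (4, [7, 6, 6, 11]),
   (81, [7, 7, 10, 10]),
   (39, [7, 9, 7, 6]),
   (20, [8, 6, 6, 10, 11, 11]),
   (13, [9, 7, 6, 6]),
   (30, [9, 6, 9, 10, 11]),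
   (47, [8, 9, 7, 10, 10, 11]),
   (41, [7, 9, 6, 6, 10, 10]),
   (2, [7, 10, 11, 11]),
   (16, [8, 7, 7, 6, 10, 11]),
   (96, [6, 9]),
   (93, [6, 9, 8, 6, 6, 10, 10]),
   (49, [9, 7, 7, 6, 10, 11, 11]),
   (17, [9, 7, 6, 6, 11]),
   (11, [8, 9, 7, 6]),
   (12, [8, 9, 7, 10, 11, 11]),
   (28, [7, 9, 8, 6, 11, 11]),
   (21, [7, 8, 9, 10, 11, 11]),
   (6, [11, 11]),
   (97, [8, 9, 7, 6, 10, 11, 11]),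
   (58, [9, 6]),
   (54, [6, 10, 10, 11, 11]),
   (88, [9, 7, 8, 6, 10, 11]),
   (40, [6, 11]),
   (24, [9, 8, 7, 10, 10, 11]),
   (72, [8, 6, 6, 9, 10, 10, 11]),
   (7, [6, 6, 11, 11]),
   (55, [9, 6, 6, 11, 11]),
   (71, [6, 8, 6, 6, 11, 11]),
   (25, [8, 7, 9, 10, 11, 11]),
   (98, [6, 11]),
   (22, [9, 7, 6, 6]),
   (1, [10, 11]),
   (87, [9, 6, 11]),
   (79, [7, 7, 8, 9, 10]),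
   (3, [9, 7, 9, 6, 10, 10, 11]),
   (60, [7, 9, 8, 6, 10]),
   (64, [6, 8, 9, 7, 10, 10, 11, 11]),
   (66, [7, 6, 6, 11]),
   (63, [9, 8, 7, 10, 10]),
   (104, [7, 6, 10, 10, 11]),
   (32, [9, 7, 9, 10, 10, 11, 11]),
   (0, [9]),
   (93, [9, 10, 11]),
   (56, [8, 9, 10, 10, 11, 11]),
   (104, [8, 7, 7, 6, 10, 10, 11, 11]),
   (66, [8, 9, 7, 6]),
   (94, [10, 10, 11, 11]),
   (87, [6, 6, 9, 10, 10, 11]),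
   (22, [9, 7, 9, 6]),
   (24, [9, 8, 6, 10, 11]),
   (7, [8, 9, 7]),
   (70, [8, 6, 10, 10]),
   (53, [9, 8, 7, 9, 10, 10]),
   (78, [9, 7, 9, 6, 10]),
   (6, [8, 7, 7, 6, 10, 10]),
   (50, [9, 6, 9, 10, 11, 11]),
   (42, [6, 9, 7, 11, 11]),
   (58, [8, 9, 6, 9, 10, 10, 11]),
   (10, [8, 6, 9, 6, 10, 10, 11, 11]),
   (60, [8, 9, 10, 10, 11, 11]),
   (46, [7, 9, 8, 6]),
   (63, [6, 6, 9, 10, 11]),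
   (32, [6, 6, 9, 6, 6, 10, 11]),
   (31, [9, 7, 8, 6, 10]),
   (82, [8, 9, 6, 6, 10, 10]),
   (81, [6, 9, 6, 7, 10]),
   (34, [6, 8, 6, 6, 10, 11, 11]),
   (3, [9, 7, 7, 6, 10, 10]),
   (2, [8, 7, 7, 6, 11]),
   (36, [9, 7, 6, 10, 10, 11]),
   (76, [7, 9, 7, 10, 11, 11]),
   (19, [7, 9, 7, 11]),
   (9, [6, 9, 10, 10]),
   (98, [7, 7, 6]),
   (57, [8, 7, 9, 7, 10, 11, 11]),
   (68, [7, 6, 6, 10]),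
   (13, [6, 9, 8, 6, 6, 10, 11, 11]),
   (75, [6, 9, 7, 8, 6, 10]),
   (33, [9]),
   (71, [9, 6, 6, 11, 11]),
   (37, [9, 7, 9, 6, 10, 10]),
   (55, [6, 9, 8, 6, 6, 10, 11, 11]),
   (17, [7, 9, 8, 6, 10, 11]),
   (5, [8, 9, 6, 9, 10, 11]),
   (103, [7, 9, 6, 6, 11, 11]),
   (49, [7, 9, 8, 6, 11, 11]),
   (26, [9, 7, 6, 6, 11]),
   (97, [8, 6, 6, 9]),
   (69, [9, 8, 7, 10, 10, 11, 11]),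
   (65, [8, 8, 6, 11, 11]),
   (23, [8, 9, 7]),
   (72, [8, 6, 6, 9, 11, 11]),
   (38, [9, 7, 8, 6, 10, 11, 11]),
   (43, [9, 6, 7, 10, 11]),
   (20, [6, 6, 9, 10]),
   (29, [6, 8, 6, 6, 11, 11]),
   (64, [8, 6, 6, 10, 11, 11]),
   (102, [7, 7, 9, 6]),
   (39, [8, 6, 10, 10]),
   (83, [7, 6, 6, 10, 10, 11, 11]),
   (48, [10, 11]),
   (18, [9, 8, 6, 6]),
   (80, [9, 10, 10]),
   (99, [6, 9, 6, 10]),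
   (11, [9, 7, 6, 6, 11, 11]),
   (73, [6, 8, 9, 7]),
   (89, [9, 6, 7, 10]),
   (91, [6, 9, 11, 11]),
   (86, [7, 9, 8, 7, 11]),
   (79, [7, 7, 9, 10, 11]),
   (47, [6, 9, 8, 6, 10, 10, 11]),
   (41, [8, 6, 9, 6, 11]),
   (101, [7, 9, 8, 7, 11]),
   (88, [6, 9, 6, 7, 10, 11]),
   (40, [9, 7, 8, 6]),
   (52, [8, 7, 9, 11]),
   (92, [9, 7, 6, 10]),
   (84, [6, 9, 6, 7, 11]),
   (4, [8, 8, 6, 10]),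
   (12, [9, 8, 7, 10, 11, 11]),
   (25, [7, 9, 10]),
   (1, [7, 7, 9, 10, 11, 11]),
   (90, [6, 9, 6, 7]),
   (44, [7, 9, 8, 6, 10, 10, 11, 11]),
   (85, [8, 6, 6, 11]),
   (54, [6, 9, 7, 10, 11, 11]),
   (16, [8, 9, 11, 11]),
   (96, [8, 6, 6, 11, 11]),
   (35, [7, 7, 9]),
   (14, [9, 8, 6, 11, 11]),
   (59, [6, 9, 8, 6, 10, 11, 11]),
   (8, [8, 6, 9, 6, 11]),
   (77, [7, 7, 6, 11, 11]),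
   (28, [7, 9, 6]),
   (61, [7, 9, 10, 10]),
   (15, [9, 7, 6, 10, 11, 11]),
   (21, [8, 6, 6, 10, 10]),
   (100, [7, 9, 8, 7, 11, 11]),
   (30, [6, 6, 9, 10, 10, 11]),
   (95, [7, 9, 8, 7, 11, 11]),
   (62, [6, 9, 6, 6, 10, 11]),
   (67, [8, 7, 7, 6, 11, 11]),
   (51, [10, 10]),
   (27, [6, 9, 6, 10, 11, 11]),
   (74, [7, 9, 7]),
   (45, [7, 6, 10, 11, 11]),
   (0, [10]),
   (22, [7, 9, 6, 6, 10, 11]),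
   (37, [9, 8, 6, 6, 10]),
   (82, [6, 9, 8, 6, 6, 10, 10, 11, 11]),
   (57, [7, 8, 9, 10, 10, 11]),
   (104, [6, 9, 7, 10, 11, 11]),
   (67, [9, 7, 9, 6, 10, 10, 11, 11]),
   (36, [7, 9, 8, 7, 10, 11]),
   (81, [6, 6, 9, 11, 11]),
   (5, [9, 8, 6, 6, 10, 11, 11]),
   (72, [9, 8, 7, 9, 10, 10, 11]),
   (52, [6, 9, 8, 6, 11]),
   (47, [7, 9, 6, 10, 11]),
   (40, [9, 8, 7, 9, 10, 10, 11, 11]),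
   (88, [6, 6, 9, 6, 6, 11, 11]),
   (61, [9, 7, 9, 10, 10]),
   (10, [7, 8, 9, 10, 10]),
   (84, [7, 7, 9, 10, 10]),
   (62, [7, 6, 10]),
   (80, [8, 9, 6, 6, 10, 10]),
   (95, [6, 7, 10, 11]),
   (43, [8, 7, 9]),
   (48, [7, 9, 7, 6, 11, 11]),
   (94, [7, 7]),
   (73, [7, 7, 6, 10, 10, 11]),
   (42, [7, 7, 10]),
   (33, [8, 7, 9, 10, 11, 11]),
   (68, [7, 9, 11]),
   (93, [8, 7, 9, 10, 10, 11]),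
   (17, [6, 7, 11])]

/-- Part of a closure certificate. -/
def pLev1c3 : List (ℕ × List ℕ) :=
  [(102, [7, 9, 8, 7, 10, 10]),
   (30, [9, 6, 9, 10, 11, 11]),
   (51, [7, 9, 8, 7, 10, 10]),
   (89, [7, 9, 7, 6, 10, 10, 11]),
   (28, [10, 10]),
   (90, [8, 7, 9, 7, 10, 10]),
   (91, [7, 9, 6, 11]),
   (92, [8, 6, 6, 9, 10, 10, 11, 11]),
   (32, [9, 8, 7, 10, 11]),
   (15, [8, 6, 11, 11]),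
   (96, [7, 8, 9, 10, 10]),
   (85, [6, 9, 6, 10, 10, 11]),
   (77, [8, 9, 11, 11]),
   (98, [7, 9, 7, 6, 11]),
   (65, [9, 7, 6]),
   (79, [7, 7, 9, 11, 11]),
   (4, [7, 9, 6, 10]),
   (69, [9, 6, 6, 10, 11]),
   (1, [9, 7, 9, 6, 10, 10, 11, 11]),
   (19, [6, 6, 9, 6, 6, 10, 11]),
   (41, [6, 8, 9, 7, 10, 10]),
   (38, [6, 6, 10, 10, 11, 11]),
   (71, [6, 6, 9, 10, 11]),
   (101, [8, 7, 9, 10, 10]),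
   (14, [7, 9, 6, 6, 10, 10, 11]),
   (6, [8, 7, 9, 11, 11]),
   (23, [8, 7, 9, 7, 10, 11]),
   (46, [8, 6, 11]),
   (83, [6, 6, 9, 6, 6, 11, 11]),
   (27, [7, 7, 9, 10, 10]),
   (60, [8, 6, 9, 6, 10, 11, 11]),
   (39, [9, 8, 6, 6]),
   (99, [9, 6, 9, 10, 10, 11, 11]),
   (20, [7, 10, 10, 11, 11]),
   (24, [7, 6, 6, 11, 11]),
   (66, [8, 7, 9, 11]),
   (44, [7, 8, 6, 10, 10, 11, 11]),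
   (55, [7, 9, 7, 6, 10, 10, 11, 11]),
   (59, [9, 8, 6, 10, 10]),
   (12, [6, 6, 10, 10, 11]),
   (70, [8, 7, 9, 7, 10, 10, 11, 11]),
   (11, [7, 6, 6, 10, 11, 11]),
   (16, [8, 9, 6, 6, 10, 10, 11]),
   (64, [8, 8, 6, 10, 10]),
   (74, [7, 9, 8, 6, 10, 10, 11, 11]),
   (3, [9, 7, 7, 6, 10, 11, 11]),
   (58, [6, 11]),
   (25, [9, 6, 7]),
   (78, [9, 7, 9, 6, 10, 10]),
   (97, [6, 9, 6, 6, 10, 10, 11]),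
   (49, [9, 7, 9, 10, 10, 11]),
   (100, [8, 6, 10, 10, 11, 11]),
   (75, [6, 11, 11]),
   (76, [9, 7, 6, 6, 11]),
   (29, [7, 8, 9, 7]),
   (50, [6, 6, 11]),
   (86, [9, 8, 7, 9, 11, 11]),
   (35, [9, 11]),
   (54, [7, 7, 9, 6, 10, 10, 11, 11]),
   (26, [6, 6]),
   (87, [10, 10, 11]),
   (7, [6, 8, 6, 6, 11, 11]),
   (2, [9, 7, 6, 10, 11]),
   (34, [6, 9, 8, 6]),
   (56, [6, 6, 9, 11]),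
   (63, [6, 6, 10, 11, 11]),
   (13, [9, 8, 6, 6, 10, 10]),
   (45, [9, 7, 9, 10, 11, 11]),
   (21, [6, 6, 9, 6, 6, 10, 10, 11, 11]),
   (18, [7, 7, 9, 6, 11]),
   (8, [8, 9, 7, 6, 10, 11]),
   (103, [8, 9, 6, 9, 10, 11]),
   (31, [8, 6, 9, 6, 10]),
   (53, [6, 8, 6, 6, 11, 11]),
   (9, [9, 6, 10, 11]),
   (0, [11]),
   (1, [11]),
   (2, [11]),
   (3, [11]),
   (4, [11]),
   (5, [11]),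
   (6, [11]),
   (7, [11]),
   (8, [11]),
   (9, [11]),
   (10, [11]),
   (11, [11]),
   (12, [11]),
   (13, [11]),
   (14, [11]),
   (15, [11]),
   (16, [11]),
   (17, [11]),
   (18, [11]),
   (19, [11]),
   (20, [11]),
   (21, [11]),
   (22, [11]),
   (23, [11]),
   (24, [11]),
   (25, [11]),
   (26, [11]),
   (27, [11]),
   (28, [11]),
   (29, [11]),
   (30, [11]),
   (31, [11]),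
   (32, [11]),
   (33, [11]),
   (34, [11]),
   (35, [11]),
   (36, [11]),
   (37, [11]),
   (38, [11]),
   (39, [11]),
   (40, [11]),
   (41, [11]),
   (42, [11]),
   (43, [11]),
   (44, [11]),
   (45, [11]),
   (46, [11]),
   (47, [11]),
   (48, [11]),
   (49, [11]),
   (50, [11]),
   (51, [11]),
   (52, [11]),
   (53, [11]),
   (54, [11]),
   (55, [11]),
   (56, [11]),
   (57, [11]),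
   (58, [11]),
   (59, [11]),
   (60, [11]),
   (61, [11]),
   (62, [11]),
   (63, [11]),
   (64, [11]),
   (65, [11]),
   (66, [11]),
   (67, [11]),
   (68, [11]),
   (69, [11]),
   (70, [11]),
   (71, [11]),
   (72, [11]),
   (73, [11]),
   (74, [11]),
   (75, [11]),
   (76, [11]),
   (77, [11]),
   (78, [11]),
   (79, [11]),
   (80, [11]),
   (81, [11]),
   (82, [11]),
   (83, [11]),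
   (84, [11]),
   (85, [11]),
   (86, [11]),
   (87, [11]),
   (88, [11]),
   (89, [11]),
   (90, [11]),
   (91, [11]),
   (92, [11]),
   (93, [11]),
   (94, [11]),
   (95, [11]),
   (96, [11]),
   (97, [11]),
   (98, [11]),
   (99, [11]),
   (100, [11]),
   (101, [11]),
   (102, [11]),
   (103, [11]),
   (104, [11])]

/-- The transversal of a level. -/
def pLev1w : List (List ℕ) :=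
  [[], [4], [5], [4, 4], [5, 4], [4, 5], [5, 5], [4, 4, 4], [5, 4, 4], [4, 5, 4], [5, 5, 4], [4, 4, 5], [5, 4, 5], [4, 5, 5], [5, 5, 5], [5, 4, 4, 4], [4, 5, 4, 4], [5, 5, 4, 4], [4, 4, 5, 4], [5, 4, 5, 4], [4, 5, 5, 4], [5, 5, 5, 4], [4, 5, 4, 5], [5, 5, 4, 5], [5, 4, 5, 5], [4, 5, 5, 5], [5, 5, 5, 5], [4, 5, 4, 4, 4], [5, 5, 4, 4, 4], [4, 4, 5, 4, 4], [5, 4, 5, 4, 4], [4, 4, 4, 5, 4], [5, 4, 4, 5, 4], [4, 5, 4, 5, 4], [5, 5, 4, 5, 4], [5, 4, 5, 5, 4], [4, 5, 5, 5, 4], [4, 4, 5, 4, 5], [5, 4, 5, 4, 5], [4, 5, 5, 4, 5], [5, 5, 5, 4, 5], [4, 5, 4, 5, 5], [5, 5, 4, 5, 5], [4, 4, 5, 5, 5], [4, 5, 5, 5, 5], [4, 4, 5, 4, 4, 4], [5, 4, 5, 4, 4, 4], [4, 5, 5, 4, 4, 4], [5, 5, 5, 4, 4, 4], [4, 4, 4, 5, 4, 4], [5, 4, 4, 5, 4, 4], [4, 5, 4, 5, 4, 4], [5, 4, 4, 4, 5,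 4], [4, 4, 5, 4, 5, 4], [5, 5, 5, 4, 5, 4], [4, 5, 4, 5, 5, 4], [5, 5, 4, 5, 5, 4], [4, 4, 5, 5, 5, 4], [5, 4, 5, 5, 5, 4], [4, 4, 4, 5, 4, 5], [5, 4, 4, 5, 4, 5], [4, 5, 4, 5, 4, 5], [4, 5, 5, 5, 4, 5], [5, 5, 5, 5, 4, 5], [4, 4, 5, 4, 5, 5], [5, 4, 5, 4, 5, 5], [4, 5, 5, 4, 5, 5], [4, 4, 4, 5, 5, 5], [5, 4, 4, 5, 5, 5], [4, 4, 5, 5, 5, 5], [5, 4, 5, 5, 5, 5], [4, 4, 4, 5, 4, 4, 4], [5, 4, 4, 5, 4, 4, 4], [5, 5, 4, 5, 4, 4, 4], [4, 4, 5, 5, 4, 4, 4], [5, 4, 5, 5, 4, 4, 4], [4, 4, 4, 4, 5, 4, 4], [5, 4, 4, 4, 5, 4, 4], [4, 5, 4, 4, 5, 4, 4], [5, 4, 4, 5, 4, 5, 4], [4, 5, 5, 5, 4, 5, 4], [5, 5, 5, 5, 4, 5, 4], [4, 4, 5, 4, 5, 5, 4], [4, 5, 5, 4, 5, 5, 4], [5, 5, 5, 4, 5, 5, 4], [4, 4, 4, 5, 5, 5, 4], [4, 5, 4, 5, 5, 5, 4], [5, 5, 4, 5, 5, 5, 4], [4, 4, 4, 4,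 5, 4, 5], [5, 5, 4, 4, 5, 4, 5], [4, 4, 5, 4, 5, 4, 5], [5, 4, 5, 4, 5, 4, 5], [5, 4, 4, 5, 4, 5, 5], [5, 5, 4, 5, 4, 5, 5], [5, 4, 5, 5, 4, 5, 5], [4, 5, 4, 5, 5, 5, 5], [5, 5, 5, 4, 5, 4, 4, 4], [5, 4, 4, 5, 5, 4, 4, 4], [4, 5, 4, 5, 5, 4, 4, 4], [5, 5, 4, 5, 5, 4, 4, 4], [4, 5, 4, 4, 4, 5, 4, 4], [4, 5, 5, 5, 5, 4, 5, 4], [4, 5, 5, 5, 4, 5, 5, 4], [4, 5, 4, 5, 5, 4, 5, 5], [4, 4, 5, 5, 5, 5, 4, 5, 4]]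

/-- A level. -/
def pLev1 : StabCert.Lev :=
  ⟨2, [4, 5, 6, 7, 8, 9, 10, 11], pLev1w, pLev1c0 ++ pLev1c1 ++ pLev1c2 ++ pLev1c3⟩

/-- Part of a closure certificate. -/
def pLev2c0 : List (ℕ × List ℕ) :=
  [(1, []),
   (4, []),
   (8, []),
   (12, []),
   (0, []),
   (9, []),
   (15, [10, 10, 11, 11]),
   (23, []),
   (21, [11]),
   (20, [10, 11]),
   (10, [10, 10, 11]),
   (27, []),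
   (30, []),
   (25, []),
   (34, [10, 11, 11]),
   (18, []),
   (37, []),
   (39, []),
   (6, [10, 11]),
   (32, []),
   (5, [10, 10, 11, 11]),
   (2, [11, 11]),
   (47, []),
   (35, [10, 10]),
   (14, [10, 10]),
   (52, []),
   (49, [10, 10, 11]),
   (31, [11, 11]),
   (46, [10, 11]),
   (55, []),
   (3, []),
   (11, [11]),
   (48, [10, 11]),
   (38, [10, 10, 11]),
   (24, [11]),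
   (7, [10]),
   (50, []),
   (42, [10, 11, 11]),
   (61, []),
   (62, []),
   (43, []),
   (59, [10, 10]),
   (16, [10, 10, 11]),
   (51, [11, 11]),
   (22, [10, 11]),
   (60, []),
   (63, []),
   (44, [10, 10, 11, 11]),
   (19, [10, 10, 11, 11]),
   (56, [10, 11, 11]),
   (58, [10]),
   (40, [11]),
   (13, []),
   (29, []),
   (45, [10, 11, 11]),
   (53, []),
   (26, []),
   (41, [10, 10, 11]),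
   (36, [10, 10]),
   (57, [10, 10, 11, 11]),
   (54, [10, 10, 11]),
   (33, [10, 11, 11]),
   (17, []),
   (28, [10, 10, 11, 11]),
   (2, []),
   (5, []),
   (9, []),
   (13, []),
   (15, []),
   (18, []),
   (20, []),
   (24, []),
   (4, []),
   (0, []),
   (16, [10, 11, 11]),
   (28, []),
   (19, []),
   (32, []),
   (35, []),
   (8, []),
   (37, [10, 10, 11]),
   (40, []),
   (1, []),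
   (44, []),
   (21, [10, 10]),
   (6, [10]),
   (48, []),
   (36, []),
   (50, []),
   (30, []),
   (53, []),
   (17, []),
   (39, []),
   (56, []),
   (47, [10, 11]),
   (51, []),
   (3, []),
   (55, [10, 10, 11]),
   (45, [10, 10, 11]),
   (60, []),
   (54, [10, 11]),
   (10, []),
   (57, [10, 11, 11]),
   (11, []),
   (27, []),
   (33, [10, 11, 11]),
   (42, [10, 11, 11]),
   (62, []),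
   (12, []),
   (58, [10, 10]),
   (31, [10, 10, 11]),
   (25, [10, 10, 11, 11]),
   (52, [10, 10, 11, 11]),
   (38, [10, 11, 11]),
   (7, []),
   (46, [10, 11, 11]),
   (22, [10, 11]),
   (61, []),
   (23, [10, 10, 11, 11]),
   (41, []),
   (59, [10, 10]),
   (49, [10, 11, 11]),
   (34, [10, 10, 11, 11]),
   (29, [10]),
   (14, []),
   (26, []),
   (63, [10, 11]),
   (43, [10, 10, 11, 11]),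
   (1, [10]),
   (6, []),
   (10, []),
   (14, []),
   (16, []),
   (15, [10]),
   (21, []),
   (19, [10, 10, 11, 11]),
   (9, [10]),
   (5, [10, 10, 11, 11]),
   (18, [11, 11]),
   (29, []),
   (27, [10, 10, 11, 11]),
   (33, []),
   (22, [10]),
   (8, [10, 10, 11, 11]),
   (20, [10]),
   (41, []),
   (42, []),
   (45, []),
   (37, [11]),
   (0, [10, 10, 11]),
   (36, [11, 11]),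
   (49, []),
   (28, [10]),
   (7, [10]),
   (17, [11, 11]),
   (52, [10]),
   (54, []),
   (43, [11, 11]),
   (57, []),
   (58, []),
   (39, [10, 10, 11, 11]),
   (44, [11, 11]),
   (55, [10]),
   (31, [10, 10, 11, 11]),
   (3, [10, 10, 11, 11]),
   (4, [10, 10]),
   (11, [11, 11]),
   (47, [10, 10, 11]),
   (24, [10, 10, 11, 11]),
   (46, [10]),
   (2, [11, 11]),
   (38, []),
   (56, [10, 10, 11]),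
   (25, [11, 11]),
   (26, [10, 10, 11, 11]),
   (51, [10]),
   (53, [10]),
   (34, [11]),
   (61, [10, 11, 11]),
   (32, [10, 11]),
   (63, []),
   (30, [10, 11]),
   (40, [11, 11]),
   (23, [10, 10]),
   (13, [10, 11]),
   (48, [10]),
   (62, []),
   (50, []),
   (59, [10, 11, 11]),
   (60, [10]),
   (35, [10, 11, 11]),
   (12, [11, 11]),
   (3, []),
   (7, []),
   (11, []),
   (5, [11, 11]),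
   (17, []),
   (19, []),
   (22, []),
   (15, [11, 11]),
   (25, []),
   (14, [10, 10]),
   (26, []),
   (4, [11, 11]),
   (31, []),
   (34, []),
   (21, [10]),
   (36, []),
   (38, []),
   (2, [11, 11]),
   (43, []),
   (0, [11, 11]),
   (46, []),
   (45, [10, 10, 11, 11]),
   (8, [10, 10, 11]),
   (48, [10, 11, 11]),
   (51, []),
   (6, [10]),
   (16, [11, 11]),
   (24, [11])]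

/-- Part of a closure certificate. -/
def pLev2c1 : List (ℕ × List ℕ) :=
  [(12, [11]),
   (42, [11, 11]),
   (50, [11]),
   (47, [10]),
   (40, [11]),
   (59, []),
   (30, [11, 11]),
   (27, [10, 11]),
   (1, [11, 11]),
   (29, [10, 10, 11]),
   (10, [11, 11]),
   (58, [10, 11]),
   (52, [11]),
   (37, [10, 11]),
   (41, []),
   (20, [10]),
   (23, [11]),
   (9, [10, 11, 11]),
   (18, [10, 10, 11]),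
   (28, [10, 10]),
   (60, [10]),
   (33, [11]),
   (13, [11]),
   (35, [10, 10, 11, 11]),
   (62, [11]),
   (55, [10, 10, 11, 11]),
   (39, [10, 10]),
   (56, [10]),
   (61, [10, 10, 11, 11]),
   (49, [11]),
   (63, [11, 11]),
   (57, [11, 11]),
   (44, [10, 11]),
   (53, [10]),
   (32, [11]),
   (54, [11]),
   (0, [10]),
   (18, [10, 10, 11, 11]),
   (10, [10, 11, 11]),
   (24, [10]),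
   (42, [10, 11, 11]),
   (6, [10, 10, 11]),
   (8, [11, 11]),
   (48, []),
   (5, [10]),
   (20, []),
   (15, [11, 11]),
   (53, []),
   (11, [10, 10, 11, 11]),
   (61, [10, 10, 11]),
   (44, [11, 11]),
   (2, [10, 10, 11, 11]),
   (9, [11, 11]),
   (57, [10, 11, 11]),
   (37, [10, 10, 11]),
   (54, [10, 10, 11]),
   (16, [11]),
   (4, [10, 10, 11]),
   (58, [10, 11, 11]),
   (26, [10, 11, 11]),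
   (63, [10, 10, 11]),
   (35, []),
   (62, [11, 11]),
   (25, [10]),
   (60, [10, 11, 11]),
   (40, [11, 11]),
   (59, [10, 11]),
   (50, [10, 10]),
   (17, [10, 10, 11, 11]),
   (47, [10]),
   (29, [10]),
   (27, [10, 10]),
   (30, [10, 10, 11, 11]),
   (1, [10, 10]),
   (31, [11]),
   (22, [10, 10, 11]),
   (34, [10, 10, 11]),
   (28, [11, 11]),
   (21, []),
   (33, [10, 11, 11]),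
   (49, [10, 11, 11]),
   (13, [11, 11]),
   (56, [10, 10, 11, 11]),
   (43, [10, 11]),
   (55, [10]),
   (14, [10, 10, 11, 11]),
   (38, [10, 11, 11]),
   (19, [10, 11]),
   (46, []),
   (12, [10, 11]),
   (51, [11]),
   (7, [10, 10]),
   (52, [10, 11]),
   (32, [11, 11]),
   (39, []),
   (36, []),
   (41, [10, 10, 11, 11]),
   (45, [10]),
   (23, [10, 10, 11, 11]),
   (3, [11, 11]),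
   (0, [11]),
   (1, [11]),
   (2, [11]),
   (3, [11]),
   (4, [11]),
   (5, [11]),
   (6, [11]),
   (7, [11]),
   (8, [11]),
   (9, [11]),
   (10, [11]),
   (11, [11]),
   (12, [11]),
   (13, [11]),
   (14, [11]),
   (15, [11]),
   (16, [11]),
   (17, [11]),
   (18, [11]),
   (19, [11]),
   (20, [11]),
   (21, [11]),
   (22, [11]),
   (23, [11]),
   (24, [11]),
   (25, [11]),
   (26, [11]),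
   (27, [11]),
   (28, [11]),
   (29, [11]),
   (30, [11]),
   (31, [11]),
   (32, [11]),
   (33, [11]),
   (34, [11]),
   (35, [11]),
   (36, [11]),
   (37, [11]),
   (38, [11]),
   (39, [11]),
   (40, [11]),
   (41, [11]),
   (42, [11]),
   (43, [11]),
   (44, [11]),
   (45, [11]),
   (46, [11]),
   (47, [11]),
   (48, [11]),
   (49, [11]),
   (50, [11]),
   (51, [11]),
   (52, [11]),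
   (53, [11]),
   (54, [11]),
   (55, [11]),
   (56, [11]),
   (57, [11]),
   (58, [11]),
   (59, [11]),
   (60, [11]),
   (61, [11]),
   (62, [11]),
   (63, [11])]

/-- The transversal of a level. -/
def pLev2w : List (List ℕ) :=
  [[], [6], [7], [9], [6, 6], [7, 6], [8, 6], [9, 6], [6, 7], [7, 7], [8, 7], [9, 7], [6, 9], [7, 9], [8, 9], [7, 6, 6], [8, 6, 6], [9, 6, 6], [7, 7, 6], [9, 7, 6], [7, 8, 6], [8, 8, 6], [9, 8, 6], [6, 9, 6], [7, 9, 6], [9, 6, 7], [9, 8, 7], [6, 9, 7], [7, 9, 7], [8, 9, 7], [6, 6, 9], [9, 6, 9], [7, 7, 9], [8, 7, 9], [9, 7, 9], [7, 8, 9], [9, 7, 6, 6], [6, 8, 6, 6], [9, 8, 6, 6], [6, 9, 6, 6], [7, 9, 6, 6], [8, 9, 6, 6], [8, 7, 7, 6], [9, 7, 7, 6], [7, 9, 7, 6], [8, 9, 7, 6], [9, 7, 8, 6], [6, 9, 8, 6], [7, 9, 8, 6], [8, 6, 9, 6],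 [7, 7, 9, 6], [9, 7, 9, 6], [6, 9, 6, 7], [7, 9, 8, 7], [8, 7, 9, 7], [6, 8, 9, 7], [7, 8, 9, 7], [8, 6, 6, 9], [8, 9, 6, 9], [9, 8, 7, 9], [7, 7, 8, 9], [6, 9, 8, 6, 6], [6, 6, 9, 6, 6], [6, 9, 7, 8, 6]]

/-- A level. -/
def pLev2 : StabCert.Lev :=
  ⟨3, [6, 7, 8, 9, 10, 11], pLev2w, pLev2c0 ++ pLev2c1⟩

/-- Part of a closure certificate. -/
def pLev3c0 : List (ℕ × List ℕ) :=
  [(1, []),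
   (2, []),
   (0, []),
   (0, [11]),
   (1, [11]),
   (2, [11])]

/-- The transversal of a level. -/
def pLev3w : List (List ℕ) :=
  [[], [10], [10, 10]]

/-- A level. -/
def pLev3 : StabCert.Lev :=
  ⟨4, [10, 11], pLev3w, pLev3c0⟩

/-- Part of a closure certificate. -/
def pLev4c0 : List (ℕ × List ℕ) :=
  [(1, []),
   (2, []),
   (0, [])]

/-- The transversal of a level. -/
def pLev4w : List (List ℕ) :=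
  [[], [11], [11, 11]]

/-- A level. -/
def pLev4 : StabCert.Lev :=
  ⟨275, [11], pLev4w, pLev4c0⟩

end Cfsg.Agent.MultiplierMcL
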