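import Cfsg.Agent.Lib.StabCert.Chain

/-!
# Data: coset rows for the transfer
-/

set_option autoImplicit false
set_option maxRecDepth 20000
set_option linter.style.longLine false

namespace Cfsg.Agent.MultiplierMcL

/-- First element. -/
def xWord : List ℕ := [2, 2, 2, 2, 3, 3, 5, 4, 5, 9, 7, 9, 10, 10]

/-- Second element. -/
def yWord : List ℕ := [4, 4, 5, 4, 5, 7, 9, 7, 10, 10]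

/-- Words moving `0` to each point. -/
def repW : List (List ℕ) :=
  [[],
   [0, 1, 0, 0, 1, 0, 1, 0, 1, 0, 1],
   [1, 0, 1, 0, 0, 1, 0, 1, 0, 1, 0, 1],
   [0, 0, 1, 0, 0, 0, 1],
   [0, 0, 0, 1, 0, 1, 0, 0, 0, 0, 0, 0, 0],
   [0, 0, 0, 0, 1, 0, 0, 0, 0, 0, 0, 0],
   [1],
   [0, 1, 0, 0, 0, 0, 0, 0, 0, 1, 0, 0, 0, 0],
   [1, 0, 0, 0, 0, 1, 0, 0, 0, 0, 0, 0, 0],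
   [0, 0, 0, 0, 0, 1, 0, 1, 0, 1],
   [0, 1, 0, 1, 0, 1, 0, 1, 0, 0, 0, 1],
   [0, 0, 0, 0, 0, 0, 1, 0, 0, 0, 0, 0],
   [1, 0, 0, 1],
   [1, 0, 0, 1, 0, 0, 0, 1],
   [0, 0, 0, 1, 0, 0, 1, 0, 0, 0, 0],
   [0, 0, 1],
   [0, 0, 0, 1, 0, 0, 0, 0, 0, 0, 0, 0, 0, 0],
   [0, 0, 0, 0, 0, 1, 0, 0, 0, 0],
   [0, 1, 0, 0, 1, 0, 1, 0, 0, 1],
   [0, 0, 0, 0, 0, 0, 0, 0, 1, 0, 0, 0, 0],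
   [0, 0, 0, 0, 0, 0, 1, 0, 0, 0, 0, 0, 0, 0],
   [0, 1, 0, 0, 1, 0, 0, 0, 0, 0, 0, 0, 0, 0],
   [0, 0, 0, 0, 0, 0, 1, 0, 0, 0, 0],
   [1, 0, 1, 0, 1, 0, 0, 0, 1, 0, 0, 0, 0, 1],
   [0, 0, 1, 0, 0, 0, 0, 0, 0, 0],
   [0, 1, 0, 1, 0, 0, 0, 1, 0, 0, 0, 0, 1],
   [0],
   [0, 0, 1, 0, 1, 0, 1, 0, 1, 0, 1],
   [0, 0, 1, 0, 0, 1, 0, 1, 0, 1, 0, 1],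
   [0, 0, 0, 1],
   [0, 0, 0, 1, 0, 1, 0, 1],
   [1, 0, 0, 0, 1],
   [0, 0, 0, 0, 1, 0, 0, 0, 0, 0],
   [0, 1],
   [1, 0, 0, 0, 0, 1, 0, 0, 0, 0, 0],
   [1, 0, 1],
   [0, 1, 0, 1, 0, 0, 0, 1],
   [1, 0, 1, 0, 1, 0, 0, 0, 1],
   [0, 1, 0, 0, 0, 0, 0, 0, 0, 0, 0, 0],
   [1, 0, 1, 0, 1, 0, 0, 1, 0, 0, 0, 0],
   [0, 0, 0, 1, 0, 0, 0, 0, 1, 0, 0, 0, 1],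
   [1, 0, 1, 0, 1, 0, 0, 0, 0, 0],
   [0, 1, 0, 1, 0, 0, 1],
   [1, 0, 1, 0, 1, 0, 0, 1, 0, 0, 0, 1],
   [0, 0, 0, 0, 1, 0, 0, 0, 1, 0, 0, 0, 0],
   [0, 1, 0, 1, 0, 1],
   [0, 1, 0, 0, 1, 0, 0, 0, 0],
   [0, 0, 1, 0, 0, 0, 0, 1],
   [0, 0, 0, 0, 0, 1, 0, 1],
   [1, 0, 0, 1, 0, 0, 0, 0, 1, 0, 0, 0, 1],
   [0, 0, 0, 0, 0, 0, 0, 1, 0, 0, 0, 0],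
   [1, 0, 0, 0, 1, 0, 1, 0, 0, 0, 1],
   [0, 0, 0, 0, 0, 0, 0, 1, 0, 0, 0, 0, 0],
   [0, 1, 0, 0, 1],
   [0, 0, 0, 1, 0, 1, 0, 1, 0, 1],
   [0, 0, 1, 0, 1, 0, 1, 0, 1, 0, 0, 0, 1],
   [0, 1, 0, 1, 0, 1, 0, 0, 0, 1],
   [0, 1, 0, 1, 0, 0, 0, 0, 0, 0, 0],
   [1, 0, 0, 0, 1, 0, 0, 0, 0, 0, 0, 0],
   [0, 0, 1, 0, 0, 1, 0, 0, 0, 1],
   [1, 0, 0, 0, 0, 0, 0, 0, 1, 0, 1],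
   [1, 0, 0, 0, 0, 1, 0, 0, 1, 0, 0, 0, 1],
   [1, 0, 0, 1, 0, 0, 0, 1, 0, 1, 0, 0, 0, 1],
   [0, 0, 0, 1, 0, 0, 1],
   [1, 0, 0, 1, 0, 1, 0, 0, 0, 0, 0, 0, 0],
   [1, 0, 1, 0, 0, 0, 0, 0, 0, 0],
   [0, 0, 0, 0, 0, 0, 0, 0, 0, 0, 0],
   [0, 1, 0, 0, 1, 0, 0, 0, 1],
   [0, 1, 0, 0, 0, 1, 0, 0, 0, 0, 0, 0, 0],
   [0, 1, 0, 1],
   [0, 0, 0, 0, 0, 1, 0, 0, 0, 1],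
   [0, 0, 0, 0, 1, 0, 1, 0, 0, 0, 1],
   [0, 0, 0, 0, 1, 0, 0, 0, 0, 1, 0, 0, 0, 0],
   [1, 0, 1, 0, 0, 0, 0, 1, 0, 1, 0, 1],
   [1, 0, 0, 0, 0, 1, 0, 0, 0, 0],
   [1, 0, 1, 0, 0, 0, 1, 0, 0, 1],
   [0, 1, 0, 0, 1, 0, 0, 1, 0, 0, 0, 1],
   [0, 1, 0, 0, 0, 1, 0, 0, 0, 0, 1],
   [0, 0, 1, 0, 0, 0, 0, 1, 0, 0, 0, 0],
   [0, 1, 0, 1, 0, 0, 1, 0, 0, 0, 0],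
   [1, 0, 0, 0, 1, 0, 0, 0, 0, 1, 0, 0, 0, 1],
   [0, 1, 0, 1, 0, 0, 1, 0, 0, 0, 1],
   [0, 1, 0, 1, 0, 0, 0, 0, 0],
   [1, 0, 1, 0, 1, 0, 0, 1],
   [1, 0, 1, 0, 0, 1, 0, 0, 0, 0],
   [1, 0, 0, 1, 0, 0, 0, 0, 1],
   [0, 0, 0, 0, 0, 0, 0, 0],
   [0, 0, 1, 0, 0, 0, 0, 1, 0, 0, 0, 1],
   [1, 0, 1, 0, 1, 0, 1],
   [0, 0, 0, 1, 0, 0, 0, 1, 0, 0, 0, 0],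
   [0, 0, 0, 1, 0, 1, 0, 0, 0, 1],
   [1, 0, 0, 0, 0, 0, 0, 0, 1, 0, 0, 0, 0],
   [1, 0, 1, 0, 1, 0, 0, 0, 0, 0, 0, 0],
   [1, 0, 1, 0, 1, 0, 1, 0, 0, 0, 1],
   [0, 0, 0, 1, 0, 0, 0, 0, 0, 0, 0],
   [0, 0, 0, 1, 0, 0, 1, 0, 0, 0, 0, 0],
   [1, 0, 1, 0, 0, 1],
   [0, 1, 0, 0, 0, 0, 1, 0, 0, 0, 0],
   [0, 0, 0, 1, 0, 1, 0, 1, 0, 1, 0, 1],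
   [1, 0, 0, 1, 0, 0, 1, 0, 0, 0, 1],
   [0, 0, 1, 0, 1, 0, 0, 0, 0, 0, 0, 0],
   [0, 0, 1, 0, 0, 0, 1, 0, 1, 0, 0, 0, 1],
   [0, 0, 0, 0, 0, 0, 0, 1, 0, 1],
   [0, 0, 0, 0, 1, 0, 0, 1, 0, 0, 0, 1],
   [1, 0, 0, 0, 1, 0, 0, 1],
   [0, 1, 0, 0, 0, 0, 1, 0, 1, 0, 1],
   [0, 0, 0, 0, 1, 0, 1, 0, 0, 0, 0, 0, 0, 0],
   [1, 0, 1, 0, 0, 1, 0, 0, 0, 1],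
   [0, 0, 0, 0, 0, 1, 0, 0, 0, 0, 0],
   [0, 0, 1, 0, 1, 0, 0, 1, 0, 0, 0, 0, 0],
   [0, 0, 0, 0, 0, 0, 0, 0, 1, 0, 1],
   [0, 0, 1, 0, 0, 0, 1, 0, 0, 0, 0],
   [0, 0, 0, 0, 1, 0, 0, 0, 0],
   [0, 1, 0, 0, 0, 0, 1, 0, 0, 0, 1],
   [1, 0, 1, 0, 0, 0, 1, 0, 0, 0, 0, 1],
   [0, 1, 0, 0, 0, 1, 0, 0, 1],
   [0, 1, 0, 0, 0, 0, 0, 0, 0],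
   [1, 0, 1, 0, 1],
   [1, 0, 1, 0, 0, 0, 1, 0, 0, 0, 1, 0, 1],
   [0, 1, 0, 0, 0, 1, 0, 0, 0, 1, 0, 1],
   [0, 0, 1, 0, 1, 0, 0, 0, 1],
   [0, 1, 0, 0, 0, 0, 1, 0, 0, 0, 0, 0],
   [0, 1, 0, 1, 0, 1, 0, 0, 1, 0, 0, 0, 0, 0],
   [1, 0, 1, 0, 0, 0, 0, 1, 0, 0, 0, 0, 0],
   [1, 0, 0, 1, 0, 1, 0, 0, 0, 1],
   [0, 1, 0, 1, 0, 1, 0, 1, 0, 1],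
   [0, 0, 0, 0, 0, 0, 0, 0, 0, 1, 0, 1],
   [0, 1, 0, 0, 0, 0, 0, 0, 0, 0, 0],
   [0, 0, 1, 0, 1, 0, 0, 0, 1, 0, 0, 1],
   [1, 0, 1, 0, 0, 0, 0, 0, 0, 0, 0, 0],
   [1, 0, 0, 0, 0, 0, 0, 0, 1, 0, 0, 0, 1],
   [1, 0, 0, 1, 0, 1, 0, 0, 0, 1, 0, 0, 1],
   [0, 0, 0, 0, 0, 0, 0, 1, 0, 0, 0, 1],
   [0, 0, 1, 0, 0, 0, 1, 0, 0, 1],
   [0, 0, 0, 0, 1, 0, 0, 1, 0, 0, 0, 0, 0],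
   [0, 1, 0, 0, 1, 0, 1, 0, 0, 1, 0, 0, 0, 1],
   [1, 0, 0, 1, 0, 0, 0, 1, 0, 0, 1],
   [0, 0, 0, 1, 0, 0, 0, 0, 0],
   [0, 0, 1, 0, 1, 0, 0, 0, 1, 0, 1],
   [0, 0, 1, 0, 1, 0, 0, 0, 0, 0, 1],
   [0, 0, 1, 0, 0, 0, 1, 0, 1],
   [1, 0, 0, 1, 0, 1, 0, 0, 0, 1, 0, 1],
   [0, 0, 1, 0, 0, 0, 0, 0, 1],
   [0, 0, 0, 1, 0, 0, 0, 1, 0, 1, 0, 0, 0, 1],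
   [1, 0, 0, 0, 0, 1, 0, 0, 1, 0, 0, 0, 0, 0],
   [0, 0, 0, 0, 1, 0, 1, 0, 0, 0, 1, 0, 0, 1],
   [0, 0, 1, 0, 1, 0, 1, 0, 0, 0, 1],
   [0, 0, 1, 0, 1],
   [0, 1, 0, 0, 0, 1, 0, 0, 0, 0],
   [1, 0, 0, 0, 0, 1],
   [0, 1, 0, 0, 0, 1, 0, 1, 0, 0, 0, 1],
   [0, 0, 0, 0, 1],
   [1, 0, 0, 1, 0, 1, 0, 1, 0, 0, 0, 1],
   [1, 0, 0, 1, 0, 1, 0, 1],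
   [0, 0, 1, 0, 1, 0, 1],
   [1, 0, 0, 1, 0, 1, 0, 1, 0, 1],
   [0, 1, 0, 1, 0, 1, 0, 0, 1, 0, 0, 0, 0],
   [1, 0, 1, 0, 1, 0, 0, 1, 0, 0, 0, 0, 0],
   [0, 0, 0, 1, 0, 0, 0, 0, 1, 0, 0, 0, 0],
   [0, 0, 1, 0, 1, 0, 1, 0, 1],
   [0, 0, 0, 0, 0, 1, 0, 1, 0, 0, 0, 1],
   [0, 1, 0, 0, 0, 0, 0, 0, 0, 1, 0, 1],
   [1, 0, 0, 0, 0, 1, 0, 1, 0, 1],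
   [0, 1, 0, 1, 0, 0, 1, 0, 0, 0, 0, 0],
   [0, 0, 0, 0, 1, 0, 1, 0, 1],
   [0, 0, 0, 1, 0, 1],
   [0, 0, 1, 0, 0, 1],
   [0, 0, 0, 1, 0, 0, 1, 0, 0, 0, 1],
   [1, 0, 0, 0, 0, 1, 0, 0, 0, 1],
   [0, 0],
   [0, 0, 0, 0, 0, 1],
   [1, 0, 0, 0, 1, 0, 1],
   [1, 0, 0, 0, 1, 0, 0, 1, 0, 0, 0, 1],
   [0, 0, 0],
   [0, 0, 0, 0, 1, 0, 0, 0, 1],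
   [0, 1, 0, 0, 0, 0, 0, 1, 0, 0, 0, 0, 0, 0, 0],
   [1, 0, 0, 0, 0, 0, 1],
   [0, 0, 0, 0, 0, 0, 0, 1, 0, 1, 0, 1],
   [0, 0, 1, 0, 0, 1, 0, 0, 0, 0, 0],
   [1, 0, 0, 0, 0, 1, 0, 1],
   [1, 0, 0, 0, 1, 0, 1, 0, 0, 0, 0, 0],
   [0, 1, 0, 0, 0, 1],
   [1, 0, 1, 0, 0, 0, 0, 0],
   [0, 0, 1, 0, 1, 0, 0, 1, 0, 0, 0, 1],
   [1, 0, 0, 0, 0, 0, 0, 0, 0, 0, 0],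
   [0, 0, 0, 0, 0, 0, 0, 0, 0, 0],
   [0, 0, 0, 0, 1, 0, 1],
   [0, 1, 0, 0, 0, 0, 0],
   [1, 0, 0, 0, 1, 0, 0, 0, 0, 0, 0, 0, 0, 0],
   [0, 0, 1, 0, 1, 0, 1, 0, 0, 0, 1, 0, 0, 1],
   [0, 0, 0, 1, 0, 0, 0, 0, 0, 0, 0, 0, 0],
   [1, 0, 1, 0, 0, 0, 0, 1],
   [1, 0, 0, 1, 0, 1, 0, 1, 0, 0, 0, 1, 0, 0, 1],
   [0, 1, 0, 0, 0, 0, 1],
   [1, 0, 0, 1, 0, 0, 1, 0, 0, 0, 0, 0],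
   [1, 0, 1, 0, 0, 0, 1],
   [0, 0, 0, 1, 0, 1, 0, 0, 0, 0, 0],
   [1, 0, 0, 1, 0, 1, 0, 0, 1, 0, 0, 0, 1],
   [0, 0, 0, 0, 0, 0, 1, 0, 1, 0, 1],
   [1, 0, 0, 0, 0, 0, 0, 1, 0, 1],
   [0, 0, 1, 0, 0, 1, 0, 1, 0, 0, 1, 0, 0, 0, 1],
   [1, 0, 1, 0, 0, 1, 0, 0, 0, 0, 0],
   [0, 1, 0, 1, 0, 0, 0, 0, 1, 0, 0, 0, 0, 0],
   [0, 0, 0, 1, 0, 0, 0, 0, 1],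
   [0, 0, 0, 1, 0, 0, 0, 1],
   [0, 0, 0, 0, 0, 0, 1, 0, 1],
   [0, 1, 0, 0, 1, 0, 1, 0, 0, 0, 1, 0, 1],
   [0, 1, 0, 1, 0, 0, 0, 0, 1],
   [1, 0, 0, 0, 1, 0, 0, 0, 0, 1],
   [0, 1, 0, 1, 0, 1, 0, 0, 1],
   [0, 1, 0, 0, 1, 0, 0, 0, 0, 0],
   [0, 1, 0, 1, 0, 1, 0, 1],
   [1, 0, 0, 0, 1, 0, 0, 0, 1, 0, 1],
   [0, 0, 0, 0, 0, 0, 0, 0, 0],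
   [1, 0, 0, 0, 0, 0, 0, 0, 0, 0],
   [1, 0, 1, 0, 1, 0, 1, 0, 1],
   [0, 0, 0, 1, 0, 0, 0, 1, 0, 1],
   [0, 0, 1, 0, 1, 0, 0, 0, 0, 0],
   [0, 0, 0, 0, 1, 0, 1, 0, 0, 0, 0, 0],
   [0, 0, 0, 0, 1, 0, 0, 0, 1, 0, 1],
   [0, 1, 0, 0, 1, 0, 0, 0, 1, 0, 0, 1],
   [0, 0, 0, 0, 1, 0, 0, 0, 1, 0, 1, 0, 0, 0, 1],
   [0, 0, 0, 0, 0, 0],
   [0, 0, 0, 0, 0, 0, 0, 0, 1],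
   [1, 0, 0, 1, 0, 0, 0, 0, 0],
   [0, 0, 1, 0, 0, 0, 0, 0],
   [0, 0, 0, 0, 0, 0, 0, 1, 0, 0, 0, 0, 0, 0, 0],
   [0, 0, 0, 0, 1, 0, 0, 0, 0, 1, 0, 0, 0, 1],
   [0, 0, 0, 0, 0, 1, 0, 0, 0, 0, 0, 0, 0],
   [1, 0, 0, 1, 0, 0, 0, 0, 0, 0, 0, 0, 0],
   [1, 0, 0, 0, 0, 0, 1, 0, 0, 0, 0, 0, 0, 0],
   [0, 0, 1, 0, 0, 0, 0, 0, 0, 0, 0, 0],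
   [0, 0, 1, 0, 0, 1, 0, 0, 0, 0],
   [0, 1, 0, 0, 1, 0, 0, 0, 0, 1, 0, 0, 0, 1],
   [0, 0, 0, 1, 0, 1, 0, 0, 0, 1, 0, 0, 1],
   [0, 0, 1, 0, 0, 0, 1, 0, 0, 0, 1, 0, 1],
   [1, 0, 0, 1, 0, 0, 0, 1, 0, 0, 0, 1, 0, 1],
   [0, 0, 0, 0, 0, 0, 0, 0, 1, 0, 0, 0, 1],
   [1, 0, 0, 0, 1, 0, 0, 0, 0],
   [1, 0, 1, 0, 1, 0, 0, 0, 1, 0, 0, 1],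
   [0, 0, 0, 1, 0, 0, 0, 1, 0, 0, 1],
   [0, 0, 0, 0, 0, 1, 0, 0, 0, 0, 1, 0, 0, 0, 0],
   [0, 0, 0, 0, 0, 0, 1],
   [1, 0, 1, 0, 0, 0, 1, 0, 1],
   [1, 0, 0, 0, 0, 0, 0, 0],
   [0, 0, 1, 0, 0, 0, 0],
   [1, 0, 0, 0, 1, 0, 1, 0, 0, 0, 1, 0, 1],
   [0, 0, 0, 0],
   [1, 0, 1, 0, 0, 0, 0, 0, 1],
   [0, 1, 0, 0, 0, 0],
   [0, 0, 1, 0, 1, 0, 0, 1],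
   [1, 0, 1, 0, 1, 0, 0, 0, 1, 0, 1],
   [0, 1, 0, 1, 0, 1, 0, 0, 0, 1, 0, 0, 1],
   [1, 0, 1, 0, 1, 0, 0, 0, 0, 0, 1],
   [1, 0, 0, 0, 0, 0, 0, 1],
   [0, 0, 0, 1, 0, 0, 0, 0],
   [0, 0, 0, 0, 0, 0, 1, 0, 0, 0, 1],
   [0, 1, 0, 1, 0, 0, 0, 1, 0, 0, 1],
   [0, 0, 1, 0, 1, 0, 0, 0, 1, 0, 0, 0, 0, 1],
   [0, 1, 0, 0, 0, 1, 0, 1],
   [0, 0, 0, 1, 0, 1, 0, 0, 0, 1, 0, 1],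
   [1, 0, 0, 1, 0, 0, 0, 0],
   [0, 0, 0, 0, 0, 0, 0],
   [0, 1, 0, 0, 0, 0, 0, 1],
   [1, 0, 0, 0, 0],
   [1, 0, 1, 0, 0, 0, 0],
   [0, 0, 1, 0, 0, 0, 0, 0, 0, 0, 0, 0, 0],
   [1, 0, 0, 1, 0, 1, 0, 0, 1],
   [0, 1, 0, 1, 0, 0, 0, 1, 0, 1],
   [0, 1, 0, 1, 0, 0, 0, 0, 0, 1],
   [1, 0, 0, 0, 0, 0],
   [0, 0, 0, 0, 0, 1, 0, 1, 0, 0, 0, 0, 0],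
   [0, 0, 0, 0, 0],
   [0, 0, 0, 0, 0, 0, 0, 1],
   [0, 1, 0, 0, 0, 0, 1, 0, 0, 1, 0, 0, 0, 1]]

/-- Steps of the first element. -/
def pW : List (List ℕ) :=
  [[2, 2, 2, 2, 3, 3, 5, 4, 5, 9, 7, 9, 10, 10],
   [3, 3, 2, 2, 2, 3, 2, 2, 4, 5, 4, 5, 5, 4, 6, 6, 9, 6, 6, 10, 10],
   [3, 3, 2, 3, 3, 4, 5, 4, 5, 7, 8, 9],
   [2, 3, 2, 2, 2, 5, 5, 5, 4, 5, 4, 9, 8, 7, 10, 10],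
   [2, 2, 3, 3, 2, 3, 5, 5, 4, 5, 4, 8, 8, 6, 10, 10],
   [3, 3, 3, 2, 2, 2, 4, 4, 5, 4, 5, 6, 7, 10, 10],
   [3, 3, 3, 2, 2, 2, 5, 5, 5, 5, 4, 5, 6, 6, 9, 6, 6],
   [2, 3, 3, 3, 2, 3, 3, 4, 5, 4, 4, 4, 5, 4, 4, 6, 10, 10],
   [3, 3, 2, 2, 3, 3, 2, 5, 4, 5, 4, 5, 7, 7, 9],
   [3, 3, 2, 3, 2, 2, 5, 4, 5, 5, 4, 7, 6],
   [2, 3, 3, 3, 3, 4, 4, 4, 4, 5, 4, 5, 7, 7, 9, 6, 10, 10],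
   [2, 3, 3, 4, 5, 4, 4, 4, 6, 9, 7, 8, 6, 10],
   [2, 2, 3, 2, 2, 4, 5, 4, 4, 5, 4, 4, 8, 7],
   [2, 3, 3, 2, 3, 3, 2, 2, 5, 5, 5, 4, 4, 4, 7, 7, 8, 9],
   [3, 2, 3, 2, 3, 2, 3, 4, 5, 5, 4, 8, 7, 7, 6, 10],
   [3, 3, 2, 3, 2, 3, 2, 3, 4, 4, 4, 5, 4, 4, 9, 7, 10, 10],
   [3, 2, 3, 2, 3, 2, 3, 4, 4, 4, 5, 4, 9, 6, 6],
   [2, 2, 3, 5, 5, 4, 5, 5, 7, 7, 6, 10],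
   [2, 2, 3, 2, 2, 5, 5, 4, 5, 5, 4, 4, 4, 6, 9, 6, 6, 10],
   [2, 2, 2, 2, 2, 2, 3, 3, 5, 4, 5, 5, 4, 8, 6, 6, 9, 10],
   [3, 2, 2, 2, 3, 2, 2, 4, 4, 5, 7, 8, 9, 10],
   [2, 2, 2, 2, 2, 2, 4, 5, 4, 5, 5, 4, 5, 5, 6, 9, 8, 6, 10],
   [2, 2, 2, 2, 2, 3, 2, 2, 5, 4, 5, 4, 5, 5, 8, 8, 6, 10],
   [2, 2, 3, 2, 3, 5, 4, 4, 4, 5, 4, 4, 6, 6, 10],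
   [2, 3, 3, 2, 3, 3, 4, 5, 4, 5, 5, 4, 4, 4, 7, 9, 7, 10, 10],
   [3, 3, 4, 4, 5, 4, 4, 4, 10],
   [2, 5, 5, 5, 4, 4, 4, 7, 9, 8, 7],
   [2, 3, 2, 3, 4, 5, 4, 5, 4, 4, 10, 10],
   [2, 2, 2, 3, 5, 4, 4, 5, 4, 4, 8, 6, 9, 6, 10],
   [2, 2, 3, 2, 2, 4, 4, 4, 5, 5, 5, 9, 7, 6],
   [3, 2, 2, 2, 3, 3, 2, 4, 4, 5, 5, 5, 9, 6, 9, 10, 10],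
   [2, 2, 2, 2, 3, 3, 3, 2, 3, 2, 4, 4, 4, 4, 5, 4, 5, 9, 7, 6],
   [2, 3, 3, 2, 3, 5, 5, 4, 4, 5, 4, 5, 6, 9, 7, 8, 6, 10],
   [3, 2, 2, 2, 2, 3, 5, 4, 5, 8, 7, 9, 7, 10],
   [3, 2, 3, 2, 3, 3, 2, 4, 5, 5, 5, 4, 5, 8, 9, 7, 6, 10, 10],
   [3, 2, 2, 3, 3, 5, 5, 5, 4, 5, 4, 10, 10],
   [2, 3, 3, 2, 4, 4, 5, 4, 4, 6, 9, 8, 6, 10],
   [2, 3, 3, 3, 2, 3, 2, 5, 4, 4, 5, 4, 7, 8, 9, 10],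
   [2, 2, 5, 5, 5, 5, 4, 5, 4, 7, 9, 10, 10],
   [3, 2, 2, 2, 2, 3, 4, 5, 4, 4, 4, 5, 4, 4, 8, 8, 6, 10],
   [3, 2, 2, 2, 3, 4, 4, 5, 4, 5, 5, 10],
   [2, 3, 3, 5, 5, 4, 5, 5, 4, 6, 9, 6, 6, 10, 10],
   [2, 3, 3, 3, 2, 2, 2, 5, 4, 5, 5, 4, 6, 8, 6, 6],
   [2, 2, 2, 2, 2, 3, 2, 3, 4, 5, 4, 5, 5, 5, 4, 8, 6, 9, 6, 10],
   [2, 2, 2, 3, 3, 4, 4, 4, 4, 5, 4, 5, 10],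
   [2, 2, 3, 5, 4, 4, 6, 8, 6, 6],
   [2, 3, 2, 3, 2, 2, 4, 5, 4, 5, 4, 5, 7, 7, 9, 6],
   [2, 2, 2, 3, 3, 2, 2, 4, 5, 4, 5, 5, 4, 5, 5, 8, 6, 6],
   [2, 3, 3, 3, 3, 3, 5, 5, 5, 4, 5, 5, 4, 7, 8, 9],
   [3, 2, 2, 2, 2, 2, 2, 2, 5, 4, 5, 5, 5, 5, 9, 6, 7, 10],
   [2, 3, 3, 2, 2, 5, 5, 7, 7, 8, 9, 10, 10],
   [2, 3, 2, 3, 3, 3, 2, 2, 2, 4, 4, 5, 5, 5, 9, 6, 6, 10, 10],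
   [2, 3, 2, 2, 3, 3, 2, 2, 5, 5, 4, 5, 4, 4, 4, 7, 7, 9, 10],
   [3, 2, 3, 3, 3, 5, 4, 4, 5, 5, 4, 4, 4, 6, 6, 10, 10],
   [3, 2, 2, 2, 3, 3, 2, 4, 5, 4, 5, 5, 4, 6, 9, 10, 10],
   [3, 2, 3, 2, 2, 4, 5, 4, 4, 4, 5, 4, 4, 7, 9, 7, 6, 10],
   [2, 3, 3, 4, 5, 4, 5, 4, 6, 8, 6, 6, 10, 10],
   [3, 3, 2, 2, 2, 3, 5, 5, 4, 5, 5, 4, 4, 4, 9, 7, 9],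
   [2, 3, 2, 2, 3, 2, 2, 5, 4, 8, 9, 7, 6],
   [3, 2, 2, 2, 2, 3, 4, 5, 4, 5, 5, 9, 10, 10],
   [5, 5, 4, 5, 5, 4, 4, 4, 9, 7, 9, 10, 10],
   [2, 3, 2, 2, 4, 4, 5, 5, 5, 5, 9, 6, 9],
   [3, 2, 2, 3, 3, 2, 4, 5, 5, 5, 5, 4, 5, 4, 9, 8, 6, 6, 10],
   [3, 3, 3, 3, 2, 2, 2, 4, 4, 5, 4, 4, 4, 6, 8, 9, 7, 10, 10],
   [3, 3, 2, 4, 5, 5, 5, 4, 5, 6, 9, 7, 10, 10],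
   [2, 2, 2, 3, 3, 3, 2, 3, 2, 4, 4, 4, 5, 4, 5, 6, 9, 7, 8, 6, 10],
   [3, 2, 2, 2, 3, 2, 3, 5, 5, 4, 5, 4, 6, 8, 6, 6],
   [3, 3, 2, 2, 3, 2, 2, 4, 5, 5, 5, 4, 6, 9, 10],
   [3, 3, 2, 2, 2, 4, 5, 5, 5, 4, 8, 6, 6, 10, 10],
   [2, 2, 2, 2, 3, 3, 4, 5, 4, 5, 4, 8, 7, 10],
   [2, 2, 3, 3, 3, 4, 4, 5, 5, 5, 5, 6, 6, 9, 6, 6, 10, 10],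
   [3, 3, 2, 2, 2, 2, 2, 2, 3, 3, 5, 4, 4, 5, 4, 5, 5, 7, 9, 6, 6, 10],
   [3, 2, 3, 3, 4, 5, 4, 5, 4, 4, 7, 9, 7, 10],
   [3, 3, 3, 2, 3, 2, 3, 5, 5, 5, 5, 9, 6, 10],
   [2, 2, 2, 2, 5, 4, 5, 8, 9, 10],
   [2, 2, 2, 2, 3, 3, 3, 2, 3, 2, 4, 5, 4, 4, 4, 9, 8, 6],
   [2, 2, 2, 3, 5, 4, 4, 5, 5, 4, 4, 4, 8, 9, 6, 6],
   [3, 2, 3, 3, 3, 3, 3, 4, 4, 4, 4, 5, 4, 4, 7, 7, 6],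
   [3, 3, 3, 3, 2, 2, 2, 3, 4, 5, 5, 4, 5, 5, 4, 7, 9, 7, 6],
   [2, 2, 2, 2, 3, 2, 2, 5, 4, 4, 5, 4, 5, 6, 9, 7, 10],
   [2, 3, 3, 2, 3, 2, 3, 2, 3, 5, 4, 4, 4, 5, 4, 4, 9, 6, 9],
   [2, 3, 3, 2, 3, 3, 4, 5, 4, 4, 4, 5, 4, 4, 6, 8, 6, 6, 10, 10],
   [2, 3, 3, 2, 2, 3, 3, 2, 4, 5, 5, 4, 7, 6, 10, 10],
   [3, 3, 2, 2, 3, 2, 3, 4, 9, 6, 10],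
   [3, 2, 3, 3, 9, 7],
   [3, 5, 5, 4, 5, 5, 7, 6, 10, 10],
   [2, 3, 2, 2, 2, 3, 2, 3, 4, 4, 5, 4, 5, 5, 7, 7, 6, 10],
   [2, 2, 3, 2, 3, 3, 2, 4, 5, 5, 5, 4, 5, 5, 4, 7, 7, 6],
   [2, 2, 3, 3, 3, 5, 4, 5, 4, 5, 8, 6, 10, 10],
   [3, 3, 2, 2, 2, 2, 2, 2, 3, 3, 4, 5, 5, 4, 5, 7, 9, 6, 10, 10],
   [2, 2, 3, 2, 2, 2, 5, 6, 9, 6, 7, 10],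
   [3, 2, 2, 3, 3, 2, 2, 5, 4, 6, 6, 10, 10],
   [2, 3, 2, 3, 3, 3, 3, 3, 4, 9, 7, 10, 10],
   [2, 2, 2, 3, 2, 2, 5, 4, 4, 5, 5, 4, 4, 4, 8, 9, 7, 6],
   [2, 2, 5, 4, 4, 4, 5, 4, 4, 9, 6, 9],
   [3, 2, 2, 2, 2, 2, 2, 3, 3, 4, 5, 4, 5, 4, 5, 7, 8, 6, 10, 10],
   [3, 3, 2, 3, 2, 3, 2, 3, 5, 5, 4, 4, 7, 7, 6],
   [2, 3, 2, 2, 5, 4, 4, 5, 4, 5, 7, 8, 6, 10, 10],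
   [2, 2, 2, 2, 2, 2, 3, 3, 5, 5, 5, 4, 4, 4, 6],
   [2, 2, 3, 3, 5, 6, 9, 7, 8, 6],
   [3, 2, 3, 3, 3, 4, 5, 5, 4, 5, 5, 4, 7, 7, 6],
   [3, 2, 2, 3, 3, 4, 4, 5, 4, 5, 9, 6, 7, 10, 10],
   [3, 3, 3, 3, 2, 2, 2, 4, 4, 4, 5, 4, 4, 4, 7, 9, 8, 6, 10],
   [3, 3, 2, 3, 2, 3, 5, 5, 4, 5, 4, 9, 7],
   [3, 2, 2, 2, 2, 3, 4, 4, 4, 5, 5, 5, 4, 6, 9],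
   [2, 3, 3, 2, 2, 2, 4, 4, 4, 4, 5, 4, 4, 8, 7, 7, 6, 10, 10],
   [3, 3, 2, 2, 2, 2, 2, 2, 3, 3, 4, 4, 5, 5, 5, 5, 4, 5, 4, 7, 8, 6, 10],
   [3, 3, 2, 3, 4, 4, 5, 5, 4, 4, 4, 6, 10, 10],
   [2, 2, 2, 2, 3, 5, 4, 4, 4, 5, 4, 8, 7, 9, 7, 10, 10],
   [2, 3, 3, 2, 5, 5, 4, 5, 9, 6, 7, 10],
   [2, 2, 3, 2, 2, 4, 4, 4, 5, 4, 4, 8, 7, 9, 10, 10],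
   [3, 3, 3, 2, 2, 2, 3, 4, 5, 5, 4, 4, 4, 7, 7, 6, 10],
   [3, 3, 2, 2, 2, 9, 7],
   [3, 3, 3, 2, 3, 5, 5, 5, 4, 5, 4, 7, 9, 6, 6],
   [2, 2, 2, 2, 5, 4, 4, 5, 4, 5, 8, 6, 6, 10, 10],
   [3, 2, 3, 8, 6, 9, 6, 10],
   [3, 2, 3, 2, 3, 3, 2, 4, 4, 4, 4, 5, 4, 5, 6, 9, 6, 6],
   [2, 2, 2, 3, 2, 2, 4, 4, 5, 4, 5, 5, 6, 9, 6, 7, 10],
   [2, 3, 3, 3, 2, 3, 2, 4, 4, 5, 4, 9, 7, 6],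
   [2, 2, 3, 5, 4, 4, 4, 5, 4, 6, 8, 6, 6],
   [2, 2, 2, 2, 2, 2, 2, 5, 5, 4, 4, 4, 7, 9, 8, 6, 10],
   [3, 2, 2, 2, 3, 2, 2, 2, 5, 4, 5, 4, 4, 4, 8, 6, 9, 6],
   [2, 2, 2, 2, 2, 2, 5, 5, 4, 4, 6, 9, 7, 8, 6],
   [2, 3, 2, 3, 3, 3, 2, 2, 2, 4, 5, 4, 6, 9, 8, 6],
   [3, 2, 2, 3, 3, 2, 3, 5, 5, 7, 7, 9, 6, 10],
   [3, 3, 3, 3, 2, 2, 2, 3, 5, 5, 4, 9, 10],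
   [2, 2, 2, 3, 2, 3, 3, 2, 4, 4, 4, 5, 5, 5, 4, 6],
   [2, 3, 2, 2, 2, 2, 2, 2, 2, 4, 5, 4, 5, 5, 4, 7, 6, 6],
   [2, 2, 3, 3, 5, 5, 5, 8, 6, 6],
   [2, 3, 3, 2, 2, 3, 3, 2, 4, 5, 5, 5, 4, 5, 4, 9, 7, 6, 10],
   [3, 2, 2, 2, 2, 3, 5, 5, 5, 4, 5, 5, 4, 6, 9, 6, 7, 10, 10],
   [2, 2, 4, 4, 4, 4, 5, 4, 4, 9, 8, 6, 6, 10],
   [2, 3, 2, 2, 3, 2, 2, 5, 5, 4, 5, 5, 4, 4, 4, 9, 8, 7, 9, 10],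
   [3, 2, 3, 3, 3, 3, 3, 5, 5, 4, 6, 6, 10],
   [2, 2, 2, 2, 2, 4, 5, 5, 5, 5, 4, 5, 4, 8, 8, 6, 10],
   [3, 2, 2, 2, 3, 2, 2, 4, 5, 4, 5, 5, 7, 8, 9, 10],
   [2, 3, 4, 5, 4, 5, 5, 5, 4, 6, 9, 10],
   [3, 3, 3, 3, 5, 5, 5, 4, 5, 4, 4, 4, 7, 9, 7, 10, 10],
   [3, 3, 2, 3, 3, 2, 2, 4, 5, 4, 5, 5, 4, 5, 5, 7, 10, 10],
   [2, 2, 2, 3, 3, 3, 2, 3, 2, 4, 4, 4, 5, 4, 4, 4, 6, 8, 6, 6, 10],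
   [3, 3, 2, 3, 2, 4, 5, 4, 5, 5, 7, 9, 6, 6, 10],
   [3, 2, 2, 2, 3, 3, 2, 4, 5, 4, 4, 6, 8, 9, 7, 10, 10],
   [3, 3, 2, 2, 3, 3, 2, 5, 4, 5, 5, 4, 6, 9, 6, 6],
   [2, 2, 3, 3, 3, 3, 3, 5, 5, 5, 6, 6, 9, 6, 6],
   [2, 3, 3, 2, 2, 2, 5, 4, 4, 4, 5, 4, 8, 8, 6, 10, 10],
   [2, 3, 3, 2, 2, 2, 5, 5, 4, 5, 4, 7, 9, 7],
   [3, 2, 3, 2, 3, 2, 2, 5, 4, 5, 4, 5, 5, 6, 9, 6, 7],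
   [2, 2, 2, 3, 3, 2, 4, 4, 5, 4, 5, 4, 7, 7, 6],
   [3, 3, 3, 3, 2, 3, 4, 5, 4, 5, 5, 4, 9, 8, 6, 6, 10],
   [3, 3, 3, 3, 2, 3, 5, 4, 4, 4, 5, 4, 4, 8, 8, 6],
   [3, 2, 3, 3, 2, 5, 7, 9, 8, 6, 10],
   [3, 2, 2, 2, 3, 2, 2, 2, 4, 5, 4, 5, 5, 4, 5, 5, 8, 6, 10, 10],
   [2, 2, 2, 2, 2, 5, 4, 5, 5, 7, 9, 8, 6],
   [2, 2, 2, 3, 5, 5, 5, 4, 5, 5, 4, 6, 9, 8, 6, 6],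
   [3, 3, 3, 2, 2, 2, 3, 4, 4, 5, 5, 5, 5, 4, 5, 4, 7, 9, 7, 10, 10],
   [2, 3, 2, 3, 3, 3, 3, 3, 5, 5, 4, 5, 5, 5, 4, 8, 9, 7, 6, 10],
   [3, 3, 4, 4, 5, 6, 9],
   [3, 3, 3, 3, 2, 3, 3, 4, 5, 5, 4, 4, 4, 8, 6, 6, 10],
   [2, 2, 2, 2, 2, 2, 5, 5, 5, 5, 4, 5, 4, 8, 7, 7, 6, 10],
   [2, 2, 2, 2, 2, 3, 2, 2, 4, 4, 8, 9, 6, 6, 10],
   [2, 3, 2, 2, 5, 4, 4, 6, 6, 9, 6, 6, 10],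
   [2, 3, 3, 3, 3, 2, 3, 4, 5, 5, 5, 5, 4, 5, 4, 7, 9, 8, 6],
   [2, 3, 4, 4, 5, 4, 5, 4, 8, 9, 10],
   [2, 3, 2, 3, 2, 5, 4, 4, 5, 4, 4, 4, 7, 9, 7, 6, 10],
   [2, 3, 2, 2, 2, 2, 2, 2, 2, 4, 5, 5, 5, 5, 4, 5, 4, 8, 9, 6, 9],
   [3, 2, 2, 2, 2, 4, 5, 4, 9, 7, 8, 6, 10, 10],
   [2, 5, 4, 4, 5, 5, 4, 4, 4, 9, 6, 6, 10],
   [3, 3, 2, 3, 3, 2, 2, 5, 4, 9, 7, 6, 6, 10, 10],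
   [2, 2, 2, 3, 2, 2, 5, 4, 5, 5, 4, 4, 4, 8, 7, 9, 7],
   [2, 2, 2, 2, 2, 5, 5, 6, 9, 6, 7, 10],
   [3, 3, 2, 3, 2, 3, 2, 3, 5, 5, 5, 4, 5, 4, 9, 6, 6, 10, 10],
   [2, 2, 3, 3, 3, 3, 3, 5, 5, 5, 4, 5, 8, 9, 10, 10],
   [2, 2, 2, 3, 2, 2, 2, 4, 4, 4, 5, 5, 5, 8, 9, 10],
   [2, 3, 2, 3, 3, 3, 3, 3, 4, 4, 5, 4, 5, 8, 7, 9, 7, 10, 10],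
   [2, 3, 2, 3, 2, 2, 4, 5, 5, 5, 4, 5, 6, 9, 6, 6, 10, 10],
   [3, 2, 2, 2, 3, 2, 2, 4, 5, 5, 4, 5, 9],
   [3, 3, 3, 2, 2, 2, 5, 4, 5, 6, 9],
   [3, 2, 2, 2, 2, 2, 2, 2, 5, 5, 4, 5, 4, 4, 4, 7, 9, 7],
   [2, 2, 2, 2, 2, 3, 2, 3, 5, 5, 5, 5, 6, 7, 10],
   [3, 3, 3, 3, 2, 3, 2, 4, 5, 5, 4, 5, 5, 9, 7, 8, 6, 10, 10],
   [2, 3, 3, 2, 3, 3, 3, 4, 4, 4, 4, 5, 4, 4, 7, 7, 6, 10, 10],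
   [3, 3, 3, 2, 2, 2, 4, 5, 5, 5, 4, 5, 4, 9, 8, 6, 6, 10],
   [3, 3, 2, 2, 2, 2, 2, 2, 2, 4, 4, 5, 4, 4, 4, 6, 8, 6, 6, 10, 10],
   [2, 3, 3, 3, 3, 2, 3, 4, 5, 4, 4, 5, 4, 4, 7, 7, 9, 10],
   [3, 3, 3, 3, 2, 3, 2, 4, 4, 4, 5, 5, 5, 4, 9, 6, 10],
   [3, 2, 2, 2, 3, 2, 3, 5, 5, 5, 4, 5, 4, 7, 7, 8, 9],
   [3, 2, 3, 2, 3, 2, 3, 4, 4, 5, 4, 5, 4, 5, 9, 7, 6, 6],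
   [3, 2, 5, 5, 4, 5, 5, 7, 6, 10, 10],
   [2, 3, 2, 2, 3, 2, 2, 4, 4, 5, 5, 5, 5, 8, 9, 6, 9, 10],
   [2, 3, 3, 2, 2, 5, 4, 4, 5, 4, 5, 5, 9, 7, 8, 6],
   [3, 2, 3, 2, 3, 3, 3, 3, 4, 5, 4, 9, 6],
   [3, 3, 3, 4, 4, 5, 4, 6, 10],
   [3, 2, 3, 2, 2, 4, 5, 5, 4, 5, 5, 4, 8, 9, 6, 6, 10, 10],
   [3, 2, 3, 2, 3, 3, 2, 4, 4, 4, 5, 5, 5, 9, 8, 7, 9, 10],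
   [2, 2, 3, 2, 3, 5, 4, 5, 4, 4, 9, 8, 7, 9],
   [2, 2, 2, 2, 4, 4, 5, 5, 5, 5, 4, 5, 4, 9, 10],
   [2, 2, 2, 3, 2, 2, 5, 5, 4, 5, 4, 5, 5],
   [2, 3, 2, 2, 2, 3, 2, 3, 5, 4, 4, 4, 9, 6, 10, 10],
   [3, 2, 2, 2, 3, 3, 2, 2, 4, 5, 4, 4, 5, 4, 4, 9, 8, 7],
   [3, 2, 2, 2, 3, 3, 2, 4, 5, 5, 5, 5, 4, 5, 4, 9, 7, 9],
   [2, 2, 2, 2, 3, 4, 5, 5, 5, 5, 4, 5, 4, 7],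
   [2, 3, 3, 3, 4, 4, 5, 4, 9, 7],
   [3, 3, 2, 2, 2, 2, 2, 2, 2, 5, 5, 5, 4, 5, 4, 4, 4, 7, 9, 7],
   [2, 3, 3, 3, 2, 3, 3, 5, 5, 4, 5, 4, 8, 6],
   [2, 3, 2, 3, 3, 3, 3, 3, 5, 4, 4, 7, 9, 6, 6, 10],
   [2, 2, 2, 3, 2, 3, 5, 4, 5, 5, 4, 9, 7, 10, 10],
   [3, 2, 3, 2, 3, 2, 3, 5, 4, 5, 4, 5, 5, 8, 7, 9],
   [2, 2, 2, 2, 2, 2, 3, 3, 4, 5, 4, 5, 6, 9, 6, 7, 10, 10],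
   [3, 2, 3, 3, 3, 2, 2, 2, 4, 5, 5, 4, 8, 6, 9, 6, 10, 10],
   [2, 3, 2, 2, 2, 4, 4, 4, 8, 7, 9, 7, 10],
   [3, 3, 2, 2, 5, 4, 4, 4, 5, 4, 8, 6, 6, 10, 10],
   [3, 2, 3, 3, 3, 3, 3, 5, 4, 5, 4, 7, 9, 6, 6],
   [2, 3, 3, 2, 2, 5, 5, 4, 7, 9, 6, 10],
   [2, 2, 2, 2, 3, 2, 3, 4, 5, 4, 5, 5, 5, 5, 9],
   [2, 2, 2, 2, 2, 3, 5, 4, 4, 5, 4, 4, 4, 8, 6, 10, 10],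
   [3, 3, 3, 3, 2, 3, 5, 4, 5, 4, 4, 7, 9, 7, 6],
   [3, 2, 2, 2, 3, 2, 3, 5, 5, 5, 5, 4, 5, 4, 8, 7, 9, 7],
   [3, 3, 2, 3, 3, 3, 4, 4, 5, 4, 5, 4, 6, 9, 7, 10, 10],
   [2, 2, 3, 2, 2, 5, 4, 5, 4, 5, 9, 7, 7, 6],
   [2, 2, 2, 2, 2, 2, 3, 5, 4, 4, 4, 5, 4, 6, 8, 9, 7, 10, 10],
   [3, 3, 3, 3, 2, 3, 2, 5, 5, 5, 4, 5, 5, 4, 6, 9, 7, 8, 6],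
   [2, 3, 3, 3, 2, 3, 2, 5, 4, 5, 5, 5, 5, 6, 9, 8, 6, 6, 10],
   [2, 2, 2, 2, 3, 3, 3, 2, 3, 2, 4, 5, 4, 9, 6, 7, 10, 10],
   [3, 2, 2, 2, 2, 4, 4, 5, 6, 9, 6, 6, 10, 10],
   [3, 2, 2, 3, 2, 3, 4, 4, 5, 4, 4, 9, 6, 9],
   [3, 2, 3, 2, 2, 4, 4, 4, 4, 5, 4, 4, 9, 7, 6],
   [2, 2, 2, 2, 2, 2, 3, 3, 4, 4, 4, 4, 5, 4, 4, 6, 8, 9, 7],
   [3, 3, 2, 3, 2, 3, 5, 5, 4, 4, 5, 4, 5, 6, 9, 8, 6, 6],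
   [2, 2, 2, 5, 4, 5, 8, 6, 6, 9, 10],
   [3, 2, 2, 2, 3, 2, 2, 2, 5, 5, 5, 5, 4, 5, 4, 6, 8, 6, 6, 10],
   [2, 3, 3, 3, 3, 2, 3, 4, 5, 4, 5, 5, 4, 6, 8, 9, 7, 10, 10],
   [3, 2, 2, 2, 3, 3, 2, 4, 5, 5, 8, 7, 9, 10],
   [2, 3, 3, 3, 5, 5, 4, 4, 5, 4, 5, 6, 9, 8, 6, 10, 10],
   [2, 2, 3, 2, 2, 4, 4, 5, 4, 5, 5, 4, 9, 8, 6, 6],
   [3, 3, 2, 2, 2, 2, 2, 2, 2, 5, 4, 4, 4, 5, 4, 4, 8, 7, 10],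
   [2, 3, 2, 5, 4, 5, 4, 4, 6, 9, 8, 6],
   [2, 3, 2, 2, 3, 2, 2, 4, 5, 4, 4, 5, 4, 4, 9, 6, 7, 10, 10],
   [2, 3, 2, 2, 3, 2, 2, 4, 4, 5, 4, 5, 9, 7, 6, 6, 10],
   [3, 3, 2, 3, 3, 2, 2, 5, 5, 4, 5, 5, 8, 6, 6, 10, 10],
   [2, 3, 5, 5, 5, 4, 7, 8, 6],
   [3, 3, 2, 2, 2, 3, 5, 5, 4, 5, 4, 4, 4, 6, 9, 6, 10],
   [3, 2, 3, 3, 3, 2, 3, 2, 4, 4, 4, 6, 7, 10, 10],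
   [3, 3, 3, 5, 5, 6, 7, 10, 10],
   [2, 2, 2, 2, 3, 2, 2, 5, 5, 5, 4, 5, 5, 4, 7, 8, 6],
   [2, 2, 3, 2, 3, 4, 4, 5, 4, 5, 7, 7, 6],
   [2, 3, 2, 2, 2, 2, 2, 2, 2, 4, 5, 5, 5, 4, 5, 4, 6, 9, 6, 7],
   [3, 5, 4, 5, 5, 5, 5, 9, 6, 6, 10, 10],
   [3, 2, 3, 3, 3, 4, 4, 5, 4, 5, 4, 9, 8, 7, 9],
   [3, 3, 2, 4, 4, 5, 4, 5, 9, 6, 6],
   [2, 2, 2, 3, 3, 2, 2, 5, 5, 4, 5, 4, 9, 8, 6, 6],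
   [2, 2, 2, 3, 3, 5, 5, 5, 5, 6, 9, 6, 7],
   [4, 5, 4, 5, 5, 4, 6, 6],
   [3, 2, 3, 3, 3, 3, 4, 5, 5, 5, 5, 9, 6, 6, 10],
   [3, 3, 3, 2, 2, 4, 4, 5, 4, 4, 4, 7, 7, 6],
   [3, 3, 3, 4, 5, 5, 4, 5, 5, 4, 9, 8, 6, 6, 10, 10],
   [2, 2, 3, 2, 3, 4, 5, 5, 5, 4, 5, 4, 6, 9, 6, 6],
   [2, 3, 2, 2, 2, 3, 4, 4, 5, 6, 8, 6, 6, 10, 10],
   [2, 3, 2, 3, 3, 2, 5, 4, 5, 7, 7],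
   [2, 2, 3, 4, 4, 4, 5, 4, 8, 6, 6],
   [2, 2, 2, 2, 2, 2, 2, 5, 5, 4, 5, 4, 7, 9, 8, 7, 10],
   [3, 3, 3, 3, 2, 3, 2, 3, 5, 5, 4, 4, 5, 4, 5, 8, 9],
   [2, 2, 2, 2, 2, 3, 3, 5, 6, 7, 10, 10],
   [3, 3, 2, 3, 2, 2, 5, 4, 4, 5, 4, 5, 9, 7, 6],
   [2, 3, 3, 2, 2, 3, 2, 3, 4, 5, 4, 5, 4, 6, 6, 9, 6, 6, 10],
   [2, 2, 2, 2, 2, 5, 4, 4, 4, 7],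
   [3, 2, 3, 2, 2, 4, 5, 5, 5, 5, 7, 7, 6, 10],
   [2, 3, 3, 2, 3, 5, 5, 5, 5, 4, 5, 9, 8, 6, 6, 10, 10],
   [3, 3, 3, 3, 2, 2, 2, 5, 5, 4, 5, 4, 5, 5, 6, 9, 7, 10],
   [3, 2, 3, 3, 3, 3, 4, 5, 5, 5, 4, 5, 4, 6, 7],
   [3, 3, 2, 3, 3, 5, 5, 5, 4, 7, 7, 6],
   [3, 2, 2, 3, 2, 2, 4, 5, 5, 5, 4, 6, 6],
   [2, 2, 2, 2, 2, 3, 3, 5, 4, 4, 5, 5, 4, 4, 4, 7, 9, 7, 6, 10],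
   [3, 3, 2, 3, 3, 3, 3, 4, 5, 5, 4, 6, 10],
   [2, 3, 3, 2, 3, 3, 3, 5, 4, 4, 5, 4, 5, 8, 9, 7, 10],
   [3, 2, 3, 2, 3, 2, 3, 4, 5, 4, 5, 5, 4, 6, 10, 10]]

/-- Steps of the second element. -/
def qW : List (List ℕ) :=
  [[4, 4, 5, 4, 5, 7, 9, 7, 10, 10],
   [3, 2, 3, 2, 3, 3, 3, 3, 4, 5, 4, 5, 6, 9, 6, 6, 10, 10],
   [3, 2, 3, 2, 3, 3, 2, 4, 5, 4, 5, 5, 6, 6, 9, 6, 6, 10],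
   [2, 2, 2, 2, 3, 4, 5, 4, 5, 4, 4, 8, 6, 6, 9, 10],
   [3, 3, 2, 5, 4, 5, 4, 4, 7, 8, 9],
   [2, 2, 3, 3, 3, 3, 3, 5, 5, 4, 7, 8, 9],
   [2, 2, 2, 3, 3, 2, 4, 4, 4, 4, 5, 4, 4, 9, 6],
   [2, 3, 3, 2, 3, 3, 3, 5, 4, 5, 5, 4, 4, 4, 9, 8, 6, 6],
   [2, 3, 2, 2, 2, 3, 2, 3, 5, 5, 4, 5, 5, 5, 4, 7, 7, 9],
   [2, 2, 2, 2, 2, 4, 4, 4, 5, 5, 5, 9, 6],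
   [3, 3, 2, 3, 3, 4, 5, 5, 5, 4, 5, 5, 4, 8, 6, 6],
   [3, 3, 3, 2, 3, 4, 5, 5, 5, 4, 5, 5, 4, 8, 7, 9, 7],
   [3, 2, 2, 2, 3, 2, 2, 4, 5, 5, 5, 5, 8, 7, 7, 6, 10],
   [3, 3, 3, 3, 2, 3, 2, 3, 4, 4, 5, 9, 7, 9, 10],
   [2, 2, 2, 3, 2, 3, 5, 4, 5, 9, 6, 7],
   [3, 2, 2, 3, 3, 2, 3, 4, 5, 4, 5, 5, 4, 5, 5, 6, 9, 8, 6, 10],
   [3, 2, 2, 2, 2, 5, 4, 9, 6],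
   [2, 2, 2, 2, 2, 2, 3, 4, 5, 4, 5, 4, 4, 7, 7, 10],
   [3, 4, 4, 4, 5, 4, 8, 9, 7, 10, 10],
   [3, 2, 2, 2, 2, 2, 3, 3, 5, 5, 4, 5, 5, 4, 4, 4, 7, 7, 9, 10],
   [2, 3, 2, 3, 9, 8, 7, 9, 10],
   [2, 3, 2, 3, 2, 3, 5, 5, 4, 5, 5, 4, 8, 6, 6, 9, 10, 10],
   [3, 2, 3, 3, 3, 2, 3, 2, 5, 4, 5, 5, 5, 4, 8, 7, 7, 6],
   [2, 2, 3, 3, 5, 4, 5, 4, 4, 8, 9, 6, 9, 10, 10],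
   [2, 2, 3, 3, 2, 2, 4, 4, 5, 5, 4, 4, 4, 7, 8, 9],
   [3, 3, 3, 3, 3, 3, 5, 5, 5, 4, 5, 5, 4],
   [3, 3, 2, 3, 3, 3, 4, 5, 5, 4, 5, 5, 4, 6, 9, 7],
   [2, 2, 2, 3, 2, 2, 2, 4, 4, 4, 4, 5, 4, 5, 7, 8, 9, 7],
   [3, 2, 3, 3, 5, 5, 9, 6, 7, 10],
   [2, 2, 3, 3, 2, 4, 5, 4, 4, 5, 4, 4, 9, 8, 7, 10],
   [3, 2, 2, 2, 3, 3, 2, 2, 5, 4, 5, 5, 4, 4, 4, 7, 7, 9, 6, 10, 10],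
   [3, 3, 3, 3, 3, 5, 4, 4, 5, 4, 5, 5, 9, 7, 9, 6, 10, 10],
   [2, 2, 2, 2, 2, 3, 2, 3, 5, 4, 4, 8, 7, 9, 10, 10],
   [2, 3, 2, 3, 5, 5, 4, 5, 4, 9, 7, 7, 6],
   [3, 3, 2, 3, 4, 4, 5, 5, 5, 5, 7, 8, 9, 7, 10],
   [3, 3, 2, 3, 3, 5, 4, 5, 5, 5, 5, 6, 6, 10, 10],
   [2, 3, 2, 3, 5, 4, 5, 7, 9, 7, 10, 10],
   [3, 2, 2, 3, 2, 3, 3, 2, 5, 5, 4, 4, 4, 9, 7, 9, 6],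
   [3, 3, 2, 2, 3, 2, 3, 5, 4, 7, 7, 9, 6, 10, 10],
   [3, 2, 2, 2, 2, 2, 3, 3, 5, 5, 4, 5, 5, 4, 9, 8, 6, 10, 10],
   [3, 2, 3, 3, 3, 5, 4, 9, 7, 6, 6, 10, 10],
   [3, 3, 3, 4, 5, 5, 5, 4, 5, 5, 4, 9, 6, 6, 10],
   [3, 3, 2, 2, 2, 2, 2, 2, 2, 5, 4, 4, 8, 6, 6, 9, 10, 10],
   [3, 2, 3, 2, 2, 2, 5, 5, 5, 4, 6, 9, 6, 10, 10],
   [2, 2, 3, 2, 3, 3, 2, 5, 4, 5, 7, 8, 9, 7],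
   [2, 2, 2, 2, 2, 2, 2, 5, 4, 5, 5, 4, 4, 4, 9, 7, 9, 10, 10],
   [3, 2, 2, 3, 2, 3, 4, 5, 4, 4, 5, 4, 4, 6, 6, 9, 6, 6, 10, 10],
   [2, 3, 3, 3, 2, 3, 2, 4, 5, 5, 4, 8, 9, 6, 9],
   [2, 3, 3, 3, 3, 3, 4, 4, 6, 9, 6, 7],
   [3, 3, 3, 3, 2, 2, 2, 3, 4, 4, 5, 5, 5, 5, 6, 9, 8, 6],
   [3, 2, 2, 2, 3, 3, 2, 4, 5, 4, 5, 4, 7, 9, 7, 10],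
   [3, 3, 2, 3, 2, 4, 5, 4, 5, 5, 4, 5, 5, 8, 6, 6],
   [2, 3, 2, 2, 4, 5, 4, 5, 7, 6, 6],
   [2, 2, 2, 3, 3, 2, 4, 5, 5, 4, 5, 5, 4, 8, 6, 6, 9],
   [3, 2, 3, 3, 4, 5, 4, 5, 4, 7, 9, 10],
   [2, 3, 2, 2, 2, 3, 5, 4, 5, 4, 6, 10, 10],
   [3, 3, 2, 3, 3, 2, 2, 5, 5, 4, 4, 8, 7, 9, 7, 10],
   [3, 3, 3, 2, 2, 5, 4, 5, 4, 4, 4, 7, 7, 10],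
   [2, 2, 2, 2, 3, 5, 5, 5, 4, 5, 4, 7, 8, 6, 10],
   [2, 2, 2, 2, 4, 5, 4, 5, 5, 9, 8, 7],
   [2, 2, 2, 2, 2, 5, 4, 5, 4, 4, 8, 7, 9, 10, 10],
   [2, 2, 2, 2, 2, 2, 3, 3, 4, 4, 5, 4, 5, 4, 6, 6, 10],
   [2, 3, 2, 2, 5, 5, 5, 4, 7, 9, 7, 10, 10],
   [3, 2, 3, 2, 3, 2, 2, 4, 5, 5, 4, 8, 9, 6, 6, 10],
   [2, 2, 2, 2, 3, 2, 3, 5, 4, 5, 5, 4, 8, 9, 7, 10],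
   [3, 3, 2, 3, 2, 3, 2, 3, 4, 4, 5, 4, 4, 8, 7, 9, 7, 10, 10],
   [2, 3, 3, 2, 3, 2, 3, 2, 3, 5, 4, 4, 5, 4, 5, 5, 7, 8, 9, 7, 10, 10],
   [2, 2, 2, 2, 2, 3, 2, 2, 5, 4, 4, 4, 5, 4, 4, 6, 6, 9, 6, 6, 10],
   [2, 3, 2, 2, 2, 3, 2, 3, 4, 4, 4, 5, 5, 5, 7, 8, 9, 10, 10],
   [2, 3, 3, 3, 2, 2, 2, 5, 5, 5, 4, 5, 4, 7, 9, 8, 7, 10, 10],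
   [2, 2, 2, 2, 2, 3, 3, 4, 4, 5, 5, 5, 7, 6, 6],
   [2, 3, 3, 3, 2, 2, 2, 5, 4, 9, 7, 8, 6, 10],
   [3, 2, 3, 2, 2, 2, 4, 4, 5, 5, 5, 6, 8, 6, 6, 10, 10],
   [3, 2, 3, 3, 3, 2, 3, 2, 5, 5, 5, 4, 5, 7, 8, 6],
   [3, 2, 2, 2, 2, 2, 3, 3, 5, 4, 5, 4, 4, 4, 7, 9, 8, 7],
   [3, 3, 2, 3, 2, 3, 5, 4, 5, 5, 5, 4, 7, 8, 9, 10, 10],
   [3, 3, 3, 2, 2, 2, 3, 4, 4, 5, 4, 4, 6, 9, 8, 6, 10, 10],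
   [5, 4, 4, 5, 5, 4, 4, 4, 9, 6, 6, 10],
   [2, 2, 2, 2, 5, 5, 5, 4, 9, 7, 6],
   [3, 3, 3, 3, 3, 5, 5, 5, 4, 5, 4, 7, 6, 6, 10],
   [3, 4, 5, 4, 5, 5, 4, 5, 5, 7, 9, 6, 10],
   [2, 2, 3, 3, 3, 3, 3, 5, 4, 4, 5, 4, 4, 4, 7, 7, 6, 10],
   [2, 3, 3, 3, 2, 3, 3, 4, 5, 4, 5, 5, 5, 4, 9, 8, 6, 6, 10],
   [2, 3, 3, 3, 3, 4, 4, 4, 5, 5, 5, 6, 9, 8, 6, 10],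
   [2, 2, 3, 3, 2, 3, 2, 5, 4, 4, 5, 5, 5, 9, 7, 6, 6, 10, 10],
   [3, 3, 2, 2, 3, 2, 3, 4, 4, 5, 4, 5, 4, 5, 7, 7, 9, 10],
   [2, 2, 3, 3, 3, 3, 3, 4, 4, 5, 4, 5, 4, 9, 7, 6, 6],
   [3, 2, 3, 5, 5, 4, 5, 5, 7, 9, 7, 10, 10],
   [3, 3, 3, 3, 2, 3, 2, 3, 4, 5, 4, 5, 5, 4, 4, 4, 6, 9, 8, 6, 6, 10],
   [2, 2, 3, 2, 3, 3, 2, 5, 4, 5, 4, 5, 4, 5, 9, 7, 6, 10],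
   [3, 3, 3, 2, 2, 2, 5, 4, 4, 5, 4, 4, 4, 7, 7, 9, 6, 10],
   [3, 2, 3, 2, 2, 2, 4, 5, 4, 5, 5, 7, 8, 9, 7, 10, 10],
   [2, 2, 2, 2, 3, 3, 3, 2, 3, 2, 5, 5, 4, 5, 5, 5, 4, 6, 9, 6],
   [3, 3, 2, 5, 5, 4, 5, 5, 5, 4, 7, 7, 9, 6],
   [2, 2, 2, 2, 2, 3, 3, 4, 4, 5, 4, 5, 7, 9, 8, 6, 10, 10],
   [3, 3, 3, 3, 2, 2, 2, 3, 4, 5, 5, 4, 4, 4, 9, 6, 7, 10],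
   [3, 2, 3, 3, 2, 3, 3, 2, 2, 4, 4, 4, 5, 5, 5, 9, 6, 9],
   [3, 2, 3, 5, 4, 4, 5, 4, 8, 7, 7, 6, 10, 10],
   [3, 2, 2, 3, 2, 2, 5, 5, 5, 6, 9, 6, 6, 10],
   [3, 3, 2, 2, 3, 3, 2, 4, 5, 4, 4, 8, 9],
   [3, 3, 3, 2, 3, 2, 3, 4, 5, 5, 4, 8, 9, 6, 9, 10],
   [2, 3, 3, 3, 5, 4, 5, 4, 4, 8, 7, 10, 10],
   [3, 3, 2, 2, 3, 2, 3, 4, 4, 6, 9, 7],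
   [3, 3, 3, 3, 2, 3, 3, 5, 5, 4, 5, 4, 6, 6, 9, 10, 10],
   [2, 3, 3, 3, 3, 4, 4, 7, 6],
   [3, 2, 3, 2, 3, 3, 3, 3, 5, 5, 4, 9, 8, 7, 9, 10],
   [3, 2, 2, 3, 2, 3, 5, 5, 4, 5, 4, 5, 5, 9, 7, 7, 6],
   [3, 2, 3, 3, 4, 8, 9, 6, 9, 10],
   [3, 3, 2, 2, 2, 2, 2, 2, 3, 3, 4, 4, 4, 5, 5, 5, 8, 9, 6, 6],
   [2, 3, 3, 2, 4, 5, 5, 5, 7, 7, 6],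
   [2, 3, 3, 3, 2, 3, 2, 5, 4, 4, 5, 4, 5, 6, 9, 8, 6],
   [2, 3, 2, 2, 2, 3, 2, 3, 5, 4, 4, 5, 4, 4, 4, 6, 10, 10],
   [2, 3, 2, 3, 3, 3, 2, 2, 2, 5, 4, 5, 5, 4, 4, 4, 7, 7, 8, 9, 10, 10],
   [3, 2, 3, 3, 2, 5, 5, 5, 5, 4, 5, 8, 7, 9, 10],
   [3, 3, 2, 3, 2, 3, 2, 3, 5, 5, 5, 4, 4, 4, 9, 7, 8, 6],
   [2, 3, 3, 3, 2, 2, 2, 3, 4, 5, 4, 4, 4, 5, 4, 4, 6, 9, 6, 7, 10],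
   [2, 3, 2, 3, 2, 5, 5, 5, 4, 5, 4, 6, 9, 6, 10],
   [2, 2, 3, 2, 2, 4, 5, 4, 4, 5, 4, 4, 6, 6, 9, 10, 10],
   [2, 2, 2, 2, 3, 3, 3, 2, 3, 2, 4, 5, 4, 5, 5, 5, 4, 9, 7, 9],
   [3, 3, 2, 2, 2, 2, 2, 2, 3, 3, 4, 5, 4, 4, 9, 8, 6, 10, 10],
   [3, 2, 3, 3, 3, 2, 3, 2, 5, 5, 5, 5, 4, 5, 4, 7, 9, 8, 7, 10],
   [2, 2, 2, 2, 5, 5, 4, 5, 6, 9, 6, 7, 10, 10],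
   [2, 2, 3, 3, 4, 5, 5, 5, 5, 4, 5, 4, 9, 7, 8, 6],
   [2, 2, 2, 3, 3, 2, 5, 4, 8, 9, 7],
   [2, 3, 3, 2, 2, 5, 5, 4, 5, 5, 5, 4, 9, 8, 6, 6, 10],
   [3, 3, 3, 2, 3, 2, 4, 4, 4, 5, 4, 4, 9, 10],
   [3, 2, 2, 2, 2, 2, 3, 3, 5, 4, 4, 4, 5, 4, 8, 8, 6, 10, 10],
   [3, 2, 3, 2, 3, 2, 3, 7, 9, 10, 10],
   [2, 3, 2, 2, 2, 3, 5, 5, 5, 5, 4, 5, 8, 8, 6, 10],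
   [2, 3, 2, 2, 2, 3, 4, 4, 5, 4, 5, 8, 9, 6, 6],
   [3, 3, 3, 3, 3, 3, 4, 4, 4, 4, 5, 4, 4, 7, 7, 9, 6],
   [2, 2, 3, 2, 2, 2, 5, 4, 5, 7, 9, 8, 7, 10, 10],
   [3, 2, 3, 2, 2, 5, 4, 4, 5, 4, 5, 4, 6, 8, 9, 7, 10, 10],
   [2, 3, 2, 3, 3, 3, 3, 5, 4, 5, 4, 5, 5, 6, 9, 6, 6, 10, 10],
   [3, 2, 2, 2, 3, 3, 2, 4, 4, 9, 7, 9, 6, 10],
   [2, 2, 2, 2, 2, 4, 5, 4, 5, 6, 6, 9],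
   [3, 3, 2, 3, 3, 4, 5, 4, 5, 5, 4, 6, 9, 6, 7, 10, 10],
   [3, 3, 3, 2, 2, 4, 5, 4, 5, 5, 4, 5, 5, 6, 9, 6, 7, 10, 10],
   [3, 3, 3, 2, 3, 4, 5, 5, 5, 4, 5, 4, 7, 8, 9, 7],
   [3, 3, 3, 3, 2, 2, 2, 5, 5, 5, 5, 4, 5, 9, 6, 9, 10, 10],
   [2, 2, 3, 2, 3, 3, 3, 3, 3, 4, 5, 4, 4, 5, 4, 4, 9, 6, 7],
   [2, 2, 2, 2, 2, 2, 2, 5, 4, 7, 9, 7],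
   [2, 2, 2, 2, 3, 2, 3, 4, 4, 5, 5, 4, 4, 4, 6, 9, 6, 7, 10],
   [3, 2, 3, 3, 3, 2, 2, 2, 4, 4, 4, 5, 4, 5, 9, 8, 7, 9, 10],
   [3, 2, 2, 2, 5, 5, 5, 5, 4, 5, 7, 9, 6, 6, 10],
   [2, 2, 3, 2, 3, 3, 3, 3, 3, 5, 4, 5, 4, 4, 8, 9, 6, 6],
   [2, 3, 3, 3, 3, 4, 5, 4, 5, 7, 7, 10],
   [3, 3, 3, 3, 2, 3, 3, 5, 4, 4, 9, 8, 6],
   [2, 3, 3, 3, 5, 4, 5, 4, 6, 9, 6, 10],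
   [2, 3, 3, 2, 3, 2, 5, 8, 9, 10, 10],
   [2, 2, 3, 3, 2, 3, 2, 4, 4, 5, 5, 5, 5, 4, 5, 4, 9, 6, 10],
   [2, 2, 2, 3, 2, 3, 3, 2, 4, 5, 4, 4, 9, 6, 9, 10, 10],
   [2, 2, 2, 2, 5, 4, 5, 5, 9, 6, 7, 10, 10],
   [2, 2, 3, 3, 2, 3, 3, 4, 5, 5, 4, 5, 5, 7, 8, 9, 10],
   [3, 3, 2, 5, 5, 4, 4, 8, 6],
   [3, 3, 2, 3, 2, 2, 4, 5, 8, 7, 7, 6, 10, 10],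
   [3, 2, 2, 2, 2, 2, 3, 3, 5, 5, 4, 5, 4, 4, 4, 8, 9, 6, 6],
   [2, 3, 3, 3, 2, 3, 2, 5, 5, 5, 5, 4, 5, 4, 9, 7, 7, 6, 10],
   [3, 3, 2, 2, 4, 5, 4, 9, 7, 8, 6, 10],
   [3, 2, 2, 3, 2, 3, 5, 4, 5, 4, 5, 4, 5, 7, 8, 6, 10, 10],
   [2, 2, 2, 2, 3, 3, 5, 4, 5, 5, 5, 5, 9, 6],
   [3, 3, 2, 2, 2, 2, 2, 2, 3, 3, 4, 4, 5, 4, 5, 4, 5, 6, 6, 9, 6, 6, 10, 10],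
   [2, 3, 2, 2, 3, 2, 3, 3, 2, 4, 5, 4, 5, 4, 5, 9, 8, 6, 6],
   [3, 3, 3, 3, 8, 9, 7, 6, 10, 10],
   [2, 3, 2, 3, 3, 2, 4, 4, 5, 5, 5, 7, 7, 6],
   [3, 3, 2, 2, 5, 5, 5, 4, 4, 4, 7, 6, 6, 10, 10],
   [5, 5, 5, 4, 5, 4, 4, 4, 7, 7, 9, 6, 10],
   [2, 2, 2, 3, 4, 4, 5, 7, 9, 8, 6, 10],
   [2, 3, 3, 2, 2, 2, 4, 4, 4, 5, 5, 5, 4, 6, 6, 9, 6, 6, 10, 10],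
   [3, 2, 2, 2, 5, 5, 4, 5, 5, 4, 4, 4, 9, 7, 8, 6, 10],
   [3, 2, 2, 2, 3, 3, 2, 2, 5, 5, 5, 4, 5, 5, 4, 6, 8, 6, 6],
   [3, 2, 3, 2, 4, 4, 5, 4, 5, 4, 8, 9, 7],
   [2, 2, 3, 2, 3, 3, 3, 3, 4, 5, 4, 4, 7, 9, 6, 10],
   [3, 2, 2, 2, 3, 3, 2, 5, 5, 5, 4, 5, 4, 6, 9, 6, 7],
   [3, 3, 2, 2, 2, 2, 2, 2, 2, 4, 5, 9, 7, 6, 10, 10],
   [2, 3, 2, 3, 3, 3, 3, 3, 5, 4, 5, 5, 5, 5, 7, 9, 7, 6],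
   [2, 2, 2, 2, 2, 2, 3, 3, 4, 4, 5, 4, 7, 8, 6, 10, 10],
   [2, 3, 3, 2, 3, 2, 4, 4, 5, 4, 5, 4, 8, 7, 7, 6, 10],
   [2, 2, 2, 3, 3, 4, 4, 4, 4, 5, 4, 5, 7, 7, 9, 10],
   [2, 2, 3, 2, 3, 3, 3, 3, 5, 4, 4, 5, 4, 9, 6, 7, 10],
   [2, 3, 3, 2, 3, 4, 5, 5, 4, 5, 5, 7, 8, 6, 10, 10],
   [2, 2, 2, 3, 2, 2, 2, 5, 4, 5, 4, 4, 7, 6, 6, 10],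
   [3, 3, 2, 3, 3, 2, 2, 5, 5, 5, 5, 4, 5, 4, 8, 7, 9, 7, 10],
   [2, 3, 2, 3, 2, 3, 5, 5, 4, 5, 5, 5, 4, 6, 9, 6, 6],
   [2, 2, 3, 5, 4, 4, 5, 4, 5, 4, 8, 6, 6],
   [2, 2, 2, 2, 2, 3, 2, 3, 5, 5, 4, 4, 6, 10],
   [3, 2, 2, 2, 3, 5, 4, 5, 4, 5, 4, 5, 6, 6, 9],
   [2, 2, 2, 3, 3, 3, 2, 3, 2, 5, 4, 5, 5, 5, 5, 7, 7, 9, 10, 10],
   [2, 3, 3, 2, 2, 3, 3, 2, 4, 4, 4, 5, 5, 5, 4, 6, 8, 6, 6, 10, 10],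
   [3, 2, 2, 3, 3, 2, 2, 4, 5, 4, 5, 5, 4, 9, 7, 9, 6],
   [2, 3, 2, 3, 3, 3, 3, 4, 4, 4, 5, 5, 5, 4, 8, 9, 7],
   [2, 2, 3, 5, 5, 4, 4, 4, 8, 6, 6, 9],
   [3, 2, 2, 2, 3, 2, 3, 4, 5, 5, 5, 5, 4, 5, 4, 8, 6, 6, 10, 10],
   [2, 3, 2, 2, 2, 2, 2, 2, 2, 4, 4, 4, 5, 4, 5, 6, 9, 6, 6],
   [3, 3, 2, 2, 2, 5, 4, 5, 5, 5, 4, 9, 8, 7, 9],
   [2, 2, 2, 2, 2, 3, 2, 2, 4, 4, 5, 4, 5, 5, 9, 8, 7, 10],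
   [3, 3, 2, 2, 3, 2, 2, 4, 4, 5, 5, 5, 7, 10],
   [3, 2, 2, 2, 2, 2, 2, 3, 3, 4, 4, 5, 5, 5, 9, 7, 6, 10],
   [2, 3, 3, 3, 3, 2, 3, 4, 5, 5, 5, 5, 8, 6, 10, 10],
   [2, 3, 3, 2, 2, 4, 5, 4, 5, 4, 6, 8, 9, 7, 10, 10],
   [3, 2, 2, 3, 3, 2, 5, 4, 4, 5, 4, 4, 4, 6, 9],
   [3, 3, 2, 3, 3, 3, 3, 4, 5, 5, 5, 4, 5, 4, 8, 7, 9],
   [3, 3, 2, 2, 2, 3, 4, 4, 5, 4, 4, 9, 8, 6, 6, 10, 10],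
   [2, 2, 2, 2, 3, 4, 5, 4, 5, 5, 4, 4, 4, 9, 6, 6, 10],
   [3, 2, 3, 3, 2, 2, 5, 4, 4, 5, 5, 4, 4, 4, 6, 6],
   [2, 2, 3, 2, 3, 10],
   [2, 2, 2, 3, 3, 2, 2, 4, 5, 5, 4, 5, 5, 4, 7, 8, 9, 10, 10],
   [2, 3, 3, 2, 2, 2, 4, 5, 5, 4, 5, 5, 4, 9, 7, 7, 6],
   [3, 3, 2, 3, 2, 3, 4, 4, 5, 4, 4, 6, 9, 10],
   [2, 3, 3, 2, 3, 3, 5, 5, 5, 4, 10, 10],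
   [2, 2, 2, 2, 2, 2, 2, 4, 5, 5, 5, 4, 5, 5, 4, 9, 8, 7],
   [2, 2, 3, 2, 3, 3, 3, 3, 3, 5, 4, 4, 5, 4, 6, 6, 10, 10],
   [3, 4, 5, 5, 5, 4, 5, 5, 4, 7, 7, 6],
   [3, 3, 2, 3, 3, 3, 5, 5, 4, 4, 8, 7, 9, 7, 10, 10],
   [3, 2, 2, 2, 3, 4, 5, 5, 5, 4, 5, 4, 9, 7, 9, 6, 10, 10],
   [3, 2, 2, 3, 3, 2, 4, 5, 5, 4, 5, 6, 6, 9, 6, 6, 10, 10],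
   [2, 2, 2, 2, 2, 2, 3, 4, 4, 5, 4, 5, 5, 4, 7, 6, 6],
   [2, 3, 2, 2, 3, 3, 2, 2, 4, 5, 8, 7, 9, 7, 10, 10],
   [2, 3, 5, 5, 5, 5, 4, 5, 9, 7],
   [3, 2, 2, 2, 3, 3, 2, 4, 5, 4, 5, 5, 6, 9, 6, 10, 10],
   [3, 2, 3, 2, 3, 5, 4, 4, 5, 4, 8, 9, 6, 6],
   [2, 3, 3, 3, 3, 2, 3, 4, 4, 5, 4, 9, 7, 6, 6],
   [2, 3, 3, 2, 4, 4, 5, 5, 5, 8, 9, 7, 10],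
   [2, 2, 2, 3, 3, 2, 5, 5, 4, 5, 5, 4, 4, 4, 8, 9, 7, 6],
   [2, 3, 3, 2, 3, 2, 3, 2, 3, 5, 5, 4, 6, 6],
   [3, 2, 3, 5, 5, 5, 4, 5, 4, 7, 9, 10],
   [3, 2, 3, 2, 3, 3, 3, 3, 4, 5, 5, 4, 6, 9, 6, 7],
   [3, 3, 3, 3, 2, 3, 5, 4, 5, 5, 9, 6, 9, 10, 10],
   [2, 2, 2, 2, 2, 3, 2, 2, 5, 5, 5, 4, 7, 9, 8, 6, 10, 10],
   [3, 2, 2, 2, 2, 2, 3, 3, 5, 5, 4, 4, 7, 7, 6],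
   [2, 2, 3, 3, 3, 5, 5, 5, 4, 4, 4, 6, 9, 10],
   [3, 3, 3, 3, 3, 5, 4, 5, 4, 5, 5, 7, 6, 6],
   [2, 2, 3, 3, 3, 5, 5, 4, 5, 5, 5, 4, 8, 7, 7, 6],
   [3, 3, 3, 3, 2, 3, 2, 5, 5, 4, 5, 4, 4, 4, 9, 6, 6, 10],
   [2, 3, 3, 3, 2, 3, 3, 4, 5, 5, 5, 4, 5, 5, 4, 9, 7, 9, 6, 10, 10],
   [3, 2, 2, 2, 3, 5, 4, 5, 8, 7, 9, 7, 10],
   [3, 2, 2, 2, 3, 2, 2, 5, 5, 4, 5, 4, 6, 10, 10],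
   [3, 2, 3, 2, 3, 3, 3, 3, 5, 4, 5, 4, 5, 8, 9, 6, 6, 10],
   [2, 3, 2, 3, 3, 3, 2, 2, 2, 5, 5, 4, 5, 6, 9, 8, 6, 6, 10],
   [2, 2, 2, 3, 3, 2, 2, 5, 4, 4, 5, 4, 4, 9, 6, 9, 10, 10],
   [3, 2, 3, 3, 2, 3, 3, 2, 2, 4, 5, 4, 4, 4, 8, 9, 7, 6, 10, 10],
   [2, 3, 3, 2, 2, 3, 3, 2, 5, 4, 4, 5, 4, 4, 8, 9, 6, 6, 10],
   [3, 3, 3, 2, 2, 2, 4, 4, 5, 4, 6, 9, 7, 8, 6],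
   [3, 2, 3, 4, 5, 4, 5, 5, 7, 8, 9, 10, 10],
   [3, 3, 2, 3, 3, 3, 5, 5, 5, 5, 4, 5, 6, 9, 6, 6, 10, 10],
   [3, 3, 3, 2, 2, 2, 3, 5, 5, 4, 4, 4, 7, 8, 9],
   [3, 3, 3, 2, 3, 2, 3, 4, 4, 5, 5, 4, 4, 4, 6, 6, 10],
   [2, 3, 2, 3, 2, 5, 5, 5, 5, 4, 5, 6, 8, 9, 7, 10],
   [2, 2, 3, 3, 3, 4, 5, 5, 4, 5, 7, 9, 7, 6],
   [2, 2, 3, 2, 3, 3, 3, 3, 3, 5, 5, 4, 5, 4, 5, 5, 8, 7, 10],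
   [3, 2, 3, 3, 3, 3, 3, 5, 5, 4, 9, 6, 9, 10, 10],
   [3, 2, 3, 2, 2, 4, 5, 5, 5, 4, 5, 9, 6, 7, 10],
   [2, 3, 2, 2, 2, 2, 2, 2, 2, 4, 5, 5, 5, 4, 5, 6, 9, 6],
   [3, 3, 3, 3, 3, 4, 4, 5, 5, 5, 4, 8, 7, 9, 10, 10],
   [3, 3, 2, 2, 3, 2, 2, 4, 5, 4, 5, 9, 8, 6, 6],
   [3, 3, 3, 3, 2, 3, 2, 3, 5, 4, 5, 5, 5, 4, 7, 8, 6, 10, 10],
   [2, 2, 2, 3, 5, 5, 4, 6, 10],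
   [2, 3, 3, 2, 3, 3, 3, 4, 4, 5, 4, 6, 6, 9, 6, 6],
   [2, 2, 2, 3, 2, 2, 4, 5, 4, 5, 4, 7, 9],
   [2, 3, 3, 2, 3, 5, 4, 4, 9, 7, 9, 10],
   [2, 3, 3, 2, 3, 3, 3, 4, 4, 5, 4, 4, 4, 8, 9, 7, 10],
   [3, 2, 3, 3, 3, 2, 2, 2, 4, 4, 5, 6, 9, 6, 7, 10],
   [2, 2, 2, 2, 3, 2, 3, 5, 5, 4, 5, 4, 4, 4, 7, 8, 9, 7],
   [2, 3, 3, 3, 3, 3, 5, 5, 4, 4, 4, 8, 6, 6, 10, 10],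
   [2, 2, 2, 2, 2, 2, 3, 3, 5, 4, 9, 7, 7, 6, 10, 10],
   [3, 3, 3, 4, 5, 4, 5, 5, 5, 4, 8, 7],
   [2, 2, 2, 3, 2, 2, 4, 5, 5, 5, 8, 7, 7, 6],
   [3, 2, 2, 3, 3, 2, 2, 5, 4, 4, 4, 5, 4, 7, 9, 10],
   [3, 3, 2, 3, 2, 2, 4, 5, 5, 5, 5, 4, 5, 4, 9, 8, 6, 6, 10],
   [2, 2, 3, 2, 3, 3, 3, 3, 4, 5, 4, 5, 5, 4, 5, 5, 7, 6, 10],
   [3, 3, 3, 2, 2, 2, 3, 4, 4, 5, 6, 9, 8, 6],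
   [2, 2, 2, 3, 3, 2, 4, 5, 5, 4, 4, 4, 9, 6, 9, 10],
   [3, 2, 2, 2, 2, 5, 5, 5, 4, 5, 4, 4, 4, 7, 6],
   [3, 3, 2, 3, 2, 2, 5, 5, 4, 5, 5, 7, 7, 6, 10, 10],
   [2, 2, 2, 2, 3, 3, 5, 4, 4, 5, 5, 5, 8, 7, 7, 6, 10, 10]]

/-- Images of the first element. -/
def jxL : List ℕ := [0, 4, 153, 34, 14, 46, 123, 148, 84, 205, 171, 60, 41, 140, 1, 9, 111, 27, 99, 52, 178, 78, 47, 223, 6, 116, 48, 57, 161, 59, 186, 136, 58, 3, 33, 72, 226, 62, 194, 189, 77, 137, 273, 18, 64, 168, 195, 107, 114, 187, 20, 182, 74, 245, 244, 70, 68, 17, 75, 184, 167, 253, 196, 180, 67, 250, 66, 44, 154, 65, 232, 179, 224, 237, 19, 32, 188, 156, 131, 16, 80, 129, 89, 82, 91, 119, 208, 101,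 31, 83, 242, 8, 39, 38, 51, 215, 25, 28, 122, 43, 118, 256, 152, 103, 13, 200, 206, 22, 10, 198, 30, 79, 149, 95, 26, 202, 96, 23, 130, 145, 2, 125, 262, 24, 138, 150, 222, 174, 172, 263, 100, 21, 132, 219, 128, 199, 88, 12, 255, 112, 104, 102, 268, 86, 109, 85, 238, 45, 164, 139, 121, 190, 141, 120, 56, 157, 40, 229, 243, 71, 212, 97, 54, 163, 7, 271, 133, 11, 147, 127, 217, 108, 134, 218, 169, 165, 261, 170, 50, 159, 201, 146, 94, 61, 29, 239, 110, 213, 231, 92, 266, 227, 158, 254, 93, 5, 37, 105, 144, 241, 197, 63, 272, 160, 142, 15, 236, 225, 143, 176, 193, 252, 203, 49, 36, 113, 216, 177, 220, 166, 173, 221, 267, 117, 35, 260, 214, 246, 247, 155, 73, 76,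 55, 53, 234, 240, 106, 230, 181, 248, 249, 135, 265, 192, 162, 233, 191, 269, 185, 235, 69, 251, 274, 183, 210, 124, 87, 257, 42, 259, 207, 209, 98, 81, 264, 90, 151, 126, 204, 228, 270, 175, 115, 258, 211]

/-- Images of the second element. -/
def jyL : List ℕ := [0, 1, 41, 60, 4, 27, 46, 78, 99, 205, 34, 171, 178, 148, 14, 9, 111, 123, 52, 84, 153, 140, 64, 231, 5, 26, 102, 24, 82, 29, 30, 32, 38, 11, 167, 70, 218, 97, 31, 172, 150, 50, 227, 19, 56, 147, 57, 67, 152, 54, 2, 100, 91, 199, 255, 109, 107, 6, 194, 59, 108, 229, 28, 165, 68, 238, 66, 154, 22, 146, 198, 92, 232, 226, 8, 93, 95, 121, 104, 16, 132, 61, 62, 37, 43, 40, 243, 170, 75, 196, 222, 18, 128,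 88, 130, 223, 114, 83, 86, 74, 127, 217, 25, 103, 7, 201, 206, 44, 3, 224, 110, 79, 139, 23, 141, 254, 48, 188, 174, 77, 12, 119, 208, 195, 187, 145, 268, 51, 71, 253, 169, 13, 163, 250, 159, 239, 58, 20, 213, 149, 164, 96, 242, 158, 72, 156, 219, 168, 131, 112, 85, 101, 116, 137, 47, 129, 125, 263, 262, 189, 273, 89, 138, 80, 21, 200, 65, 10, 45, 94, 266, 33, 179, 237, 182, 105, 202, 190, 120, 39, 271, 133, 118, 157, 184, 245, 186, 244, 215, 134, 256, 212, 122, 261, 136, 17, 161, 180, 35, 248, 63, 175, 210, 42, 90, 15, 236, 235, 192, 115, 176, 207, 258, 162, 173, 117, 216, 151, 230, 69, 73, 251, 204, 76, 55, 240, 220, 203, 269, 81, 36, 113, 144, 135, 259, 211,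 106, 214, 166, 233, 252, 185, 267, 98, 124, 241, 160, 228, 53, 274, 181, 257, 225, 155, 209, 49, 177, 221, 191, 264, 249, 272, 143, 183, 234, 126, 87, 142, 265, 247, 270, 197, 193, 246, 260]

/-- The exponents. -/
def kL : List ℕ := [1, 0, 0, 0, 2, 1, 1, 0, 2, 2, 1, 2, 0, 0, 1, 1, 2, 2, 2, 1, 1, 1, 1, 1, 2, 2, 1, 1, 2, 1, 0, 1, 2, 2, 1, 2, 0, 0, 1, 2, 1, 0, 1, 1, 0, 0, 2, 2, 0, 2, 0, 1, 2, 1, 2, 2, 1, 1, 2, 0, 2, 0, 0, 0, 1, 2, 0, 0, 0, 2, 0, 1, 2, 0, 1, 1, 0, 1, 1, 1, 1, 2, 1, 1, 0, 2, 2, 2, 2, 2, 2, 0, 0, 0, 2, 2, 0, 1, 2, 0, 0, 1, 2, 2, 1, 2, 1, 0, 0, 0, 2, 0, 1, 2, 2, 1, 1, 0, 1, 1, 0, 2, 0, 0, 0, 2, 0, 1, 2, 1, 2, 1, 2, 2, 1, 1, 2, 0, 2, 2, 2, 0, 0, 0,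 0, 1, 2, 2, 0, 0, 0, 2, 1, 2, 1, 2, 2, 0, 2, 1, 2, 1, 0, 0, 0, 1, 1, 0, 1, 2, 2, 1, 0, 1, 2, 0, 1, 0, 0, 2, 0, 2, 1, 1, 2, 2, 1, 2, 0, 0, 1, 0, 2, 2, 1, 2, 1, 2, 1, 2, 1, 0, 0, 2, 0, 0, 2, 0, 1, 2, 2, 1, 1, 1, 0, 2, 0, 0, 2, 2, 0, 0, 1, 2, 0, 1, 1, 0, 2, 1, 2, 0, 2, 2, 2, 1, 0, 0, 1, 1, 0, 2, 2, 1, 1, 0, 0, 1, 1, 1, 1, 1, 2, 2, 2, 2, 1, 2, 2, 2, 2, 2, 2, 0, 2, 1, 0, 0, 0, 0, 1, 0, 0, 1, 1]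

end Cfsg.Agent.MultiplierMcL
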