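import Cfsg.Agent.Lib.MultiplierMcL.Group
import Cfsg.Agent.Lib.MultiplierMcL.DataCover
import Cfsg.Agent.Lib.MultiplierMcL.DataCoverChain
import Cfsg.Agent.Lib.MultiplierMcL.DataRows
import Cfsg.Agent.Lib.PcCover.Transfer

/-!
# The triple cover of the McLaughlin group

* `coverGroup` : a triple cover of a point stabiliser, as pairs of permutations
* `exists_triple_cover` : its transfer is a stem extension with kernel of order 3
-/

set_option autoImplicit false
set_option maxRecDepth 100000
set_option Elab.async false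
set_option linter.style.haveILetI false

open Cfsg

namespace Cfsg.Agent.MultiplierMcL

open Cfsg.Agent.StabCert

/-- A cover point by number. -/
def mPt (i : ℕ) : Fin 378 := Fin.ofNat 378 i

theorem mTab_ok : ((List.range 12).all fun k => tableOK 9 378 (mTab.getD k 0) &&
    distinctFrom ((List.range 378).map (look 9 (mTab.getD k 0))) 0) = true := by decide +kernel

theorem mPt_injOn : Set.InjOn mPt {i | i < 378} := fun i hi j hj e => by
  simpa [mPt, Nat.mod_eq_of_lt hi, Nat.mod_eq_of_lt hj] using congrArg Fin.val e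

theorem mTab_spec {k : ℕ} (hk : k < 12) : (∀ i < 378, look 9 (mTab.getD k 0) i < 378) ∧
    Function.Injective fun x : Fin 378 => mPt (look 9 (mTab.getD k 0) x.val) := by
  have h := mTab_ok
  simp only [tableOK, List.all_eq_true, Bool.and_eq_true, List.mem_range, Nat.blt_eq] at h
  obtain ⟨h1, h2⟩ := h k hk
  refine ⟨h1, fun x y e => ?_⟩
  have e' := mPt_injOn (h1 _ x.isLt) (h1 _ y.isLt) e
  exact Fin.ext (List.inj_on_of_nodup_map (distinctFrom_spec _ _ h2).1 (List.mem_range.2 x.isLt)
    (List.mem_range.2 y.isLt) e')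

/-- The permutation of a letter on the cover points. -/
noncomputable def mPerm (k : ℕ) : Equiv.Perm (Fin 378) :=
  if h : k < 12 then Equiv.ofBijective _
    ⟨(mTab_spec h).2, Finite.surjective_of_injective (mTab_spec h).2⟩ else 1

theorem mPerm_apply {k : ℕ} (hk : k < 12) (x : Fin 378) :
    mPerm k x = mPt (look 9 (mTab.getD k 0) x.val) := by rw [mPerm, dif_pos hk]; rfl

/-- The ambient group of pairs. -/
abbrev Amb : Type := mclPerm × Equiv.Perm (Fin 378)

/-- A letter as a pair; the first two letters are not used. -/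
noncomputable def pEl (k : ℕ) : Amb := if 2 ≤ k then (gEl k, mPerm k) else 1

/-- Pairs act on both kinds of points. -/
noncomputable def rho : Amb →* Equiv.Perm (Fin 275 ⊕ Fin 378) :=
  (Equiv.Perm.sumCongrHom (Fin 275) (Fin 378)).comp (mclPerm.subtype.prodMap (MonoidHom.id _))

theorem rho_injective : Function.Injective rho :=
  Equiv.Perm.sumCongrHom_injective.comp (Subtype.val_injective.prodMap fun _ _ h => h)

/-- A point of either kind by number. -/
def pPt (i : ℕ) : Fin 275 ⊕ Fin 378 := if i < 275 then Sum.inl (gPt i) else Sum.inr (mPt (i - 275))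

theorem pPt_injOn : Set.InjOn pPt {i | i < 653} := by
  intro i hi j hj e
  have hi' : i < 653 := hi
  have hj' : j < 653 := hj
  rw [pPt, pPt] at e
  split_ifs at e with a b b
  · exact gPt_injOn a b (Sum.inl_injective e)
  · have := mPt_injOn (show i - 275 < 378 by omega) (show j - 275 < 378 by omega)
      (Sum.inr_injective e)
    omega

theorem pTab_ok : ((List.range 12).all fun k => (List.range 653).all fun i =>
    Nat.beq (look 10 (pTab.getD k 0) i)
      (bif Nat.blt k 2 then i else bif Nat.blt i 275 then look 9 (gTab.getD k 0) i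
        else Nat.add 275 (look 9 (mTab.getD k 0) (Nat.sub i 275)))) = true := by decide +kernel

theorem pEl_sound : TablesSound rho pEl pPt 10 653 12 pTab := by
  intro k hk i hi
  have h := pTab_ok
  simp only [List.all_eq_true, List.mem_range, Nat.beq_eq] at h
  rw [h k hk i hi]
  by_cases h2 : k < 2
  · rw [show Nat.blt k 2 = true by rw [Nat.blt_eq]; exact h2, cond_true]
    exact ⟨hi, by rw [pEl, if_neg (by omega), map_one]; rfl⟩
  rw [show Nat.blt k 2 = false by rw [Bool.eq_false_iff, ne_eq, Nat.blt_eq]; exact h2, cond_false]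
  by_cases h275 : i < 275
  · rw [show Nat.blt i 275 = true by rw [Nat.blt_eq]; exact h275, cond_true]
    obtain ⟨h1, h2'⟩ := gEl_sound k hk i h275
    refine ⟨h1.trans (by norm_num), ?_⟩
    rw [pEl, if_pos (by omega)]
    simp only [pPt, if_pos h275, if_pos h1]
    show Sum.inl ((gEl k : Equiv.Perm (Fin 275)) (gPt i)) = _
    exact congrArg Sum.inl h2'
  · rw [show Nat.blt i 275 = false by rw [Bool.eq_false_iff, ne_eq, Nat.blt_eq]; exact h275,
      cond_false]
    have h1 := (mTab_spec hk).1 (i - 275) (by omega)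
    refine ⟨show 275 + look 9 (mTab.getD k 0) (i - 275) < 653 by omega, ?_⟩
    rw [pEl, if_pos (by omega)]
    show _ = pPt (275 + look 9 (mTab.getD k 0) (i - 275))
    simp only [pPt, if_neg h275, if_neg (show ¬(275 + look 9 (mTab.getD k 0) (i - 275) < 275) by omega),
      Nat.add_sub_cancel_left]
    show Sum.inr (mPerm k (mPt (i - 275))) = _
    rw [mPerm_apply hk, show (mPt (i - 275)).val = i - 275 from Nat.mod_eq_of_lt (by omega)]

theorem pNb_ok : nbOK 653 pNb pMk = true := by decide +kernel

theorem pRel0 : relInv 10 653 (pTab.getD 0 0) pNb pMk = true := by decide +kernel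

theorem pRel1 : relInv 10 653 (pTab.getD 1 0) pNb pMk = true := by decide +kernel

theorem pRel2 : relInv 10 653 (pTab.getD 2 0) pNb pMk = true := by decide +kernel

theorem pRel3 : relInv 10 653 (pTab.getD 3 0) pNb pMk = true := by decide +kernel

theorem pRel4 : relInv 10 653 (pTab.getD 4 0) pNb pMk = true := by decide +kernel

theorem pRel5 : relInv 10 653 (pTab.getD 5 0) pNb pMk = true := by decide +kernel

theorem pRel6 : relInv 10 653 (pTab.getD 6 0) pNb pMk = true := by decide +kernel

theorem pRel7 : relInv 10 653 (pTab.getD 7 0) pNb pMk = true := by decide +kernel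

theorem pRel8 : relInv 10 653 (pTab.getD 8 0) pNb pMk = true := by decide +kernel

theorem pRel9 : relInv 10 653 (pTab.getD 9 0) pNb pMk = true := by decide +kernel

theorem pRel10 : relInv 10 653 (pTab.getD 10 0) pNb pMk = true := by decide +kernel

theorem pRel11 : relInv 10 653 (pTab.getD 11 0) pNb pMk = true := by decide +kernel

theorem pRel_ok : ∀ k < 12, relInv 10 653 (pTab.getD k 0) pNb pMk = true := fun k hk =>
  match k, hk with
  | 0, _ => pRel0
  | 1, _ => pRel1
  | 2, _ => pRel2
  | 3, _ => pRel3
  | 4, _ => pRel4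
  | 5, _ => pRel5
  | 6, _ => pRel6
  | 7, _ => pRel7
  | 8, _ => pRel8
  | 9, _ => pRel9
  | 10, _ => pRel10
  | 11, _ => pRel11
  | k + 12, h => absurd h (Nat.not_lt.2 (Nat.le_add_left 12 k))

theorem pSteps_pre : stepsPre 653 pMk (maskL pBase) (pSteps.take 340) = true := by decide +kernel

theorem pSteps_post :
    stepsOK 653 pMk (known (maskL pBase) (pSteps.take 340)) (pSteps.drop 340) = true := by
  decide +kernel

theorem pBase_ok : (pBase.all fun β => Nat.blt β 653) = true := by decide +kernel

theorem pSteps_ok : (stepsOK 653 pMk (maskL pBase) pSteps &&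
    pBase.all fun β => Nat.blt β 653) = true := by
  rw [Bool.and_eq_true]
  refine ⟨?_, pBase_ok⟩
  rw [← List.take_append_drop 340 pSteps]
  exact stepsOK_append _ _ _ _ _ pSteps_pre pSteps_post

theorem pBase_lt : ∀ β ∈ pBase, β < 653 := by
  have h := pSteps_ok
  simp only [Bool.and_eq_true, List.all_eq_true, Nat.blt_eq] at h
  exact h.2

theorem pPt_surj (x : Fin 275 ⊕ Fin 378) : ∃ i < 653, pPt i = x := by
  rcases x with a | b
  · exact ⟨a.val, by omega, by rw [pPt, if_pos a.isLt, gPt_val]⟩
  · exact ⟨275 + b.val, by omega, by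
      rw [pPt, if_neg (by omega), Nat.add_sub_cancel_left]
      exact congrArg Sum.inr (Fin.ext (Nat.mod_eq_of_lt b.isLt))⟩

theorem pEl_det : ∀ g ∈ sub pEl (List.range 12),
    (∀ β ∈ pBase, rho g (pPt β) = pPt β) → g = 1 := fun g hg h => by
  have hs := pSteps_ok
  simp only [Bool.and_eq_true] at hs
  have hr := pRel_ok
  exact det_of_steps pEl_sound pPt_injOn pNb_ok hr hs.1 rho_injective pPt_surj hg h

theorem pChain_ok :
    chainOK 10 653 12 pTab pBase [pLev0, pLev1, pLev2, pLev3, pLev4] = true := by decide +kernel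

theorem gens_facts : (pLev0.gens == gLev1.gens ++ [11] && pLev0.gens.all (fun k => Nat.ble 2 k && Nat.blt k 12) &&
    pLev0.gens.all (fun k => Nat.beq (look 9 (gTab.getD k 0) 0) 0)) = true := by decide +kernel

/-- The triple cover of the point stabiliser. -/
noncomputable def coverGroup : Subgroup Amb := sub pEl pLev0.gens

theorem natCard_coverGroup : Nat.card coverGroup = 3 * 3265920 := by
  have h := (chain_spec pEl_sound pPt_injOn pBase_lt pEl_det _ pChain_ok).2.1
  exact h.trans (by decide +kernel)

/-- The projection. -/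
noncomputable def coverProj : coverGroup →* mclPerm :=
  (MonoidHom.fst _ _).comp coverGroup.subtype

theorem coverProj_mk {k : ℕ} (hk : k ∈ pLev0.gens) :
    coverProj ⟨pEl k, gen_mem_sub pEl hk⟩ = gEl k := by
  have h := gens_facts
  simp only [Bool.and_eq_true, List.all_eq_true, Nat.ble_eq] at h
  show (pEl k).1 = _
  rw [pEl, if_pos (h.1.2 k hk).1]

theorem range_coverProj : coverProj.range = sub gEl pLev0.gens := by
  rw [coverProj, MonoidHom.range_comp, Subgroup.range_subtype, coverGroup, sub,
    MonoidHom.map_closure, ← Set.image_comp, sub]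
  refine congrArg _ (Set.image_congr fun k hk => ?_)
  exact coverProj_mk hk

theorem range_fix {g : mclPerm} (hg : g ∈ coverProj.range) : (g : Equiv.Perm (Fin 275)) (gPt 0) = gPt 0 := by
  have h := gens_facts
  simp only [Bool.and_eq_true, List.all_eq_true, Nat.beq_eq, Nat.blt_eq] at h
  have hle : sub gEl pLev0.gens ≤
      (MulAction.stabilizer (Equiv.Perm (Fin 275)) (gPt 0)).comap mclPerm.subtype := by
    rw [sub, Subgroup.closure_le]
    rintro _ ⟨k, hk, rfl⟩
    have := (gEl_sound k (h.1.2 k hk).2 0 (by norm_num)).2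
    rw [h.2 k hk] at this
    exact this
  exact hle (range_coverProj ▸ hg)

theorem natCard_range : Nat.card coverProj.range = 3265920 := by
  have h := gens_facts
  simp only [Bool.and_eq_true, beq_iff_eq] at h
  rw [range_coverProj, ← natCard_sub_tail, h.1.1]
  have e : sub gEl (gLev1.gens ++ [11]) = sub gEl gLev1.gens := by
    refine le_antisymm ?_ (Subgroup.closure_mono (Set.image_mono fun k hk => List.mem_append_left _ hk))
    rw [sub, Subgroup.closure_le]
    rintro _ ⟨k, hk, rfl⟩
    rcases List.mem_append.1 hk with hk | hk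
    · exact gen_mem_sub gEl hk
    · rw [List.mem_singleton.1 hk, gEl_eleven]; exact one_mem _
  rw [e]

theorem natCard_ker : Nat.card coverProj.ker = 3 := by
  have h := coverProj.ker.card_mul_index
  rw [Subgroup.index_ker, natCard_range, natCard_coverGroup] at h
  exact Nat.eq_of_mul_eq_mul_right (by norm_num) h

/-- The words are over the generators of the cover. -/
def inGens (l : List ℕ) : Bool := l.all fun k => pLev0.gens.contains k

/-- The element of a word in the cover. -/
noncomputable def cEl (l : List ℕ) : coverGroup :=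
  if h : inGens l = true then ⟨wordEl pEl l, wordEl_mem pEl fun k hk =>
    List.contains_iff_mem.1 (List.all_eq_true.1 h k hk)⟩ else 1

theorem inGens_lt {l : List ℕ} (h : inGens l = true) : ∀ k ∈ l, 2 ≤ k ∧ k < 12 := fun k hk => by
  have hf := gens_facts
  simp only [Bool.and_eq_true, List.all_eq_true, Nat.blt_eq, Nat.ble_eq] at hf
  exact hf.1.2 k (List.contains_iff_mem.1 (List.all_eq_true.1 h k hk))

theorem cEl_coe {l : List ℕ} (h : inGens l = true) : (cEl l : Amb) = wordEl pEl l := by
  rw [cEl, dif_pos h]

theorem coverProj_cEl {l : List ℕ} (h : inGens l = true) : coverProj (cEl l) = wordEl gEl l := by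
  show (cEl l : Amb).1 = _
  rw [cEl_coe h, show (wordEl pEl l).1 = MonoidHom.fst _ _ (wordEl pEl l) from rfl, wordEl,
    map_list_prod, List.map_map, wordEl]
  refine congrArg List.prod (List.map_congr_left fun k hk => ?_)
  show (pEl k).1 = _
  rw [pEl, if_pos (inGens_lt h k hk).1]

theorem cEl_agree {u v : List ℕ} (hu : inGens u = true) (hv : inGens v = true)
    (h : agreeB 10 pTab pBase u v = true) : cEl u = cEl v := by
  refine Subtype.ext ?_
  rw [cEl_coe hu, cEl_coe hv]
  exact (eq_of_agree pEl_sound pPt_injOn pBase_lt pEl_det (fun k hk => (inGens_lt hu k hk).2)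
    (fun k hk => (inGens_lt hv k hk).2)).1 h

theorem cEl_append {u v : List ℕ} (hu : inGens u = true) (hv : inGens v = true) :
    cEl (u ++ v) = cEl u * cEl v := by
  refine Subtype.ext ?_
  have h : inGens (u ++ v) = true := by
    simp only [inGens, List.all_append, Bool.and_eq_true]; exact ⟨hu, hv⟩
  rw [cEl_coe h, Subgroup.coe_mul, cEl_coe hu, cEl_coe hv, wordEl_append]

/-- The central element. -/
noncomputable def zEl : coverGroup := cEl [11]

theorem zEl_facts : (inGens [11] && pLev0.gens.all (fun k => agreeB 10 pTab pBase [k, 11] [11, k]) &&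
    agreeB 10 pTab pBase [11, 11, 11] [] && !agreeB 10 pTab pBase [11] []) = true := by decide +kernel

theorem zEl_mem_center : zEl ∈ Subgroup.center coverGroup := by
  have hf := zEl_facts
  simp only [Bool.and_eq_true, List.all_eq_true] at hf
  rw [Subgroup.mem_center_iff]
  intro g
  have hle : coverGroup ≤ Subgroup.centralizer {(zEl : Amb)} := by
    show Subgroup.closure _ ≤ _
    rw [Subgroup.closure_le]
    rintro _ ⟨k, hk, rfl⟩
    refine Subgroup.mem_centralizer_singleton_iff.2 ?_
    have hkg : inGens [k] = true := by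
      simp only [inGens, List.all_cons, List.all_nil, Bool.and_true, List.contains_iff_mem]; exact hk
    have h1 : inGens ([k] ++ [11]) = true := by
      simp only [inGens, List.all_append, Bool.and_eq_true]; exact ⟨hkg, hf.1.1.1⟩
    have h2 : inGens ([11] ++ [k]) = true := by
      simp only [inGens, List.all_append, Bool.and_eq_true]; exact ⟨hf.1.1.1, hkg⟩
    have e := congrArg Subtype.val (cEl_agree h1 h2 (hf.1.1.2 k hk))
    rw [cEl_append hkg hf.1.1.1, cEl_append hf.1.1.1 hkg, Subgroup.coe_mul, Subgroup.coe_mul,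
      cEl_coe hkg] at e
    simpa [wordEl, zEl] using e
  exact Subtype.ext (Subgroup.mem_centralizer_singleton_iff.1 (hle g.2))

theorem zEl_mem_ker : zEl ∈ coverProj.ker := by
  have hf := zEl_facts
  simp only [Bool.and_eq_true] at hf
  rw [MonoidHom.mem_ker, zEl, coverProj_cEl hf.1.1.1]
  simp [wordEl, gEl_eleven]

theorem orderOf_zEl : orderOf zEl = 3 := by
  have hf := zEl_facts
  simp only [Bool.and_eq_true, Bool.not_eq_true'] at hf
  have h11 := hf.1.1.1
  have hn : inGens [] = true := rfl
  have h2 : inGens [11, 11] = true := by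
    simp only [inGens, List.all_cons, List.all_nil, Bool.and_true] at h11 ⊢
    rw [h11, Bool.and_self]
  have h3 : inGens [11, 11, 11] = true := by
    simp only [inGens, List.all_cons, List.all_nil, Bool.and_true] at h11 ⊢
    rw [h11, Bool.and_self, Bool.and_self]
  refine orderOf_eq_prime ?_ fun h => ?_
  · rw [show zEl ^ 3 = zEl * (zEl * zEl) by rw [pow_three], zEl, ← cEl_append h11 h11,
      ← cEl_append h11 (show inGens ([11] ++ [11]) = true from h2)]
    rw [show cEl ([11] ++ ([11] ++ [11])) = cEl [] from cEl_agree h3 hn hf.1.2]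
    exact Subtype.ext (cEl_coe hn)
  · have e : wordEl pEl [11] = wordEl pEl [] := by
      rw [← cEl_coe h11]; exact congrArg Subtype.val h
    rw [(eq_of_agree pEl_sound pPt_injOn pBase_lt pEl_det (by simp) (by simp)).2 e] at hf
    simp at hf

theorem ker_eq : coverProj.ker = Subgroup.zpowers zEl := by
  refine (Subgroup.eq_of_le_of_card_ge (by rw [Subgroup.zpowers_le]; exact zEl_mem_ker) ?_).symm
  rw [natCard_ker, Nat.card_zpowers, orderOf_zEl]

theorem ker_le_center : coverProj.ker ≤ Subgroup.center coverGroup := by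
  rw [ker_eq, Subgroup.zpowers_le]
  exact zEl_mem_center

/-- The checks of the coset representatives. -/
def repOK (t : ℕ) : Bool :=
  (repW.getD t []).all (fun k => Nat.blt k 2) && Nat.beq (ev 9 gTab (repW.getD t []) 0) t

/-- The checks of one row. -/
def rowOK (t : ℕ) : Bool :=
  Nat.blt (jxL.getD t 0) 275 && Nat.blt (jyL.getD t 0) 275 &&
  inGens (pW.getD t []) && inGens (qW.getD t []) &&
  agreeB 9 gTab gBase (xWord ++ repW.getD t []) (repW.getD (jxL.getD t 0) [] ++ pW.getD t []) &&
  agreeB 9 gTab gBase (yWord ++ repW.getD t []) (repW.getD (jyL.getD t 0) [] ++ qW.getD t []) &&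
  agreeB 10 pTab pBase (pW.getD (jyL.getD t 0) [] ++ qW.getD t [])
    (List.replicate (kL.getD t 0) 11 ++ (qW.getD (jxL.getD t 0) [] ++ pW.getD t []))

theorem reps_ok : ((List.range 275).all repOK && xWord.all (fun k => Nat.blt k 12) &&
    yWord.all (fun k => Nat.blt k 12) && agreeB 9 gTab gBase (xWord ++ yWord) (yWord ++ xWord)) =
      true := by decide +kernel

theorem rows0 : ((List.range' 0 55).all rowOK) = true := by decide +kernel

theorem rows1 : ((List.range' 55 55).all rowOK) = true := by decide +kernel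

theorem rows2 : ((List.range' 110 55).all rowOK) = true := by decide +kernel

theorem rows3 : ((List.range' 165 55).all rowOK) = true := by decide +kernel

theorem rows4 : ((List.range' 220 55).all rowOK) = true := by decide +kernel

theorem rows_ok : ((List.range 275).all rowOK) = true := by
  simp only [List.all_eq_true, List.mem_range]
  intro t ht
  by_cases h0 : t < 55
  · exact List.all_eq_true.1 rows0 t (List.mem_range'_1.2 ⟨by omega, by omega⟩)
  by_cases h1 : t < 110
  · exact List.all_eq_true.1 rows1 t (List.mem_range'_1.2 ⟨by omega, by omega⟩)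
  by_cases h2 : t < 165
  · exact List.all_eq_true.1 rows2 t (List.mem_range'_1.2 ⟨by omega, by omega⟩)
  by_cases h3 : t < 220
  · exact List.all_eq_true.1 rows3 t (List.mem_range'_1.2 ⟨by omega, by omega⟩)
  exact List.all_eq_true.1 rows4 t (List.mem_range'_1.2 ⟨by omega, by omega⟩)

theorem total_ok : ((List.range 275).map fun t => kL.getD t 0).sum % 3 = 1 := by decide +kernel

/-- A stem extension with kernel of order three. -/
theorem exists_triple_cover : ∃ (Γ : Type) (_ : Group Γ) (_ : Finite Γ) (τ : Γ →* mclPerm),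
    Cfsg.IsStemExtension τ ∧ IsCyclic τ.ker ∧ Nat.card τ.ker = 3 := by
  classical
  have hr := reps_ok
  simp only [Bool.and_eq_true, List.all_eq_true, List.mem_range, repOK, Nat.blt_eq, Nat.beq_eq] at hr
  obtain ⟨⟨⟨hrep, hxw⟩, hyw⟩, hxy⟩ := hr
  have hrows := rows_ok
  simp only [List.all_eq_true, List.mem_range, rowOK, Bool.and_eq_true, Nat.blt_eq] at hrows
  have hrep12 : ∀ t < 275, ∀ k ∈ repW.getD t [], k < 12 := fun t ht k hk =>
    lt_trans ((hrep t ht).1 k hk) (by norm_num)
  let R : Fin 275 → mclPerm := fun t => wordEl gEl (repW.getD t.val [])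
  have hR0 : ∀ t : Fin 275, (R t : Equiv.Perm (Fin 275)) (gPt 0) = t := fun t => by
    have h := (ev_spec gEl_sound _ (hrep12 t.val t.isLt) 0 (by norm_num)).2
    rw [(hrep t.val t.isLt).2, gPt_val] at h
    exact h
  let f : Fin 275 → mclPerm ⧸ coverProj.range := fun t => (R t : mclPerm ⧸ coverProj.range)
  have hinj : Function.Injective f := by
    intro s t h
    have := range_fix (QuotientGroup.eq.1 h)
    rw [Subgroup.coe_mul, Subgroup.coe_inv, Equiv.Perm.mul_apply, hR0, Equiv.Perm.inv_eq_iff_eq,
      hR0] at this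
    exact this.symm
  have hcard : Nat.card (mclPerm ⧸ coverProj.range) = 275 := by
    have h := coverProj.range.card_mul_index
    rw [natCard_range, natCard_mclPerm] at h
    exact Nat.eq_of_mul_eq_mul_left (by norm_num : 0 < 3265920) (h.trans (by norm_num))
  let e : Fin 275 ≃ mclPerm ⧸ coverProj.range :=
    Equiv.ofBijective f (hinj.bijective_of_nat_card_le (by rw [hcard, Nat.card_fin]))
  let x : mclPerm := wordEl gEl xWord
  let y : mclPerm := wordEl gEl yWord
  have hcomm : x * y = y * x := by
    rw [← wordEl_append, ← wordEl_append]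
    exact (gEl_agree (fun k hk => (List.mem_append.1 hk).elim (hxw k) (hyw k))
      (fun k hk => (List.mem_append.1 hk).elim (hyw k) (hxw k))).1 hxy
  have hlt12 : ∀ {l : List ℕ}, inGens l = true → ∀ k ∈ l, k < 12 := fun h k hk => (inGens_lt h k hk).2
  have hstep : ∀ (wd : List ℕ) (t : Fin 275) (j : ℕ) (p : List ℕ), (∀ k ∈ wd, k < 12) → ∀ hj : j < 275,
      inGens p = true → agreeB 9 gTab gBase (wd ++ repW.getD t.val []) (repW.getD j [] ++ p) = true →
      wordEl gEl wd * R t = R ⟨j, hj⟩ * coverProj (cEl p) := by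
    intro wd t j p hwd hj hp h
    have := (gEl_agree (fun k hk => (List.mem_append.1 hk).elim (hwd k) (hrep12 t.val t.isLt k))
      (fun k hk => (List.mem_append.1 hk).elim (hrep12 j hj k) (hlt12 hp k))).1 h
    rw [wordEl_append, wordEl_append] at this
    rw [coverProj_cEl hp]
    exact this
  let jx : Fin 275 → Fin 275 := fun t => ⟨jxL.getD t.val 0, (hrows t.val t.isLt).1.1.1.1.1.1⟩
  let jy : Fin 275 → Fin 275 := fun t => ⟨jyL.getD t.val 0, (hrows t.val t.isLt).1.1.1.1.1.2⟩
  let p : Fin 275 → coverGroup := fun t => cEl (pW.getD t.val [])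
  let q : Fin 275 → coverGroup := fun t => cEl (qW.getD t.val [])
  have hp : ∀ t, x * R t = R (jx t) * coverProj (p t) := fun t =>
    hstep xWord t _ _ hxw _ (hrows t.val t.isLt).1.1.1.1.2 (hrows t.val t.isLt).1.1.2
  have hq : ∀ t, y * R t = R (jy t) * coverProj (q t) := fun t =>
    hstep yWord t _ _ hyw _ (hrows t.val t.isLt).1.1.1.2 (hrows t.val t.isLt).1.2
  let zk : coverProj.ker := ⟨zEl, zEl_mem_ker⟩
  let κ : Fin 275 → coverProj.ker := fun t => zk ^ kL.getD t.val 0
  have h11 : inGens [11] = true := by
    have hf := zEl_facts; simp only [Bool.and_eq_true] at hf; exact hf.1.1.1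
  have hrep11 : ∀ n, inGens (List.replicate n 11) = true ∧ cEl (List.replicate n 11) = zEl ^ n := by
    intro n
    induction n with
    | zero => exact ⟨rfl, by rw [pow_zero]; exact Subtype.ext (cEl_coe (l := []) rfl)⟩
    | succ n ih =>
      refine ⟨?_, ?_⟩
      · rw [List.replicate_succ]
        simp only [inGens, List.all_cons, Bool.and_eq_true] at ih h11 ⊢
        exact ⟨h11.1, ih.1⟩
      · rw [List.replicate_succ, show 11 :: List.replicate n 11 = [11] ++ List.replicate n 11 from rfl,
          cEl_append h11 ih.1, ih.2, pow_succ']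
        rfl
  have hκ : ∀ t, p (jy t) * q t = (κ t : coverGroup) * (q (jx t) * p t) := by
    intro t
    have hA := (hrows (jy t).val (jy t).isLt).1.1.1.1.2
    have hB := (hrows t.val t.isLt).1.1.1.2
    have hC := (hrows (jx t).val (jx t).isLt).1.1.1.2
    have hD := (hrows t.val t.isLt).1.1.1.1.2
    have h1 : inGens (pW.getD (jy t).val [] ++ qW.getD t.val []) = true := by
      simp only [inGens, List.all_append, Bool.and_eq_true]; exact ⟨hA, hB⟩
    have h2 : inGens (qW.getD (jx t).val [] ++ pW.getD t.val []) = true := by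
      simp only [inGens, List.all_append, Bool.and_eq_true]; exact ⟨hC, hD⟩
    have h3 : inGens (List.replicate (kL.getD t.val 0) 11 ++
        (qW.getD (jx t).val [] ++ pW.getD t.val [])) = true := by
      simp only [inGens, List.all_append, Bool.and_eq_true] at h2 ⊢
      exact ⟨(hrep11 _).1, h2⟩
    show cEl _ * cEl _ = ((zk ^ kL.getD t.val 0 : coverProj.ker) : coverGroup) * (cEl _ * cEl _)
    rw [SubgroupClass.coe_pow, show (zk : coverGroup) = zEl from rfl, ← (hrep11 _).2,
      ← cEl_append hA hB, ← cEl_append hC hD, ← cEl_append (hrep11 _).1 h2]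
    exact cEl_agree h1 h3 (hrows t.val t.isLt).2
  letI := PcCover.kerComm coverProj ker_le_center
  have hprod : (∏ t, κ t) = zk := by
    show (∏ t : Fin 275, zk ^ kL.getD t.val 0) = zk
    rw [Finset.prod_pow_eq_pow_sum]
    have h3 : zk ^ 3 = 1 := Subtype.ext (by
      rw [SubgroupClass.coe_pow, Subgroup.coe_one]
      show zEl ^ 3 = 1
      rw [← orderOf_zEl, pow_orderOf_eq_one])
    rw [pow_eq_pow_mod _ h3, Fin.sum_univ_eq_sum_range (fun t => kL.getD t 0) 275]
    have e : (∑ t ∈ Finset.range 275, kL.getD t 0) = ((List.range 275).map fun t => kL.getD t 0).sum := rfl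
    rw [e, total_ok, pow_one]
  obtain ⟨Γ', i1, i2, τ, hτ, ⟨eq⟩⟩ := PcCover.exists_stem_of_transfer coverProj e R (fun _ => rfl)
    ker_le_center x y hcomm jx jy p q hp hq κ hκ (by
      rw [hprod, eq_top_iff]
      rintro ⟨g, hg⟩ -
      obtain ⟨n, rfl⟩ := Subgroup.mem_zpowers_iff.1 (ker_eq ▸ hg)
      exact Subgroup.mem_zpowers_iff.2 ⟨n, Subtype.ext rfl⟩)
  have : Fact (Nat.Prime 3) := ⟨Nat.prime_three⟩
  have hc : Nat.card τ.ker = 3 := (Nat.card_congr eq.toEquiv).symm.trans natCard_ker
  exact ⟨Γ', i1, i2, τ, hτ, isCyclic_of_prime_card hc, hc⟩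

end Cfsg.Agent.MultiplierMcL
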