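import Cfsg.Agent.Lib.StabCert.Chain

/-!
# Data: chain of the McLaughlin group
-/

set_option autoImplicit false
set_option maxRecDepth 20000
set_option linter.style.longLine false

namespace Cfsg.Agent.MultiplierMcL

/-- Part of a closure certificate. -/
def gLev0c0 : List (ℕ × List ℕ) :=
  [(1, []),
   (3, []),
   (4, []),
   (5, []),
   (6, []),
   (8, []),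
   (9, []),
   (11, []),
   (12, []),
   (14, []),
   (16, []),
   (17, []),
   (19, []),
   (21, []),
   (22, []),
   (24, []),
   (25, []),
   (27, []),
   (28, []),
   (29, []),
   (30, []),
   (31, []),
   (33, []),
   (35, []),
   (36, []),
   (38, []),
   (39, []),
   (40, []),
   (42, []),
   (44, []),
   (46, []),
   (48, []),
   (43, [2, 3, 2, 3, 2, 2, 5, 5, 4, 5, 4, 7, 9, 6, 10, 10]),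
   (50, []),
   (52, []),
   (53, []),
   (55, []),
   (57, []),
   (47, [3, 3, 2, 2, 2, 2, 3, 5, 5, 5, 4, 9, 7, 8, 6]),
   (59, []),
   (61, []),
   (63, []),
   (64, []),
   (66, []),
   (67, []),
   (68, []),
   (69, []),
   (71, []),
   (72, []),
   (74, []),
   (75, []),
   (13, [3, 2, 2, 3, 2, 2, 4, 5, 4, 5, 4, 7, 9, 8, 6, 10, 10]),
   (76, []),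
   (78, []),
   (80, []),
   (81, []),
   (82, []),
   (83, []),
   (85, []),
   (34, [3, 2, 2, 2, 3, 3, 2, 2, 5, 5, 5, 5, 4, 5, 4]),
   (87, []),
   (88, []),
   (18, [3, 3, 3, 2, 2, 5, 5, 5, 4, 4, 4, 9, 8, 6, 6, 10, 10]),
   (89, []),
   (91, []),
   (2, [3]),
   (92, []),
   (94, []),
   (96, []),
   (98, []),
   (99, []),
   (100, []),
   (102, []),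
   (104, []),
   (105, []),
   (32, [2, 3, 2, 3, 3, 3, 3, 3, 4, 4, 5, 5, 4, 4, 4, 9, 6, 7, 10]),
   (70, [2, 2, 2, 3, 5, 4, 5, 4, 5, 4, 5, 9, 8, 7, 9, 10, 10]),
   (107, []),
   (58, [3, 3, 2, 3, 2, 3, 5, 4, 4, 4, 5, 4, 4, 7, 9, 7, 6]),
   (7, [2, 3, 3, 2, 3, 4, 5, 5, 4, 4, 4, 6]),
   (20, [3, 2, 2, 5, 4, 5, 4, 5, 5, 6, 9, 8, 6, 10]),
   (109, []),
   (111, []),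
   (113, []),
   (115, []),
   (116, []),
   (118, []),
   (54, [3, 2, 3, 2, 3, 3, 2, 5, 5, 5, 4, 9, 7, 9, 10]),
   (119, []),
   (121, []),
   (122, []),
   (123, []),
   (125, []),
   (127, []),
   (128, []),
   (130, []),
   (131, []),
   (132, []),
   (133, []),
   (135, []),
   (137, []),
   (86, [3, 2, 2, 3, 3, 2, 4, 5, 4, 6, 9, 10]),
   (138, []),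
   (139, []),
   (140, []),
   (141, []),
   (142, []),
   (143, []),
   (145, []),
   (146, []),
   (147, []),
   (148, []),
   (150, []),
   (151, []),
   (97, [2, 3, 2, 3, 3, 3, 3, 3, 5, 4, 5, 4, 4, 4, 7, 8, 9, 7, 10, 10]),
   (153, []),
   (155, []),
   (157, []),
   (95, [3, 2, 3, 2, 3, 2, 2, 5, 5, 5, 4, 5, 5, 4, 8, 6, 6, 9]),
   (158, []),
   (62, [3, 4, 5, 4, 5, 4, 4, 9, 6, 9, 10, 10]),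
   (160, []),
   (162, []),
   (164, []),
   (165, []),
   (65, [2, 3, 3, 3, 2, 2, 2, 3, 4, 5, 5, 5, 4, 6, 9, 6, 7, 10]),
   (166, []),
   (167, []),
   (126, [2, 2, 2, 2, 2, 2, 2]),
   (168, []),
   (169, []),
   (171, []),
   (173, []),
   (175, []),
   (176, []),
   (177, []),
   (179, []),
   (180, []),
   (182, []),
   (183, []),
   (184, []),
   (154, [3, 2, 2, 2, 3, 4, 4, 5, 5, 5, 5, 7, 7, 8, 9]),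
   (84, [3, 3, 3, 2, 2, 4, 5, 4, 5, 5, 6, 6, 9, 10, 10]),
   (49, [3, 3, 2, 3, 2, 2, 5, 5, 5, 4, 4, 4, 7, 9, 10, 10]),
   (178, [2, 3, 2, 3, 3, 2, 5, 4, 5, 4, 4, 4, 8, 9, 10, 10]),
   (112, [3, 3, 2, 2, 2, 2, 3, 4, 5, 5, 5, 8, 7]),
   (187, []),
   (188, []),
   (189, []),
   (191, []),
   (192, []),
   (194, []),
   (195, []),
   (23, [2, 2, 2, 3, 2, 3, 3, 2, 4, 4, 5, 4, 5, 4, 5, 9, 8, 6]),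
   (197, []),
   (144, [2, 2, 2, 2, 5, 4, 4, 5, 4, 4, 9, 8, 7, 10, 10]),
   (198, []),
   (199, []),
   (201, []),
   (202, []),
   (124, [2, 2, 3, 3, 5, 5, 4, 5, 5, 4, 7, 9, 8, 7, 10]),
   (203, []),
   (204, []),
   (41, [2, 3, 2, 3, 3, 3, 2, 2, 2, 4, 4, 5, 5, 5, 7, 7, 8, 9, 10]),
   (206, []),
   (114, [3, 5, 5, 5, 4, 4, 4, 9, 7, 6]),
   (208, []),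
   (210, []),
   (211, []),
   (212, []),
   (45, [3, 2, 3, 2, 3, 5, 4, 4, 5, 5, 4, 4, 4, 6, 9, 7, 10, 10]),
   (214, []),
   (216, []),
   (217, []),
   (56, [2, 3, 2, 3, 2, 3, 5, 4, 4, 4, 5, 4, 4, 8, 6, 9, 6, 10]),
   (219, []),
   (149, [3, 3, 3, 3, 2, 2, 2, 5, 5, 5, 4, 5, 6, 9, 8, 6, 6, 10]),
   (221, []),
   (106, [2, 2, 3, 3, 2, 3, 4, 4, 8, 9, 7, 10, 10]),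
   (222, []),
   (224, []),
   (156, [2, 2, 2, 3, 3, 2, 2, 5, 5, 5, 5, 6, 9, 6, 6, 10]),
   (225, []),
   (227, []),
   (228, []),
   (229, []),
   (230, []),
   (231, []),
   (233, []),
   (205, [2, 2, 2, 2, 2, 2, 3, 5, 5, 5, 5, 4, 5, 9, 8, 6, 6, 10, 10]),
   (181, [3, 3, 4, 5, 5, 5, 4, 5, 4, 7, 9, 7]),
   (129, [3, 3, 4, 5, 4, 5, 5, 5, 4, 6]),
   (207, [2, 3, 3, 2, 3, 5, 4, 5, 4, 5, 8, 9, 10, 10]),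
   (163, [2, 2, 2, 3, 3, 2, 5, 4, 5, 4, 5, 4, 5, 7, 8, 9, 10]),
   (101, [2, 2, 2, 3, 2, 2, 5, 5, 5, 4, 6, 9, 8, 6, 6]),
   (237, []),
   (159, [3, 2, 2, 3, 3, 4, 5, 5, 5, 7, 9, 6, 6]),
   (238, []),
   (103, [3, 2, 2, 2, 3, 4, 4, 4, 5, 4, 4, 4, 9, 7, 9, 6]),
   (239, []),
   (241, []),
   (200, [2, 2, 2, 3, 2, 2, 7, 9, 7, 6]),
   (60, [3, 2, 3, 3, 3, 2, 2, 2, 5, 5, 5, 4, 5, 4, 8, 7, 9, 7, 10, 10]),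
   (242, []),
   (234, [2, 3, 3, 3, 3, 5, 4, 5, 4, 5, 4, 5, 9, 7, 9, 6, 10, 10]),
   (245, []),
   (117, [3, 3, 2, 2, 2, 2, 2, 2, 2, 5, 4, 4, 5, 4, 7, 9, 8, 6]),
   (73, [3, 2, 3, 3, 3, 3, 4, 4, 5, 4, 4, 6, 7, 10, 10]),
   (0, [2]),
   (174, [2, 2, 3, 2, 2, 2, 5, 5, 4, 5, 5, 5, 4, 8, 7, 10, 10]),
   (10, [2, 2, 2, 3, 3, 2, 2, 4, 5, 5, 5, 4, 7]),
   (246, []),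
   (220, [3, 4, 5, 4, 5, 4, 9, 6]),
   (248, []),
   (249, []),
   (243, [3, 3, 2, 3, 4, 4, 5, 4, 7, 9, 8, 7, 10]),
   (226, [2, 3, 2, 2, 2, 3, 5, 5, 4, 5, 5, 5, 4, 7, 8, 9]),
   (251, []),
   (213, [2, 3, 2, 3, 2, 3, 3, 2, 4, 5, 5, 5, 5, 4, 5, 4, 7, 7, 6, 10, 10]),
   (196, [3, 3, 3, 3, 2, 3, 2, 5, 4, 5, 5, 5, 4, 9, 10])]

/-- Part of a closure certificate. -/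
def gLev0c1 : List (ℕ × List ℕ) :=
  [(252, []),
   (172, [3, 2, 3, 3, 5, 4, 5, 5, 4, 5, 5, 6, 9, 6, 6, 10]),
   (185, [3, 2, 2, 2, 2, 2, 3, 3, 4, 5, 4, 5, 5, 7, 9, 6]),
   (254, []),
   (247, [2, 3, 2, 2, 2, 3, 2, 3, 5, 4, 4, 5, 4, 4, 6, 9, 7, 10]),
   (215, [3, 2, 5, 5, 5, 4, 4, 4, 7, 7, 9, 6, 10, 10]),
   (255, []),
   (256, []),
   (250, [4, 4, 4, 5, 4, 4, 4, 6, 9, 6, 7]),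
   (15, [2, 3, 2, 3, 2, 2, 4, 5, 5, 4, 5, 5, 7, 9, 7, 6, 10]),
   (257, []),
   (253, [2, 2, 2, 2, 2, 3, 5, 4, 5, 5, 4, 8, 9, 7, 6, 10]),
   (51, [2, 3, 3, 2, 4, 5, 4, 5, 5, 4, 8, 7]),
   (259, []),
   (261, []),
   (262, []),
   (263, []),
   (264, []),
   (152, [2, 3, 2, 3, 2, 4, 5, 4, 5, 5, 4, 8, 7, 9, 7, 10]),
   (266, []),
   (186, [3, 2, 3, 3, 4, 5, 4, 5, 5, 4, 4, 4, 6, 6, 9, 10]),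
   (267, []),
   (236, [2, 3, 2, 3, 2, 3, 3, 2, 5, 5, 4, 4, 5, 4, 5, 7, 8, 9]),
   (265, [3, 2, 3, 2, 2, 2, 4, 4, 5, 5, 5, 5, 4, 5, 4, 7, 7, 9, 10, 10]),
   (218, [3, 3, 2, 3, 3, 3, 5, 5, 4, 5, 5, 4, 4, 4, 6, 8, 6, 6, 10]),
   (90, [2, 3, 2, 5, 4, 4, 5, 4, 9, 6, 7]),
   (161, [3, 5, 5, 4, 5, 4, 4, 4, 6, 9, 7, 10]),
   (93, [3, 3, 3, 2, 2, 2, 4, 5, 5, 5, 4, 9, 6, 7]),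
   (258, [2, 2, 3, 3, 2, 2, 5, 5, 5, 9, 7, 8, 6, 10]),
   (269, []),
   (270, []),
   (193, [3, 3, 3, 2, 2, 2, 4, 5, 4, 4, 4, 5, 4, 4, 9, 7, 7, 6]),
   (37, [3, 2, 2, 4, 5, 5, 5, 5, 8, 9, 10]),
   (136, [3, 3, 2, 3, 5, 5, 4, 5, 5, 4, 7, 9, 8, 7, 10, 10]),
   (108, [3, 3, 2, 3, 5, 4, 5, 5, 4, 7, 9, 6, 10, 10]),
   (26, [2, 3, 3, 2, 2, 4, 4, 4, 4, 5, 4, 5, 8, 6, 9, 6, 10, 10]),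
   (271, []),
   (235, [3, 3, 3, 3, 2, 2, 2, 3, 5, 4, 4, 4, 5, 4, 4, 6, 6, 9, 6, 6, 10, 10]),
   (244, [3, 3, 3, 3, 2, 3, 3, 5, 4, 4, 5, 4, 5, 5, 9, 7, 6, 6, 10, 10]),
   (190, [2, 2, 3, 2, 3, 3, 3, 3, 3, 4, 4, 4, 4, 5, 4, 5, 6, 9, 8, 6, 10, 10]),
   (79, [2, 3, 3, 2, 4, 4, 5, 5, 5, 5, 9, 8, 6, 6, 10, 10]),
   (209, [2, 2, 3, 5, 4, 5, 4, 5, 4, 5, 7, 9, 6, 6, 10, 10]),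
   (170, [3, 2, 3, 3, 4, 4, 5, 4, 5, 5, 9, 7, 7, 6, 10]),
   (272, []),
   (273, []),
   (268, [3, 3, 2, 3, 5, 4, 5, 4, 5, 4, 5, 8, 7, 9, 7, 10]),
   (120, [2, 2, 2, 3, 3, 3, 2, 3, 2, 5, 4, 4, 4, 6, 8, 9, 7]),
   (260, [3, 2, 2, 3, 3, 2, 5, 4, 4, 5, 4, 4, 4, 6, 6, 10]),
   (232, [3, 3, 2, 3, 4, 5, 9, 7, 6, 6]),
   (240, [2, 2, 2, 3, 3, 2, 5, 5, 5, 5, 4, 5, 4, 7, 8, 6, 10, 10]),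
   (223, [2, 3, 2, 3, 2, 2, 5, 4, 4, 5, 4, 5, 4, 7, 10]),
   (110, [3, 5, 4, 4, 5, 4, 5, 8, 7, 9]),
   (274, [3, 2, 3, 3, 5, 5, 5, 5, 4, 5, 4, 6, 9, 7, 10, 10]),
   (77, [3, 2, 3, 3, 3, 2, 2, 2, 4, 4, 5, 8, 6, 6, 10, 10]),
   (134, [3, 2, 2, 2, 3, 4, 5, 4, 5, 4, 7, 10, 10]),
   (2, []),
   (1, [3, 3, 2, 2, 3, 2, 3, 5, 4, 5, 5, 5, 5, 8, 8, 6]),
   (0, []),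
   (5, [2, 3, 2, 3, 2, 3, 3, 2, 5, 4, 4, 4, 5, 4, 9, 8, 7, 10, 10]),
   (7, []),
   (3, [2, 3, 2, 3, 2, 3, 5, 4, 5, 5, 4, 8, 9, 6, 6, 10]),
   (10, []),
   (4, []),
   (13, []),
   (15, []),
   (6, []),
   (18, []),
   (20, []),
   (8, []),
   (23, []),
   (9, []),
   (26, []),
   (17, [5, 5, 4, 5, 5, 4, 4, 4, 7, 7, 10]),
   (11, []),
   (19, [3, 3, 3, 2, 2, 2, 5, 5, 5, 4, 8, 6, 6, 9]),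
   (12, []),
   (32, []),
   (34, []),
   (14, []),
   (37, []),
   (25, [2, 2, 3, 2, 2, 2, 5, 5, 5, 4, 5, 7, 9, 10, 10]),
   (16, []),
   (41, []),
   (43, []),
   (45, []),
   (47, []),
   (49, []),
   (21, []),
   (51, []),
   (22, []),
   (54, []),
   (56, []),
   (24, []),
   (58, []),
   (60, []),
   (62, []),
   (27, []),
   (65, []),
   (28, []),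
   (61, [3, 3, 2, 2, 3, 3, 2, 5, 4, 4, 8, 7, 9, 7]),
   (29, []),
   (70, []),
   (30, []),
   (73, []),
   (31, []),
   (50, [2, 3, 3, 2, 3, 3, 2, 2, 4, 4, 5, 4, 6, 6, 9, 10]),
   (33, []),
   (77, []),
   (79, []),
   (35, []),
   (80, [2, 2, 3, 3, 2, 4, 5, 5, 5, 4, 5, 8, 9]),
   (36, []),
   (84, []),
   (38, []),
   (86, []),
   (39, []),
   (44, [3, 2, 2, 2, 3, 2, 3, 4, 5, 5, 5, 5, 4, 5, 4, 6, 8, 6, 6, 10, 10]),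
   (40, []),
   (90, []),
   (64, [3, 3, 2, 3, 4, 4, 5, 5, 5, 9, 6, 9]),
   (42, []),
   (93, []),
   (95, []),
   (97, []),
   (69, [2, 2, 3, 3, 3, 2, 3, 2, 5, 4, 4, 5, 4, 5, 5, 6, 9, 8, 6]),
   (46, []),
   (101, []),
   (103, []),
   (48, []),
   (106, []),
   (100, [2, 2, 2, 2, 2, 5, 4, 5, 4, 7, 6, 6, 10]),
   (89, [2, 3, 4, 5, 5, 5, 4, 5, 5, 4, 8, 7, 9, 7, 10, 10]),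
   (52, []),
   (108, []),
   (53, []),
   (55, [2, 3, 3, 3, 2, 3, 2, 5, 5, 4, 5, 5, 4, 4, 4, 10]),
   (110, []),
   (112, []),
   (114, []),
   (57, []),
   (117, []),
   (59, []),
   (87, [5, 5, 4, 4, 5, 4, 5, 7, 9, 6, 6, 10]),
   (120, []),
   (76, [2, 3, 3, 2, 3, 3, 4, 5, 4, 5, 5, 5, 4, 8, 9, 6, 9, 10, 10]),
   (63, []),
   (124, []),
   (126, []),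
   (66, []),
   (129, []),
   (67, []),
   (96, [3, 3, 2, 2, 2, 2, 2, 2, 3, 3, 4, 5, 4, 5, 4, 9, 7, 10, 10]),
   (68, []),
   (134, []),
   (136, []),
   (75, [3, 2, 3, 2, 2, 4, 4, 4, 5, 5, 5, 4, 8, 6, 10]),
   (71, []),
   (102, [2, 3, 2, 3, 2, 3, 3, 2, 5, 5, 4, 5, 5, 8, 9, 6, 6, 10, 10]),
   (72, []),
   (104, [3, 2, 3, 2, 2, 4, 4, 5, 5, 5, 4, 9]),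
   (105, [2, 3, 3, 3, 2, 3, 3, 5, 4, 5, 4, 4, 9, 7, 9]),
   (74, []),
   (144, []),
   (78, []),
   (140, [2, 5, 5, 5, 4, 5, 4, 4, 4, 8, 7, 9, 10]),
   (81, []),
   (149, []),
   (82, []),
   (152, []),
   (83, []),
   (154, []),
   (156, []),
   (85, []),
   (118, [2, 3, 2, 2, 3, 3, 2, 2, 5, 5, 5, 5, 4, 5, 4, 7, 9, 8, 6, 10, 10]),
   (159, []),
   (88, []),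
   (161, []),
   (163, []),
   (123, [3, 2, 3, 2, 3, 2, 2, 4, 4, 4, 5, 4, 4, 9, 7, 8, 6, 10, 10]),
   (91, []),
   (139, [2, 2, 2, 2, 2, 3, 2, 3, 5, 4, 4, 5, 5, 5, 6, 9, 6]),
   (92, []),
   (127, [3, 2, 2, 3, 2, 3, 3, 2, 5, 5, 4, 5, 5, 4, 4, 4, 8, 9, 6, 9, 10]),
   (133, [3, 3, 3, 2, 3, 3, 5, 5, 5, 4, 7, 9, 8, 6, 10]),
   (94, []),
   (170, []),
   (172, []),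
   (174, []),
   (128, [3, 2, 2, 2, 2, 4, 5, 4, 5, 5, 5, 5, 7, 9, 7, 6]),
   (98, []),
   (178, []),
   (99, []),
   (181, []),
   (138, [2, 3, 3, 2, 2, 3, 3, 2, 5, 4, 4, 5, 4, 5, 6, 9, 7, 8, 6, 10]),
   (125, [3, 3, 3, 4, 5, 5, 5, 6, 9, 7, 8, 6, 10]),
   (109, [3, 3, 3, 4, 4, 4, 5, 4, 6, 9, 8, 6, 6, 10]),
   (175, [2, 2, 3, 3, 3, 2, 3, 2, 4, 5, 4, 5, 5, 4, 5, 5, 6, 9, 6, 7, 10]),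
   (185, []),
   (143, [5, 4, 4, 5, 4, 5, 6, 10, 10]),
   (107, []),
   (186, []),
   (155, [2, 3, 3, 2, 3, 3, 5, 5, 4, 5, 6, 6, 9, 10, 10]),
   (151, [3, 2, 3, 3, 3, 3, 2, 3, 5, 4, 5, 4, 8, 9, 6, 9]),
   (190, []),
   (111, []),
   (193, []),
   (147, [3, 3, 2, 2, 2, 2, 2, 2, 3, 3, 5, 4, 4, 4, 8, 6, 9, 6, 10, 10]),
   (113, []),
   (196, []),
   (115, []),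
   (146, [3, 2, 3, 3, 3, 3, 3, 4, 5, 5, 5, 4, 7, 9, 7, 6, 10]),
   (116, []),
   (200, []),
   (191, [3, 3, 2, 2, 2, 2, 2, 2, 3, 3, 4, 5, 5, 4, 5, 5, 6, 7, 10]),
   (119, []),
   (198, [2, 2, 3, 3, 3, 2, 3, 2, 5, 5, 4, 5, 5, 4, 8, 6, 6, 9]),
   (121, []),
   (205, []),
   (122, []),
   (164, [2, 2, 2, 5, 4, 4, 4, 8, 7, 9, 7, 10, 10])]

/-- Part of a closure certificate. -/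
def gLev0c2 : List (ℕ × List ℕ) :=
  [(207, []),
   (209, []),
   (208, [3, 3, 3, 3, 2, 2, 2, 3, 4, 4, 5, 4, 5, 9, 7, 8, 6, 10, 10]),
   (183, [2, 2, 2, 3, 2, 2, 4, 5, 4, 5, 5, 9, 8, 6, 10]),
   (213, []),
   (130, []),
   (215, []),
   (131, []),
   (218, []),
   (132, []),
   (141, [2, 3, 2, 3, 2, 3, 3, 2, 5, 4, 5, 4, 4, 7, 9, 6, 6, 10]),
   (220, []),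
   (219, [3, 2, 2, 2, 2, 3, 5, 4, 5, 5, 4, 4, 4, 8, 9, 7]),
   (135, []),
   (223, []),
   (180, [4, 4, 5, 5, 5, 5, 8, 6, 6, 10]),
   (137, []),
   (226, []),
   (168, [2, 2, 3, 2, 3, 3, 3, 3, 3, 5, 5, 4, 5, 4, 4, 4, 8, 9, 10, 10]),
   (228, [3, 2, 2, 2, 2, 3, 5, 4, 5, 5, 5, 4, 6, 9, 6]),
   (142, []),
   (145, []),
   (232, []),
   (234, []),
   (235, []),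
   (148, []),
   (158, [3, 3, 2, 3, 3, 4, 4, 9, 8, 7]),
   (236, []),
   (150, []),
   (229, [3, 3, 3, 3, 2, 2, 2, 3, 4, 4, 6, 9, 7, 8, 6, 10]),
   (195, [3, 3, 2, 3, 3, 3, 3, 4, 4, 5, 4, 4, 8, 8, 6]),
   (153, []),
   (197, [3, 2, 2, 2, 4, 4, 5, 5, 5, 4, 6, 8, 9, 7, 10, 10]),
   (160, [3, 2, 2, 3, 3, 5, 5, 5, 5, 4, 5, 4, 8, 7, 10]),
   (240, []),
   (157, []),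
   (201, [3, 3, 2, 3, 3, 3, 3, 4, 5, 4, 5, 5, 5, 5, 7, 7, 8, 9, 10]),
   (227, [3, 3, 2, 3, 2, 3, 5, 5, 4, 5, 5, 7, 7, 8, 9]),
   (243, []),
   (244, []),
   (162, []),
   (206, [2, 3, 3, 2, 2, 3, 2, 3, 4, 4, 5, 5, 4, 4, 4, 7, 9, 6, 6, 10]),
   (165, []),
   (167, [2, 3, 3, 3, 3, 2, 3, 5, 4, 5, 5, 5, 4, 7, 7, 6, 10]),
   (166, []),
   (238, [3, 3, 2, 3, 2, 2, 4, 5, 4, 4, 4, 9, 7, 6, 10]),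
   (241, [2, 2, 2, 2, 2, 4, 4, 5, 4, 4, 8, 9, 6, 9]),
   (247, []),
   (169, []),
   (250, []),
   (171, []),
   (222, [3, 2, 2, 2, 2, 2, 2, 3, 3, 5, 5, 5, 4, 4, 4]),
   (217, [3, 3, 2, 2, 2, 3, 5, 4, 5, 5, 5, 5, 6, 6]),
   (173, []),
   (177, [2, 3, 3, 3, 2, 2, 2, 4, 4, 5, 4, 5, 4, 5, 7, 7, 9, 10]),
   (176, []),
   (253, []),
   (216, [3, 2, 2, 3, 2, 3, 5, 5, 4, 9, 7, 10, 10]),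
   (179, []),
   (224, [2, 2, 2, 3, 2, 2, 2, 4, 5, 4, 5, 4, 4, 7, 9, 8, 6, 10]),
   (225, [3, 2, 2, 2, 3, 3, 2, 5, 5, 4, 5, 5, 4, 4, 4, 8, 9, 7, 10]),
   (182, []),
   (202, [2, 3, 3, 2, 3, 2, 3, 2, 3, 5, 4, 4, 5, 4, 4, 4, 10]),
   (184, [3, 3, 2, 3, 2, 2, 5, 4, 4, 5, 5, 4, 4, 4, 8, 9, 6, 9, 10, 10]),
   (194, [3, 2, 2, 2, 2, 3, 5, 4, 4, 5, 4, 6, 9, 8, 6]),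
   (258, []),
   (231, [3, 3, 3, 3, 2, 3, 2, 5, 5, 5, 5, 4, 5, 4, 9, 6, 6, 10, 10]),
   (187, []),
   (260, []),
   (188, []),
   (189, []),
   (192, []),
   (265, []),
   (210, [3, 3, 3, 3, 2, 3, 3, 5, 4, 4, 5, 4, 5, 4, 8, 7, 9, 7, 10]),
   (239, [3, 2, 2, 3, 3, 5, 5, 5, 4, 5, 4, 7, 7, 8, 9, 10, 10]),
   (199, []),
   (211, [2, 3, 2, 3, 4, 5, 5, 4, 6, 6, 9, 10]),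
   (268, []),
   (203, []),
   (204, []),
   (252, [2, 2, 2, 2, 2, 2, 2, 4, 4, 4, 7, 6, 10]),
   (255, [2, 2, 3, 2, 2, 2, 5, 5, 4, 5, 5, 4, 4, 4, 6, 8, 9, 7, 10, 10]),
   (212, []),
   (249, [3, 3, 3, 3, 2, 3, 5, 5, 4, 5, 9, 7, 10, 10]),
   (248, [2, 2, 2, 2, 3, 2, 2, 5, 5, 5, 4, 5, 5, 4, 7, 6, 6, 10]),
   (214, []),
   (256, [3, 2, 2, 2, 3, 3, 2, 5, 5, 4, 4, 4, 6, 9, 8, 6, 6]),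
   (245, [3, 2, 2, 3, 2, 3, 3, 2, 5, 5, 4, 4, 9]),
   (221, []),
   (254, [3, 3, 2, 3, 3, 3, 3, 4, 4, 5, 4, 4, 8, 6, 6, 9]),
   (246, [2, 3, 3, 2, 3, 2, 3, 2, 3, 5, 4, 4, 5, 4, 5, 4, 8, 7, 10]),
   (251, [3, 3, 2, 2, 2, 2, 3, 5, 4, 4, 9, 7, 8, 6, 10]),
   (271, [2, 2, 3, 2, 3, 3, 3, 3, 3, 5, 4, 4, 4, 5, 4, 8, 8, 6, 10]),
   (230, []),
   (269, [3, 2, 3, 3, 3, 2, 2, 2, 4, 5, 4, 4, 8, 6, 6]),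
   (233, []),
   (261, [5, 4, 4, 4, 7, 7, 10, 10]),
   (262, [3, 2, 2, 2, 5, 5, 5, 4, 5, 8, 9]),
   (266, [3, 3, 3, 3, 3, 3, 5, 4, 4, 6]),
   (264, [3, 3, 2, 2, 2, 3, 4, 4, 5, 5, 5, 9, 7, 6, 10, 10]),
   (237, []),
   (263, [2, 3, 3, 2, 2, 3, 2, 3, 4, 5, 4, 8, 9, 10]),
   (274, []),
   (242, []),
   (259, [3, 3, 3, 3, 2, 2, 2, 4, 5, 4, 5, 5, 5, 5, 8, 6, 10]),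
   (270, [3, 2, 3, 3, 3, 4, 5, 4, 4, 5, 4, 4, 7, 9, 7, 10, 10]),
   (257, [2, 2, 3, 2, 3, 3, 3, 3, 3, 4, 4, 5, 5, 5, 5, 9, 7, 8, 6]),
   (272, [2, 3, 3, 2, 2, 3, 3, 2, 4, 4, 4, 4, 5, 4, 5, 6, 6, 9]),
   (273, [2, 5, 5, 4, 5, 5, 4, 6, 6, 9]),
   (267, []),
   (0, [2]),
   (210, [2, 3, 3, 2, 2, 2, 5, 5, 5, 5]),
   (141, [2, 3, 3, 2, 2, 3, 3, 2, 4, 4, 5, 4, 5, 4, 5, 9, 7, 7, 6, 10, 10]),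
   (164, [3, 2, 3, 3, 3, 3, 3, 5, 4, 4, 4, 5, 4, 4, 9, 8, 7, 9]),
   (3, [3, 2, 2, 3, 2, 3, 3, 2, 5, 5, 4, 5, 5, 4, 4, 4, 8, 9, 6, 9, 10]),
   (48, [2, 2, 4, 4, 5, 4, 5, 8, 6, 10]),
   (146, [3, 3, 2, 4, 4, 4, 4, 5, 4, 4, 9, 6, 9, 10]),
   (58, [3, 3, 3, 2, 3, 2, 3, 5, 4, 4, 4, 5, 4, 4, 9, 6, 6, 10]),
   (27, [3, 2, 3, 2, 3, 2, 2, 5, 5, 4, 5, 4, 7, 9, 6, 10, 10]),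
   (25, [3, 2, 2, 2, 4, 4, 5, 5, 5, 4, 6, 8, 9, 7, 10, 10]),
   (60, [2, 2, 3, 2, 3, 3, 3, 3, 5, 4, 4, 5, 4, 5, 9, 7, 8, 6, 10, 10]),
   (237, [2, 3, 3, 3, 3, 3, 5, 5, 4, 9, 7, 6]),
   (49, [3, 3, 2, 2, 2, 3, 5, 5, 4, 4, 10, 10]),
   (169, [3, 3, 2, 2, 3, 3, 2, 4, 4, 4, 5, 5, 5, 4, 9, 6, 7]),
   (174, [3, 3, 3, 2, 3, 4, 5, 5, 5, 5, 9, 10]),
   (250, [3, 3, 3, 3, 3, 4, 4, 5, 4, 7, 9, 7, 10, 10]),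
   (150, [3, 2, 2, 3, 3, 2, 2, 4, 5, 5, 5, 4, 5, 5, 4, 6, 8, 6, 6, 10, 10]),
   (204, [2, 3, 2, 3, 3, 3, 2, 2, 2, 5, 4, 4, 5, 5, 5, 6, 6, 9, 10, 10]),
   (122, [2, 3, 2, 5, 6, 9, 6, 6, 10, 10]),
   (207, [2, 2, 2, 3, 2, 3, 3, 2, 5, 4, 4, 4, 7, 8, 9, 7, 10]),
   (258, [3, 2, 2, 2, 3, 3, 2, 2, 5, 5, 5, 4, 8, 6, 6]),
   (19, [3, 2, 3, 3, 3, 3, 2, 3, 5, 4, 8, 6, 10, 10]),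
   (222, [2, 2, 3, 3, 2, 3, 5, 4, 5, 9, 8, 7, 9, 10, 10]),
   (154, [2, 2, 3, 3, 3, 3, 3, 4, 4, 4, 5, 5, 5, 4, 6, 9, 7, 10, 10]),
   (101, [3, 2, 2, 3, 3, 2, 3, 4, 5, 5, 4, 5, 7, 10]),
   (149, [3, 2, 2, 3, 2, 3, 3, 2, 4, 5, 4, 7, 8, 9]),
   (257, [3, 2, 2, 2, 4, 4, 4, 5, 5, 5, 4, 6, 9, 7, 10]),
   (128, [2, 2, 2, 2, 5, 4, 5, 7, 9, 8, 7, 10, 10]),
   (8, [3, 3, 2, 2, 3, 2, 3, 5, 4, 5, 5, 5, 5, 8, 8, 6]),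
   (233, [2, 3, 2, 3, 2, 3, 5, 4, 4, 4, 5, 4, 4, 8, 6, 9, 6, 10]),
   (43, [2, 2, 2, 3, 2, 2, 5, 4, 4, 5, 5, 4, 4, 4, 9, 8, 7, 10]),
   (76, [2, 2, 2, 2, 2, 3, 4, 5, 5, 4, 5, 5, 6, 10, 10]),
   (33, [2, 3, 2, 3, 2, 2, 4, 5, 5, 4, 5, 5, 7, 9, 7, 6, 10]),
   (66, [3, 3, 3, 3, 2, 3, 2, 5, 4, 5, 5, 8, 9, 6, 6, 10, 10]),
   (177, [3, 2, 2, 3, 2, 2, 4, 5, 4, 5, 4, 7, 9, 8, 6, 10, 10]),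
   (180, [3, 2, 2, 3, 3, 2, 2, 4, 5, 5, 4, 5, 5, 4]),
   (248, [3, 3, 3, 2, 3, 2, 3, 4, 5, 4, 5, 5, 5, 5, 7, 7, 8, 9]),
   (88, [2, 2, 2, 3, 2, 3, 4, 5, 4, 4, 7, 9, 8, 6, 10, 10]),
   (165, [3, 3, 3, 2, 3, 4, 5, 4, 5, 5, 5, 4, 7, 7, 9, 6, 10]),
   (64, []),
   (135, [2, 3, 5, 5, 4, 5, 4, 4, 4, 8, 6, 6, 9]),
   (42, [2, 3, 3, 2, 5, 5, 4, 4, 5, 4, 5, 9, 8, 6, 6, 10]),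
   (69, [3, 2, 2, 3, 2, 2, 5, 4, 4, 5, 4, 5, 4, 8, 7]),
   (12, [3, 2, 3, 2, 3, 4, 4, 4, 5, 4, 4, 8, 7, 9, 10, 10]),
   (246, [3, 3, 3, 3, 2, 3, 3, 4, 5, 4, 5, 4, 5, 9, 7, 6, 10, 10]),
   (28, [3, 2, 2, 2, 2, 3, 4, 4, 5, 4, 4, 4, 7, 9, 7, 6, 10]),
   (235, [3, 3, 2, 2, 2, 2, 3, 5, 4, 5, 5, 4, 4, 4, 9, 8, 7, 9, 10]),
   (116, [3, 2, 2, 2, 4, 5, 5, 6, 9, 8, 6, 10]),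
   (172, [2, 3, 2, 3, 3, 3, 2, 2, 2, 4, 5, 5, 4, 5, 5, 4, 6, 6, 10]),
   (21, [2, 3, 2, 3, 3, 2, 4, 5, 5, 5, 5, 9, 8, 6, 6]),
   (74, [3, 4, 5, 5, 5, 4, 5, 5, 4, 7, 7, 9, 6]),
   (114, [3, 3, 3, 2, 3, 5, 4, 5, 4, 5, 4, 5, 8, 7, 9, 7, 10, 10]),
   (200, [2, 3, 2, 2, 2, 3, 2, 3, 5, 4, 5, 4, 4, 4, 6, 9, 6, 7, 10]),
   (130, [3, 2, 3, 3, 2, 2, 5, 4, 5, 5, 4, 9, 7, 7, 6, 10]),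
   (71, [2, 2, 2, 2, 3, 2, 3, 5, 4, 5, 4, 5, 5, 6, 6]),
   (214, [2, 2, 2, 4, 4, 4, 5, 4, 5, 8, 9]),
   (158, [3, 2, 3, 3, 2, 2, 4, 5, 5, 5, 4, 5, 4, 8, 8, 6]),
   (34, [3, 2, 2, 2, 3, 3, 2, 2, 5, 5, 5, 5, 4, 5, 4]),
   (26, [2, 3, 3, 2, 3, 4, 5, 5, 9, 7, 6, 6, 10]),
   (79, [3, 2, 3, 3, 3, 4, 5, 4, 5, 4, 8, 9, 6, 6, 10]),
   (196, [3, 3, 2, 3, 3, 3, 4, 5, 4, 4, 4, 6, 9, 6, 7, 10, 10]),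
   (212, [2, 3, 2, 3, 3, 3, 3, 5, 5, 5, 5, 4, 5, 6, 6, 9, 10]),
   (217, [2, 3, 2, 3, 3, 3, 3, 5, 5, 5, 5, 4, 5, 6, 6, 9, 10]),
   (125, [5, 5, 4, 5, 5, 4, 4, 4, 7, 7, 10]),
   (225, [3, 3, 2, 2, 2, 3, 4, 4, 5, 4, 4, 4, 9, 8, 6, 10]),
   (228, [3, 2, 2, 2, 2, 2, 2, 3, 3, 5, 4, 5, 5, 4, 4, 4, 8, 9, 6, 9, 10]),
   (38, []),
   (87, [2, 2, 2, 2, 2, 2, 2, 5, 4, 5, 5, 5, 5, 6, 9, 8, 6, 6, 10]),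
   (137, [3, 3, 3, 2, 2, 2, 5, 5, 5, 4, 8, 6, 6, 9]),
   (89, [2, 3, 3, 2, 2, 5, 5, 4, 5, 5, 4, 4, 4, 6, 9, 7, 10]),
   (81, [3, 3, 2, 2, 2, 3, 5, 4, 4, 4, 5, 4, 6, 9, 6, 6]),
   (92, [2, 3, 2, 3, 2, 2, 5, 5, 4, 5, 4, 7, 9, 6, 10, 10]),
   (117, [3, 3, 3, 2, 3, 4, 5, 4, 8, 7, 7, 6, 10]),
   (97, [2, 3, 2, 2, 3, 2, 2, 4, 4, 5, 5, 5, 5, 8, 9, 10]),
   (103, [2, 3, 2, 2, 5, 5, 4, 5, 5, 5, 4, 9, 6, 9, 10, 10]),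
   (179, [3, 2, 2, 2, 2, 2, 2, 3, 3, 4, 4, 4, 5, 5, 5, 4, 7, 9, 6, 6, 10, 10]),
   (143, [5, 4, 4, 4, 5, 4, 6, 9]),
   (272, [3, 3, 2, 2, 3, 2, 3, 5, 5, 5, 4, 5, 9, 8, 7, 10]),
   (56, [3, 3, 2, 3, 3, 4, 5, 4, 5, 5, 8, 6, 6, 9, 10]),
   (193, [2, 2, 3, 3, 3, 2, 3, 2, 5, 5, 4, 4, 5, 4, 5, 7, 8, 6, 10, 10]),
   (113, []),
   (70, [2, 3, 3, 3, 5, 5, 4, 5, 5, 7, 7, 8, 9, 10, 10]),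
   (160, [2, 3, 3, 2, 3, 2, 4, 4, 4, 5, 5, 5, 6, 9, 6, 10, 10]),
   (243, [2, 3, 3, 3, 3, 3, 5, 4, 4, 5, 4, 7]),
   (268, [2, 2, 2, 3, 2, 3, 5, 5, 4, 5, 5, 8, 6, 10]),
   (80, [2, 3, 2, 2, 3, 2, 2, 4, 5, 4, 4, 4, 6, 9, 7, 10]),
   (67, [2, 2, 2, 2, 2, 2, 3, 9, 7, 9, 6, 10]),
   (55, []),
   (244, [2, 3, 3, 2, 2, 3, 2, 3, 4, 5, 4, 4, 7, 9, 6, 6]),
   (205, [3, 3, 2, 2, 2, 2, 2, 2, 3, 3, 4, 4, 4, 5, 4, 4, 4, 6, 6, 9]),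
   (208, [3, 3, 2, 2, 2, 5, 4, 4, 5, 5, 5, 8, 9, 6, 6]),
   (161, [2, 3, 2, 2, 3, 2, 3, 3, 2, 4, 5, 4, 5, 4, 9, 8, 6, 10, 10]),
   (186, [3, 3, 2, 3, 3, 2, 2, 5, 5, 4, 4, 5, 4, 5, 6, 8, 9, 7]),
   (163, [3, 3, 2, 2, 2, 2, 2, 2, 2, 5, 5, 5, 4, 5, 5, 4, 7, 7, 9, 10]),
   (75, [3, 2, 3, 3, 3, 3, 2, 3, 5, 4, 6, 6, 9, 10]),
   (20, [3, 2, 2, 2, 4, 5, 5, 4, 7, 6, 6, 10, 10]),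
   (152, [3, 3, 3, 3, 2, 3, 2, 5, 5, 4, 5, 4, 5, 5, 10]),
   (118, [2, 2, 2, 3, 2, 2, 4, 4, 4, 5, 5, 5, 9, 7]),
   (236, [2, 3, 2, 2, 3, 2, 3, 3, 2, 5, 4, 4, 5, 4, 5, 7, 7, 6, 10, 10]),
   (239, [3, 3, 2, 2, 2, 2, 3, 4, 4, 4, 5, 5, 5, 4, 6, 10]),
   (151, [3, 2, 3, 3, 2, 5, 4, 5, 5, 4, 5, 5, 6, 9, 8, 6, 6, 10]),
   (197, [2, 2, 2, 2, 2, 3, 4, 4, 5, 4, 5, 4, 7, 8, 9, 7]),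
   (232, [3, 3, 3, 3, 3, 5, 4, 4, 5, 5, 5, 8, 6, 10, 10]),
   (47, [2, 3, 2, 2, 2, 3, 5, 5, 4, 4, 7, 9, 8, 7, 10, 10]),
   (102, [2, 3, 2, 2, 3, 3, 2, 2, 4, 4, 5, 5, 4, 4, 4, 7, 6, 6]),
   (145, [3, 3, 2, 3, 2, 3, 5, 5, 4, 5, 5, 4, 4, 4, 6, 10, 10]),
   (249, [2, 3, 2, 3, 2, 3, 3, 2, 5, 5, 5, 8, 9, 10]),
   (30, [3, 2, 2, 5, 4, 5, 4, 5, 5, 6, 9, 8, 6, 10]),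
   (84, [2, 3, 3, 2, 3, 3, 5, 4, 5, 4, 7, 7, 10, 10]),
   (209, [3, 3, 3, 3, 4, 5, 5, 5, 4, 5, 8, 7, 9, 10, 10])]

/-- Part of a closure certificate. -/
def gLev0c3 : List (ℕ × List ℕ) :=
  [(156, [3, 2, 3, 2, 3, 2, 2, 5, 5, 5, 4, 5, 5, 4, 7, 10]),
   (62, [2, 3, 3, 3, 3, 4, 5, 4, 5, 4, 8, 7]),
   (203, [3, 3, 3, 3, 2, 3, 5, 4, 5, 4, 5, 4, 5, 6, 6, 10]),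
   (18, [3, 2, 2, 3, 3, 2, 2, 5, 5, 5, 4, 5, 4, 7, 8, 9, 10, 10]),
   (136, [2, 3, 2, 2, 4, 5, 5, 4, 4, 4, 8, 7, 9, 10]),
   (78, []),
   (199, [3, 2, 3, 2, 3, 3, 2, 4, 4, 5, 5, 5, 9, 7, 8, 6, 10]),
   (157, [2, 3, 3, 2, 2, 4, 4, 4, 5, 4, 6, 9, 6, 6]),
   (41, [3, 2, 3, 5, 4, 5, 5, 4, 7, 9, 8, 6]),
   (132, [2, 2, 3, 3, 2, 3, 5, 4, 4, 4, 5, 4, 6, 9, 6]),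
   (234, [3, 2, 3, 2, 3, 2, 3, 5, 5, 4, 5, 5, 5, 4, 9, 7, 8, 6, 10]),
   (99, [3, 2, 2, 3, 3, 2, 4, 4, 4, 5, 5, 5, 9, 7, 9, 10]),
   (121, [5, 5, 4, 5, 5, 4, 4, 4, 7, 7, 10]),
   (253, [3, 3, 2, 3, 3, 2, 2, 4, 5, 5, 5, 4, 5, 8, 7, 10, 10]),
   (260, [3, 2, 2, 2, 3, 5, 5, 4, 5, 5, 7, 9, 6, 6, 10]),
   (57, [2, 3, 3, 3, 3, 3, 4, 4, 4, 5, 4, 5, 7, 8, 6]),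
   (181, [3, 2, 2, 3, 3, 5, 5, 5, 5, 4, 5, 4, 7, 8, 9, 10, 10]),
   (61, [5, 5, 4, 5, 5, 4, 4, 4, 7, 7, 10]),
   (110, [3, 3, 3, 3, 2, 3, 2, 3, 4, 4, 5, 4, 5, 4, 6, 9, 6]),
   (50, [2, 3, 2, 3, 2, 2, 4, 4, 5, 4, 5, 4, 5, 9, 7, 6, 10, 10]),
   (40, [2, 2, 2, 2, 2, 3, 4, 5, 4, 5, 8, 9, 10, 10]),
   (264, [2, 2, 2, 2, 3, 3, 5, 4, 4, 4, 5, 4, 4, 9, 8, 6, 10, 10]),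
   (131, [3, 3, 3, 2, 2, 2, 5, 5, 5, 4, 8, 6, 6, 9]),
   (59, [3, 3, 2, 2, 2, 2, 2, 2, 3, 3, 4, 4, 4, 6]),
   (54, [3, 2, 2, 3, 3, 2, 5, 4, 5, 5, 4, 5, 5, 7, 9, 7, 6, 10, 10]),
   (53, [2, 3, 4, 5, 4, 4, 4, 5, 4, 4, 7, 9, 7, 6]),
   (35, [3, 3, 2, 2, 2, 3, 4, 5, 5, 4, 5, 5, 4, 6, 9, 6, 10]),
   (29, [3, 2, 3, 3, 4, 5, 5, 4, 5, 5, 4, 8, 8, 6]),
   (206, [2, 3, 2, 2, 2, 3, 2, 3, 4, 5, 4, 4, 5, 4, 4, 7, 8, 9, 7, 10]),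
   (194, [2, 3, 2, 2, 2, 5, 5, 5, 4, 5, 4, 4, 4, 6, 6]),
   (115, [2, 3, 2, 3, 3, 3, 3, 3, 5, 5, 5, 5, 4, 5, 8, 6, 9, 6, 10]),
   (202, [3, 2, 2, 3, 3, 2, 3, 5, 4, 4, 5, 4, 5, 4, 7, 10, 10]),
   (91, [2, 3, 2, 3, 2, 2, 5, 5, 4, 5, 4, 7, 9, 6, 10, 10]),
   (223, [3, 3, 3, 3, 3, 3, 5, 4, 5, 5, 5, 4, 8, 7, 9, 7, 10]),
   (231, [2, 3, 3, 3, 3, 2, 3, 4, 5, 5, 5, 4, 5, 5, 4, 7, 8, 9, 10]),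
   (230, [2, 3, 3, 2, 3, 3, 2, 2, 4, 4, 5, 9, 6, 10]),
   (227, [2, 2, 2, 3, 4, 4, 4, 5, 4, 5, 8, 9, 6, 6, 10]),
   (17, [3, 2, 3, 3, 3, 3, 5, 4, 4, 7]),
   (65, [3, 2, 3, 2, 3, 5, 5, 4, 5, 9, 7]),
   (37, [3, 2, 2, 2, 2, 4, 4, 5, 5, 5, 5, 9, 7, 8, 6]),
   (23, [2, 2, 2, 3, 2, 3, 3, 2, 4, 4, 5, 4, 5, 4, 5, 9, 8, 6]),
   (9, [2, 3, 3, 2, 3, 3, 2, 2, 4, 5, 4, 4, 5, 4, 4, 8, 9, 7, 10, 10]),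
   (251, [3, 2, 2, 3, 3, 2, 5, 4, 5, 5, 5, 4, 8, 7, 9, 10]),
   (2, [3, 3, 3, 3, 3, 5, 5, 5, 4, 5, 7, 7, 8, 9, 10, 10]),
   (271, [2, 2, 3, 2, 3, 3, 3, 3, 4, 5, 4, 5, 5, 5, 5, 7, 9, 6, 10, 10]),
   (72, [2, 3, 3, 2, 2, 3, 3, 2, 5, 4, 4, 5, 4, 5, 4, 7, 9, 7]),
   (224, [3, 2, 3, 5, 5, 5, 4, 5, 4, 7, 8, 9]),
   (155, [2, 2, 3, 2, 2, 2, 5, 5, 5, 4, 5, 7, 9, 10, 10]),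
   (195, [3, 3, 2, 3, 2, 4, 4, 7, 10, 10]),
   (216, [3, 3, 3, 3, 2, 3, 2, 4, 4, 4, 5, 4, 6, 8, 6, 6, 10, 10]),
   (265, [3, 2, 3, 2, 4, 4, 9, 7, 9, 6, 10, 10]),
   (39, [2, 2, 2, 3, 3, 2, 2, 4, 4, 4, 5, 4, 4, 6, 9, 6, 7, 10, 10]),
   (168, [2, 3, 3, 2, 3, 3, 2, 2, 5, 4, 5, 5, 9, 7, 6, 6]),
   (46, [2, 2, 2, 2, 4, 4, 5, 7, 7, 6]),
   (182, [3, 2, 3, 2, 3, 3, 2, 4, 5, 5, 5, 5, 9, 7, 6]),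
   (5, [3, 3, 3, 2, 3, 4, 4, 5, 5, 5, 9, 6, 9]),
   (129, [3, 3, 3, 2, 3, 2, 3, 4, 5, 5, 5, 5, 6, 9, 6, 7]),
   (6, [2, 3, 2, 3, 5, 5, 5, 4, 5, 4, 4, 4, 8, 6, 9, 6, 10, 10]),
   (126, [2, 3, 3, 2, 3, 3, 3, 4, 5, 4, 5, 5, 5, 4, 7, 8, 6, 10, 10]),
   (261, [2, 2, 2, 2, 3, 3, 3, 2, 3, 2, 4, 5, 4, 5, 4, 9, 7, 6]),
   (247, [3, 2, 2, 2, 3, 2, 2, 4, 4, 4, 5, 4, 4, 4, 7, 9, 7, 6, 10, 10]),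
   (226, [2, 2, 3, 3, 2, 2, 4, 5, 4, 9, 7, 9, 6, 10]),
   (32, [3, 2, 3, 3, 5, 4, 5, 5, 5, 5, 9, 8, 6, 6]),
   (256, [2, 2, 2, 3, 3, 2, 5, 4, 6, 9, 7]),
   (10, [2, 2, 3, 3, 3, 3, 3, 4, 5, 4, 5, 5, 4, 9, 6, 6, 10, 10]),
   (267, [3, 2, 3, 3, 3, 3, 3, 5, 5, 5, 5, 7, 8, 9, 7, 10, 10]),
   (185, [2, 2, 2, 2, 2, 3, 5, 4, 4, 5, 5, 4, 4, 4, 7, 9, 7, 6, 10]),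
   (124, [2, 3, 3, 2, 2, 3, 2, 3, 4, 4, 4, 5, 5, 5, 4, 7, 9, 8, 7, 10]),
   (31, [2, 3, 2, 2, 3, 2, 3, 3, 2, 5, 5, 4, 5, 4, 5, 5, 8, 9]),
   (95, [2, 2, 3, 3, 3, 3, 3, 4, 5, 5, 5, 4, 5, 5, 4, 6, 9, 6]),
   (241, [3, 3, 2, 2, 3, 2, 3, 4, 4, 5, 4, 9, 7]),
   (162, [2, 2, 2, 3, 2, 3, 3, 2, 4, 5, 4, 5, 5, 4, 7, 9, 6, 10]),
   (4, [2, 2, 4, 5, 4, 5, 5, 4, 6, 9, 6, 6, 10, 10]),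
   (238, [3, 3, 3, 3, 3, 3, 4, 4, 5, 4, 4, 8, 8, 6, 10, 10]),
   (90, [3, 3, 2, 2, 5, 5, 4, 5, 5, 5, 4, 6, 9, 6, 6]),
   (255, [3, 2, 3, 3, 3, 2, 3, 2, 5, 7, 9, 8, 7]),
   (266, [2, 2, 2, 2, 2, 3, 4, 5, 5, 5, 4, 5, 5, 4, 7, 7, 9, 6]),
   (93, [2, 2, 3, 3, 2, 5, 4, 6, 9, 10, 10]),
   (22, [2, 2, 2, 2, 3, 2, 2, 4, 5, 5, 5, 5, 4, 5, 4, 6, 9, 8, 6, 6, 10, 10]),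
   (262, [2, 3, 2, 3, 3, 3, 2, 2, 2, 5, 4, 5, 4, 5, 5, 7, 8, 9, 7, 10, 10]),
   (167, [3, 2, 2, 3, 3, 2, 2, 5, 5, 5, 4, 5, 5, 4, 6, 9]),
   (213, [2, 3, 3, 4, 5, 4, 5, 5, 4, 4, 4, 6, 6, 9, 6, 6]),
   (52, [3, 3, 3, 3, 2, 3, 4, 5, 5, 4, 4, 4, 7, 7, 9, 6]),
   (211, [2, 2, 2, 2, 3, 4, 5, 4, 5, 5, 5, 4, 8, 9, 10, 10]),
   (44, [3, 2, 2, 3, 3, 4, 5, 5, 5, 5, 9, 7, 8, 6]),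
   (138, [2, 2, 2, 2, 4, 5, 5, 5, 7, 9, 8, 6, 10]),
   (105, [2, 3, 2, 3, 2, 2, 4, 5, 5, 4, 5, 5, 4, 9, 7, 9, 6, 10, 10]),
   (148, []),
   (144, [2, 2, 2, 3, 3, 4, 6, 6, 10]),
   (166, [2, 3, 2, 3, 2, 3, 3, 2, 4, 5, 5, 7, 9, 10, 10]),
   (198, [3, 2, 2, 3, 3, 2, 2, 5, 5, 5, 5, 7, 7, 9]),
   (63, [3, 2, 2, 2, 3, 2, 3, 4, 5, 4, 5, 5, 5, 4, 7, 9, 10, 10]),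
   (176, [2, 2, 3, 3, 3, 3, 3, 5, 5, 5, 4, 5, 4, 4, 4, 7, 9, 8, 6, 10, 10]),
   (142, [3, 2, 2, 2, 3, 2, 2, 2, 4, 5, 5, 5, 7, 7, 9, 10, 10]),
   (187, [2, 2, 3, 3, 2, 3, 4, 8, 6, 10]),
   (73, [2, 2, 2, 2, 3, 3, 5, 4, 5, 4, 5, 4, 5, 7, 7, 8, 9]),
   (140, [2, 3, 2, 3, 2, 4, 4, 6, 9, 8, 6, 6]),
   (107, [2, 2, 2, 3, 2, 3, 4, 4, 5, 4, 5, 5, 9, 7, 6, 6, 10]),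
   (11, [2, 3, 3, 2, 3, 2, 5, 4, 5, 4, 4, 4, 6, 9, 7]),
   (36, [2, 2, 2, 2, 2, 2, 3, 3, 4, 4, 4, 6, 9, 6, 6, 10]),
   (1, [3, 2, 3, 3, 3, 4, 4, 4, 5, 5, 5, 4, 8, 9, 6, 9, 10, 10]),
   (82, [3, 2, 3, 3, 3, 3, 3, 4, 4, 4, 5, 4, 4]),
   (109, [3, 3, 2, 2, 2, 5, 4, 4, 5, 4, 5, 5, 8, 9, 6, 9]),
   (16, [3, 3, 2, 2, 3, 2, 3, 5, 4, 5, 5, 4, 5, 5, 9, 7, 8, 6]),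
   (242, [2, 3, 3, 2, 3, 5, 4, 5, 4, 6, 8, 9, 7, 10]),
   (153, [2, 2, 3, 2, 3, 5, 5, 4, 5, 4, 5, 5, 9, 7, 7, 6]),
   (111, [3, 2, 3, 3, 2, 2, 5, 4, 5, 5, 4, 5, 5, 6, 9, 6, 10]),
   (83, [3, 2, 3, 2, 3, 2, 3, 5, 5, 5, 7, 8, 9, 10, 10]),
   (68, [2, 2, 2, 3, 5, 5, 5, 5, 4, 5, 4, 6, 7, 10, 10]),
   (24, [2, 3, 3, 3, 3, 4, 4, 5, 4, 5, 5, 6, 9, 8, 6, 6, 10]),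
   (127, [3, 3, 2, 2, 3, 2, 3, 5, 5, 4, 5, 4, 4, 4, 7, 6, 10]),
   (159, [2, 2, 3, 3, 3, 3, 3, 5, 4, 4, 5, 4, 4, 4, 8, 7, 10, 10]),
   (218, [3, 3, 3, 2, 3, 3, 5, 5, 4, 5, 4, 4, 4, 6, 10, 10]),
   (263, [3, 2, 3, 3, 3, 2, 3, 2, 4, 4, 5, 4, 5, 7, 7, 6]),
   (45, [3, 3, 2, 3, 3, 5, 5, 4, 6, 6, 10]),
   (112, [3, 3, 2, 3, 2, 3, 2, 3, 4, 5, 5, 5, 5, 7, 8, 9, 10]),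
   (229, [3, 2, 2, 4, 5, 4, 4, 9, 8, 7, 10]),
   (96, [2, 2, 2, 5, 5, 5, 4, 5, 4, 4, 4, 8, 7, 10, 10]),
   (240, [2, 3, 2, 5, 4, 4, 5, 4, 5, 4, 8, 9, 7, 6, 10]),
   (184, []),
   (14, [2, 3, 3, 2, 3, 4, 5, 5, 4, 4, 4, 6]),
   (77, [2, 2, 3, 3, 3, 5, 4, 5, 4, 4, 8, 6, 10]),
   (254, [2, 3, 3, 2, 2, 4, 5, 5, 5, 5, 4, 5, 4, 9, 8, 7]),
   (188, [2, 2, 4, 5, 4, 5, 4, 5, 6, 9, 10]),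
   (189, [2, 3, 3, 2, 5, 4, 5, 5, 5, 4, 6, 7]),
   (147, [3, 2, 3, 3, 2, 2, 5, 5, 5, 5, 6, 9, 8, 6, 10]),
   (51, [2, 2, 2, 2, 2, 3, 5, 4, 5, 4, 5, 5, 7, 9, 7, 6]),
   (171, [2, 2, 2, 2, 3, 3, 3, 2, 3, 2, 5, 4, 5, 4, 9, 6]),
   (173, [2, 2, 2, 2, 2, 5, 5, 4, 5, 9, 8, 7]),
   (85, [3, 4, 4, 4, 5, 4, 7, 6, 6, 10]),
   (219, [3, 2, 2, 3, 2, 3, 4, 4, 5, 5, 5, 6, 6, 9, 6, 6]),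
   (98, [3, 3, 2, 2, 2, 2, 3, 5, 5, 5, 4, 9, 7, 8, 6]),
   (15, [3, 3, 2, 2, 2, 5, 4, 4, 4, 5, 4, 4, 7, 7, 9, 6, 10]),
   (221, [3, 2, 3, 3, 3, 2, 3, 2, 5, 5, 4, 5, 5, 4, 8, 6, 6]),
   (100, [2, 2, 2, 2, 2, 2, 2, 5, 4, 5, 5, 5, 5, 8, 6, 10]),
   (274, [3, 3, 3, 3, 2, 2, 2, 5, 5, 5, 4, 5, 5, 4, 10, 10]),
   (139, [2, 2, 3, 3, 5, 5, 5, 5, 4, 5, 4, 7, 6, 6, 10]),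
   (178, [3, 2, 3, 2, 5, 5, 5, 4, 4, 4, 9, 8, 7, 9, 10, 10]),
   (220, [2, 2, 2, 3, 3, 2, 5, 5, 4, 4, 6, 9, 6]),
   (106, [2, 2, 2, 2, 2, 3, 5, 5, 5, 4, 5, 7, 7, 8, 9, 10]),
   (86, [2, 2, 2, 2, 2, 3, 3, 4, 4, 5, 5, 4, 4, 4, 7, 9, 8, 6, 10, 10]),
   (190, [2, 3, 3, 3, 2, 3, 2, 4, 4, 4, 5, 5, 5, 4, 7, 7, 9, 6, 10]),
   (191, [3, 2, 2, 3, 3, 4, 5, 5, 5, 4, 5, 4, 7, 6]),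
   (104, [3, 3, 4, 5, 4, 4, 4, 7, 9, 8, 7]),
   (175, [2, 2, 3, 3, 3, 2, 3, 2, 5, 4, 4, 5, 4, 5, 5, 6, 9, 8, 6]),
   (215, [3, 2, 4, 5, 4, 5, 5, 4, 4, 4, 8, 9, 6, 6, 10]),
   (119, [2, 2, 2, 2, 2, 4, 4, 5, 4, 5, 4, 5, 6, 9, 6, 6]),
   (108, [2, 3, 2, 2, 2, 5, 5, 4, 4, 7, 8, 6]),
   (270, [3, 3, 3, 2, 2, 2, 4, 4, 5, 4, 8, 8, 6]),
   (7, [3, 3, 2, 4, 5, 4, 5, 4, 5, 8, 9, 10]),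
   (201, [2, 2, 3, 3, 3, 4, 5, 5, 4, 5, 6, 9, 10]),
   (273, [3, 3, 3, 5, 5, 4, 5, 5, 4, 9, 8, 7, 10]),
   (120, [3, 3, 3, 3, 2, 3, 2, 3, 4, 5, 5, 5, 4, 5, 7, 9]),
   (170, [2, 2, 3, 3, 2, 3, 2, 5, 4, 4, 6, 9, 8, 6, 10, 10]),
   (183, [3, 3, 2, 2, 2, 3, 5, 5, 9, 7, 7, 6, 10, 10]),
   (133, [3, 2, 2, 2, 2, 5, 4, 5, 5, 7, 8, 9, 7, 10]),
   (245, [3, 3, 3, 3, 3, 3, 6, 9, 6, 7, 10, 10]),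
   (123, [3, 2, 2, 2, 3, 2, 3, 4, 5, 4, 5, 4, 9, 7, 9, 6, 10]),
   (259, [2, 3, 3, 3, 2, 3, 3, 5, 4, 4, 5, 4, 5, 4, 10]),
   (94, [3, 3, 3, 2, 3, 2, 3, 4, 4, 5, 9, 6, 6, 10]),
   (269, [3, 2, 2, 2, 2, 4, 4, 6, 6]),
   (252, [3, 2, 2, 3, 2, 3, 5, 4, 5, 5, 4, 4, 4, 9, 7, 6, 6, 10]),
   (192, [2, 2, 3, 2, 3, 3, 3, 3, 4, 4, 5, 5, 5, 5, 4, 5, 4, 9, 6, 10]),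
   (13, [2, 3, 3, 3, 2, 3, 2, 5, 4, 5, 4, 5, 5, 8, 7, 7, 6, 10, 10]),
   (134, [2, 3, 2, 2, 2, 2, 2, 2, 2, 5, 4, 4, 7, 7, 9, 6, 10]),
   (0, [3]),
   (106, [2, 3, 3, 2, 2, 3, 3, 2, 4, 4, 5, 4, 5, 4, 5, 9, 7, 7, 6, 10, 10]),
   (47, [2, 3, 3, 2, 2, 3, 3, 2, 4, 4, 5, 4, 5, 4, 5, 9, 7, 7, 6, 10, 10]),
   (127, [3, 2, 2, 3, 3, 2, 5, 5, 5, 5, 6, 10, 10]),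
   (209, []),
   (32, [3, 3, 3, 3, 3, 4, 5, 4, 5, 5, 4, 4, 4, 9, 8, 6, 6, 10]),
   (79, [3, 2, 3, 2, 3, 3, 2, 5, 5, 5, 4, 9, 7, 9, 10]),
   (118, [2, 3, 2, 2, 3, 3, 2, 2, 5, 5, 5, 5, 4, 5, 4, 7, 9, 8, 6, 10, 10]),
   (124, [3, 3, 2, 2, 2, 3, 2, 2, 5, 4, 5, 5, 4, 6, 8, 6, 6, 10]),
   (119, [3, 2, 2, 3, 3, 4, 5, 5, 5, 7, 9, 6, 6]),
   (68, [2, 3, 2, 3, 3, 3, 3, 3, 5, 4, 5, 4, 4, 4, 7, 8, 9, 7, 10, 10]),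
   (2, [3, 2, 2, 3, 2, 3, 3, 2, 5, 5, 4, 5, 5, 4, 4, 4, 8, 9, 6, 9, 10]),
   (67, [3, 3, 2, 2, 3, 3, 2, 4, 4, 4, 5, 5, 5, 4, 9, 6, 7]),
   (21, [3, 3, 2, 3, 3, 2, 2, 5, 5, 4, 8, 9, 6, 9, 10]),
   (228, [3, 3, 3, 3, 2, 2, 2, 5, 4, 5, 4, 5, 5, 9, 10, 10]),
   (19, [2, 3, 2, 3, 3, 2, 4, 5, 4, 5, 5, 4, 4, 4, 6, 10]),
   (110, [3, 3, 2, 4, 4, 4, 4, 5, 4, 4, 9, 6, 9, 10]),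
   (252, [2, 2, 2, 2, 2, 2, 2, 4, 5, 4, 5, 5, 4, 7, 7, 6, 10]),
   (46, [3, 3, 3, 3, 3, 5, 5, 4, 4, 5, 4, 5, 10]),
   (169, [3, 3, 2, 3, 5, 5, 5, 4, 5, 6, 9, 6, 7]),
   (172, [3, 3, 2, 3, 3, 2, 2, 4, 5, 5, 4, 5, 8, 8, 6, 10, 10]),
   (18, [3, 2, 3, 2, 3, 2, 2, 5, 5, 4, 5, 4, 7, 9, 6, 10, 10]),
   (105, [3, 2, 3, 3, 3, 3, 4, 5, 5, 5, 5, 4, 5, 4, 6, 8, 6, 6]),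
   (31, [3, 3, 2, 3, 2, 2, 4, 5, 5, 5, 4, 5, 5, 4, 8, 6, 9, 6]),
   (6, [3, 2, 2, 2, 4, 4, 5, 5, 5, 4, 6, 8, 9, 7, 10, 10]),
   (145, [3, 2, 2, 2, 4, 4, 4, 5, 5, 5, 4, 6, 9, 7, 10]),
   (160, [2, 2, 2, 3, 3, 3, 2, 3, 2, 5, 5, 5, 5, 9, 7, 9, 10]),
   (163, [2, 3, 2, 3, 3, 3, 2, 2, 2, 4, 4, 5, 5, 5, 7, 7, 8, 9, 10]),
   (113, [2, 3, 3, 3, 3, 3, 5, 5, 4, 9, 7, 6]),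
   (193, [2, 3, 2, 3, 2, 3, 5, 4, 4, 4, 5, 4, 4, 8, 6, 9, 6, 10]),
   (144, [2, 3, 2, 3, 2, 3, 3, 2, 5, 4, 4, 4, 8, 8, 6, 10]),
   (23, [2, 3, 2, 3, 2, 2, 4, 5, 5, 4, 5, 5, 7, 9, 7, 6, 10]),
   (114, [3, 3, 3, 2, 2, 4, 5, 4, 5, 5, 6, 6, 9, 10, 10]),
   (136, [3, 2, 2, 3, 2, 2, 4, 5, 4, 5, 4, 7, 9, 8, 6, 10, 10]),
   (45, [2, 3, 2, 4, 4, 5, 4, 5, 7, 9, 6, 6, 10, 10]),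
   (261, [2, 2, 2, 2, 2, 3, 2, 3, 5, 5, 4, 5, 4, 4, 4, 8, 9, 6, 9]),
   (62, [2, 2, 2, 3, 2, 3, 4, 5, 4, 4, 7, 9, 8, 6, 10, 10]),
   (266, [3, 3, 3, 3, 3, 3, 5, 4, 4, 6]),
   (98, [3, 2, 2, 2, 3, 4, 5, 4, 5, 4, 7, 10, 10]),
   (186, [3, 2, 3, 2, 3, 3, 2, 4, 9, 7, 8, 6]),
   (11, [2, 3, 3, 2, 5, 5, 4, 4, 5, 4, 5, 9, 8, 6, 6, 10]),
   (90, [3, 3, 3, 2, 2, 5, 5, 5, 4, 4, 4, 9, 8, 6, 6, 10, 10]),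
   (3, [3, 3, 3, 3, 2, 3, 2, 4, 4, 5, 4, 4, 9, 6, 10, 10]),
   (13, [2, 2, 2, 2, 2, 5, 4, 5, 5, 5, 5, 6, 9, 6, 10, 10]),
   (40, [3, 2, 2, 2, 3, 3, 2, 2, 5, 4, 4, 5, 4, 4, 8, 6, 9, 6, 10]),
   (17, [2, 3, 3, 2, 2, 3, 3, 2, 5, 5, 4, 5, 5, 6, 9, 7, 10]),
   (38, [3, 2, 2, 2, 4, 5, 5, 6, 9, 8, 6, 10]),
   (182, [2, 2, 2, 2, 2, 3, 3, 5, 5, 4, 4, 5, 4, 5, 7, 7, 9, 6, 10, 10]),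
   (33, [2, 3, 2, 3, 2, 2, 4, 5, 4, 4, 5, 4, 4, 6, 6, 9, 10, 10]),
   (214, [3, 2, 3, 3, 3, 2, 2, 2, 4, 5, 5, 4, 4, 4, 6, 8, 6, 6, 10]),
   (91, [3, 3, 2, 3, 4, 5, 4, 5, 5, 5, 4, 7, 9]),
   (224, [2, 3, 2, 3, 3, 3, 3, 4, 5, 4, 5, 8, 7, 10]),
   (99, [2, 2, 3, 3, 2, 3, 5, 4, 5, 9, 8, 7, 9, 10, 10]),
   (58, [2, 3, 3, 2, 3, 4, 5, 5, 4, 4, 4, 7, 9, 8, 6, 10, 10]),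
   (37, [2, 3, 3, 2, 3, 4, 5, 5, 4, 4, 4, 6])]

/-- Part of a closure certificate. -/
def gLev0c4 : List (ℕ × List ℕ) :=
  [(120, [3, 2, 3, 3, 2, 2, 4, 5, 5, 5, 4, 5, 4, 8, 8, 6]),
   (97, [3, 2, 3, 3, 2, 3, 3, 2, 2, 4, 4, 5, 5, 5, 6, 6, 9]),
   (147, [3, 2, 2, 2, 4, 5, 4, 5, 4, 5, 8, 6, 6, 10]),
   (74, [3, 4, 5, 5, 4, 7, 9, 8, 7, 10]),
   (141, [2, 2, 3, 2, 3, 5, 5, 4, 5, 4, 4, 4, 8, 7, 7, 6]),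
   (29, [3, 2, 2, 3, 2, 3, 4, 5, 4, 5, 5, 4, 4, 4, 9, 6, 7, 10]),
   (174, [2, 3, 2, 3, 3, 3, 3, 5, 5, 5, 5, 4, 5, 6, 6, 9, 10]),
   (249, [2, 3, 3, 2, 3, 4, 4, 5, 5, 5, 5, 6, 9, 8, 6, 6, 10]),
   (95, [2, 2, 2, 2, 5, 4, 5, 7, 9, 8, 7, 10, 10]),
   (109, [3, 3, 2, 2, 2, 2, 2, 2, 3, 3, 4, 5, 5, 5, 4, 5, 8, 7, 10]),
   (152, [3, 3, 3, 2, 3, 4, 4, 4, 5, 4, 7, 6, 6, 10, 10]),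
   (5, [2, 3, 3, 2, 2, 3, 3, 2, 4, 4, 5, 4, 5, 4, 5, 9, 7, 7, 6, 10, 10]),
   (170, [3, 2, 3, 2, 3, 5, 4, 4, 5, 5, 4, 4, 4, 6, 9, 7, 10, 10]),
   (151, [2, 3, 3, 3, 2, 3, 3, 4, 5, 5, 4, 5, 5, 4, 9, 6]),
   (56, [3, 3, 2, 2, 2, 3, 5, 4, 4, 4, 5, 4, 6, 9, 6, 6]),
   (190, [3, 2, 2, 3, 3, 4, 5, 5, 5, 4, 5, 4, 7, 6]),
   (100, [3, 3, 3, 2, 2, 2, 4, 5, 4, 5, 4, 5, 9, 7, 9, 10, 10]),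
   (207, [3, 2, 2, 2, 3, 2, 2, 2, 4, 4, 4, 5, 4, 9, 8, 6, 6]),
   (1, [2, 3, 3, 2, 4, 4, 5, 5, 5, 5, 4, 5, 4, 9, 6, 7]),
   (22, [2, 2, 2, 2, 2, 3, 4, 5, 5, 4, 5, 5, 6, 10, 10]),
   (143, [3, 2, 2, 3, 3, 4, 4, 4, 4, 5, 4, 5, 8, 7, 10, 10]),
   (192, [3, 3, 2, 2, 3, 2, 3, 5, 5, 5, 4, 5, 9, 8, 7, 10]),
   (187, [2, 2, 3, 3, 2, 3, 2, 7, 8, 9, 7]),
   (217, [2, 2, 2, 4, 4, 5, 5, 5, 5, 4, 5, 4, 7, 9, 7, 10, 10]),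
   (81, [2, 3, 2, 3, 3, 3, 2, 2, 2, 4, 4, 4, 5, 4, 4, 7, 8, 6, 10, 10]),
   (75, [2, 3, 3, 2, 3, 3, 2, 2, 5, 4, 4, 5, 5, 4, 4, 4, 9, 7]),
   (84, [2, 2, 3, 3, 2, 4, 5, 5, 5, 4, 5, 8, 9]),
   (173, [2, 2, 3, 5, 9, 7, 6, 6, 10, 10]),
   (203, [2, 3, 3, 2, 2, 2, 4, 5, 5, 5, 4, 8, 6, 6, 9, 10]),
   (222, [3, 2, 3, 2, 3, 2, 3, 4, 4, 5, 4, 5, 4, 5, 6, 7, 10]),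
   (198, [3, 2, 2, 2, 2, 2, 2, 2, 5, 5, 5, 9, 6, 6, 10, 10]),
   (28, [2, 2, 2, 2, 5, 4, 5, 4, 5, 4, 5, 9, 7, 6, 10]),
   (43, []),
   (183, [2, 2, 2, 2, 2, 3, 2, 3, 5, 5, 4, 5, 5, 5, 4, 8, 9, 10]),
   (92, [3, 3, 2, 2, 2, 5, 4, 4, 5, 5, 5, 8, 9, 6, 6]),
   (220, [3, 3, 3, 3, 3, 4, 4, 5, 4, 5, 5, 4, 9, 8, 6, 6, 10]),
   (138, [3, 2, 3, 2, 3, 3, 2, 4, 5, 5, 5, 4, 5, 6, 9, 6, 10, 10]),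
   (256, [2, 3, 3, 3, 3, 2, 3, 4, 5, 4, 10]),
   (80, [3, 2, 2, 2, 3, 2, 2, 2, 4, 5, 4, 5, 5, 4, 4, 4, 9, 7, 6, 6]),
   (35, [2, 2, 2, 2, 3, 3, 4, 4, 4, 7, 9, 10]),
   (150, [3, 3, 2, 5, 5, 5, 4, 5, 5, 4, 8, 9, 7, 6, 10]),
   (71, [3, 3, 2, 2, 2, 2, 2, 2, 2, 4, 5, 4, 5, 5, 5, 5, 6, 9, 7, 8, 6, 10, 10]),
   (225, [2, 3, 2, 2, 3, 2, 3, 3, 2, 5, 4, 4, 5, 4, 4, 8, 6, 6, 10]),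
   (27, [3, 2, 3, 3, 3, 3, 3, 4, 5, 4, 5, 5, 4, 5, 5, 8, 9]),
   (258, [2, 2, 3, 3, 2, 3, 3, 5, 4, 5, 5, 4, 8, 6, 9, 6, 10]),
   (175, [3, 3, 2, 2, 2, 3, 2, 2, 5, 4, 5, 5, 10]),
   (104, [3, 3, 2, 3, 3, 2, 2, 4, 5, 5, 5, 4, 5, 5, 4, 7, 8, 6, 10, 10]),
   (25, [3, 2, 3, 3, 3, 5, 5, 4, 4, 5, 4, 5, 9, 7, 9, 10, 10]),
   (171, [3, 3, 3, 2, 3, 3, 4, 4, 5, 5, 5, 4, 8, 6, 6, 9]),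
   (219, [2, 2, 2, 2, 2, 3, 4, 4, 5, 5, 5, 5, 8, 8, 6, 10, 10]),
   (215, [2, 3, 2, 3, 2, 3, 3, 2, 5, 5, 5, 8, 9, 10]),
   (14, [3, 2, 2, 3, 3, 2, 2, 5, 4, 5, 4, 4, 9, 8, 7, 10, 10]),
   (191, [2, 3, 2, 3, 4, 4, 5, 5, 5, 4, 7, 8, 9, 7, 10]),
   (134, [3, 2, 2, 3, 2, 2, 4, 4, 5, 4, 5, 5, 4, 7, 7, 9, 10, 10]),
   (148, [3, 2, 3, 2, 2, 2, 4, 5, 5, 5, 4, 5, 4, 6, 9, 7, 10]),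
   (179, [2, 3, 2, 3, 3, 3, 3, 5, 7, 7, 9, 6]),
   (255, [3, 3, 2, 4, 4, 5, 4, 5, 7, 9, 8, 6, 10, 10]),
   (240, [2, 2, 3, 3, 3, 4, 5, 5, 9, 7]),
   (231, [2, 2, 2, 3, 3, 2, 4, 5, 4, 5, 5, 4, 7, 7, 9, 6, 10, 10]),
   (273, [3, 2, 2, 2, 3, 2, 2, 4, 5, 5, 5, 5, 9, 8, 7, 9, 10, 10]),
   (60, []),
   (206, [5, 4, 4, 4, 6, 9, 6, 7, 10, 10]),
   (48, [3, 3, 3, 3, 2, 3, 3, 4, 5, 5, 5, 5, 7, 7, 6]),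
   (274, [2, 2, 2, 3, 4, 5, 5, 5, 4, 9, 10]),
   (205, [3, 2, 2, 2, 3, 3, 2, 2, 4, 4, 5, 4, 5, 5, 7, 8, 9, 10, 10]),
   (189, [3, 4, 4, 4, 4, 5, 4, 4, 9]),
   (52, [3, 2, 4, 4, 5, 4, 5, 5, 4, 7, 9, 6, 10, 10]),
   (93, [5, 5, 4, 5, 5, 4, 4, 4, 7, 7, 10]),
   (211, [2, 2, 2, 2, 3, 2, 2, 4, 5, 4, 4, 4, 7, 7, 10, 10]),
   (156, [3, 3, 2, 2, 3, 2, 2, 5, 4, 4, 5, 4, 4, 9, 7, 6, 6, 10]),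
   (269, [2, 3, 2, 2, 2, 3, 4, 4, 4, 5, 4, 4, 4, 8, 7, 9, 7, 10, 10]),
   (16, [2, 3, 2, 3, 3, 2, 5, 4, 5, 5, 5, 4, 9, 7, 9, 10, 10]),
   (26, []),
   (34, [2, 3, 2, 3, 2, 2, 4, 4, 5, 4, 5, 4, 5, 9, 7, 6, 10, 10]),
   (210, [2, 3, 2, 3, 2, 3, 4, 5, 5, 4, 5, 5, 4, 7, 6, 6]),
   (227, [3, 3, 3, 2, 2, 5, 4, 9, 8, 6, 6, 10, 10]),
   (197, [3, 2, 2, 3, 2, 3, 5, 4, 4, 4, 5, 4, 6, 9, 6, 7, 10]),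
   (101, [3, 3, 3, 2, 2, 2, 5, 5, 5, 4, 8, 6, 6, 9]),
   (39, [2, 3, 3, 3, 2, 2, 2, 4, 5, 4, 5, 5, 4, 9, 6, 9, 10]),
   (64, [3, 2, 2, 2, 3, 3, 2, 2, 5, 5, 5, 4, 5, 4, 8, 7, 7, 6, 10]),
   (196, [3, 3, 2, 2, 2, 5, 5, 4, 4, 5, 4, 5, 9, 7, 7, 6, 10, 10]),
   (177, [3, 3, 2, 3, 3, 2, 2, 4, 4, 5, 4, 5, 4, 5, 7, 9, 8, 6, 10, 10]),
   (221, [3, 3, 3, 3, 3, 3, 5, 4, 5, 4, 4, 6, 8, 6, 6]),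
   (237, [3, 3, 3, 3, 2, 3, 2, 4, 5, 5, 4, 4, 4, 6, 9, 7, 8, 6]),
   (164, [2, 2, 2, 3, 2, 3, 4, 4, 5, 4, 5, 5, 8, 7, 10, 10]),
   (73, [2, 3, 3, 2, 2, 5, 4, 5, 4, 4, 9, 8, 7, 9, 10]),
   (254, [3, 2, 3, 3, 3, 2, 2, 2, 4, 4, 5, 5, 5, 6, 8, 6, 6, 10, 10]),
   (116, [3, 2, 2, 2, 3, 3, 2, 4, 4, 5, 5, 4, 4, 4, 7, 9, 8, 7, 10]),
   (155, [3, 3, 3, 3, 2, 3, 2, 4, 5, 9, 7, 6, 6]),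
   (125, [3, 2, 2, 3, 3, 2, 3, 5, 4, 4, 5, 4, 5, 8, 6, 6, 10, 10]),
   (166, [2, 2, 3, 2, 3, 3, 3, 3, 3, 4, 5, 5, 4, 5, 5, 6, 6, 10]),
   (185, [2, 2, 2, 3, 4, 4, 4, 5, 4, 5, 8, 9, 6, 6, 10]),
   (77, [2, 2, 3, 3, 2, 4, 5, 5, 5, 4, 5, 8, 9]),
   (176, [2, 2, 2, 2, 2, 2, 4, 5, 4, 5, 5, 4, 8, 6, 9, 6, 10]),
   (212, [2, 2, 3, 2, 3, 3, 3, 3, 4, 4, 5, 4, 9, 7, 9, 6]),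
   (76, [2, 3, 2, 2, 3, 2, 2, 4, 4, 4, 5, 5, 5, 4, 9, 10, 10]),
   (218, [3, 2, 2, 3, 3, 2, 5, 4, 5, 5, 5, 4, 8, 7, 9, 10]),
   (167, [2, 3, 2, 3, 2, 3, 3, 2, 4, 5, 5, 5, 4, 5, 4, 7, 8, 6]),
   (202, [2, 2, 2, 2, 4, 4, 4, 4, 5, 4, 4, 7, 9, 6]),
   (157, [2, 2, 3, 3, 3, 2, 3, 2, 5, 4, 5, 4, 8, 9, 6, 6, 10]),
   (181, [3, 2, 3, 5, 5, 5, 4, 5, 4, 7, 8, 9]),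
   (20, [3, 3, 3, 3, 2, 3, 3, 5, 5, 4, 5, 5, 4, 4, 4, 9, 6, 6, 10, 10]),
   (87, [2, 3, 3, 2, 3, 2, 3, 2, 3, 5, 5, 4, 6, 9, 6, 7, 10]),
   (253, [3, 3, 3, 3, 2, 3, 5, 4, 5, 8, 6, 6, 9, 10]),
   (139, [3, 3, 2, 3, 2, 4, 4, 5, 4, 5, 4, 5, 7, 9, 8, 7, 10]),
   (246, [2, 5, 5, 4, 5, 4, 4, 4, 8, 6, 9, 6, 10, 10]),
   (226, [2, 5, 5, 5, 5, 4, 5, 8, 7, 10]),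
   (12, [2, 2, 2, 2, 4, 4, 5, 7, 7, 6]),
   (154, [2, 2, 2, 2, 2, 3, 3, 4, 4, 5, 4, 4, 6, 6, 9, 10]),
   (232, [3, 3, 3, 2, 2, 2, 4, 4, 5, 4, 4, 7, 9, 7, 10, 10]),
   (241, [3, 3, 3, 3, 3, 3, 4, 5, 5, 4, 7, 10]),
   (259, [2, 2, 2, 3, 2, 3, 3, 2, 5, 5, 5, 9, 8, 7, 10, 10]),
   (41, [3, 3, 2, 3, 3, 3, 4, 5, 4, 5, 5, 4, 4, 4, 8, 9, 7, 6, 10]),
   (51, [3, 2, 3, 3, 3, 3, 2, 3, 5, 4, 6, 6, 9, 10]),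
   (180, [2, 3, 3, 2, 3, 3, 2, 2, 5, 4, 5, 4, 4, 4, 9, 8, 7, 10, 10]),
   (239, [2, 2, 2, 2, 3, 3, 3, 2, 3, 2, 4, 5, 5, 5, 4, 5, 7, 7]),
   (50, [3, 3, 2, 3, 3, 3, 3, 4, 5, 4, 6, 8, 6, 6, 10, 10]),
   (165, [3, 2, 3, 2, 3, 2, 2, 4, 5, 4, 4, 5, 4, 4, 6, 8, 9, 7, 10]),
   (208, [2, 3, 3, 3, 2, 3, 2, 4, 4, 5, 4, 5, 4, 5, 8, 6, 6, 10, 10]),
   (111, [3, 3, 2, 2, 2, 3, 2, 2, 5, 5, 5, 4, 8, 7, 7, 6, 10]),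
   (251, [2, 2, 3, 3, 3, 4, 4, 4, 5, 4, 5, 6, 8, 6, 6]),
   (243, [2, 3, 2, 2, 2, 3, 2, 3, 9, 8, 7, 9]),
   (8, [2, 3, 2, 2, 3, 2, 3, 3, 2, 5, 5, 4, 5, 4, 5, 5, 8, 9]),
   (55, [2, 3, 3, 2, 4, 4, 4, 5, 4, 6, 9]),
   (200, [3, 3, 2, 2, 2, 2, 3, 4, 4, 4, 5, 5, 5, 4, 6, 10]),
   (63, [2, 2, 2, 3, 2, 3, 3, 2, 4, 5, 4, 5, 5, 4, 7, 9, 6, 10]),
   (126, [3, 3, 3, 3, 2, 3, 2, 3, 5, 5, 4, 8, 6, 9, 6]),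
   (123, [3, 2, 2, 2, 2, 2, 2, 3, 3, 4, 5, 5, 5, 4, 5, 4, 7, 6, 6]),
   (245, [3, 3, 2, 2, 2, 2, 3, 4, 5, 5, 9, 6, 9, 10, 10]),
   (188, [2, 3, 3, 3, 5, 4, 5, 4, 4, 9, 7, 9, 10, 10]),
   (36, [2, 3, 2, 2, 4, 6, 6, 9, 10]),
   (133, [3, 2, 3, 2, 3, 3, 2, 5, 4, 5, 4, 5, 5, 8, 6, 9, 6, 10]),
   (49, [3, 3, 3, 2, 3, 4, 4, 4, 4, 5, 4, 5, 7, 7, 8, 9, 10, 10]),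
   (7, [2, 2, 2, 3, 5, 4, 4, 4, 5, 4, 7, 8, 6, 10]),
   (66, [3, 2, 2, 3, 3, 2, 2, 5, 5, 5, 4, 5, 5, 4, 6, 9]),
   (61, [2, 2, 2, 2, 2, 2, 5, 5, 4, 4, 4, 9, 8, 7]),
   (263, [3, 3, 2, 2, 3, 2, 2, 5, 4, 4, 5, 5, 4, 4, 4, 10]),
   (94, [2, 2, 2, 2, 3, 4, 5, 4, 5, 5, 5, 4, 8, 9, 10, 10]),
   (44, [3, 2, 3, 3, 3, 2, 3, 2, 5, 5, 4, 5, 5, 7, 7, 10, 10]),
   (4, [3, 2, 2, 2, 5, 5, 4, 5, 5, 7, 9, 10, 10]),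
   (88, [2, 3, 2, 3, 2, 2, 5, 4, 5, 5, 6, 9, 7, 8, 6, 10, 10]),
   (161, [2, 3, 2, 3, 4, 5, 5, 5, 4, 5, 7, 7, 6]),
   (54, []),
   (85, [3, 2, 3, 2, 3, 3, 2, 4, 4, 5, 5, 5, 9, 7, 8, 6, 10]),
   (137, [3, 2, 3, 3, 3, 3, 2, 3, 5, 5, 5, 4, 5, 5, 4, 9, 8, 6, 6]),
   (122, [3, 2, 2, 3, 2, 3, 3, 2, 5, 4, 5, 5, 4, 6, 9, 7, 8, 6]),
   (204, [3, 2, 2, 3, 3, 2, 2, 5, 4, 4, 5, 4, 5, 4, 6, 8, 9, 7]),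
   (83, [2, 2, 2, 2, 3, 3, 3, 2, 3, 2, 5, 5, 5, 4, 5, 4, 6, 7, 10, 10]),
   (89, [2, 3, 2, 3, 4, 5, 5, 5, 5, 4, 5, 4, 8, 9, 7, 10]),
   (236, [2, 3, 3, 2, 2, 3, 3, 2, 4, 5, 5, 5, 4, 5, 8, 6, 10, 10]),
   (257, [2, 3, 3, 3, 2, 3, 2, 5, 4, 4, 5, 5, 4, 4, 4, 7, 7, 9, 6]),
   (102, [3, 3, 3, 3, 2, 3, 3, 5, 4, 5, 5, 4, 7, 6, 10]),
   (242, [3, 3, 3, 3, 2, 3, 3, 4, 4, 4, 5, 4, 4, 4, 6, 8, 6, 6]),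
   (9, [2, 2, 2, 2, 2, 2, 3, 3, 4, 4, 4, 6, 9, 6, 6, 10]),
   (265, [3, 3, 3, 2, 3, 3, 5, 5, 4, 5, 5, 6, 9, 8, 6, 10, 10]),
   (53, [2, 3, 3, 3, 3, 3, 5, 5, 5, 5, 4, 5, 9, 7, 10]),
   (115, [2, 3, 3, 2, 3, 2, 4, 4, 4, 5, 5, 5, 4, 9, 7, 8, 6, 10, 10]),
   (238, [2, 2, 3, 3, 3, 4, 4, 4, 4, 5, 4, 5, 9, 7, 7, 6, 10, 10]),
   (168, [2, 2, 3, 3, 3, 3, 3, 5, 4, 5, 5, 5, 4, 9, 8, 7, 10, 10]),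
   (57, [2, 2, 3, 2, 3, 5, 5, 4, 5, 4, 5, 5, 9, 7, 7, 6]),
   (78, [3, 3, 2, 3, 5, 5, 5, 4, 6]),
   (195, [3, 2, 3, 3, 2, 4, 4, 5, 4, 8, 6, 9, 6]),
   (130, [2, 2, 3, 3, 2, 3, 4, 4, 5, 5, 5, 9, 7, 9, 6, 10]),
   (140, [2, 2, 3, 3, 3, 2, 3, 2, 5, 4, 4, 5, 4, 4, 4, 8, 7, 9, 10, 10]),
   (153, [3, 3, 3, 2, 2, 2, 4, 5, 5, 4, 4, 4, 8, 7, 7, 6]),
   (146, [2, 3, 2, 2, 2, 3, 2, 3, 5, 4, 5, 4, 4, 4, 8, 7, 9, 7, 10]),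
   (194, [3, 3, 2, 3, 3, 3, 3, 4, 5, 4, 5, 5, 4, 7, 7, 9, 10, 10]),
   (268, [3, 2, 3, 5, 5, 4, 5, 5, 4, 4, 4, 8, 9, 6, 9, 10]),
   (250, [3, 2, 3, 2, 3, 3, 3, 3, 5, 5, 4, 4, 6, 9]),
   (201, [2, 2, 2, 2, 2, 2, 5, 5, 4, 4, 4, 9, 8, 6, 10]),
   (216, [2, 2, 2, 2, 5, 5, 5, 5, 7, 7, 6]),
   (230, [3, 3, 3, 3, 2, 3, 5, 5, 4, 4, 4, 8, 9, 7, 6, 10, 10]),
   (129, [3, 2, 3, 2, 3, 3, 3, 3, 4, 5, 4, 5, 5, 4, 5, 5, 8, 6, 6, 10]),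
   (248, [2, 2, 3, 3, 2, 3, 3, 4, 5, 4, 5, 4, 5, 6, 8, 9, 7]),
   (65, [2, 3, 2, 3, 2, 2, 5, 5, 4, 5, 4, 7, 9, 6, 10, 10]),
   (199, [2, 3, 4, 4, 5, 4, 5, 4, 9, 7, 8, 6]),
   (270, [3, 2, 2, 3, 2, 3, 3, 2, 4, 5, 4, 8, 9, 7, 10, 10]),
   (142, [3, 2, 2, 2, 3, 2, 3, 5, 4, 5, 5, 4, 5, 5, 9, 7, 6, 6]),
   (149, [2, 3, 3, 2, 5, 4, 5, 5, 5, 4, 6, 7]),
   (30, [3, 3, 2, 2, 2, 2, 2, 2, 2, 4, 5, 5, 5, 5, 10, 10]),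
   (247, [3, 4, 5, 4, 5, 4, 5, 9, 7, 9, 6, 10, 10]),
   (234, [3, 3, 2, 4, 5, 4, 4, 5, 4, 4, 7, 10]),
   (103, [2, 3, 3, 5, 4, 5, 5, 7, 7, 9]),
   (112, [3, 2, 2, 2, 4, 4, 5, 5, 5, 4, 6, 8, 9, 7, 10, 10]),
   (128, [2, 2, 2, 2, 2, 3, 5, 5, 4, 4, 4, 7, 9, 8, 7, 10, 10]),
   (233, [3, 2, 2, 2, 3, 3, 2, 5, 5, 4, 4, 8, 7, 10]),
   (117, [2, 2, 3, 2, 2, 2, 5, 5, 5, 4, 5, 7, 9, 10, 10]),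
   (178, [3, 2, 3, 3, 3, 2, 3, 2, 5, 5, 4, 5, 5, 4, 8, 6, 6]),
   (131, [2, 2, 2, 2, 2, 5, 4, 5, 4, 8, 9, 7]),
   (10, [2, 3, 3, 3, 2, 2, 2, 4, 5, 4, 5, 4, 4, 8, 8, 6]),
   (158, [3, 2, 3, 2, 3, 2, 2, 4, 5, 4, 4, 5, 4, 4, 6, 9]),
   (70, [2, 2, 3, 5, 4, 5, 5, 5, 4, 7, 8, 9]),
   (262, [3, 2, 2, 2, 3, 3, 2, 5, 5, 4, 4, 9, 6, 7, 10]),
   (244, [2, 2, 3, 3, 2, 2, 5, 4, 4, 4, 5, 4, 4, 6, 6, 9, 6, 6, 10]),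
   (229, [3, 3, 3, 3, 2, 3, 4, 5, 5, 5, 4, 5, 7, 7, 10]),
   (162, [3, 2, 2, 3, 3, 2, 2, 5, 5, 5, 4, 7, 7, 9, 10]),
   (24, [3, 2, 3, 3, 3, 4, 5, 5, 5, 4, 5, 9, 6, 6, 10, 10]),
   (223, [2, 2, 3, 3, 3, 2, 3, 2, 5, 4, 4, 5, 4, 5, 5, 6, 9, 8, 6]),
   (264, [3, 2, 2, 3, 3, 2, 4, 5, 4, 5, 5, 8, 9, 6, 9, 10]),
   (59, [3, 2, 2, 3, 3, 2, 4, 5, 4, 6, 9, 10]),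
   (42, [3, 2, 2, 2, 2, 5, 4, 4, 4, 5, 4, 8, 7, 10]),
   (267, [2, 3, 2, 2, 3, 2, 3, 3, 2, 4, 5, 5, 5, 7, 9, 7]),
   (184, [3, 3, 3, 3, 3, 3, 4, 5, 4, 5, 5, 4, 8, 8, 6, 10, 10]),
   (107, [2, 2, 3, 3, 3, 5, 4, 5, 4, 5, 5, 8, 8, 6, 10]),
   (159, [2, 2, 3, 3, 3, 4, 5, 5, 4, 5, 6, 9, 10]),
   (272, [3, 2, 2, 2, 2, 3, 5, 4, 4, 5, 4, 4, 7, 7, 9]),
   (15, [2, 2, 2, 2, 3, 2, 2, 4, 5, 5, 5, 5, 4, 5, 4, 6, 9, 8, 6, 6, 10, 10]),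
   (271, [2, 2, 2, 2, 3, 3, 3, 2, 3, 2, 5, 5, 4, 5, 4, 9, 6, 9, 10]),
   (86, [2, 2, 2, 5, 5, 4, 8, 7, 7, 6]),
   (69, [2, 2, 3, 2, 3, 3, 3, 3, 3, 5, 4, 4, 5, 5, 5, 9, 7, 6, 6]),
   (135, [3, 2, 2, 2, 2, 3, 5, 5, 5, 4, 5, 4, 6, 8, 6, 6, 10]),
   (108, [3, 2, 3, 3, 3, 2, 2, 2, 5, 5, 4, 4, 5, 4, 5, 9, 7, 9, 6, 10, 10]),
   (132, [3, 2, 3, 2, 3, 5, 4, 5, 4, 5, 7, 8, 6]),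
   (96, [3, 3, 5, 4, 4, 5, 5, 5, 9, 8, 7, 10]),
   (213, [3, 3, 3, 2, 2, 6, 6, 9, 6, 6]),
   (121, [2, 3, 3, 2, 3, 5, 4, 5, 4, 6, 8, 9, 7, 10]),
   (260, [2, 3, 2, 2, 2, 3, 5, 5, 4, 4, 4, 9, 7, 8, 6, 10, 10]),
   (235, [3, 3, 2, 3, 2, 2, 4, 9, 7, 8, 6, 10]),
   (72, [3, 2, 2, 2, 3, 3, 2, 4, 4, 4, 5, 4, 4, 4, 7, 8, 6, 10, 10]),
   (82, [2, 3, 2, 3, 3, 3, 2, 2, 2, 5, 4, 5, 4, 5, 5, 9, 8, 6, 10])]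

/-- Part of a closure certificate. -/
def gLev0c5 : List (ℕ × List ℕ) :=
  [(0, [4]),
   (268, [2, 3, 3, 2, 3, 3, 5, 4, 4, 6, 8, 6, 6, 10]),
   (193, [2, 3, 2, 2, 2, 2, 2, 2, 2, 5, 4, 4, 5, 4, 5, 5, 6, 9, 8, 6, 10]),
   (78, [2, 2, 3, 3, 2, 3, 3, 4, 4, 5, 4, 4, 7, 7, 8, 9]),
   (88, [2, 3, 3, 2, 2, 3, 2, 3, 5, 5, 4, 4, 9, 7, 6, 6]),
   (8, [2, 2, 2, 2, 3, 2, 2, 4, 5, 4, 4, 5, 4, 4, 8, 7, 9, 7, 10]),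
   (9, [2, 2, 3, 3, 2, 3, 5, 4, 5, 4, 5, 5, 7, 7, 9, 6]),
   (3, [3, 2, 3, 2, 2, 7, 9, 7, 6, 10, 10]),
   (31, [3, 3, 4, 4, 5, 4, 5, 5, 9, 7, 10]),
   (216, [3, 2, 2, 2, 5, 4, 4, 5, 5, 5, 7, 9, 7]),
   (148, [2, 2, 3, 3, 5, 4, 4, 5, 4, 5, 7, 10]),
   (112, [3, 3, 3, 2, 3, 4, 4, 5, 4, 5, 4, 5, 9, 7, 7, 6]),
   (223, [2, 2, 3, 3, 3, 3, 3, 5, 5, 4, 4, 5, 4, 5, 9, 7, 6, 6]),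
   (20, [2, 2, 2, 2, 2, 2, 3, 3, 4, 4, 4, 5, 4, 5, 6, 9, 10]),
   (54, [2, 3, 2, 3, 3, 2, 4, 5, 4, 4, 4, 5, 4, 4, 6, 6, 9, 6, 6, 10]),
   (55, [3, 2, 2, 3, 3, 2, 5, 4, 5, 4, 5, 5, 9, 7, 6, 6, 10, 10]),
   (250, [2, 3, 3, 2, 3, 2, 3, 2, 3, 4, 4, 4, 5, 4, 5, 6, 9, 6, 10, 10]),
   (147, [3, 2, 2, 2, 3, 4, 5, 5, 5, 4, 5, 4, 9, 7, 7, 6]),
   (52, [3, 2, 2, 3, 3, 2, 2, 4, 4, 5, 4, 4, 7, 7]),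
   (125, [3, 2, 3, 2, 3, 3, 2, 5, 5, 4, 5, 5, 7, 9, 8, 6, 10]),
   (124, [2, 2, 2, 2, 3, 2, 2, 5, 4, 5, 4, 8, 7, 9, 10]),
   (181, [3, 3, 2, 2, 3, 3, 2, 5, 6, 8, 6, 6]),
   (267, [3, 2, 2, 4, 5, 4, 5, 5, 5, 4, 7, 7, 9, 6, 10]),
   (12, [3, 2, 2, 2, 2, 2, 2, 3, 3, 4, 4, 4, 5, 4, 4, 7, 7, 10, 10]),
   (228, [2, 2, 2, 4, 5, 5, 5, 5, 6, 10]),
   (83, [3, 2, 2, 2, 2, 3, 5, 4, 4, 5, 4, 4, 4, 6, 9, 8, 6, 6, 10, 10]),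
   (211, [3, 5, 4, 6, 9, 8, 6, 10, 10]),
   (234, [2, 2, 3, 3, 2, 3, 4, 4, 5, 4, 5, 4, 8, 7]),
   (98, [3, 3, 2, 2, 2, 3, 2, 2, 4, 5, 4, 5, 5, 6, 8, 9, 7]),
   (227, [2, 2, 2, 2, 3, 2, 3, 5, 4, 5, 5, 6, 9, 8, 6, 6, 10]),
   (23, [3, 3, 3, 2, 2, 5, 4, 4, 5, 5, 5, 7, 9, 7, 6]),
   (177, [2, 2, 2, 2, 2, 3, 2, 2, 5, 5, 5, 4, 5, 5, 4, 7, 7, 8, 9, 10]),
   (120, [3, 3, 2, 2, 3, 2, 3, 4, 4, 6, 9, 10, 10]),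
   (239, [3, 3, 2, 2, 2, 2, 3, 4, 5, 5, 5, 4, 6, 10, 10]),
   (80, [3, 3, 3, 2, 3, 3, 4, 5, 4, 5, 4, 5, 7, 8, 9, 10]),
   (136, [2, 3, 3, 2, 2, 3, 3, 2, 4, 5, 4, 5, 4, 7, 6, 10]),
   (41, [3, 3, 3, 3, 2, 3, 3, 4, 5, 4, 5, 5, 7, 7]),
   (243, [2, 2, 3, 2, 3, 4, 5, 5, 5, 4, 5, 7, 10, 10]),
   (117, [2, 3, 3, 2, 4, 4, 5, 4, 4, 4, 7, 7, 8, 9, 10]),
   (11, [2, 2, 2, 2, 2, 2, 4, 5, 4, 5, 5, 4, 7, 9, 7, 6, 10, 10]),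
   (89, [3, 3, 2, 2, 2, 2, 2, 2, 3, 3, 5, 5, 5, 4, 5, 4, 4, 4, 7, 9, 10, 10]),
   (254, [3, 3, 2, 3, 2, 5, 5, 4, 4, 4, 7, 9, 7, 10]),
   (197, [2, 3, 3, 2, 3, 2, 3, 2, 3, 5, 5, 5, 8, 9, 6, 9, 10, 10]),
   (27, [2, 2, 3, 3, 3, 3, 3, 4, 4, 5, 4, 4, 4, 9, 6, 6, 10]),
   (190, [2, 3, 2, 2, 3, 2, 3, 3, 2, 5, 5, 4, 4, 8, 9, 6, 6, 10, 10]),
   (172, [3, 2, 3, 2, 3, 2, 3, 5, 5, 5, 5, 8, 7, 7, 6, 10, 10]),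
   (67, [2, 2, 2, 2, 3, 2, 2, 4, 4, 5, 5, 5, 5, 7, 7, 10, 10]),
   (167, [2, 3, 2, 2, 3, 2, 3, 3, 2, 5, 5, 4, 4, 5, 4, 5, 7, 7, 8, 9, 10]),
   (114, [3, 3, 3, 2, 3, 3, 4, 4, 5, 4, 4, 4, 8, 9, 7, 6, 10, 10]),
   (72, [3, 3, 2, 2, 2, 3, 2, 2, 5, 4, 4, 5, 4, 10, 10]),
   (185, [2, 3, 2, 2, 2, 3, 5, 5, 4, 9, 7, 9, 6, 10, 10]),
   (241, [3, 2, 2, 2, 3, 3, 2, 4, 5, 5, 5, 5, 7, 6, 10]),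
   (45, [3, 2, 4, 5, 4, 4, 5, 4, 4, 7, 7, 9, 6, 10, 10]),
   (219, [3, 3, 3, 2, 3, 2, 4, 5, 5, 5, 4, 5, 8, 9, 6, 9, 10, 10]),
   (153, [3, 3, 2, 3, 3, 2, 2, 4, 4, 4, 5, 5, 5, 8, 6, 6, 9]),
   (261, [3, 3, 2, 3, 3, 4, 5, 5, 5, 5, 9, 6, 6, 10]),
   (58, [3, 3, 3, 3, 3, 3, 5, 4, 5, 4, 4, 6, 8, 6, 6, 10, 10]),
   (180, [2, 2, 2, 2, 2, 5, 4, 4, 5, 5, 4, 4, 4, 7, 9, 6, 10]),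
   (195, [3, 3, 2, 2, 5, 4, 5, 4, 4, 8, 7, 9, 7, 10, 10]),
   (202, [2, 2, 3, 4, 4, 5, 4, 5, 4, 9, 6, 6, 10]),
   (73, [2, 3, 3, 3, 2, 2, 2, 3, 4, 4, 5, 4, 4, 4, 7, 9, 6]),
   (134, [3, 2, 3, 3, 5, 5, 5, 4, 5, 4, 4, 4, 9, 8, 6, 10, 10]),
   (203, [2, 2, 2, 3, 3, 2, 2, 4, 5, 4, 5, 4, 5, 9, 10]),
   (21, [3, 2, 2, 2, 3, 2, 2, 2, 5, 5, 4, 5, 5, 7, 8, 9, 7]),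
   (266, [2, 2, 2, 3, 3, 2, 2, 4, 5, 5, 4, 5, 5, 8, 9, 6, 6, 10, 10]),
   (142, [2, 3, 3, 3, 2, 3, 2, 4, 5, 5, 5, 4, 5, 4, 8, 7, 7, 6, 10]),
   (94, [4, 5, 5, 4, 7, 6, 10]),
   (86, [3, 3, 2, 2, 2, 4, 5, 4, 5, 9, 6, 10]),
   (183, [3, 3, 3, 3, 3, 4, 4, 4, 5, 5, 5, 4, 6, 9, 6, 6, 10]),
   (217, [3, 3, 3, 3, 2, 3, 2, 3, 4, 5, 9]),
   (65, [3, 3, 2, 2, 3, 3, 2, 5, 5, 4, 4, 5, 4, 5, 8, 7, 9, 10]),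
   (151, [2, 2, 3, 3, 2, 5, 5, 4, 4, 7, 9, 7, 6, 10]),
   (187, [2, 3, 3, 2, 3, 3, 3, 5, 4, 4, 4, 5, 4, 6]),
   (102, [3, 3, 2, 3, 3, 2, 2, 5, 4, 4, 5, 5, 4, 4, 4, 7, 8, 9, 7, 10, 10]),
   (56, [3, 3, 2, 2, 3, 2, 3, 4, 5, 5, 4, 7, 7, 8, 9]),
   (33, [3, 2, 3, 2, 3, 3, 2, 4, 5, 4, 4, 4, 6, 7, 10, 10]),
   (235, [3, 2, 3, 3, 2, 2, 4, 4, 4, 5, 5, 5, 8, 6, 9, 6]),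
   (16, [3, 2, 5, 4, 5, 4, 5, 4, 5, 7, 9, 6, 10]),
   (115, [3, 2, 5, 5, 5, 4, 5, 4, 9, 7, 10]),
   (182, [2, 2, 2, 3, 2, 2, 2, 4, 5, 5, 5, 4, 5, 4, 9, 7, 8, 6]),
   (262, [2, 2, 3, 3, 3, 3, 3, 5, 4, 5, 4, 4, 4, 9, 7, 7, 6, 10]),
   (255, [3, 2, 3, 2, 3, 4, 4, 5, 4, 4, 6, 7, 10, 10]),
   (4, [2, 4, 5, 4, 4, 6, 7]),
   (42, [3, 3, 3, 2, 2, 2, 4, 5, 4, 5, 6, 9, 7]),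
   (173, [2, 3, 3, 2, 3, 2, 3, 2, 3, 5, 5, 5, 4, 5, 4, 4, 4, 8, 7, 7, 6]),
   (242, [2, 2, 3, 3, 3, 3, 3, 5, 4, 5, 4]),
   (87, [2, 2, 3, 3, 2, 4, 4, 5, 5, 4, 4, 4, 7, 7, 6, 10, 10]),
   (163, [2, 3, 3, 3, 3, 2, 3, 5, 4, 4, 5, 5, 5, 7, 9, 8, 6, 10, 10]),
   (208, [2, 2, 2, 2, 3, 4, 5, 4, 4, 5, 4, 4, 8, 9, 7, 10, 10]),
   (104, [2, 2, 2, 2, 3, 4, 4, 5, 4, 7, 8, 9, 7, 10]),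
   (194, [3, 3, 3, 2, 3, 2, 5, 5, 4, 5, 4, 6, 8, 9, 7]),
   (186, [2, 2, 2, 2, 2, 3, 5, 4, 4, 5, 5, 5, 8, 6, 6, 9, 10]),
   (248, [3, 2, 2, 2, 2, 3, 4, 5, 4, 4, 8, 8, 6, 10, 10]),
   (49, [3, 2, 2, 2, 3, 2, 2, 2, 4, 4, 5, 4, 5, 4, 6, 6, 9, 10]),
   (150, [2, 2, 2, 2, 2, 3, 3, 4, 4, 4, 4, 5, 4, 5, 6, 6, 9, 10, 10]),
   (231, [2, 2, 3, 3, 2, 3, 2, 5, 5, 5, 4, 5, 4, 7, 7, 9, 10, 10]),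
   (82, [2, 3, 3, 3, 3, 2, 3, 4, 5, 5, 5, 4, 5, 5, 4, 8, 7, 10, 10]),
   (141, [3, 3, 2, 3, 2, 2, 4, 5, 5, 5, 4, 5, 9, 7, 7, 6]),
   (15, [2, 2, 2, 2, 2, 2, 4, 5, 5, 5, 4, 5, 4, 6, 9, 6, 6, 10]),
   (85, [3, 2, 3, 2, 3, 2, 3, 5, 5, 5, 4, 5, 4, 4, 4, 9, 8, 7, 9, 10]),
   (145, [3, 2, 2, 2, 2, 2, 3, 3, 4, 5, 4, 7, 9, 7, 6, 10, 10]),
   (132, [3, 3, 3, 2, 3, 3, 4, 5, 4, 5, 5, 5, 5, 9, 7]),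
   (149, [3, 3, 2, 3, 2, 4, 5, 8, 6, 9, 6]),
   (123, [2, 2, 3, 4, 4, 5, 4, 5, 5, 7, 9, 6, 10, 10]),
   (246, [3, 3, 3, 2, 2, 2, 4, 5, 4, 4, 4, 5, 4, 4, 7, 10, 10]),
   (184, [5, 5, 4, 7, 6, 10]),
   (74, [3, 2, 3, 5, 5, 4, 4, 9, 8, 7, 9]),
   (162, [2, 2, 2, 2, 2, 2, 3, 3, 4, 4, 4, 9, 7, 8, 6, 10]),
   (91, [3, 2, 3, 3, 5, 5, 4, 5, 5, 9, 6, 7]),
   (256, [2, 2, 2, 2, 2, 2, 2, 5, 4, 4, 9, 8, 6, 10, 10]),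
   (168, [3, 3, 3, 2, 3, 2, 5, 5, 5, 5, 4, 5, 9, 7]),
   (230, [2, 3, 3, 3, 5, 5, 4, 5, 4, 4, 4, 10, 10]),
   (164, [3, 3, 3, 2, 3, 5, 4, 4, 4, 8, 6, 9, 6, 10, 10]),
   (270, [2, 2, 3, 3, 2, 3, 3, 4, 5, 4, 4, 5, 4, 4, 9, 8, 7]),
   (192, [3, 3, 3, 3, 2, 3, 5, 4, 4, 5, 5, 5, 8, 9, 7, 6]),
   (251, [2, 2, 3, 2, 3, 3, 3, 3, 4, 5, 5, 9, 6, 6, 10]),
   (62, [2, 3, 2, 2, 3, 2, 2, 4, 5, 5, 4, 5, 6, 6, 10]),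
   (269, [3, 3, 3, 3, 2, 3, 2, 4, 4, 4, 5, 4, 4, 6, 10]),
   (101, [3, 3, 5, 4, 6, 8, 9, 7]),
   (39, [3, 3, 2, 2, 3, 3, 2, 5, 4, 5, 5, 4, 4, 4, 6, 8, 6, 6, 10]),
   (191, [3, 3, 2, 2, 4, 4, 4, 5, 5, 5, 4, 7, 9, 7, 6]),
   (214, [2, 3, 2, 5, 5, 4, 4, 4, 7, 8, 9, 7, 10, 10]),
   (63, [2, 3, 3, 3, 2, 2, 2, 3, 4, 4, 4, 4, 5, 4, 5, 8, 6, 6, 9, 10, 10]),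
   (64, [2, 2, 2, 2, 5, 5, 4, 5, 4, 8, 7, 9]),
   (5, [2, 2, 3, 3, 2, 3, 3, 5, 4, 5, 5, 4, 4, 4, 7, 8, 9, 10, 10]),
   (18, [2, 2, 3, 3, 3, 2, 3, 2, 5, 5, 5, 4, 7, 6, 6, 10, 10]),
   (43, [3, 3, 2, 2, 3, 2, 3, 5, 4, 5, 5, 5, 4, 6, 6, 9, 6, 6, 10]),
   (175, [3, 3, 2, 2, 5, 5, 5, 5, 7, 9, 7, 10, 10]),
   (156, [2, 3, 2, 3, 2, 3, 3, 2, 5, 4, 4, 5, 4, 5, 7, 6, 6]),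
   (106, [2, 2, 3, 3, 2, 3, 2, 4, 5, 5, 4, 5, 5, 4, 6, 9, 10, 10]),
   (209, [2, 2, 3, 3, 3, 5, 5, 4, 5, 4, 8, 6, 6, 10, 10]),
   (119, [2, 2, 2, 2, 2, 2, 4, 5, 5, 5, 5, 9, 8, 7, 10]),
   (26, [3, 2, 2, 2, 3, 2, 3, 5, 4, 4, 9, 8, 7, 10, 10]),
   (79, [2, 2, 2, 4, 4, 4, 5, 4, 9, 6]),
   (140, [2, 2, 2, 2, 2, 5, 4, 5, 4, 5, 4, 5, 9, 7, 9, 10]),
   (2, [2, 2, 3, 3, 3, 2, 3, 2, 5, 4, 7, 7, 8, 9, 10]),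
   (178, [3, 3, 2, 2, 2, 3, 4, 5, 5, 5, 5, 4, 5, 4, 9, 7, 6, 6, 10]),
   (237, [3, 2, 2, 4, 4, 5, 4, 5, 4, 5, 6, 9, 6, 7]),
   (133, [2, 2, 2, 2, 3, 2, 3, 4, 5, 4, 5, 5, 7, 9, 8, 7, 10]),
   (222, [3, 3, 2, 3, 3, 3, 3, 4, 4, 4, 6, 8, 6, 6, 10]),
   (108, [3, 3, 3, 3, 3, 3, 5, 4, 5, 5, 4, 6, 6, 9, 10]),
   (71, [2, 2, 2, 2, 2, 3, 2, 3, 4, 4, 5, 4, 5, 7, 7, 8, 9]),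
   (81, [3, 3, 3, 3, 3, 3, 5, 4, 4, 5, 4, 5, 4, 7, 7, 6, 10]),
   (30, [2, 2, 3, 2, 3, 3, 2, 5, 4, 5, 5, 4, 6, 8, 9, 7, 10]),
   (260, [3, 3, 2, 3, 4, 5, 4, 5, 5, 5, 4, 9, 6, 10]),
   (1, [3, 3, 3, 3, 4, 5, 4, 5, 5, 4, 4, 4, 7, 9, 8, 7, 10, 10]),
   (29, [2, 2, 3, 3, 2, 2, 4, 8, 9]),
   (200, [3, 2, 2, 2, 2, 2, 2, 3, 3, 5, 5, 4, 5, 4, 8, 9, 7, 6, 10, 10]),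
   (53, [2, 4, 5, 4, 4, 5, 4, 4, 9, 7, 7, 6]),
   (240, [2, 2, 2, 2, 4, 5, 5, 5, 4, 5, 6, 9, 8, 6, 6, 10]),
   (77, [2, 3, 3, 2, 3, 4, 4, 4, 5, 5, 5, 9, 8, 7, 9, 10, 10]),
   (229, [2, 2, 2, 3, 4, 5, 5, 6, 9, 6, 7]),
   (139, [2, 2, 3, 3, 3, 3, 3, 4, 4, 4, 5, 5, 5, 4, 8, 6, 6, 10]),
   (253, [3, 3, 3, 2, 3, 3, 4, 5, 4, 5, 5, 4, 9, 8, 7, 10]),
   (198, [2, 2, 2, 3, 3, 2, 5, 5, 4, 5, 5, 7, 7, 10, 10]),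
   (236, [2, 3, 3, 3, 4, 8, 9, 6, 6, 10]),
   (272, [2, 5, 5, 4, 5, 6, 9, 6, 7, 10]),
   (66, [2, 2, 2, 3, 4, 5, 4, 4, 8, 9, 7, 10]),
   (50, [3, 3, 3, 3, 2, 2, 2, 4, 5, 5, 5, 5, 4, 5, 4, 8, 7, 7, 6, 10, 10]),
   (61, [3, 2, 3, 2, 3, 2, 3, 5, 5, 5, 4, 5, 5, 4, 7, 9, 10, 10]),
   (176, [3, 3, 2, 4, 4, 5, 5, 4, 4, 4, 8, 9, 10, 10]),
   (105, [3, 2, 2, 2, 3, 2, 2, 4, 4, 8, 8, 6, 10, 10]),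
   (155, [3, 2, 2, 3, 2, 2, 4, 5, 4, 4, 4, 5, 4, 4, 7, 8, 9, 7]),
   (57, [3, 2, 3, 2, 3, 2, 3, 4, 5, 5, 4, 4, 4, 9, 8, 6, 6, 10]),
   (244, [3, 2, 2, 3, 3, 2, 4, 5, 5, 8, 7, 9, 10]),
   (48, [2, 2, 2, 3, 3, 2, 2, 5, 5, 5, 6, 9, 10]),
   (166, [2, 3, 3, 2, 2, 2, 4, 5, 5, 4, 8, 9, 7]),
   (196, [3, 3, 3, 3, 3, 5, 5, 4, 5, 4, 4, 4, 7, 7, 9, 10, 10]),
   (207, [3, 3, 2, 2, 2, 3, 2, 2, 4, 5, 4, 5, 4, 4, 8, 9, 6, 9, 10]),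
   (35, [3, 3, 3, 3, 3, 3, 4, 5, 5, 4, 5, 5, 7, 9, 8, 6, 10, 10]),
   (143, [3, 2, 2, 2, 4, 5, 5, 4, 5, 5, 4, 7, 7, 10]),
   (25, [2, 2, 2, 3, 3, 2, 4, 5, 5, 5, 5, 9, 6, 7]),
   (189, [3, 3, 3, 3, 3, 3, 4, 5, 4, 5, 4, 5, 9, 8, 7, 9, 10]),
   (96, [2, 2, 3, 2, 3, 3, 3, 3, 5, 5, 5, 4, 5, 5, 4, 7, 9, 6, 6, 10, 10]),
   (37, [2, 5, 5, 4, 7, 9, 6, 10]),
   (118, [2, 2, 3, 2, 3, 3, 3, 3, 4, 5, 5, 4, 5, 5, 4, 8, 9, 6, 9, 10, 10]),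
   (7, [3, 3, 2, 3, 2, 3, 2, 3, 5, 5, 5, 4, 6, 9, 8, 6, 10]),
   (13, [3, 3, 2, 3, 2, 3, 5, 5, 4, 5, 4, 5, 5, 8, 9]),
   (258, [2, 2, 2, 2, 2, 2, 5, 5, 4, 5, 5, 5, 4, 8, 6, 6, 10]),
   (113, [2, 3, 2, 3, 2, 3, 3, 2, 5, 4, 4, 5, 5, 5, 9, 8, 6, 6, 10]),
   (46, [2, 2, 3, 3, 2, 3, 3, 4, 5, 4, 5, 4, 4, 10, 10]),
   (75, [2, 3, 3, 3, 3, 2, 3, 4, 4, 5, 4, 5, 4, 8, 9, 7, 10]),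
   (6, [3, 2, 2, 3, 2, 2, 5, 4, 5, 4, 5, 8, 7, 9]),
   (274, [3, 2, 2, 2, 3, 2, 3, 5, 4, 4, 5, 5, 4, 4, 4, 7, 7, 8, 9, 10, 10]),
   (100, [2, 2, 2, 2, 2, 2, 5, 4, 4, 4, 7, 9, 7, 6, 10, 10]),
   (137, [3, 3, 2, 3, 3, 3, 3, 4, 5, 5, 4, 5, 5, 8, 6]),
   (159, [3, 2, 2, 2, 3, 3, 2, 2, 5, 4, 4, 5, 5, 5, 9, 6, 6, 10, 10]),
   (38, [2, 3, 2, 3, 3, 3, 3, 3, 4, 5, 5, 5, 4, 5, 4, 7, 7, 9, 6, 10]),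
   (135, [2, 2, 3, 2, 2, 4, 7, 9, 8, 6]),
   (19, [2, 2, 2, 2, 2, 3, 2, 2, 4, 4, 5, 5, 5, 5, 9, 7, 6]),
   (264, [2, 3, 3, 2, 3, 2, 5, 5, 4, 5, 5, 5, 4, 9, 7, 9, 10, 10]),
   (273, [2, 2, 3, 2, 3, 3, 2, 5, 4, 5, 5, 5, 5, 9, 8, 6, 6]),
   (110, [3, 2, 2, 3, 3, 2, 2, 5, 5, 4, 5, 4, 5, 5, 7, 7, 10, 10]),
   (47, [3, 2, 2, 2, 2, 2, 2, 2, 5, 5, 4, 4, 6, 9, 10, 10]),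
   (158, [3, 3, 3, 3, 2, 2, 2, 3, 4, 5, 4, 5, 4, 6, 9, 8, 6, 10, 10]),
   (238, [3, 3, 2, 5, 5, 4, 5, 5, 4, 7, 10]),
   (188, [3, 3, 2, 2, 2, 3, 2, 2, 4, 5, 4, 5, 4, 5, 7, 7, 9]),
   (130, [3, 3, 3, 3, 2, 3, 2, 4, 4, 5, 4, 4, 4, 7, 8, 9]),
   (28, [2, 2, 2, 2, 2, 2, 2, 5, 5, 4, 5, 5, 5, 4, 6, 9, 8, 6, 10]),
   (249, [2, 2, 3, 3, 2, 5, 5, 5, 4, 7, 7, 6, 10, 10]),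
   (126, [3, 2, 3, 2, 3, 3, 2, 4, 4, 4, 5, 5, 5, 10, 10]),
   (107, [3, 2, 2, 3, 3, 2, 2, 4, 5, 4, 5, 5, 4, 5, 5, 8, 7, 9, 7, 10, 10]),
   (245, [2, 2, 3, 3, 2, 5, 5, 4, 4, 4, 8, 6, 9, 6, 10]),
   (14, [2, 2, 2, 3, 3, 5, 5, 5, 5, 4, 5, 7, 9, 6, 10, 10]),
   (224, [2, 4, 5, 5, 5, 4, 5, 5, 4, 7, 9, 7, 6, 10]),
   (97, [3, 2, 2, 2, 2, 2, 2, 3, 3, 4, 5, 4, 5, 5, 4, 5, 5, 6, 6, 9, 6, 6]),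
   (232, [3, 2, 2, 4, 5, 4, 5, 4, 6, 9, 6, 7]),
   (165, [3, 2, 2, 2, 2, 2, 2, 2, 4, 5, 5, 5, 5, 7, 7, 6, 10]),
   (84, [2, 2, 2, 2, 3, 2, 2, 5, 4, 4, 5, 4, 4, 6, 6, 9, 6, 6]),
   (171, [2, 2, 3, 2, 2, 2, 4, 4, 5, 5, 5, 8, 7, 9, 7]),
   (257, [3, 2, 3, 2, 3, 3, 3, 3, 4, 5, 5, 5, 4, 9, 10, 10]),
   (127, [2, 2, 3, 3, 2, 3, 4, 5, 5, 5, 4, 5, 4, 9, 7, 7, 6, 10, 10]),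
   (44, [2, 3, 2, 3, 3, 3, 3, 3, 4, 4, 5, 5, 5, 5, 8, 9, 6, 6]),
   (121, [2, 3, 2, 2, 2, 3, 2, 3, 4, 5, 4, 4, 7, 8, 6]),
   (32, [3, 3, 4, 5, 5, 4, 4, 4, 8, 7, 9, 7, 10, 10]),
   (70, [3, 3, 4, 4, 5, 5, 5, 5, 4, 5, 4, 9, 6]),
   (138, [3, 3, 3, 2, 2, 2, 3, 4, 5, 7, 7, 9, 10]),
   (265, [3, 3, 3, 3, 2, 3, 3, 4, 4, 4, 5, 4, 6, 9, 7, 10, 10]),
   (215, [2, 3, 3, 2, 3, 3, 2, 2, 4, 5, 4, 5, 5, 4, 7, 9, 7]),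
   (68, [3, 2, 2, 3, 2, 3, 3, 2, 5, 5, 4, 5, 8, 7, 7, 6, 10, 10])]

/-- Part of a closure certificate. -/
def gLev0c6 : List (ℕ × List ℕ) :=
  [(40, [3, 3, 2, 2, 2, 2, 2, 2, 2, 4, 5, 5, 5, 4, 8, 6, 10]),
   (69, [3, 3, 3, 4, 4, 4, 5, 5, 5, 6, 7]),
   (221, [2, 2, 2, 2, 2, 2, 3, 3, 5, 5, 5, 4, 5, 5, 4, 9, 8, 7, 10]),
   (247, [2, 2, 2, 3, 2, 2, 5, 4, 4, 5, 5, 4, 4, 4, 8, 7, 9, 7, 10, 10]),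
   (76, [2, 2, 3, 3, 2, 3, 3, 4, 5, 5, 5, 4, 5, 4, 6, 9]),
   (60, [3, 2, 3, 3, 3, 3, 4, 5, 4, 4, 9]),
   (205, [2, 3, 3, 2, 2, 5, 5, 5, 4, 9]),
   (206, [3, 2, 2, 3, 2, 3, 3, 2, 5, 5, 4, 5, 5, 5, 4, 7, 10, 10]),
   (111, [3, 2, 2, 2, 3, 2, 2, 2, 5, 4, 4, 6, 9]),
   (226, [2, 3, 2, 2, 2, 2, 2, 2, 2, 4, 4, 4, 4, 5, 4, 5, 9, 8, 6, 10]),
   (259, [2, 2, 2, 2, 2, 3, 2, 3, 4, 5, 4, 4, 4, 6, 9, 6, 10, 10]),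
   (252, [3, 2, 2, 3, 3, 2, 2, 5, 4, 7, 9, 7, 10, 10]),
   (109, [2, 2, 2, 2, 2, 3, 2, 3, 4, 5, 5, 5, 4, 5, 5, 4, 9, 7, 8, 6]),
   (225, [3, 2, 2, 2, 3, 3, 2, 4, 4, 5, 4, 5, 4, 5, 6, 10, 10]),
   (17, [2, 2, 2, 3, 2, 3, 5, 5, 5, 5, 4, 5, 8, 6, 9, 6, 10]),
   (34, [3, 3, 3, 5, 5, 4, 5, 5, 4, 9, 7, 7, 6, 10, 10]),
   (51, [3, 3, 2, 2, 2, 3, 4, 4, 4, 5, 4, 5, 7, 8, 6, 10, 10]),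
   (90, [3, 2, 2, 5, 4, 5, 7, 9, 10]),
   (129, [2, 3, 3, 3, 2, 2, 2, 3, 4, 5, 5, 5, 4, 5, 8, 7, 7, 6, 10, 10]),
   (122, [2, 3, 2, 3, 2, 2, 4, 5, 4, 5, 4, 4, 7, 9, 8, 6, 10]),
   (233, [3, 2, 2, 3, 3, 2, 2, 4, 4, 5, 7, 9, 8, 7, 10]),
   (201, [3, 3, 3, 3, 3, 5, 4, 5, 5, 5, 5, 7, 9, 6, 10, 10]),
   (271, [3, 2, 2, 2, 2, 2, 2, 3, 3, 4, 5, 4, 5, 4, 4, 10]),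
   (103, [2, 2, 2, 2, 2, 3, 2, 2, 4, 4, 4, 5, 5, 5, 4, 8, 7, 10]),
   (131, [3, 3, 3, 3, 2, 3, 2, 4, 4, 4, 5, 4, 4, 4, 7, 6, 6, 10, 10]),
   (212, [3, 3, 2, 2, 2, 4, 5, 4, 4, 9, 7, 9, 10, 10]),
   (22, [2, 2, 3, 3, 2, 3, 2, 4, 4, 5, 4, 4, 9]),
   (170, [3, 3, 3, 3, 2, 2, 2, 3, 5, 4, 4, 5, 4, 4, 4, 9, 7, 7, 6, 10]),
   (199, [2, 3, 3, 2, 3, 3, 2, 2, 5, 5, 4, 5, 4, 4, 4, 6, 9, 10]),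
   (36, [3, 3, 2, 3, 3, 2, 2, 4, 5, 4, 5, 5, 5, 4, 8, 9, 6, 6]),
   (157, [3, 2, 2, 2, 3, 3, 2, 2, 4, 5, 4, 5, 4, 5, 9, 8, 6, 6]),
   (160, [2, 2, 3, 3, 3, 3, 3, 4, 5, 4, 5, 4, 9, 8, 6, 10]),
   (99, [2, 2, 3, 3, 2, 3, 3, 5, 5, 5, 5, 8, 6, 6, 10]),
   (116, [3, 3, 2, 4, 5, 5, 5, 4, 5, 5, 4, 8, 7]),
   (92, [2, 3, 2, 2, 2, 3, 2, 3, 5, 4, 5, 5, 4, 6, 8, 6, 6, 10, 10]),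
   (218, [2, 3, 3, 3, 2, 2, 2, 5, 5, 5, 4, 4, 4, 8, 7, 9, 10, 10]),
   (146, [2, 2, 3, 3, 2, 3, 3, 4, 5, 4, 5, 7, 8, 9, 7, 10]),
   (24, [3, 3, 3, 3, 2, 2, 2, 5, 5, 4, 5, 4, 4, 4, 6, 9, 10, 10]),
   (144, [2, 2, 3, 2, 2, 2, 4, 4, 5, 5, 5, 5, 9, 6, 6, 10, 10]),
   (210, [3, 2, 2, 3, 2, 3, 5, 4, 5, 4, 4, 7, 6, 6, 10]),
   (169, [3, 3, 4, 4, 5, 4, 5, 4, 7, 9, 7, 6, 10, 10]),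
   (154, [2, 3, 3, 2, 2, 3, 3, 2, 4, 5, 5, 8, 7, 7, 6]),
   (204, [2, 3, 2, 2, 5, 5, 5, 4, 5, 4, 4, 4, 6, 9, 6, 10, 10]),
   (128, [2, 4, 4, 5, 5, 5, 8, 7, 7, 6]),
   (59, [2, 2, 2, 2, 2, 3, 2, 2, 4, 5, 5, 4, 5, 5, 8, 6, 6, 9, 10, 10]),
   (152, [2, 2, 2, 2, 2, 3, 2, 2, 5, 4, 5, 5, 6, 9, 7, 8, 6]),
   (174, [2, 3, 2, 2, 4, 5, 4, 5, 5, 4, 7, 10]),
   (220, [3, 3, 2, 2, 2, 3, 5, 5, 4, 5, 9, 10, 10]),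
   (161, [5, 4, 4, 5, 4, 4, 4, 7, 9, 10]),
   (93, [2, 3, 3, 5, 4, 4, 5, 5, 4, 4, 4, 6, 6, 9, 10]),
   (263, [2, 3, 3, 3, 2, 2, 2, 4, 5, 4, 9, 7, 9]),
   (95, [2, 3, 3, 3, 3, 4, 4, 5, 4, 5, 4, 7, 9, 7, 10]),
   (179, [2, 3, 3, 2, 3, 3, 5, 5, 5, 5, 4, 5, 9, 6, 6]),
   (213, [2, 2, 5, 8, 9, 6, 9]),
   (10, [2, 2, 2, 3, 3, 2, 2, 4, 4, 5, 4, 5, 5, 8, 6, 6, 9]),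
   (0, [5]),
   (160, [3, 2, 3, 3, 3, 3, 2, 3, 5, 5, 5, 4, 8, 6, 6, 9]),
   (69, [2, 3, 2, 3, 3, 3, 3, 3, 4, 4, 5, 4, 4, 8, 6, 9, 6, 10, 10]),
   (39, [3, 2, 3, 3, 2, 3, 3, 2, 2, 5, 5, 4, 4, 5, 4, 5, 9, 6, 9, 10]),
   (173, [2, 2, 3, 3, 2, 3, 4, 6, 8, 6, 6, 10, 10]),
   (21, [2, 4, 5, 4, 5, 5, 5, 5, 6, 6, 9, 6, 6, 10]),
   (218, [3, 3, 2, 3, 2, 2, 5, 5, 4, 5, 6, 9, 6, 7, 10]),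
   (105, [2, 3, 2, 2, 5, 5, 4, 4, 8, 6, 6, 10]),
   (85, [2, 3, 2, 3, 2, 3, 3, 2, 4, 4, 4, 5, 4, 5, 6, 10]),
   (222, [2, 2, 2, 3, 2, 3, 3, 2, 4, 4, 5, 4, 4, 4, 9, 6, 6]),
   (97, [2, 3, 3, 3, 2, 3, 3, 4, 5, 4, 4, 4, 5, 4, 4, 9, 7, 9, 10]),
   (259, [3, 3, 2, 3, 2, 3, 4, 4, 5, 5, 5, 9, 7, 8, 6, 10]),
   (117, [2, 3, 2, 3, 3, 3, 3, 3, 4, 5, 4, 5, 5, 4, 8, 7, 10]),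
   (191, [3, 3, 2, 3, 3, 3, 4, 5, 4, 5, 4, 6, 9, 7, 10]),
   (115, [3, 2, 2, 2, 3, 2, 2, 5, 4, 5, 4, 4, 9, 10, 10]),
   (198, [2, 3, 2, 2, 2, 4, 5, 7, 8, 9, 10]),
   (120, [3, 3, 2, 2, 3, 2, 2, 5, 5, 4, 5, 5, 4, 6, 6, 9, 6, 6]),
   (200, [2, 2, 2, 3, 3, 4, 4, 4, 5, 4, 4, 4, 7, 7, 9, 10]),
   (144, [3, 2, 2, 2, 3, 3, 2, 4, 5, 4, 5, 5, 4, 7, 8, 6, 10]),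
   (147, [2, 2, 3, 3, 3, 3, 3, 4, 5, 5, 5, 6, 9, 6]),
   (16, [2, 3, 3, 3, 2, 3, 3, 5, 5, 5, 5, 8, 6]),
   (239, [3, 2, 2, 2, 3, 2, 3, 4, 4, 4, 7, 9, 6, 6]),
   (151, [2, 3, 2, 2, 3, 2, 3, 3, 2, 5, 5, 4, 9, 7, 10]),
   (28, [3, 3, 2, 2, 2, 4, 4, 4, 5, 4, 7, 9, 7, 6]),
   (194, [3, 2, 3, 2, 3, 2, 3, 5, 5, 4, 5, 4, 5, 5, 8, 9, 6, 9, 10, 10]),
   (82, [2, 2, 2, 3, 2, 3, 5, 5, 4, 5, 5, 4, 8, 6, 10, 10]),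
   (159, [3, 3, 3, 3, 2, 3, 3, 4, 4, 5, 4, 5, 4, 5, 8, 7, 9, 10, 10]),
   (114, [3, 3, 3, 3, 2, 3, 2, 5, 4, 5, 5, 6, 6, 9, 6, 6, 10, 10]),
   (113, [3, 2, 3, 2, 3, 2, 2, 5, 5, 5, 4, 5, 9, 7, 7, 6, 10]),
   (202, [3, 2, 3, 3, 3, 4, 4, 5, 4, 4, 8, 9, 10, 10]),
   (45, [2, 3, 2, 2, 3, 2, 3, 3, 2, 4, 4, 4, 4, 5, 4, 5, 8, 7]),
   (51, [3, 2, 2, 2, 3, 3, 2, 4, 5, 4, 4, 6, 9, 6, 6, 10, 10]),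
   (34, [2, 3, 2, 3, 4, 5, 4, 5, 5, 5, 5, 6, 9, 8, 6, 10]),
   (87, [3, 3, 2, 2, 4, 4, 5, 5, 5, 5, 9, 10]),
   (77, [2, 3, 3, 2, 3, 3, 3, 5, 4, 5, 4, 5, 7, 8, 9, 10]),
   (38, [3, 2, 3, 2, 3, 3, 3, 3, 5, 4, 9, 7, 8, 6, 10, 10]),
   (135, [2, 2, 2, 2, 2, 4, 5, 5, 4, 4, 4, 8, 9, 7, 10, 10]),
   (61, [2, 2, 3, 3, 2, 2, 4, 4, 4, 5, 4, 5, 6, 9, 8, 6]),
   (261, [3, 2, 4, 5, 4, 5, 5, 4, 7, 9, 6, 6, 10]),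
   (7, [3, 3, 2, 2, 2, 3, 4, 4, 4, 5, 5, 5, 9, 8, 6, 6, 10, 10]),
   (91, [3, 2, 2, 2, 4, 4, 4, 5, 5, 5, 8, 6]),
   (205, [2, 2, 2, 2, 3, 4, 4, 5, 8, 9, 7, 6]),
   (220, [2, 3, 3, 4, 5, 4, 4, 5, 4, 4, 6, 9, 6]),
   (247, [3, 3, 2, 2, 3, 2, 3, 5, 5, 4, 5, 7, 8, 9, 10, 10]),
   (62, [3, 2, 3, 2, 3, 2, 3, 5, 4, 4, 4, 8, 9, 7, 6]),
   (260, [2, 2, 3, 3, 2, 2, 5, 4, 4, 9, 6, 6, 10, 10]),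
   (86, [2, 2, 2, 3, 2, 2, 5, 5, 5, 7, 7, 8, 9, 10]),
   (195, [2, 3, 3, 2, 3, 3, 4, 4, 4, 5, 4, 4, 4, 7, 10]),
   (156, [3, 2, 2, 2, 2, 2, 2, 2, 5, 5, 4, 5, 4, 6, 9, 7, 10]),
   (23, [3, 2, 2, 2, 2, 2, 2, 3, 3, 4, 4, 5, 4, 5, 4, 6, 6, 9]),
   (264, [3, 2, 3, 3, 3, 3, 3, 4, 5, 5, 5, 7, 9, 8, 7]),
   (162, [3, 3, 2, 2, 3, 3, 2, 4, 5, 5, 8, 9, 10, 10]),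
   (35, [2, 3, 3, 3, 4, 4, 5, 4, 5, 9, 6, 7]),
   (186, [3, 2, 3, 3, 3, 2, 2, 2, 5, 5, 4, 5, 4, 4, 4, 6, 6, 9, 6, 6, 10]),
   (109, [3, 3, 2, 2, 2, 3, 4, 5, 5, 5, 4, 5, 5, 4, 9, 10, 10]),
   (15, [3, 3, 2, 3, 2, 2, 4, 4, 4, 5, 4, 4, 9, 7, 8, 6]),
   (182, [3, 3, 2, 3, 2, 3, 4, 5, 5, 4, 5, 5, 9, 6, 7, 10, 10]),
   (107, [2, 2, 3, 2, 3, 4, 4, 4, 5, 5, 5, 4, 6, 9, 6, 10]),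
   (216, [3, 2, 3, 3, 2, 3, 3, 2, 2, 5, 5, 5, 4, 5, 5, 4, 6, 8, 9, 7, 10]),
   (161, [2, 2, 2, 2, 2, 2, 3, 3, 5, 4, 5, 5, 4, 8, 9, 7]),
   (118, [2, 3, 2, 2, 5, 4, 5, 5, 4, 4, 4, 9, 7, 6, 6]),
   (58, [2, 3, 5, 4, 5, 8, 9, 7, 10, 10]),
   (176, [2, 3, 2, 3, 3, 3, 3, 4, 4, 4, 5, 4, 5, 8, 8, 6]),
   (236, [3, 2, 2, 2, 2, 2, 2, 3, 3, 5, 5, 5, 4, 5, 4, 4, 4, 6, 6, 9, 10, 10]),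
   (133, [3, 2, 3, 3, 3, 5, 4, 4, 5, 4, 5, 8, 9, 6, 6, 10]),
   (243, [2, 2, 2, 2, 2, 2, 2, 5, 4, 5, 4, 5, 7, 8, 9, 7, 10]),
   (177, [2, 3, 3, 3, 3, 2, 3, 5, 5, 4, 4, 6, 9]),
   (252, [2, 3, 3, 2, 2, 3, 2, 3, 5, 4, 4, 5, 4, 5, 4, 9, 7, 9]),
   (148, [3, 2, 3, 3, 3, 3, 2, 3, 5, 4, 5, 4, 5, 5, 9, 8, 7, 9, 10, 10]),
   (229, [2, 2, 2, 3, 3, 5, 5, 5, 4, 5, 4, 4, 4, 8, 9, 6, 9]),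
   (140, [3, 3, 2, 3, 2, 2, 4, 4, 4, 4, 5, 4, 5, 7, 9, 7, 10]),
   (37, [2, 2, 3, 5, 4, 5, 9, 7, 9, 10, 10]),
   (126, [2, 3, 3, 2, 3, 5, 4, 5, 5, 4, 4, 4, 8, 7, 9, 10]),
   (26, [3, 3, 2, 2, 2, 2, 2, 2, 3, 3, 5, 4, 5, 5, 5, 5, 7, 9, 6, 6, 10, 10]),
   (142, [2, 2, 2, 2, 3, 4, 4, 5, 5, 5, 4, 7, 8, 9, 10, 10]),
   (32, [3, 3, 2, 3, 3, 3, 4, 4, 5, 4, 5, 5, 7, 10]),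
   (124, [2, 3, 2, 3, 3, 3, 3, 4, 4, 4, 5, 4, 5, 8, 7, 10]),
   (121, [3, 3, 3, 3, 2, 2, 2, 5, 4, 5, 4, 5, 4, 5, 6, 9, 7, 10, 10]),
   (112, [3, 2, 2, 2, 3, 3, 2, 4, 5, 5, 4, 5, 5, 4, 6, 9, 8, 6, 10, 10]),
   (2, [3, 3, 3, 2, 3, 2, 3, 5, 4, 5, 5, 5, 5, 8, 6, 9, 6, 10, 10]),
   (231, [3, 3, 2, 2, 4, 5, 5, 4, 5, 5, 9, 7, 8, 6, 10, 10]),
   (238, [3, 2, 2, 2, 2, 2, 2, 2, 9, 7, 6, 6, 10, 10]),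
   (108, [3, 2, 2, 2, 2, 2, 2, 3, 3, 5, 5, 4, 4, 4, 7, 9, 8, 7, 10, 10]),
   (123, [3, 3, 3, 3, 2, 3, 3, 5, 4, 7, 6, 10, 10]),
   (64, [2, 2, 3, 2, 3, 5, 5, 5, 4, 5, 4, 4, 4, 7, 9, 8, 7]),
   (241, [3, 2, 2, 2, 5, 5, 5, 4, 5, 4, 4, 4, 7, 7, 6, 10, 10]),
   (271, [3, 2, 3, 3, 3, 3, 3, 5, 4, 5, 5, 5, 4, 7]),
   (57, [2, 2, 3, 2, 2, 4, 5, 5, 5, 4, 5, 9, 7, 10, 10]),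
   (60, [3, 2, 2, 3, 2, 2, 5, 5, 4, 5, 4, 4, 4, 8, 7, 7, 6, 10]),
   (255, [2, 2, 3, 3, 2, 2, 4, 5, 7, 9, 7, 6]),
   (230, [2, 3, 3, 3, 2, 3, 2, 4, 4, 5, 9]),
   (152, [2, 2, 2, 2, 2, 3, 2, 3, 4, 5, 4, 5, 5, 5, 4, 9, 6, 6, 10, 10]),
   (219, [2, 2, 3, 2, 2, 2, 5, 4, 4, 5, 4, 4, 4, 6, 7]),
   (189, [3, 3, 2, 2, 2, 2, 2, 2, 3, 3, 4, 4, 4, 4, 5, 4, 4, 7, 7, 9, 6, 10, 10]),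
   (155, [2, 2, 2, 2, 2, 3, 4, 4, 5, 5, 5, 4, 7, 7, 10, 10]),
   (122, [3, 3, 3, 2, 2, 4, 4, 5, 4, 4, 4, 7, 6, 6, 10]),
   (68, [3, 2, 2, 3, 2, 3, 3, 2, 4, 4, 4, 5, 4, 4, 8, 6, 6, 10]),
   (174, [2, 3, 2, 3, 4, 4, 4, 6, 6, 9, 10, 10]),
   (48, [2, 3, 2, 2, 3, 3, 2, 2, 4, 5, 4, 4, 5, 4, 4, 7, 8, 9, 7]),
   (250, [2, 2, 2, 3, 3, 4, 4, 5, 9, 7, 9, 10, 10]),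
   (210, [3, 3, 2, 3, 2, 2, 4, 4, 4, 5, 4, 5, 6, 6, 9]),
   (79, [2, 3, 2, 3, 5, 4, 4, 5, 4, 5, 7, 9, 8, 6, 10, 10]),
   (104, [2, 2, 2, 2, 3, 3, 4, 4, 5, 4, 5, 8, 9]),
   (139, [2, 2, 2, 2, 3, 2, 2, 5, 4, 5, 5, 5, 5, 6, 6, 9]),
   (83, [3, 2, 3, 2, 4, 7, 9, 7, 6, 10, 10]),
   (146, [2, 2, 2, 3, 3, 2, 5, 4, 5, 4, 5, 5, 8, 9, 7, 6]),
   (248, [3, 3, 3, 3, 2, 2, 2, 5, 4, 5, 4, 5, 8, 7, 10, 10]),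
   (262, [3, 3, 2, 2, 3, 2, 2, 5, 5, 5, 4, 5, 9, 7, 9, 6, 10, 10]),
   (4, [2, 2, 2, 3, 3, 2, 2, 5, 5, 5, 4, 5, 5, 4, 6, 9, 7, 8, 6, 10, 10]),
   (29, [2, 3, 3, 2, 5, 4, 4, 5, 5, 4, 4, 4, 7, 8, 9, 7, 10, 10]),
   (263, [2, 2, 3, 3, 3, 2, 3, 2, 5, 4, 5, 4, 5, 9, 8, 7, 9]),
   (257, [3, 2, 2, 2, 3, 2, 3, 4, 4, 4, 4, 5, 4, 4, 6, 9, 8, 6, 6]),
   (50, [2, 2, 2, 2, 4, 4, 5, 4, 5, 4, 5, 9, 7, 9]),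
   (128, [2, 3, 3, 2, 3, 4, 5, 5, 4, 5, 6, 9, 8, 6]),
   (172, [2, 3, 3, 2, 3, 2, 4, 5, 4, 5, 4, 5, 8, 9, 10, 10]),
   (245, [3, 2, 3, 2, 2, 4, 5, 4, 4, 9, 8, 7, 9, 10, 10]),
   (227, [2, 3, 3, 4, 5, 5, 4, 5, 5, 9, 8, 7, 9, 10, 10]),
   (19, [3, 2, 2, 3, 2, 3, 5, 4, 4, 5, 4, 5, 7, 9, 7]),
   (274, [2, 3, 2, 3, 3, 3, 2, 2, 2, 5, 4, 5, 4, 5, 7, 9, 7, 6, 10, 10]),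
   (253, [3, 2, 2, 2, 3, 3, 2, 5, 4, 5, 4, 6, 9, 8, 6, 10, 10]),
   (204, [2, 3, 3, 3, 3, 3, 4, 5, 4, 6, 9, 8, 6, 6, 10]),
   (75, [2, 2, 3, 3, 2, 3, 4, 4, 4, 6, 9, 7, 8, 6, 10]),
   (8, [2, 2, 4, 5, 5, 5, 4, 5, 5, 4, 6, 9, 6, 6, 10]),
   (199, [3, 2, 4, 4, 5, 4, 5, 5, 4, 7, 7, 9, 6]),
   (31, [3, 2, 2, 2, 2, 2, 2, 3, 3, 4, 5, 5, 4, 5, 6, 9, 6, 6]),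
   (272, [2, 3, 2, 2, 2, 3, 2, 3, 4, 4, 5, 4, 4, 4, 7, 9, 7, 6]),
   (17, [2, 3, 3, 3, 3, 4, 5, 5, 5, 4, 5, 5, 4, 9, 6, 9]),
   (36, [3, 2, 3, 3, 3, 3, 2, 3, 5, 9, 8, 6]),
   (49, [2, 3, 3, 3, 2, 3, 2, 5, 5, 4, 5, 6, 9, 6, 7, 10, 10]),
   (22, [3, 2, 2, 2, 3, 3, 2, 4, 5, 4, 5, 5, 5, 5, 7, 7, 9, 10, 10]),
   (171, [2, 2, 2, 2, 3, 2, 3, 5, 4, 5, 6, 9, 10, 10]),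
   (153, [2, 3, 3, 2, 5, 5, 4, 5, 4, 4, 4, 7, 9, 10]),
   (88, [2, 3, 3, 2, 2, 3, 2, 3, 5, 4, 5, 4, 5, 5, 6, 8, 9, 7]),
   (196, [3, 3, 3, 2, 2, 2, 3, 5, 5, 4, 5, 5, 4, 7, 9, 7, 6, 10, 10]),
   (211, [2, 2, 2, 3, 2, 2, 2, 4, 4, 5, 4, 4, 4, 6, 10, 10]),
   (254, [3, 3, 2, 3, 3, 3, 4, 5, 5, 4, 5, 6, 9, 10, 10]),
   (165, [2, 3, 2, 3, 2, 3, 5, 5, 5, 4, 9, 6, 10]),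
   (90, [2, 3, 5, 4, 5, 5, 8, 9, 6, 6]),
   (149, [3, 3, 3, 3, 2, 3, 5, 4, 4, 5, 5, 4, 4, 4, 9, 6, 7]),
   (41, [2, 3, 3, 2, 3, 3, 4, 6, 9]),
   (240, [3, 2, 3, 2, 2, 2, 4, 4, 5, 5, 5, 5, 8, 9, 6, 6, 10]),
   (130, [3, 3, 2, 5, 4, 5, 5, 4, 7, 9, 8, 7, 10]),
   (141, [2, 2, 2, 2, 2, 4, 5, 4, 5, 4, 4, 7, 8, 6, 10]),
   (179, [2, 3, 2, 2, 2, 4, 5, 4, 5, 4, 9, 7, 10]),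
   (55, [3, 2, 2, 3, 3, 5, 4, 4, 6, 6, 9, 6, 6, 10]),
   (78, [3, 2, 2, 2, 4, 5, 4, 4, 4, 8, 6, 9, 6, 10, 10]),
   (3, [2, 3, 2, 3, 2, 5, 4, 4, 5, 4, 5, 4, 9, 6]),
   (178, [2, 3, 2, 3, 3, 3, 3, 3, 5, 4, 6]),
   (266, [3, 3, 2, 5, 5, 4, 5, 5, 5, 4, 6, 8, 9, 7, 10]),
   (221, [2, 3, 2, 3, 2, 3, 5, 4, 5, 5, 8, 6, 9, 6, 10, 10]),
   (94, [3, 2, 2, 2, 3, 2, 3, 4, 4, 5, 4, 4, 7, 6, 10, 10]),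
   (208, [2, 2, 3, 4, 4, 5, 4, 5, 5, 4, 7, 6, 6]),
   (9, [3, 5, 4, 5, 9, 10]),
   (116, [3, 2, 3, 2, 2, 5, 5, 4, 5, 7, 7]),
   (170, [3, 3, 3, 3, 3, 4, 4, 5, 4, 5, 5, 7, 6, 10, 10]),
   (67, [3, 2, 4, 5, 5, 4, 5, 9, 7, 9]),
   (187, [3, 2, 3, 3, 3, 2, 3, 2, 4, 5, 4, 5, 9, 7, 6, 6, 10]),
   (5, [3, 2, 3, 2, 3, 3, 2, 5, 5, 5, 5, 4, 5, 4, 6, 6, 9, 6, 6, 10]),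
   (212, [3, 2, 2, 3, 2, 2, 4, 5, 4, 4, 4, 6, 9, 8, 6, 6, 10]),
   (188, [2, 2, 2, 3, 2, 2, 5, 5, 5, 5, 4, 5, 9, 8, 7, 10, 10]),
   (251, [2, 2, 2, 3, 2, 3, 3, 2, 4, 5, 4, 5, 5, 5, 5, 9, 7, 9, 10]),
   (237, [2, 3, 2, 5, 5, 5, 8, 7, 9, 7, 10]),
   (76, [2, 2, 2, 5, 4, 5, 5, 4, 6, 9, 6, 7, 10]),
   (80, [3, 2, 3, 3, 2, 2, 4, 4, 5, 5, 4, 4, 4, 9, 7, 9, 10]),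
   (184, [2, 2, 2, 3, 3, 4, 4, 5, 4, 4, 4, 7, 8, 9, 7])]

/-- Part of a closure certificate. -/
def gLev0c7 : List (ℕ × List ℕ) :=
  [(27, [2, 2, 3, 5, 9, 7, 8, 6, 10]),
   (166, [3, 3, 4, 4, 4, 4, 5, 4, 5, 8, 7, 10]),
   (106, [3, 3, 2, 3, 2, 3, 4, 5, 4, 5, 5, 5, 4, 6, 7, 10]),
   (43, [2, 3, 5, 4, 4, 4, 6, 9, 7, 10]),
   (93, [2, 3, 3, 5, 4, 4, 5, 5, 5, 9, 7, 8, 6, 10, 10]),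
   (192, [3, 2, 2, 3, 3, 2, 3, 4, 4, 5, 5, 5, 4, 9, 6, 9]),
   (74, [2, 2, 3, 4, 5, 5, 5, 4, 5, 6, 8, 9, 7]),
   (136, [2, 3, 2, 3, 2, 5, 5, 4, 5, 4, 4, 4, 7, 9, 8, 6]),
   (25, [3, 2, 3, 3, 2, 3, 3, 2, 2, 5, 5, 4, 5, 4, 5, 5, 6, 9, 8, 6, 10]),
   (65, [2, 3, 3, 3, 4, 5, 4, 4, 9, 7, 7, 6]),
   (92, [2, 3, 3, 3, 3, 2, 3, 4, 5, 5, 5, 5, 4, 5, 4, 9, 8, 7, 10, 10]),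
   (203, [2, 3, 3, 3, 2, 3, 2, 5, 5, 4, 5, 5, 6, 9, 6, 7, 10]),
   (224, [2, 3, 3, 2, 3, 3, 4, 5, 4, 4, 6, 9, 8, 6, 6, 10]),
   (12, [3, 2, 3, 2, 4, 5, 4, 4, 5, 4, 4, 6, 9, 7, 10, 10]),
   (168, [3, 2, 4, 4, 5, 5, 4, 4, 4, 8, 7, 7, 6, 10, 10]),
   (13, [3, 2, 2, 3, 3, 2, 3, 4, 5, 4, 4, 4, 5, 4, 4, 6, 9]),
   (20, [3, 3, 2, 2, 2, 2, 2, 2, 2, 5, 4, 5, 4, 5, 4, 5, 7, 6, 6, 10]),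
   (138, [3, 3, 4, 4, 4, 4, 5, 4, 5, 7, 10]),
   (197, [3, 2, 3, 2, 3, 2, 3, 4, 5, 4, 4, 4, 9, 8, 7, 10]),
   (206, [3, 2, 3, 3, 2, 5, 4, 4, 4, 5, 4, 4, 6, 9, 8, 6, 6, 10, 10]),
   (131, [3, 3, 2, 3, 5, 5, 4, 7, 9, 10, 10]),
   (267, [2, 3, 3, 3, 4, 4, 5, 5, 5, 5, 10]),
   (234, [2, 2, 4, 5, 5, 4, 6, 9, 8, 6]),
   (225, [3, 3, 3, 2, 3, 2, 4, 5, 4, 5, 5, 4, 5, 5, 8, 7, 9]),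
   (270, [2, 2, 3, 3, 2, 3, 2, 5, 5, 5, 4, 5, 7, 7, 9, 10, 10]),
   (244, [3, 3, 2, 5, 4, 5, 4, 5, 6, 9, 6, 6, 10, 10]),
   (99, [2, 3, 3, 3, 5, 5, 6, 6]),
   (125, [2, 3, 3, 3, 2, 3, 2, 5, 4, 5, 4, 5, 6, 8, 9, 7, 10, 10]),
   (84, [2, 2, 3, 2, 3, 5, 4, 4, 5, 4, 5, 4, 10, 10]),
   (59, [2, 2, 3, 3, 2, 2, 4, 4, 4, 5, 4, 4, 4, 7, 9, 6, 10, 10]),
   (53, [3, 2, 2, 3, 2, 3, 3, 2, 4, 7, 9, 7, 6, 10, 10]),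
   (193, [3, 2, 3, 3, 3, 2, 3, 2, 5, 4, 4, 5, 4, 5, 4, 6, 9, 6, 10]),
   (175, [3, 2, 3, 3, 3, 3, 2, 3, 5, 5, 4, 5, 5, 5, 4, 7, 9, 8, 6, 10]),
   (18, [3, 3, 2, 3, 3, 4, 5, 4, 7, 9, 8, 6, 10, 10]),
   (102, [2, 3, 3, 3, 2, 2, 2, 4, 5, 4, 5, 4, 6, 9, 7, 10]),
   (258, [3, 3, 2, 2, 2, 2, 3, 4, 4, 4, 5, 5, 5, 4, 6, 9, 8, 6, 10]),
   (235, [2, 2, 3, 2, 3, 5, 4, 4, 5, 4, 5, 4, 8, 9, 6, 6, 10, 10]),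
   (232, [3, 2, 3, 3, 2, 2, 4, 5, 4, 4, 7, 9, 7]),
   (228, [3, 3, 3, 3, 2, 2, 2, 3, 5, 5, 5, 4, 4, 4, 7, 9, 8, 7, 10]),
   (181, [2, 2, 2, 3, 5, 4, 5, 4, 4, 4, 9, 6, 9, 10]),
   (246, [3, 2, 2, 2, 3, 2, 2, 5, 5, 5, 5, 4, 5, 9, 6, 9]),
   (11, [3, 2, 2, 2, 2, 3, 4, 4, 5, 5, 5, 6, 9, 8, 6, 6]),
   (169, [3, 2, 3, 2, 2, 2, 5, 4, 5, 5, 5, 4, 9, 8, 6, 10]),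
   (226, [3, 2, 3, 3, 3, 2, 2, 2, 5, 5, 4, 5, 5, 5, 4, 9, 6, 10, 10]),
   (42, [2, 3, 2, 3, 3, 3, 3, 3, 5, 4, 4, 5, 4, 4, 8, 8, 6, 10]),
   (111, [3, 2, 3, 3, 4, 5]),
   (215, [3, 2, 3, 3, 3, 2, 2, 2, 4, 5, 4, 5, 5, 4, 4, 4, 7, 8, 9, 7, 10]),
   (14, [2, 2, 2, 4, 4, 4, 5, 5, 5, 9, 8, 7, 9, 10, 10]),
   (157, [3, 3, 2, 2, 3, 3, 2, 4, 5, 5, 5, 5, 8, 6, 10]),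
   (214, [3, 2, 2, 2, 3, 3, 2, 2, 7, 8, 9, 7]),
   (81, [2, 3, 3, 2, 3, 2, 3, 2, 3, 4, 5, 5, 4, 5, 8, 9, 6, 6]),
   (71, [3, 3, 3, 2, 2, 4, 4, 5, 5, 5, 6, 9, 8, 6]),
   (127, [3, 3, 3, 2, 2, 2, 3, 4, 5, 5, 4, 5, 9, 10]),
   (70, [3, 2, 3, 3, 3, 5, 5, 4, 4, 8, 6, 6, 9, 10]),
   (183, [3, 3, 2, 3, 2, 5, 5, 4, 4, 7, 7, 6, 10]),
   (89, [3, 3, 4, 4, 4, 5, 4, 4, 4, 6, 6, 10]),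
   (56, [3, 3, 2, 3, 3, 4, 4, 5, 8, 9, 10, 10]),
   (40, [3, 2, 3, 2, 3, 5, 4, 4, 5, 5, 4, 4, 4, 9, 7, 8, 6]),
   (223, [2, 2, 5, 4, 4, 5, 5, 5, 6, 7]),
   (201, [2, 2, 3, 4, 4, 5, 4, 5, 7, 9, 10, 10]),
   (73, [2, 3, 2, 2, 3, 2, 3, 3, 2, 4, 4, 4, 5, 5, 5, 4, 8, 9, 6, 9]),
   (129, [2, 2, 2, 3, 3, 2, 4, 6, 8, 9, 7, 10]),
   (185, [2, 3, 3, 2, 3, 3, 3, 4, 4, 4, 5, 4, 4, 4, 9, 7, 6, 6, 10]),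
   (44, [2, 3, 3, 3, 2, 2, 2, 5, 4, 4, 4, 9, 7, 9, 6, 10]),
   (101, [2, 2, 2, 3, 2, 2, 2, 5, 4, 5, 5, 5, 5, 7, 7, 9, 6, 10]),
   (119, [3, 3, 3, 3, 2, 3, 2, 3, 4, 4, 5, 4, 5, 4, 5, 8, 9, 6, 9]),
   (63, [3, 3, 3, 3, 2, 2, 2, 3, 5, 5, 4, 5, 9]),
   (54, [2, 3, 3, 3, 2, 3, 2, 4, 4, 4, 4, 5, 4, 4, 6, 9, 8, 6]),
   (167, [3, 2, 3, 2, 3, 4, 5, 4, 5, 5, 9, 8, 7, 9]),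
   (98, [2, 3, 2, 2, 3, 3, 2, 2, 5, 4, 5, 5, 5, 4, 7, 8, 9, 7, 10, 10]),
   (66, [3, 3, 3, 2, 3, 2, 3, 5, 5, 4, 5, 9, 6, 9, 10, 10]),
   (163, [2, 3, 3, 3, 3, 3, 5, 5, 5, 4, 4, 4, 8, 9, 6, 6]),
   (24, [2, 3, 2, 2, 2, 3, 4, 5, 5, 4, 8, 7, 9, 10]),
   (134, [2, 2, 2, 2, 2, 3, 2, 3, 5, 5, 4, 5, 4, 4, 4, 7, 9, 6]),
   (213, [2, 2, 3, 2, 2, 5, 5, 5, 4, 9, 7, 10, 10]),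
   (6, [2, 2, 3, 2, 3, 3, 3, 3, 3, 5, 4, 4, 5, 4, 4, 4, 7, 9, 10, 10]),
   (95, [2, 2, 3, 3, 2, 4, 4, 5, 4, 7, 9, 7, 6, 10]),
   (46, [3, 2, 2, 2, 2, 2, 3, 3, 5, 4, 5, 4, 9, 7, 7, 6, 10]),
   (10, [2, 2, 3, 4, 5, 4, 5, 5, 5, 5, 9, 8, 7, 10]),
   (1, [3, 2, 2, 2, 2, 2, 2, 3, 3, 4, 4, 5, 5, 4, 4, 4, 7, 9, 6, 6, 10]),
   (158, [3, 3, 3, 2, 2, 2, 4, 5, 4, 5, 5, 5, 5, 9, 6, 6, 10]),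
   (103, [3, 3, 2, 3, 2, 5, 5, 4, 5, 5, 4, 4, 4, 8, 7, 7, 6]),
   (143, [2, 2, 2, 2, 3, 2, 2, 4, 5, 4, 5, 7, 8, 9, 10]),
   (249, [2, 3, 3, 3, 2, 3, 3, 4, 4, 4, 5, 4, 5, 6, 9, 6, 6, 10]),
   (233, [3, 2, 2, 3, 3, 5, 5, 5, 4, 5, 9, 6, 9, 10, 10]),
   (180, [3, 3, 2, 2, 2, 2, 2, 2, 3, 3, 4, 5, 4, 4, 4, 5, 4, 4, 7, 10]),
   (190, [3, 2, 3, 3, 2, 3, 3, 2, 2, 4, 5, 5, 5, 4, 9, 6]),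
   (150, [3, 3, 2, 3, 2, 2, 4, 4, 5, 4, 4, 9, 7, 6]),
   (137, [2, 2, 2, 3, 2, 2, 5, 5, 5, 5, 6, 6, 9, 6, 6, 10, 10]),
   (217, [2, 3, 2, 3, 2, 5, 4, 5, 5, 5, 4, 8, 7, 9, 10]),
   (209, [2, 2, 3, 2, 2, 5, 5, 5, 5, 4, 5, 7, 6, 6, 10]),
   (100, [3, 3, 3, 3, 2, 2, 2, 4, 4, 4, 5, 4, 6, 6, 9, 6, 6, 10]),
   (256, [3, 3, 2, 3, 2, 4, 5, 4, 5, 5, 5, 5, 8, 6, 6, 9]),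
   (72, [2, 3, 3, 2, 3, 3, 2, 2, 5, 5, 5, 4, 5, 5, 4, 8, 6, 6]),
   (164, [2, 3, 2, 4, 4, 4, 5, 4, 9, 8, 6, 6, 10]),
   (110, [2, 4, 5, 5, 9, 8, 6, 6]),
   (269, [3, 2, 3, 3, 2, 2, 4, 4, 4, 5, 5, 5, 4, 6, 9, 8, 6]),
   (33, [3, 3, 3, 2, 2, 2, 3, 4, 4, 4, 5, 4, 4, 9, 7, 7, 6, 10, 10]),
   (30, [3, 3, 3, 2, 3, 2, 4, 4, 4, 5, 4, 5, 8, 6, 10, 10]),
   (145, [3, 3, 3, 3, 3, 3, 5, 5, 4, 4, 8, 6, 10, 10]),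
   (96, [3, 4, 4, 5, 4, 5, 4, 7]),
   (265, [2, 2, 2, 2, 2, 2, 3, 5, 4, 5, 5, 5, 5, 10]),
   (47, [2, 3, 3, 3, 2, 3, 3, 5, 4, 5, 4, 6, 9, 7, 8, 6]),
   (268, [2, 2, 2, 2, 2, 2, 4, 4, 5, 4, 5, 5, 4, 8, 7, 9, 10]),
   (52, [2, 2, 3, 3, 2, 3, 3, 4, 5, 4, 5, 5, 6, 9, 8, 6, 6, 10, 10]),
   (207, [3, 4, 5, 4, 8, 8, 6, 10, 10]),
   (273, [3, 2, 2, 3, 3, 2, 5, 4, 4, 9, 7, 9, 6]),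
   (154, [3, 3, 2, 3, 5, 4, 5, 5, 9, 8, 7, 9]),
   (242, [2, 3, 3, 3, 2, 3, 3, 5, 4, 5, 5, 4, 5, 5, 9, 6, 6]),
   (132, [2, 2, 3, 2, 3, 3, 3, 3, 3, 4, 5, 5, 5, 4, 5, 5, 4, 9, 6, 6, 10]),
   (0, [6]),
   (3, [2, 2, 2, 4, 5, 4, 5, 5, 5, 4, 9]),
   (152, [2, 2, 3, 3, 3, 4, 5, 4, 5, 4, 8, 7, 9, 10, 10]),
   (164, [3, 2, 3, 3, 3, 3, 3, 5, 5, 5, 5, 4, 5, 4, 7, 7, 10]),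
   (4, [2, 3, 3, 3, 3, 4, 5, 4, 4, 7, 7, 9]),
   (33, [3, 3, 2, 2, 3, 2, 2, 5, 4, 5, 5, 4, 6, 6, 10]),
   (65, [2, 2, 2, 2, 2, 5, 4, 5, 5, 4, 5, 5, 8, 7, 10]),
   (145, [2, 2, 2, 3, 2, 3, 3, 2, 4, 5, 4, 5, 5, 5, 4, 8, 7, 9, 7, 10]),
   (95, [2, 3, 2, 2, 3, 2, 2, 5, 5, 4, 5, 4, 4, 4, 8, 7]),
   (217, [3, 2, 3, 2, 3, 3, 3, 3, 4, 4, 5, 9, 7, 7, 6, 10, 10]),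
   (151, [3, 3, 2, 3, 5, 4, 4, 5, 4, 5, 9, 7, 9, 6]),
   (24, [2, 2, 2, 5, 4, 4, 8, 9, 6, 9, 10]),
   (49, [3, 3, 2, 3, 3, 3, 3, 4, 5, 5, 4, 5, 5, 9, 7, 10]),
   (121, [3, 2, 2, 2, 2, 2, 2, 3, 3, 5, 5, 4, 5, 4, 4, 4, 9]),
   (176, [3, 3, 3, 2, 3, 2, 3, 4, 4, 4, 4, 5, 4, 5, 7, 8, 6]),
   (15, [2, 2, 2, 2, 3, 2, 2, 5, 5, 4, 5, 5, 4, 4, 4, 7, 9, 7, 6]),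
   (213, [2, 3, 3, 3, 2, 2, 2, 3, 4, 5, 4, 4, 5, 4, 4, 8, 6, 9, 6, 10, 10]),
   (27, [3, 2, 4, 5, 4, 5, 4, 6, 10, 10]),
   (35, [3, 2, 3, 3, 2, 4, 5, 5, 5, 4, 5, 9, 7, 9, 10]),
   (43, [3, 3, 2, 3, 3, 5, 5, 4, 4, 4, 7, 6]),
   (66, [2, 2, 2, 2, 2, 2, 4, 5, 5, 7, 9, 7, 10]),
   (21, [3, 2, 2, 2, 3, 2, 2, 2, 5, 4, 4, 5, 4, 5, 5, 7, 7, 9, 6, 10, 10]),
   (205, [3, 2, 2, 2, 3, 4, 5, 5, 5, 4, 5, 5, 4, 6, 8, 6, 6, 10]),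
   (55, [3, 2, 3, 3, 2, 2, 4, 4, 4, 4, 5, 4, 5, 9, 7, 7, 6, 10]),
   (185, [2, 3, 3, 2, 2, 3, 2, 3, 4, 4, 5, 5, 5, 4, 8, 6, 9, 6]),
   (208, [3, 2, 2, 2, 3, 3, 2, 4, 4, 5, 4, 5, 5, 4, 7, 7, 10, 10]),
   (140, [2, 2, 3, 3, 2, 2, 4, 5, 5, 4, 8, 7, 9, 10]),
   (168, [3, 2, 3, 3, 3, 3, 2, 3, 5, 4, 4, 4, 5, 4, 6, 9, 6, 7]),
   (128, [2, 2, 3, 2, 3, 3, 3, 3, 4, 4, 5, 4, 5, 9, 6, 9, 10, 10]),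
   (44, [2, 2, 3, 2, 3, 3, 2, 5, 4, 5, 4, 5, 4, 5, 7, 8, 6, 10]),
   (19, [3, 3, 2, 2, 3, 3, 2, 4, 4, 4, 5, 4, 4, 4, 8, 6, 10, 10]),
   (107, [2, 2, 2, 2, 2, 3, 5, 5, 6, 9, 7]),
   (204, [2, 2, 3, 3, 2, 3, 5, 4, 4, 5, 4, 8, 9, 6, 6]),
   (180, [3, 2, 2, 2, 2, 2, 3, 3, 4, 5, 4, 5, 5, 8, 7, 9, 10, 10]),
   (157, [3, 2, 2, 3, 3, 2, 5, 4, 4, 4, 5, 4, 9, 8, 7]),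
   (93, [3, 2, 2, 2, 2, 3, 9, 7]),
   (47, [2, 3, 2, 5, 4, 5, 4, 7, 9, 6, 6, 10]),
   (108, [3, 2, 2, 2, 2, 3, 5, 4, 4, 9, 7, 9, 10, 10]),
   (28, [3, 2, 2, 2, 2, 5, 5, 5, 5, 4, 5, 9, 7, 10]),
   (115, [3, 3, 3, 4, 5, 4, 5, 4, 4, 7, 6]),
   (61, [3, 2, 2, 2, 3, 2, 2, 2, 5, 4, 5, 5, 5, 5, 8, 7, 10]),
   (71, [2, 3, 3, 2, 2, 3, 3, 2, 4, 4, 4, 5, 4, 9, 7, 6, 6, 10, 10]),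
   (104, [2, 3, 3, 3, 2, 2, 2, 3, 4, 5, 7, 8, 9]),
   (30, [3, 3, 2, 5, 5, 4, 4, 5, 4, 5, 6, 9, 6, 10, 10]),
   (54, [3, 3, 2, 3, 5, 4, 4, 8, 7, 9, 10]),
   (136, [3, 2, 2, 3, 2, 2, 5, 5, 5, 4, 4, 4, 9, 7, 8, 6, 10, 10]),
   (57, [3, 3, 2, 2, 2, 3, 5, 5, 4, 4, 4, 9, 8, 6, 10, 10]),
   (106, [2, 2, 2, 3, 3, 5, 5, 5, 4, 6, 9, 7, 8, 6, 10]),
   (113, [3, 3, 3, 2, 2, 4, 5, 5, 4, 5, 5, 4, 6, 6, 10]),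
   (247, [3, 2, 5, 5, 4, 5, 5, 4, 4, 4, 7, 9, 8, 6, 10, 10]),
   (245, [3, 3, 2, 3, 5, 5, 5, 4, 4, 4, 9, 8, 7, 9, 10, 10]),
   (51, [2, 3, 3, 3, 3, 4, 5, 5, 5, 5, 4, 5, 4, 9, 7, 9, 6, 10]),
   (258, [3, 3, 2, 2, 3, 2, 3, 5, 4, 5, 5, 4, 5, 5, 7, 9, 6, 6, 10, 10]),
   (134, [3, 2, 2, 2, 2, 2, 2, 3, 3, 4, 4, 4, 5, 5, 5, 9, 7, 9]),
   (29, [2, 3, 3, 2, 2, 3, 3, 2, 4, 5, 5, 5, 4, 5, 4, 6, 9, 8, 6]),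
   (154, [2, 3, 3, 2, 3, 4, 5, 5, 5, 4, 5, 4, 6, 6, 9, 6, 6, 10]),
   (216, [2, 2, 2, 3, 3, 2, 4, 7, 6, 6, 10]),
   (236, [2, 3, 3, 3, 3, 3, 8, 7]),
   (79, [2, 3, 2, 2, 2, 3, 2, 3, 4, 5, 5, 5, 4, 6, 6, 10]),
   (100, [3, 2, 3, 3, 3, 4, 4, 4, 5, 5, 5, 4, 9, 6, 7]),
   (26, [2, 2, 4, 5, 4, 5, 4, 9, 6, 7, 10]),
   (129, [3, 2, 4, 4, 4, 5, 4, 4, 9, 8, 6, 10]),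
   (78, [2, 5, 4, 4, 5, 5, 5, 8, 6, 9, 6, 10, 10]),
   (201, [2, 2, 2, 3, 2, 3, 3, 2, 4, 4, 4, 5, 4, 5, 7, 6, 10]),
   (6, [3, 3, 3, 3, 5, 5, 4, 5, 4, 4, 4, 6, 9, 7, 8, 6]),
   (64, [3, 2, 3, 3, 3, 2, 2, 2, 4, 5, 5, 4, 5, 5, 4, 9, 7, 10]),
   (124, [2, 2, 3, 4, 5, 4, 5, 5, 5, 5, 6, 8, 6, 6]),
   (242, [3, 3, 2, 2, 3, 2, 3, 4, 5, 4, 5, 4, 6, 9, 7, 10, 10]),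
   (68, [3, 2, 2, 2, 3, 3, 2, 5, 4, 5, 5, 8, 9, 7, 6, 10, 10]),
   (97, [2, 3, 2, 2, 3, 2, 3, 3, 2, 4, 5, 5, 5, 5, 8, 9, 6, 6, 10, 10]),
   (186, [2, 3, 3, 2, 4, 5, 5, 4, 5, 6, 6, 9, 6, 6]),
   (123, [2, 2, 3, 3, 2, 3, 4, 5, 5, 5, 5, 6, 9, 8, 6, 10]),
   (234, [2, 2, 2, 3, 2, 2, 2, 5, 5, 5, 5, 4, 5, 9, 7, 9]),
   (175, [3, 2, 3, 2, 4, 5, 4, 4, 5, 4, 4, 6, 9, 6, 6, 10, 10]),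
   (218, [3, 2, 3, 2, 3, 2, 2, 4, 4, 4, 4, 5, 4, 5, 6, 9, 10, 10]),
   (273, [3, 3, 2, 3, 2, 3, 2, 3, 4, 5, 4, 5, 5, 8, 7, 9, 7, 10]),
   (31, [2, 2, 3, 2, 3, 3, 3, 3, 4, 5, 4, 7, 9]),
   (120, [3, 3, 2, 4, 5, 4, 5, 5, 5, 4, 8, 6, 6, 9]),
   (131, [3, 2, 3, 2, 5, 4, 5, 5, 4, 6, 10, 10]),
   (167, [3, 2, 2, 3, 2, 2, 5, 4, 5, 4, 5, 4, 5, 7, 9, 7, 6]),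
   (85, [3, 3, 3, 3, 2, 2, 2, 4, 4, 5, 4, 5, 5, 4, 6, 9, 6, 6, 10]),
   (74, [2, 3, 3, 3, 4, 5, 4, 5, 5, 4, 8, 9, 10]),
   (159, [2, 2, 2, 2, 3, 5, 4, 4, 5, 4, 4, 7, 8, 9, 10, 10]),
   (174, [2, 2, 3, 4, 5, 4, 5, 5, 4, 6, 7, 10]),
   (37, [3, 2, 2, 3, 2, 3, 3, 2, 5, 4, 5, 4, 5, 5, 6, 6, 9]),
   (162, [2, 3, 3, 2, 4, 4, 5, 4, 5, 5, 4, 7, 8, 6]),
   (252, [3, 3, 2, 5, 5, 5, 5, 4, 5, 4, 6, 9, 6, 7]),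
   (67, [3, 2, 3, 3, 3, 4, 5, 4, 5, 5, 5, 5, 8, 7, 9, 10]),
   (149, [2, 2, 2, 2, 2, 2, 2, 5, 5, 4, 5, 4, 4, 4, 7, 7, 10, 10]),
   (70, [2, 3, 3, 3, 3, 3, 5, 4, 5, 5, 5, 5, 6, 9, 6, 7]),
   (257, [2, 3, 2, 3, 2, 2, 5, 4, 5, 5, 4, 8, 6, 6]),
   (221, [3, 3, 2, 2, 2, 2, 3, 5, 5, 4, 5, 4, 7]),
   (274, [2, 3, 3, 2, 3, 3, 3, 5, 4, 5, 5, 5, 5, 7, 9]),
   (18, [3, 2, 2, 2, 3, 2, 3, 5, 4, 5, 4, 4, 4, 9, 8, 6, 6]),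
   (241, [2, 3, 2, 3, 2, 3, 3, 2, 5, 5, 5, 7, 9, 8, 7, 10, 10]),
   (181, [2, 3, 3, 3, 2, 3, 3, 4, 5, 5, 4, 5, 8, 6, 6]),
   (10, [2, 2, 2, 5, 5, 5, 4, 5, 4, 8, 7, 7, 6]),
   (103, [2, 2, 2, 3, 5, 4, 4, 5, 4, 5, 4, 9, 7, 6, 6, 10]),
   (110, [2, 2, 2, 2, 2, 2, 3, 3, 4, 5, 5, 5, 4, 5, 4, 8, 6, 10]),
   (94, [3, 3, 2, 2, 4, 5, 5, 4, 5, 6, 9, 8, 6, 10, 10]),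
   (228, [3, 2, 2, 2, 2, 3, 4, 5, 5, 5, 4, 5, 4, 7, 9, 8, 7, 10]),
   (9, [2, 2, 2, 3, 2, 2, 4, 4, 5, 4, 5, 5, 8, 6, 6, 9]),
   (267, [3, 2, 2, 3, 3, 2, 4, 4, 4, 5, 4, 7, 9, 8, 6, 10, 10]),
   (69, [2, 2, 2, 2, 3, 2, 2, 4, 5, 5, 5, 4, 5, 4, 7, 7, 8, 9, 10, 10]),
   (130, [2, 3, 2, 3, 2, 4, 5, 5, 5, 4, 5, 6, 9, 7, 10]),
   (206, [2, 2, 2, 3, 3, 4, 4, 5, 5, 5, 4, 6, 9, 7, 8, 6]),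
   (36, [3, 2, 3, 2, 3, 3, 3, 3, 4, 4, 4, 5, 5, 5, 6, 9, 6, 6, 10]),
   (76, [3, 3, 2, 2, 3, 2, 2, 4, 5, 5, 4, 5, 5, 8, 7, 9, 10, 10]),
   (84, [2, 3, 2, 3, 3, 3, 3, 5, 4, 4, 5, 4, 5, 5, 9, 7, 6, 10]),
   (232, [3, 2, 2, 2, 3, 2, 2, 2, 4, 5, 5, 5, 4, 6, 6, 9, 6, 6])]

/-- Part of a closure certificate. -/
def gLev0c8 : List (ℕ × List ℕ) :=
  [(272, [2, 3, 2, 5, 5, 4, 5, 4, 4, 4, 6, 9, 7, 8, 6, 10]),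
   (111, [2, 3, 2, 2, 2, 3, 4, 5, 5, 4, 5, 5, 4, 7, 9, 10]),
   (237, [3, 2, 3, 3, 5, 5, 4, 5, 5, 4, 7, 9, 6, 10, 10]),
   (179, [2, 3, 2, 2, 2, 5, 5, 4, 5, 4, 4, 4, 7, 8, 9, 10, 10]),
   (125, [2, 2, 2, 2, 2, 2, 2, 5, 4, 5, 5, 7, 9, 6, 10, 10]),
   (190, [3, 3, 2, 3, 4, 4, 5, 4, 5, 5, 4, 7, 9, 7, 10, 10]),
   (109, [3, 3, 2, 2, 2, 2, 2, 2, 2, 5, 5, 4, 5, 8, 9, 6, 6, 10]),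
   (52, [2, 3, 3, 2, 2, 3, 3, 2, 8, 9, 6, 9, 10]),
   (53, [2, 2, 3, 3, 2, 4, 5, 4, 4, 5, 4, 4, 8, 6, 6]),
   (203, [2, 2, 3, 5, 5, 4, 4, 7, 7, 10, 10]),
   (235, [2, 3, 2, 2, 3, 2, 3, 3, 2, 5, 5, 5, 4, 5, 4, 4, 4, 6, 6, 9, 6, 6, 10, 10]),
   (122, [3, 3, 3, 2, 2, 4, 4, 5, 4, 8, 7, 7, 6]),
   (13, [2, 2, 2, 3, 5, 5, 5, 4, 5, 4, 4, 4, 8, 7, 9]),
   (41, [3, 3, 2, 3, 2, 3, 2, 3, 4, 4, 5, 5, 5, 4, 7, 9, 8, 6, 10]),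
   (20, [3, 3, 3, 3, 5, 5, 5, 4, 5, 5, 4, 7, 9, 8, 7, 10, 10]),
   (270, [2, 4, 5, 5, 4, 5, 5, 8, 9, 6, 6, 10, 10]),
   (126, [2, 2, 2, 3, 3, 2, 5, 5, 4, 5, 8, 6, 6, 10, 10]),
   (92, [2, 3, 3, 2, 5, 5, 4, 5, 8, 9, 6, 9]),
   (38, [2, 3, 2, 2, 2, 5, 4, 5, 4, 4, 4, 8, 8, 6, 10, 10]),
   (40, [2, 2, 2, 3, 2, 3, 5, 4, 4, 5, 4, 9, 7, 7, 6]),
   (42, [2, 3, 3, 2, 2, 3, 2, 3, 4, 5, 4, 5, 5, 9, 6, 7]),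
   (62, [3, 3, 3, 3, 2, 2, 2, 3, 4, 5, 4, 5, 5, 5, 4, 9, 8, 6, 6, 10]),
   (173, [2, 2, 5, 7, 8, 9, 10, 10]),
   (2, [2, 3, 3, 2, 2, 3, 2, 3, 5, 4, 5, 5, 4, 7, 9, 7]),
   (118, [3, 2, 2, 2, 3, 3, 2, 2, 4, 5, 4, 5, 5, 4, 8, 6, 10, 10]),
   (199, [2, 2, 2, 2, 2, 2, 3, 4, 4, 4, 5, 5, 5, 9, 7, 6, 6]),
   (192, [3, 3, 3, 3, 2, 3, 2, 4, 4, 4, 5, 5, 5, 4, 6, 9, 6]),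
   (50, [3, 2, 3, 3, 5, 5, 4, 4, 5, 4, 5, 7, 9, 6, 6, 10]),
   (225, [3, 3, 2, 3, 3, 3, 5, 5, 5, 4, 5, 4]),
   (248, [2, 2, 3, 3, 3, 3, 3, 5, 5, 5, 4, 7, 9, 6, 6]),
   (60, [3, 3, 3, 3, 3, 3, 4, 5, 4, 5, 4, 6, 9, 6, 6, 10, 10]),
   (25, [2, 2, 3, 2, 3, 3, 3, 3, 3, 4, 5, 5, 5, 4, 5, 5, 4, 7, 9, 8, 7, 10]),
   (229, [3, 2, 4, 4, 5, 5, 5, 5, 8, 7, 9, 10]),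
   (263, [2, 2, 2, 2, 2, 5, 4, 5, 5, 5, 4, 8, 7, 9, 7]),
   (198, [3, 3, 2, 2, 2, 2, 3, 5, 5, 4, 4, 5, 4, 5, 7, 9, 7, 10, 10]),
   (160, [2, 3, 3, 2, 3, 3, 4, 4, 4, 5, 5, 5, 6, 8, 9, 7]),
   (251, [3, 3, 2, 4, 4, 5, 4, 5, 5, 4, 9, 7, 6, 10]),
   (260, [3, 2, 2, 2, 3, 2, 2, 2, 5, 4, 5, 5, 6, 6, 9, 10, 10]),
   (243, [2, 2, 2, 2, 2, 3, 4, 5, 5, 5, 5, 6, 9, 10]),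
   (265, [3, 2, 5, 4, 5]),
   (16, [3, 2, 3, 3, 3, 2, 2, 2, 4, 4, 4, 5, 5, 5, 7, 9, 7]),
   (96, [3, 3, 2, 2, 2, 2, 2, 2, 3, 3, 4, 5, 4, 4, 7, 9, 6, 6, 10]),
   (133, [3, 3, 3, 3, 2, 3, 2, 4, 4, 5, 4, 7, 6, 6, 10, 10]),
   (14, [2, 3, 3, 2, 2, 4, 5, 5, 4, 5, 8, 7, 9, 7, 10]),
   (23, [2, 3, 2, 2, 3, 2, 2, 5, 4, 5, 4, 6, 9, 10, 10]),
   (163, [3, 2, 2, 3, 3, 2, 2, 5, 5, 4, 5, 4, 4, 4, 7, 7, 10]),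
   (269, [2, 2, 3, 3, 2, 3, 2, 4, 4, 5, 4, 4, 4, 8, 7, 9, 10]),
   (177, [2, 3, 2, 3, 2, 5, 4, 5, 4, 5, 7, 9, 8, 6, 10, 10]),
   (264, [2, 2, 3, 3, 3, 3, 3, 5, 4, 4, 5, 4, 4, 7, 9, 8, 7]),
   (193, [3, 3, 2, 2, 2, 2, 3, 5, 4, 5, 4, 4, 6, 9, 6, 6]),
   (7, [2, 2, 2, 2, 4, 5, 4, 5, 4, 5, 6, 9, 7, 10]),
   (158, [3, 3, 3, 3, 2, 2, 2, 5, 4, 5, 5, 4, 8, 9, 7]),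
   (80, [3, 2, 3, 3, 3, 2, 3, 2, 5, 5, 5, 5, 4, 5, 4, 6, 6, 10, 10]),
   (224, [2, 3, 3, 2, 3, 3, 4, 5, 5, 5, 7, 7, 9, 10]),
   (1, [2, 2, 2, 2, 2, 3, 2, 2, 4, 4, 4, 4, 5, 4, 5, 9, 6, 6]),
   (147, [2, 3, 3, 2, 3, 2, 5, 5, 4, 4, 7, 7, 6]),
   (166, [3, 2, 3, 3, 2, 2, 4, 4, 5, 5, 5, 5, 7, 7]),
   (58, [3, 2, 3, 3, 3, 3, 3, 5, 4, 5, 5, 4, 8, 7, 10]),
   (17, [2, 2, 2, 3, 2, 3, 5, 4, 4, 5, 4, 4, 4, 7, 9, 8, 7]),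
   (187, [2, 2, 2, 2, 3, 3, 3, 2, 3, 2, 5, 4, 4, 4, 7]),
   (207, [3, 2, 2, 3, 3, 2, 3, 4, 4, 5, 4, 5, 4, 5, 9, 6, 9]),
   (195, [3, 3, 5, 5, 5, 4, 4, 4, 6, 9, 6, 10]),
   (144, [2, 3, 2, 5, 9, 8, 6, 6, 10, 10]),
   (197, [2, 2, 3, 2, 3, 3, 3, 3, 5, 5, 4, 4, 7, 8, 9, 10, 10]),
   (255, [2, 2, 2, 2, 2, 5, 4, 4, 5, 4, 5, 4, 9, 8, 7, 10, 10]),
   (249, [3, 2, 3, 3, 3, 3, 3, 4, 4, 5, 5, 5, 6, 9]),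
   (153, [3, 2, 3, 2, 3, 2, 3, 4, 5, 5, 5, 5, 4, 5, 4, 6, 9, 6, 7, 10, 10]),
   (34, [3, 3, 2, 2, 2, 4, 4, 5, 4, 5, 5, 6, 8, 9, 7, 10]),
   (170, [3, 3, 3, 3, 2, 3, 2, 4, 4, 4, 5, 4, 4, 4, 8, 6, 10, 10]),
   (48, [2, 2, 2, 2, 2, 2, 3, 4, 5, 4, 5, 4, 9, 6, 6, 10]),
   (5, [2, 2, 5, 5, 4, 5, 8, 9, 6, 6]),
   (8, [2, 2, 5, 5, 4, 5, 5, 5, 4, 9, 8, 6, 10]),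
   (182, [2, 2, 2, 2, 2, 2, 2, 5, 4, 5, 4, 5, 5, 6, 9, 7, 10]),
   (171, [3, 3, 2, 3, 2, 4, 5, 5, 4, 5, 5, 4, 8, 6, 6, 9]),
   (256, [3, 3, 2, 2, 3, 2, 2, 4, 4, 5, 6, 9, 10]),
   (11, [2, 3, 3, 3, 2, 3, 3, 4, 5, 5, 4, 5, 10]),
   (89, [3, 3, 2, 3, 2, 3, 2, 3, 4, 4, 5, 5, 5, 4, 9, 8, 6, 6, 10]),
   (200, [3, 3, 3, 2, 2, 2, 4, 4, 4, 5, 4, 5, 9, 8, 6]),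
   (102, [3, 3, 2, 2, 3, 2, 2, 4, 4, 5, 5, 5, 4, 8, 6, 9, 6, 10]),
   (156, [2, 3, 2, 2, 3, 2, 3, 3, 2, 5, 7, 9, 10]),
   (39, [3, 3, 2, 2, 2, 2, 2, 2, 3, 3, 5, 4, 4, 4, 5, 4, 7, 7, 9, 10]),
   (271, [3, 2, 3, 2, 3, 4, 5, 5, 5, 4, 5, 4, 6]),
   (45, [2, 2, 3, 3, 2, 2, 4, 4, 5, 5, 5, 5, 8, 6, 9, 6]),
   (82, [3, 3, 2, 3, 2, 2, 4, 4, 4, 7, 7, 9]),
   (212, [3, 2, 2, 2, 3, 2, 3, 5, 5, 5, 4, 5, 4, 7, 9, 7, 6]),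
   (183, [3, 2, 3, 3, 3, 2, 2, 2, 4, 5, 5, 5, 4, 5, 9, 8, 6, 10]),
   (196, [2, 2, 3, 5, 5, 4, 5, 5, 4, 6, 6, 10]),
   (132, [3, 3, 2, 2, 3, 3, 2, 5, 4, 5, 4, 5, 5, 7, 6, 6, 10]),
   (172, [2, 2, 2, 2, 4, 5, 4, 9, 7, 9, 6, 10]),
   (233, [3, 3, 3, 2, 2, 2, 4, 5, 5, 4, 7, 9, 8, 6]),
   (169, [3, 2, 2, 2, 3, 2, 2, 2, 4, 5, 5, 5, 5, 8, 9, 6, 6, 10, 10]),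
   (262, [2, 2, 3, 3, 4, 4, 4, 5, 4, 4, 6, 9, 6, 7, 10]),
   (146, [2, 3, 2, 2, 3, 3, 2, 2, 4, 5, 4, 4, 6, 7, 10]),
   (259, [2, 2, 2, 3, 2, 3, 3, 2, 4, 5, 5, 4, 9, 10]),
   (239, [2, 2, 3, 2, 3, 3, 2, 4, 5, 4, 5, 4, 5, 7, 6, 6, 10]),
   (220, [3, 2, 2, 3, 2, 2, 5, 4, 5, 6, 9, 6, 6, 10, 10]),
   (244, [3, 2, 3, 3, 2, 2, 5, 5, 5, 4, 5, 4, 7, 8, 9, 7, 10]),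
   (178, [3, 3, 2, 3, 3, 3, 3, 4, 4, 4, 5, 4, 4, 9, 8, 6, 6, 10, 10]),
   (141, [2, 2, 3, 3, 2, 5, 5, 4, 4, 5, 4, 5, 9, 7, 10, 10]),
   (209, [5, 4, 4, 5, 4, 5, 10]),
   (210, [2, 3, 2, 2, 3, 2, 3, 3, 2, 4, 4, 5, 4, 5, 4, 9, 8, 7, 10, 10]),
   (142, [3, 2, 3, 3, 3, 5, 4, 5, 6, 7]),
   (253, [2, 3, 2, 2, 3, 2, 2, 4, 4, 5, 5, 5, 5, 4, 5, 4, 7, 8, 9, 7, 10, 10]),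
   (150, [2, 2, 2, 3, 2, 3, 5, 4, 5, 4, 4, 9, 8, 6, 6]),
   (191, [3, 2, 2, 2, 3, 3, 2, 4, 5, 5, 5, 5, 8, 6, 6, 10, 10]),
   (215, [2, 2, 2, 2, 4, 5, 5, 5, 4, 5, 5, 4, 7, 7, 6, 10, 10]),
   (226, [2, 2, 2, 3, 3, 2, 5, 5, 5, 5, 4, 5, 4, 8, 7, 7, 6]),
   (101, [2, 3, 3, 2, 3, 3, 3, 5, 4, 4, 5, 4, 4, 4, 9, 6, 6]),
   (81, [2, 2, 2, 3, 3, 3, 2, 3, 2, 5, 4, 4, 8, 6, 9, 6, 10]),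
   (148, [3, 3, 2, 2, 2, 2, 2, 2, 2, 5, 5, 4, 5, 5, 4, 8, 9, 7, 6, 10, 10]),
   (22, [2, 2, 3, 3, 2, 2, 4, 4, 5, 4, 5, 6, 9, 8, 6, 10]),
   (238, [2, 3, 3, 2, 3, 2, 4, 4, 5, 4, 8, 7, 9, 10, 10]),
   (246, [3, 3, 2, 2, 2, 2, 2, 2, 2, 4, 4, 5, 5, 4, 4, 4, 9, 7, 7, 6, 10]),
   (143, [2, 2, 3, 2, 3, 3, 2, 4, 4, 5, 4, 5, 5, 4, 9, 7, 9, 10]),
   (155, [3, 2, 3, 3, 2, 5, 4, 5, 5, 5, 5, 8, 6, 6, 10]),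
   (240, [3, 2, 2, 2, 3, 2, 3, 4, 5, 4, 5, 5, 7, 7, 9, 10]),
   (56, [2, 2, 2, 2, 2, 2, 3, 3, 4, 5, 5, 5, 4, 9, 8, 6, 6, 10]),
   (90, [3, 2, 3, 3, 3, 2, 2, 2, 4, 5, 4, 9, 7, 7, 6, 10, 10]),
   (59, [3, 3, 2, 3, 2, 3, 4, 5, 4, 5, 5, 4, 4, 4, 10, 10]),
   (211, [2, 2, 3, 3, 2, 3, 2, 5, 4, 5, 4, 5, 5, 6, 9, 8, 6, 6]),
   (112, [2, 3, 2, 3, 2, 3, 3, 2, 5, 4, 5, 4, 5, 5, 6, 9, 8, 6, 6, 10, 10]),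
   (75, [2, 2, 3, 3, 3, 2, 3, 2, 5, 4, 4, 5, 4, 5, 5, 8, 9, 7, 6, 10]),
   (116, [2, 3, 2, 3, 2, 3, 3, 2, 4, 5, 4, 5, 4, 5, 9, 8, 6, 6]),
   (135, [3, 4, 5, 4, 6, 9, 8, 6, 6, 10, 10]),
   (261, [3, 2, 2, 3, 2, 3, 4, 4, 4, 4, 5, 4, 5, 7, 9, 6, 6, 10]),
   (77, [3, 3, 2, 3, 2, 3, 2, 3, 5, 4, 5, 4, 5, 7, 7]),
   (46, [3, 3, 3, 3, 2, 3, 5, 4, 4, 5, 4, 5, 7, 9, 7, 10]),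
   (230, [3, 3, 2, 3, 3, 3, 3, 4, 5, 4, 5, 4, 8, 7, 10, 10]),
   (91, [3, 3, 2, 3, 5, 5, 5, 4, 5, 4, 7, 7, 8, 9]),
   (32, [2, 2, 3, 5, 4, 5, 5, 8, 9, 6, 6, 10]),
   (138, [3, 3, 2, 2, 2, 3, 2, 2, 5, 4, 5, 4, 5, 5, 9, 8, 7]),
   (99, [3, 2, 3, 3, 3, 2, 3, 2, 5, 5, 4, 5, 4, 9, 8, 6, 6, 10]),
   (87, [2, 2, 3, 3, 3, 3, 3, 4, 5, 5, 4, 9, 7]),
   (219, [3, 3, 2, 3, 2, 3, 2, 3, 7, 9, 8, 7, 10]),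
   (105, [2, 2, 2, 3, 3, 2, 2, 4, 5, 4, 5, 5, 6, 8, 9, 7]),
   (137, [2, 3, 2, 2, 2, 5, 4, 5, 4, 5, 4, 5, 8, 9, 7, 6, 10]),
   (266, [2, 2, 2, 3, 2, 3, 5, 5, 5, 4, 9, 7, 7, 6]),
   (12, [3, 3, 3, 3, 2, 2, 2, 4, 4, 5, 5, 4, 4, 4, 6, 7, 10, 10]),
   (254, [2, 3, 3, 3, 2, 3, 2, 4, 5, 5, 5, 4, 5, 6, 6, 9, 6, 6, 10, 10]),
   (73, [3, 3, 3, 3, 2, 3, 3, 5, 4, 5, 5, 4, 5, 5, 9, 7, 9, 6, 10, 10]),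
   (86, [3, 2, 2, 2, 3, 2, 2, 2, 4, 5, 4, 5, 4, 5, 9, 8, 7]),
   (202, [2, 3, 3, 2, 3, 5, 5, 5, 4, 5, 9, 7, 6, 10]),
   (250, [2, 3, 2, 3, 3, 3, 2, 2, 2, 5, 5, 5, 5, 4, 5, 4, 9, 7, 6, 6, 10, 10]),
   (194, [2, 3, 4, 5, 5, 5, 4, 5, 4, 6, 6, 9]),
   (139, [2, 3, 2, 2, 3, 2, 3, 3, 2, 5, 4, 5, 4, 5, 9, 6, 9]),
   (83, [2, 3, 2, 3, 2, 3, 3, 2, 4, 7, 9, 7, 6, 10, 10]),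
   (268, [2, 2, 2, 2, 3, 3, 3, 2, 3, 2, 4, 5, 4, 5, 5, 5, 4, 6, 9, 6, 6, 10]),
   (227, [2, 3, 2, 3, 2, 3, 4, 4, 5, 5, 5, 5, 4, 5, 4, 9, 8, 6, 10]),
   (117, [2, 2, 2, 2, 2, 5, 5, 5, 5, 4, 5, 4, 9, 10]),
   (119, [3, 2, 2, 3, 2, 3, 4, 4, 4, 5, 4, 7, 7, 8, 9, 10]),
   (165, [3, 3, 2, 2, 2, 5, 4, 5, 8, 6, 6, 9]),
   (72, [3, 3, 3, 3, 2, 2, 2, 3, 4, 4, 8, 9, 6, 9, 10]),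
   (63, [2, 3, 2, 3, 5, 5, 5, 4, 6, 6, 9, 6, 6, 10, 10]),
   (223, [2, 2, 3, 3, 2, 3, 2, 4, 4, 5, 5, 5, 5, 9, 7, 7, 6]),
   (161, [3, 2, 3, 3, 3, 2, 3, 2, 4, 4, 4, 5, 4, 4, 7, 7, 10, 10]),
   (88, [3, 2, 2, 2, 3, 3, 2, 2, 5, 5, 5, 5, 4, 5, 9, 6, 6]),
   (222, [3, 3, 2, 3, 3, 4, 5, 4, 5, 5, 5, 4, 8, 6, 6, 10]),
   (188, [3, 2, 3, 2, 2, 2, 5, 5, 5, 4, 5, 7, 9, 6, 6, 10, 10]),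
   (184, [3, 2, 2, 2, 2, 2, 2, 2, 5, 7]),
   (189, [3, 3, 3, 3, 2, 3, 3, 5, 4, 5, 5, 5, 4, 6, 6]),
   (114, [3, 2, 3, 3, 3, 2, 3, 2, 4, 4, 5, 4, 5, 6, 9, 7]),
   (214, [3, 3, 2, 3, 3, 3, 3, 4, 5, 4, 5, 4, 7, 8, 9, 7, 10]),
   (98, [2, 3, 2, 2, 5, 5, 5, 5, 4, 5, 4, 8, 7, 9, 7]),
   (231, [2, 3, 3, 2, 2, 2, 4, 5, 4, 5, 5, 7, 9, 6]),
   (127, [2, 3, 3, 3, 3, 2, 3, 5, 5, 4, 5, 7, 9, 7, 10, 10]),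
   (0, [7]),
   (161, [2, 3, 2, 2, 2, 4, 4, 5, 4, 5, 5, 8, 9, 7, 10, 10]),
   (173, [3, 2, 3, 3, 2, 3, 3, 2, 2, 4, 4, 4, 5, 4, 4, 4, 6, 8, 9, 7]),
   (158, [2, 3, 3, 2, 4, 4, 5, 4, 5, 5, 6, 6, 10]),
   (140, [2, 2, 5, 4, 4, 4, 6, 9, 6, 7, 10, 10]),
   (214, [3, 2, 2, 3, 3, 2, 5, 5, 4, 4, 5, 4, 5, 9, 7, 7, 6, 10]),
   (134, [2, 3, 2, 2, 2, 3, 4, 5, 4, 4, 4, 8, 6, 9, 6, 10]),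
   (259, [3, 3, 3, 2, 2, 5, 4, 4, 5, 4, 9, 10, 10]),
   (191, [3, 3, 3, 3, 3, 5, 4, 7, 9, 6, 10, 10]),
   (151, [3, 2, 2, 2, 3, 3, 2, 5, 5, 4, 5, 5, 9, 7, 9, 6, 10, 10]),
   (174, [3, 3, 2, 3, 2, 5, 5, 5, 5, 4, 5, 4, 6, 9, 8, 6, 6]),
   (109, [2, 3, 3, 2, 2, 3, 3, 2, 7, 8, 9]),
   (172, [3, 3, 3, 3, 2, 3, 2, 3, 5, 5, 4, 5, 5, 4, 4, 4, 7, 10]),
   (250, [2, 3, 2, 2, 2, 3, 4, 5, 4, 6, 6, 9, 6, 6]),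
   (115, [3, 3, 2, 2, 2, 2, 3, 5, 5, 5, 5, 7, 7, 10, 10]),
   (165, [2, 2, 2, 3, 3, 3, 2, 3, 2, 5, 4, 4, 4, 8, 8, 6, 10]),
   (85, [2, 3, 2, 2, 5, 5, 4, 4, 5, 4, 5, 10, 10]),
   (223, [2, 3, 3, 4, 5, 4, 5, 5, 4, 5, 5, 9, 7, 10]),
   (269, [3, 2, 2, 2, 3, 2, 3, 5, 5, 4, 5, 5, 4, 4, 4, 7, 7, 6, 10]),
   (234, [3, 3, 4, 4, 4, 5, 4, 4, 4, 9, 7, 6]),
   (124, [3, 3, 3, 2, 3, 3, 5, 5, 4, 5, 4, 7, 8, 6]),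
   (155, [3, 3, 2, 3, 3, 2, 2, 5, 5, 5, 5, 9, 6, 10]),
   (238, [3, 2, 2, 2, 3, 3, 2, 2, 5, 5, 9, 6, 7]),
   (154, [2, 3, 2, 2, 3, 2, 3, 3, 2, 5, 4, 5, 4, 5, 7, 8, 6]),
   (190, [3, 3, 2, 3, 3, 2, 2, 5, 4, 4, 4, 5, 4, 4, 9, 8, 7, 9, 10, 10]),
   (225, [3, 3, 3, 3, 3, 3, 5, 5, 4, 5, 4, 4, 4, 9, 6, 9]),
   (26, [3, 3, 3, 2, 3, 3, 4, 5, 5, 5, 5, 4, 5, 4, 7, 9, 8, 6, 10]),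
   (270, [2, 2, 2, 2, 2, 2, 5, 4, 4, 5, 4, 5, 5, 7, 8, 9, 7]),
   (143, [3, 2, 3, 3, 3, 2, 3, 2, 4, 4, 5, 4, 5, 5, 4, 7, 8, 9, 10, 10]),
   (203, [3, 3, 2, 3, 3, 2, 2, 4, 5, 5, 5, 5, 8, 7, 10, 10]),
   (113, [3, 2, 2, 5, 5, 4, 5, 4, 4, 4, 9, 6, 7, 10, 10]),
   (76, [3, 3, 3, 2, 2, 2, 3, 5, 5, 4, 4, 4, 6, 9, 7, 8, 6, 10]),
   (75, [2, 2, 3, 2, 3, 3, 3, 3, 3, 5, 4, 5, 4, 8, 7, 9, 10, 10]),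
   (201, [2, 2, 2, 3, 5, 4, 5, 4, 4, 8, 6, 6]),
   (57, [2, 2, 2, 3, 2, 3, 4, 5, 4, 5, 5, 6, 9, 7, 8, 6]),
   (18, [3, 3, 2, 2, 2, 3, 2, 2, 5, 4, 5, 5, 4, 7, 9, 6, 6]),
   (208, [2, 3, 3, 2, 2, 3, 2, 3, 5, 4, 5, 4, 4, 4, 9, 7, 9]),
   (149, [2, 2, 3, 3, 2, 2, 5, 4, 5, 8, 6, 6, 10, 10]),
   (125, [2, 2, 2, 2, 5, 4, 5, 4, 4, 8, 9, 6, 9, 10, 10]),
   (11, [2, 2, 2, 2, 2, 2, 4, 4, 4, 4, 5, 4, 4, 9, 6, 7, 10]),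
   (196, [2, 3, 3, 2, 3, 4, 4, 4, 5, 4, 9, 7, 6, 6]),
   (197, [2, 3, 3, 2, 3, 3, 2, 2, 5, 4, 4, 4, 5, 4, 8, 7, 9, 7, 10, 10]),
   (81, [2, 3, 3, 2, 3, 4, 4, 4, 5, 5, 5, 4, 6, 9, 10]),
   (272, [2, 2, 2, 2, 3, 3, 3, 2, 3, 2, 5, 4, 4, 4, 5, 4, 8, 7, 10]),
   (78, [2, 2, 3, 2, 2, 2, 5, 5, 4, 5, 5, 5, 4, 6, 9, 6, 7, 10, 10]),
   (187, [3, 3, 3, 3, 2, 2, 2, 5, 4, 5, 5, 5, 5, 7, 9]),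
   (34, [2, 3, 2, 3, 5, 4, 6, 6]),
   (246, [4, 5, 5, 4, 5, 5, 7, 9, 7, 10, 10]),
   (110, [2, 3, 3, 2, 3, 2, 4, 5, 4, 5, 5, 5, 4, 8, 8, 6, 10, 10]),
   (12, [2, 3, 2, 3, 5, 4, 5, 5, 5, 4, 9, 8, 6, 10, 10]),
   (206, [3, 2, 3, 2, 2, 2, 4, 5, 4, 4, 9, 6, 9, 10, 10]),
   (87, [2, 2, 3, 2, 3, 4, 5, 5, 4, 8, 6, 10, 10]),
   (23, [3, 3, 3, 3, 2, 2, 2, 3, 4, 4, 5, 4, 4, 8, 9, 6, 6]),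
   (56, [2, 2, 2, 2, 2, 2, 3, 3, 4, 5, 4, 5, 5, 9, 8, 6, 6, 10, 10]),
   (7, [3, 2, 3, 3, 3, 3, 4, 5, 4, 4, 8, 6, 6, 10, 10])]

/-- Part of a closure certificate. -/
def gLev0c9 : List (ℕ × List ℕ) :=
  [(117, [2, 2, 3, 3, 2, 3, 3, 4, 4, 5, 4, 5, 4, 6, 9, 8, 6, 6, 10, 10]),
   (139, [3, 2, 2, 4, 4, 4, 5, 4, 4, 4, 8, 6, 9, 6]),
   (46, [3, 2, 3, 3, 3, 4, 4, 6, 6, 9, 6, 6]),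
   (167, [2, 2, 3, 2, 3, 3, 3, 3, 3, 4, 4, 6, 8, 6, 6]),
   (227, [2, 2, 2, 3, 3, 2, 4, 5, 4, 5, 4, 4, 6, 9, 8, 6, 10]),
   (4, [2, 3, 2, 3, 3, 3, 3, 5, 5, 4, 5, 5, 4, 9, 10]),
   (61, [3, 2, 3, 3, 4, 4, 4, 5, 4, 4, 9, 7, 10]),
   (119, [2, 2, 2, 2, 2, 3, 2, 3, 4, 4, 5, 4, 5, 7, 9, 6, 6, 10]),
   (271, [2, 3, 2, 2, 2, 5, 4, 5, 5, 9, 8, 6, 10, 10]),
   (216, [2, 2, 2, 2, 2, 3, 2, 3, 5, 5, 4, 5, 4, 4, 4, 6, 6, 9, 10]),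
   (248, [3, 2, 2, 3, 3, 2, 3, 4, 5, 4, 5, 4, 9, 7, 10, 10]),
   (77, [3, 3, 3, 2, 2, 2, 3, 4, 4, 4, 5, 4, 7, 9, 8, 7, 10, 10]),
   (51, [2, 2, 2, 2, 5, 4, 4, 5, 4, 4, 4, 10]),
   (68, [2, 3, 2, 3, 5, 4, 4, 5, 4, 5, 7, 8, 6, 10]),
   (104, [3, 3, 3, 3, 2, 2, 2, 4, 5, 5, 5, 4, 5, 4, 6, 6]),
   (265, [3, 2, 3, 2, 3, 3, 3, 3, 4, 5, 4, 5, 5, 4, 4, 4, 6, 8, 9, 7, 10]),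
   (152, [3, 2, 3, 3, 3, 2, 2, 2, 4, 5, 4, 5, 5, 4, 8, 7, 9, 7, 10]),
   (48, [3, 3, 2, 3, 2, 3, 2, 3, 4, 5, 4, 4, 5, 4, 4, 6, 9, 7]),
   (249, [2, 2, 3, 3, 4, 5, 9, 8, 6, 10, 10]),
   (130, [2, 2, 3, 2, 3, 3, 3, 3, 3, 5, 4, 5, 5, 5, 5, 8, 7, 9, 10]),
   (252, [2, 2, 3, 2, 3, 3, 3, 3, 4, 5, 5, 7, 10, 10]),
   (99, [2, 3, 2, 2, 2, 3, 2, 3, 4, 4, 4, 5, 5, 5, 7, 8, 9, 10, 10]),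
   (235, [2, 2, 2, 2, 2, 3, 2, 2, 4, 5, 4, 5, 9, 6]),
   (145, [2, 2, 2, 2, 3, 5, 4, 5, 4, 5, 7, 9, 7, 10]),
   (58, [3, 3, 3, 3, 5, 4, 4, 5, 4, 5, 4, 8, 8, 6, 10, 10]),
   (16, [3, 2, 3, 2, 3, 3, 2, 5, 5, 4, 5, 4, 7, 9, 6, 10]),
   (92, [2, 3, 2, 2, 2, 4, 4, 5, 4, 5, 5, 8, 6, 9, 6, 10]),
   (22, [2, 3, 2, 3, 2, 3, 4, 4, 4, 6, 8, 9, 7, 10, 10]),
   (217, [3, 3, 3, 3, 2, 2, 2, 4, 4, 5, 4, 5, 4, 5, 8, 7, 9, 7, 10, 10]),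
   (70, [2, 2, 2, 3, 2, 2, 2, 5, 4, 4, 5, 4, 4, 4, 8, 6, 10]),
   (80, [2, 2, 3, 2, 3, 3, 3, 3, 3, 4, 4, 5, 4, 5, 4, 7, 7, 6]),
   (122, [3, 2, 3, 3, 3, 3, 5, 4, 6, 9, 10]),
   (67, [2, 2, 3, 3, 5, 4, 5, 6, 9, 6]),
   (89, [3, 3, 3, 2, 2, 2, 3, 5, 4, 4, 4, 8, 7, 9, 7]),
   (142, [3, 4, 5, 5, 7, 9, 6]),
   (228, [3, 3, 3, 3, 2, 2, 2, 3, 5, 4, 4, 5, 5, 4, 4, 4, 9, 10, 10]),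
   (220, [3, 2, 2, 2, 3, 4, 5, 4, 5, 10]),
   (42, [2, 3, 2, 2, 2, 4, 5, 4, 4, 5, 4, 4, 8, 7, 7, 6, 10, 10]),
   (156, [2, 3, 2, 3, 2, 2, 4, 5, 4, 5, 4, 5, 6, 9, 6]),
   (107, [2, 2, 2, 3, 2, 3, 3, 2, 5, 4, 4, 5, 4, 4, 4, 7, 6, 6, 10, 10]),
   (33, [3, 2, 2, 3, 3, 2, 3, 4, 5, 5, 4, 4, 4, 7, 7, 8, 9, 10]),
   (101, [2, 2, 2, 3, 2, 3, 5, 4, 5, 4, 4, 8, 8, 6, 10]),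
   (274, [3, 2, 2, 2, 3, 2, 2, 4, 5, 5, 5, 4, 5, 4, 6, 6, 10]),
   (19, [2, 2, 2, 2, 2, 3, 2, 3, 5, 4, 4, 4, 9, 8, 6, 6, 10]),
   (31, [3, 2, 2, 4, 4, 4, 5, 4, 4, 9, 7, 9, 10]),
   (90, [3, 3, 2, 2, 2, 4, 4, 5, 4, 5, 5, 8, 7, 9, 10, 10]),
   (255, [3, 2, 3, 3, 3, 3, 3, 5, 4, 5, 4, 4, 6, 6, 9, 6, 6]),
   (71, [2, 3, 3, 3, 3, 2, 3, 4, 5, 4, 5, 5, 4, 5, 5, 8, 7]),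
   (74, [3, 2, 2, 5, 5, 4, 9, 7, 7, 6]),
   (127, [3, 2, 3, 2, 3, 3, 3, 3, 5, 5, 5, 5, 4, 5, 4, 9, 8, 6, 6, 10, 10]),
   (50, [3, 2, 2, 2, 2, 2, 2, 3, 3, 4, 4, 5, 5, 5, 5, 4, 5, 4, 6, 9, 8, 6, 6, 10, 10]),
   (240, [2, 2, 3, 2, 3, 3, 3, 3, 5, 4, 4, 4, 9, 7, 6, 10]),
   (241, [2, 5, 5, 5, 4, 4, 4, 9, 6, 9, 10]),
   (229, [3, 2, 2, 2, 3, 2, 2, 5, 4, 5, 5, 4, 4, 4, 7, 9, 7, 6, 10, 10]),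
   (39, [2, 2, 3, 3, 2, 4, 4, 4, 5, 4, 4, 8, 9, 6, 6, 10, 10]),
   (72, [2, 3, 2, 3, 3, 3, 2, 2, 2, 5, 5, 4, 5, 5, 4, 9, 7, 10, 10]),
   (212, [2, 3, 2, 3, 2, 2, 4, 5, 5, 5, 4, 7, 7]),
   (237, [3, 2, 3, 3, 2, 3, 3, 2, 2, 5, 4, 4, 5, 4, 5, 4, 8, 6, 6, 10]),
   (261, [3, 2, 3, 4, 4, 5, 5, 4, 4, 4, 7, 9, 8, 6, 10, 10]),
   (17, [3, 2, 2, 2, 3, 2, 2, 4, 5, 5, 5, 5, 8, 6, 9, 6]),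
   (116, [3, 3, 3, 3, 2, 3, 5, 4, 5, 5, 4, 4, 4, 7, 9, 8, 6, 10, 10]),
   (14, [3, 3, 2, 3, 3, 2, 2, 5, 5, 4, 4, 4, 7, 9, 7, 6]),
   (258, [3, 3, 2, 2, 2, 2, 2, 2, 3, 3, 5, 5, 4, 4, 7, 9, 7]),
   (64, [2, 2, 2, 3, 3, 3, 2, 3, 2, 4, 4, 5, 5, 5, 5, 7, 7, 9, 6, 10, 10]),
   (160, [3, 2, 2, 3, 3, 2, 4, 5, 5, 5, 4, 5, 6, 9, 7, 10, 10]),
   (20, [2, 2, 3, 2, 3, 3, 3, 3, 4, 5, 4, 5, 4, 5, 8, 9, 7]),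
   (273, [3, 2, 2, 2, 3, 2, 3, 4, 5, 4, 5, 5, 7, 6, 6, 10]),
   (204, [3, 2, 5, 4, 4, 5, 4, 4, 4, 9, 7, 6, 6]),
   (188, [3, 3, 3, 3, 2, 3, 2, 4, 5, 5, 5, 9, 6, 7, 10]),
   (120, [2, 3, 2, 3, 3, 2, 5, 4, 4, 5, 4, 6, 8, 6, 6, 10, 10]),
   (263, [3, 2, 2, 3, 2, 3, 3, 2, 5, 4, 4, 4, 6, 8, 9, 7, 10, 10]),
   (178, [3, 3, 3, 3, 3, 5, 5, 4, 5, 9, 6, 6]),
   (69, [2, 3, 2, 3, 3, 2, 4, 4, 5, 5, 5, 5, 4, 5, 4, 7, 7, 8, 9, 10]),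
   (27, [3, 2, 3, 3, 4, 5, 4, 5, 5, 5, 5, 8, 9, 7]),
   (40, [2, 2, 3, 3, 2, 5, 5, 5, 5, 6, 6, 10]),
   (103, [3, 4, 4, 5, 5, 5, 6, 6, 9, 6, 6, 10]),
   (29, [2, 2, 2, 2, 2, 3, 4, 4, 5, 5, 4, 4, 4, 6, 6, 9, 10, 10]),
   (123, [2, 2, 2, 3, 3, 2, 4, 5, 4, 5, 5, 5, 4, 9, 7, 7, 6]),
   (41, [2, 3, 2, 2, 2, 5, 4, 5, 7, 7]),
   (254, [3, 2, 2, 2, 2, 3, 5, 5, 4, 5, 4, 9, 6, 9, 10]),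
   (199, [3, 3, 3, 3, 2, 3, 3, 4, 5, 5, 5, 8, 9, 10, 10]),
   (45, [3, 2, 4, 5, 5, 4, 9, 7, 7, 6, 10, 10]),
   (245, [2, 3, 3, 3, 3, 5, 5, 4, 5, 7, 7, 9]),
   (47, [3, 2, 3, 2, 2, 4, 5, 5, 5, 8, 6, 6, 9]),
   (53, [3, 2, 3, 2, 3, 3, 2, 5, 5, 5, 4, 7, 8, 9, 7, 10, 10]),
   (60, [3, 3, 2, 2, 2, 2, 2, 2, 2, 5, 4, 5, 5, 4, 4, 4, 8, 9, 7]),
   (106, [3, 2, 2, 2, 4, 4, 5, 4, 4, 7, 9, 7, 6, 10, 10]),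
   (88, [2, 2, 2, 3, 3, 2, 5, 4, 5, 4, 9, 8, 7, 10, 10]),
   (168, [3, 2, 2, 3, 2, 3, 3, 2, 5, 5, 4, 5, 4, 4, 4, 6, 9, 7, 10]),
   (247, [2, 3, 2, 3, 3, 3, 2, 2, 2, 5, 4, 4, 7, 9, 10, 10]),
   (44, [3, 2, 2, 2, 2, 2, 2, 3, 3, 4, 4, 5, 4, 5, 5, 4, 6, 9, 7, 10]),
   (202, [2, 3, 3, 2, 3, 3, 2, 2, 5, 5, 5, 4, 5, 5, 4, 9, 8, 7]),
   (15, [2, 2, 3, 2, 3, 3, 3, 3, 3, 5, 5, 5, 4, 5, 4, 4, 4, 7, 9, 8, 7]),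
   (159, [3, 2, 2, 3, 3, 4, 5, 5, 4, 5, 5, 9, 6, 9]),
   (211, [2, 2, 2, 3, 5, 4, 4, 4, 5, 4, 7, 7]),
   (213, [2, 2, 3, 3, 3, 7, 10, 10]),
   (171, [2, 3, 2, 3, 2, 2, 4, 5, 4, 5, 5, 4, 9, 7, 6, 10]),
   (102, [2, 2, 2, 2, 3, 2, 3, 4, 4, 5, 5, 4, 4, 4, 8, 6, 6]),
   (24, [3, 3, 2, 3, 3, 2, 2, 4, 4, 5, 5, 5, 5, 6, 9, 6, 6]),
   (52, [3, 2, 2, 2, 3, 5, 4, 5, 5, 4, 4, 4, 7, 9, 6, 10]),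
   (163, [2, 3, 3, 3, 3, 5, 5, 4, 5, 8, 7, 9, 7, 10, 10]),
   (189, [2, 4, 5, 4, 5, 4, 4, 6, 6, 9]),
   (236, [2, 3, 3, 2, 3, 3, 3, 4, 4, 5, 4, 5, 4, 6, 9, 7, 10, 10]),
   (164, [3, 3, 3, 3, 5, 5, 4, 5, 4, 4, 4, 6, 8, 9, 7, 10]),
   (221, [3, 3, 2, 3, 2, 5, 5, 5, 5, 6, 9, 8, 6, 6, 10, 10]),
   (62, [3, 3, 2, 3, 2, 2, 5, 5, 4, 5, 5, 5, 4, 7, 6, 6, 10]),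
   (264, [3, 2, 2, 3, 3, 2, 5, 4, 4, 4, 5, 4, 8, 7, 7, 6, 10]),
   (150, [3, 3, 2, 3, 3, 3, 4, 4, 5, 4, 5, 9, 6, 9, 10]),
   (21, [3, 2, 3, 4, 4, 5, 5, 5, 5, 4, 5, 4, 7, 9, 8, 6, 10, 10]),
   (3, [3, 2, 3, 2, 3, 4, 4, 5, 4, 6, 8, 6, 6, 10, 10]),
   (147, [3, 2, 3, 2, 3, 2, 3, 5, 4, 5, 5, 8, 7, 9]),
   (166, [3, 2, 2, 5, 5, 4, 5, 4, 7, 8, 9, 7, 10, 10]),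
   (79, [2, 3, 2, 2, 3, 2, 3, 3, 2, 5, 4, 5, 4, 6, 9, 10]),
   (28, [2, 3, 2, 3, 3, 3, 2, 2, 2, 4, 4, 4, 5, 4, 5, 9, 6, 6, 10]),
   (200, [2, 3, 2, 4, 4, 5, 4, 5, 5, 8, 7, 9, 7]),
   (126, [3, 3, 2, 3, 3, 2, 2, 4, 4, 5, 5, 5, 5, 4, 5, 4, 7, 6, 6]),
   (9, [3, 2, 2, 3, 2, 3, 5, 5, 4, 5, 4, 5, 5, 6, 9, 6, 6]),
   (49, [2, 2, 2, 2, 3, 2, 3, 4, 5, 5, 4, 7, 9, 8, 7]),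
   (267, [2, 2, 3, 3, 2, 3, 4, 4, 5, 4, 5, 9, 8, 7, 9, 10]),
   (195, [3, 2, 3, 2, 3, 5, 5, 5, 6, 8, 6, 6, 10, 10]),
   (73, [2, 2, 3, 3, 2, 2, 5, 4, 5, 4, 4, 4, 6, 9, 6, 7]),
   (232, [2, 2, 3, 2, 3, 3, 3, 3, 3, 4, 4, 5, 4, 4, 4, 7, 9, 8, 7]),
   (157, [2, 2, 2, 3, 2, 2, 2, 5, 4, 7, 8, 6, 10, 10]),
   (170, [2, 3, 2, 3, 3, 3, 3, 4, 5, 4, 4, 5, 4, 4, 9, 8, 7, 9]),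
   (43, [2, 3, 3, 3, 2, 3, 2, 5, 5, 7, 9, 7]),
   (8, [3, 2, 3, 2, 3, 5, 4, 4, 4, 5, 4, 4, 9, 6, 10, 10]),
   (63, [2, 3, 3, 2, 3, 3, 2, 2, 5, 4, 5, 4, 5, 7, 7, 9, 10]),
   (135, [3, 3, 2, 2, 4, 4, 7, 7, 9, 6]),
   (83, [3, 2, 2, 3, 3, 2, 3, 4, 5, 5, 4, 4, 4, 9, 7, 8, 6, 10]),
   (146, [3, 2, 3, 3, 2, 2, 5, 5, 4, 5, 9, 8, 7, 9, 10, 10]),
   (176, [2, 3, 3, 2, 2, 2, 5, 4, 5, 5, 4, 4, 4, 6, 9, 6, 7, 10]),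
   (108, [2, 2, 3, 2, 3, 3, 3, 3, 3, 4, 4, 5, 4, 5, 7, 8, 6, 10, 10]),
   (136, [3, 3, 2, 3, 3, 3, 5, 4, 5, 4, 4, 7, 9, 6, 6, 10, 10]),
   (132, [5, 5, 4, 5, 5, 4, 4, 4, 7, 6, 10, 10]),
   (93, [2, 2, 2, 2, 2, 4, 8, 8, 6, 10, 10]),
   (153, [2, 2, 3, 2, 3, 3, 3, 3, 3, 5, 4, 4, 5, 5, 5, 7, 8, 6, 10, 10]),
   (180, [3, 2, 2, 3, 2, 2, 4, 5, 5, 6, 6, 10]),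
   (169, [2, 3, 2, 3, 2, 3, 4, 4, 4, 5, 4, 5, 8, 6, 10, 10]),
   (219, [2, 2, 3, 2, 2, 2, 5, 5, 5, 5, 9, 7, 7, 6, 10]),
   (194, [3, 3, 2, 2, 3, 2, 2, 5, 4, 5, 5, 4, 7, 6, 6]),
   (10, [2, 3, 2, 3, 2, 5, 4, 5, 4, 5, 4, 5, 9]),
   (129, [3, 3, 3, 2, 3, 3, 4, 5, 4, 4, 6, 8, 9, 7]),
   (133, [2, 2, 2, 2, 2, 3, 2, 3, 5, 4, 4, 4, 5, 4, 7, 9, 10]),
   (144, [3, 2, 2, 2, 2, 4, 5, 4, 5, 5, 5, 5, 6, 9, 8, 6, 10, 10]),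
   (182, [2, 3, 2, 2, 2, 3, 4, 5, 5, 5, 4, 5, 4, 8, 7, 10]),
   (192, [2, 3, 2, 3, 2, 5, 4, 5, 4, 5, 4, 5, 7, 8, 9]),
   (95, [3, 3, 2, 2, 2, 5, 4, 4, 5, 4, 5, 4, 7, 6, 10]),
   (184, [2, 3, 3, 3, 3, 3, 4, 4, 5, 5, 5, 5, 4, 5, 4, 9, 8, 6, 6]),
   (131, [2, 3, 2, 3, 5, 5, 4, 5, 5, 4, 4, 4, 7, 9]),
   (86, [3, 3, 2, 4, 4, 4, 5, 4, 6, 9, 8, 6, 6]),
   (193, [2, 2, 2, 2, 2, 2, 4, 4, 5, 5, 5, 4, 6, 9, 6, 10, 10]),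
   (105, [3, 2, 2, 2, 3, 4, 5, 7, 9, 7, 6, 10, 10]),
   (207, [3, 2, 3, 3, 3, 3, 3, 5, 5, 4, 5, 4, 9, 8, 7, 9, 10]),
   (266, [2, 3, 2, 4, 5, 6, 8, 9, 7]),
   (209, [3, 3, 2, 3, 2, 3, 4, 4, 4, 4, 5, 4, 4, 9, 7, 8, 6]),
   (112, [2, 3, 3, 3, 3, 5, 5, 4, 5, 5, 6, 9, 6, 10, 10]),
   (37, [2, 2, 2, 2, 2, 3, 5, 4, 5, 4, 5, 5, 9, 8, 7, 10, 10]),
   (253, [3, 3, 2, 2, 3, 2, 2, 4, 5, 4, 4, 5, 4, 4, 8, 9, 6, 9, 10, 10]),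
   (162, [3, 3, 3, 3, 2, 3, 3, 4, 4, 5, 4, 4, 6, 6, 9]),
   (262, [3, 3, 3, 3, 2, 3, 5, 5, 4, 4, 5, 4, 5, 9, 6, 6]),
   (215, [2, 2, 2, 2, 2, 3, 2, 2, 4, 4, 4, 5, 5, 5, 4, 6, 9, 7, 8, 6]),
   (118, [2, 2, 3, 3, 2, 3, 2, 5, 4, 5, 5, 4, 6]),
   (183, [3, 3, 3, 3, 5, 5, 4, 5, 7, 7, 9, 6]),
   (97, [2, 2, 3, 3, 5, 5, 4, 9, 7, 6, 10]),
   (205, [2, 5, 4, 5, 5, 5, 4, 7, 7, 10]),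
   (243, [2, 3, 2, 3, 3, 2, 5, 5, 4, 5, 4, 7, 6, 10]),
   (148, [3, 3, 2, 2, 3, 3, 2, 4, 5, 5, 5, 5, 4, 5, 4, 6, 6, 9, 6, 6, 10, 10]),
   (25, [3, 2, 3, 3, 4, 5, 5, 4, 8, 6, 10]),
   (114, [2, 2, 3, 3, 2, 3, 2, 4, 4, 5, 5, 5, 4, 8, 7, 9, 7, 10]),
   (224, [3, 2, 2, 2, 3, 2, 2, 2, 4, 5, 4, 7, 10, 10]),
   (222, [3, 2, 3, 3, 3, 3, 2, 3, 4, 5, 4, 7, 7, 8, 9, 10, 10]),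
   (65, [2, 2, 3, 2, 3, 3, 3, 3, 3, 4, 5, 5, 4, 4, 4, 6, 7, 10]),
   (257, [2, 2, 3, 2, 3, 4, 5, 6, 9, 6, 10, 10]),
   (100, [3, 3, 2, 2, 2, 2, 2, 2, 3, 3, 4, 5, 4, 5, 5, 9, 6, 6]),
   (186, [3, 2, 2, 2, 3, 3, 2, 5, 5, 4, 4, 5, 4, 5, 7, 8, 6]),
   (230, [3, 2, 3, 5, 5, 4, 5, 4, 5, 5, 8, 9, 6, 9]),
   (13, [3, 3, 2, 3, 2, 4, 4, 5, 4, 5, 4, 5, 9, 7, 8, 6, 10]),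
   (185, [3, 3, 2, 3, 3, 3, 3, 4, 4, 5, 5, 5, 9, 7, 7, 6, 10, 10]),
   (233, [2, 3, 2, 2, 2, 2, 2, 2, 2, 5, 4, 4, 4, 6, 9, 7, 8, 6, 10, 10]),
   (98, [3, 3, 2, 2, 2, 2, 2, 2, 2, 4, 4, 5, 5, 4, 4, 4, 9, 8, 7]),
   (66, [2, 3, 3, 2, 3, 2, 3, 2, 3, 5, 4, 4, 4, 7]),
   (177, [3, 2, 2, 2, 3, 2, 2, 2, 4, 5, 5, 5, 4, 9, 7, 6, 6, 10]),
   (210, [2, 3, 3, 2, 3, 3, 4, 5, 4, 5, 7, 7, 10]),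
   (82, [3, 2, 2, 2, 3, 2, 3, 5, 4, 5, 5, 4, 9, 6, 10, 10]),
   (121, [2, 3, 3, 2, 3, 3, 2, 2, 5, 5, 4, 9, 6, 9, 10]),
   (141, [2, 2, 2, 2, 3, 3, 5, 5, 8, 7, 9]),
   (94, [3, 2, 2, 2, 3, 3, 2, 2, 4, 5, 4, 5, 5, 9, 7, 9, 6]),
   (242, [3, 3, 2, 2, 2, 2, 2, 2, 2, 5, 4, 4, 5, 4, 5, 5, 7, 9, 7]),
   (91, [3, 2, 2, 2, 3, 2, 2, 5, 4, 5, 4, 5, 8, 6, 9, 6, 10]),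
   (137, [3, 2, 3, 2, 3, 2, 3, 4, 5, 4, 5, 5, 4, 5, 5, 8, 8, 6, 10, 10]),
   (244, [3, 3, 2, 2, 3, 3, 2, 4, 5, 5, 4, 5, 8, 7, 9, 7, 10, 10]),
   (138, [3, 2, 3, 3, 3, 3, 2, 3, 5, 5, 5, 4, 5, 5, 4, 6, 9, 8, 6, 6, 10, 10]),
   (198, [3, 3, 2, 3, 2, 3, 2, 3, 5, 5, 5, 5, 6, 9, 6, 6, 10, 10]),
   (226, [3, 3, 3, 3, 4, 5, 4, 7, 7, 8, 9, 10, 10]),
   (175, [2, 2, 2, 3, 3, 2, 2, 4, 5, 4, 5, 4, 4, 7, 7, 10]),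
   (231, [3, 3, 3, 3, 4, 5, 4, 4, 4, 6, 9, 8, 6, 10]),
   (268, [3, 3, 2, 3, 2, 3, 2, 3, 5, 4, 9, 7, 9, 6, 10, 10]),
   (32, [3, 3, 2, 3, 2, 3, 5, 5, 4, 4, 5, 4, 5, 7, 7]),
   (111, [3, 2, 2, 2, 3, 3, 2, 2, 5, 4, 7, 9, 6, 10, 10]),
   (6, [3, 2, 2, 2, 3, 2, 3, 5, 5, 5, 5, 4, 5, 4, 9, 7, 6, 10]),
   (96, [3, 2, 3, 3, 3, 3, 2, 3, 4, 4, 5, 5, 5, 5, 7, 9, 6]),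
   (251, [3, 2, 3, 2, 3, 2, 3, 5, 5, 5, 5, 9, 8, 6, 6]),
   (59, [3, 2, 3, 5, 5, 5, 5, 7, 7, 6, 10, 10]),
   (55, [2, 3, 3, 3, 2, 2, 2, 3, 4, 4, 4, 5, 4, 4, 4, 6, 9, 7, 10, 10]),
   (54, [2, 3, 2, 2, 2, 3, 5, 5, 4, 5, 5, 5, 4, 7, 10]),
   (260, [2, 3, 2, 3, 3, 3, 2, 2, 2, 4, 5, 4, 5, 4, 8, 7, 9, 7, 10, 10]),
   (30, [2, 3, 3, 3, 2, 2, 2, 4, 4, 4, 5, 4, 4, 4, 9, 6, 10]),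
   (5, [2, 2, 2, 3, 2, 3, 3, 2, 4, 4, 5, 5, 5, 8, 6, 9, 6, 10, 10]),
   (38, [3, 2, 3, 3, 3, 5, 5, 4, 5, 5, 4, 4, 4, 9, 8, 7, 9, 10]),
   (1, [2, 2, 2, 2, 3, 3, 3, 2, 3, 2, 4, 5, 5, 5, 4, 5, 4, 9, 7, 6]),
   (84, [2, 3, 3, 3, 5, 4, 5, 4, 4, 4, 6, 6, 9, 10, 10]),
   (36, [2, 3, 2, 3, 2, 3, 3, 2, 4, 4, 5, 5, 5, 4, 8, 6]),
   (2, [2, 2, 3, 3, 2, 3, 5, 4, 5, 5, 9, 7, 6, 10]),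
   (256, [3, 2, 3, 3, 3, 3, 3, 5, 5, 5, 4, 5, 4, 9, 7, 8, 6, 10, 10]),
   (35, [2, 2, 2, 2, 2, 2, 2, 5, 5, 5, 5]),
   (128, [2, 2, 2, 3, 3, 2, 2, 4, 5, 5, 5, 5, 4, 5, 4, 8, 8, 6]),
   (181, [2, 2, 2, 3, 2, 2, 2, 5, 5, 4, 4, 7, 8, 9, 10, 10]),
   (179, [3, 2, 3, 2, 3, 3, 2, 5, 5, 4, 5, 4, 5, 5, 8, 9, 7, 10]),
   (239, [2, 2, 3, 2, 2, 4, 5, 4, 5, 5, 6, 10, 10]),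
   (218, [3, 2, 3, 3, 3, 3, 3, 5, 5, 5, 4, 5, 4, 4, 4, 6, 9, 6, 6, 10, 10])]

/-- Part of a closure certificate. -/
def gLev0c10 : List (ℕ × List ℕ) :=
  [(0, [6, 10]),
   (244, [2, 2, 3, 2, 3, 3, 3, 3, 4, 4, 5, 4, 5, 4, 8, 7, 9, 7]),
   (83, [2, 2, 2, 2, 2, 2, 3, 4, 5, 4, 5, 10]),
   (256, [2, 2, 3, 3, 2, 3, 2, 5, 5, 4, 5, 7, 8, 9, 10]),
   (229, [2, 3, 2, 3, 2, 3, 5, 4, 4, 4, 5, 4, 6, 9, 10]),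
   (8, [2, 2, 3, 2, 2, 2, 5, 5, 4, 5, 4, 6, 9, 7, 10, 10]),
   (152, [2, 2, 2, 2, 2, 2, 3, 4, 4, 5, 5, 5, 6, 9, 8, 6, 6]),
   (78, [3, 3, 2, 3, 3, 5, 7, 7, 9, 10]),
   (181, [2, 2, 3, 3, 3, 5, 5, 4, 9, 8, 7]),
   (97, [2, 3, 2, 2, 2, 2, 2, 2, 2, 4, 5, 4, 5, 5, 4, 4, 4, 8, 6, 6, 9, 10]),
   (254, [2, 2, 3, 2, 3, 3, 3, 3, 4, 5, 4, 5, 5, 4, 5, 5, 7, 7, 6]),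
   (194, [3, 3, 3, 2, 2, 5, 4, 4, 5, 4, 5, 5, 8, 9, 7, 6]),
   (189, [2, 2, 2, 2, 2, 2, 4, 5, 5, 5, 5, 9, 7, 6, 10]),
   (75, [3, 3, 2, 2, 3, 2, 2, 5, 4, 4, 5, 4, 4, 9, 8, 7, 9, 10, 10]),
   (111, [2, 3, 5, 5, 5, 5, 4, 5, 4, 8, 6, 9, 6]),
   (234, [2, 3, 2, 2, 3, 2, 2, 5, 5, 5, 8, 6, 6, 10, 10]),
   (16, [3, 3, 3, 3, 3, 5, 5, 5, 5, 4, 5, 4, 9, 7, 7, 6, 10, 10]),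
   (207, [3, 3, 3, 2, 3, 2, 4, 4, 10]),
   (12, [3, 2, 3, 3, 2, 4, 5, 4, 5, 5, 4, 8, 8, 6, 10, 10]),
   (72, [3, 2, 3, 2, 3, 4, 4, 4, 5, 5, 5, 9, 8, 6]),
   (177, [2, 2, 3, 3, 2, 3, 3, 5, 5, 5, 4, 5, 4, 4, 4, 8, 7, 9]),
   (63, [3, 2, 2, 3, 3, 2, 3, 4, 4, 4, 4, 5, 4, 5, 7, 7, 9, 10]),
   (40, [2, 2, 2, 3, 2, 3, 4, 4, 5, 5, 5, 5, 6, 6, 9, 6, 6]),
   (156, [2, 3, 2, 4, 4, 5, 4, 5, 4, 5, 7, 6, 6]),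
   (153, [3, 3, 2, 3, 3, 3, 4, 5, 4, 5, 4, 9, 7, 7, 6, 10, 10]),
   (36, [2, 2, 5, 4, 4, 5, 4, 4, 7, 6, 6, 10, 10]),
   (265, [2, 3, 2, 3, 2, 3, 3, 2, 4, 4, 5, 4, 5, 8, 7, 7, 6]),
   (128, [3, 3, 3, 2, 2, 2, 3, 4, 5, 5, 5, 4, 5, 4, 9, 6, 6]),
   (125, [2, 3, 3, 2, 2, 3, 2, 3, 4, 5, 5, 4, 4, 4, 7, 8, 9, 10]),
   (119, [3, 3, 2, 2, 2, 2, 3, 4, 5, 4, 5, 5, 4, 4, 4, 7, 7, 8, 9, 10]),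
   (147, [2, 3, 3, 2, 3, 3, 4, 4, 4, 4, 5, 4, 4, 8, 7, 9]),
   (85, [2, 2, 2, 2, 2, 3, 2, 3, 4, 4, 4, 5, 4, 5, 7, 8, 9, 10]),
   (122, [3, 2, 3, 3, 4, 4, 4, 8, 9, 10, 10]),
   (191, [2, 3, 3, 2, 3, 2, 4, 5, 4, 5, 5, 4, 9, 8, 7, 9, 10]),
   (236, [3, 2, 3, 3, 5, 4, 4, 4, 6, 9, 7]),
   (23, [3, 5, 4, 4, 4, 5, 4, 7, 9, 6, 10, 10]),
   (47, [2, 3, 2, 2, 2, 3, 2, 3, 5, 5, 4, 5, 4, 9, 7, 10]),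
   (60, [3, 2, 3, 4, 5, 5, 5, 5, 6, 7, 10]),
   (126, [3, 3, 3, 2, 2, 2, 3, 5, 4, 5, 5, 5, 5, 9, 7, 8, 6]),
   (185, [3, 3, 3, 3, 3, 4, 4, 5, 4, 4, 8, 9, 7, 6, 10, 10]),
   (148, [3, 3, 3, 5, 4, 5, 4, 7, 9, 6, 6]),
   (118, [2, 2, 3, 3, 3, 2, 3, 2, 5, 4, 4, 4, 6, 7, 10, 10]),
   (9, [2, 3, 3, 3, 3, 2, 3, 5, 5, 4, 5, 4, 5, 5, 9, 7, 9, 10]),
   (19, [3, 3, 2, 2, 2, 2, 3, 5, 4, 4, 5, 4, 5, 4, 8, 9, 10, 10]),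
   (29, [3, 2, 3, 2, 2, 2, 5, 4, 4, 5, 4, 4, 7, 8, 9, 10, 10]),
   (154, [3, 3, 3, 2, 3, 2, 3, 4, 5, 4, 5, 5, 4, 5, 5, 10, 10]),
   (124, [2, 3, 3, 3, 3, 3, 4, 5, 4, 4, 8, 6, 10]),
   (225, [2, 3, 3, 2, 3, 2, 4, 4, 5, 5, 4, 4, 4, 7, 9, 7, 10]),
   (43, [3, 2, 2, 3, 3, 5, 4, 4, 5, 4, 5, 5, 8, 9, 7, 6]),
   (169, [2, 2, 2, 3, 3, 3, 2, 3, 2, 4, 4, 5, 4, 5, 5, 4, 6, 8, 6, 6]),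
   (158, [2, 2, 3, 4, 5, 5, 4, 5, 6, 9, 10, 10]),
   (231, [2, 2, 2, 3, 3, 4, 4, 5, 4, 4, 4, 9, 8, 7, 10]),
   (247, [2, 3, 3, 2, 3, 3, 5, 4, 5, 5, 4, 9, 6, 7]),
   (255, [3, 3, 3, 2, 2, 4, 4, 4, 5, 4, 5, 8, 7, 7, 6, 10, 10]),
   (237, [2, 2, 3, 2, 3, 4, 5, 4, 5, 5, 5, 5, 6, 9, 7, 8, 6, 10, 10]),
   (172, [2, 2, 3, 3, 3, 3, 3, 5, 5, 4, 5, 5, 4, 8, 6, 9, 6]),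
   (132, [3, 2, 2, 3, 2, 3, 3, 2, 4, 4, 5, 5, 4, 4, 4, 9, 8, 7]),
   (20, [3, 2, 2, 3, 3, 2, 2, 4, 5, 4, 5, 5, 7, 6, 10, 10]),
   (68, [2, 3, 3, 2, 3, 2, 5, 5, 5, 4, 5, 6, 9, 6, 10, 10]),
   (251, [2, 3, 5, 4, 5, 4, 4, 4, 7, 9, 6, 6, 10, 10]),
   (89, [3, 3, 2, 3, 3, 3, 3, 4, 4, 4, 5, 5, 5, 4, 7, 6]),
   (91, [2, 2, 2, 2, 2, 2, 3, 4, 5, 5, 5, 4, 6, 9, 6, 7, 10, 10]),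
   (112, [3, 2, 2, 2, 3, 3, 2, 2, 5, 4, 5, 5, 4, 6, 9, 6, 7]),
   (224, [3, 2, 2, 3, 3, 2, 4, 4, 5, 5, 5, 4, 7, 9, 8, 7, 10, 10]),
   (69, [2, 3, 3, 2, 3, 2, 4, 5, 4, 5, 4, 7, 9, 6, 10, 10]),
   (171, [3, 3, 3, 3, 3, 4, 4, 5, 4, 9, 6, 7, 10]),
   (120, [3, 3, 2, 2, 2, 2, 3, 4, 5, 4, 5, 4, 5, 6, 8, 9, 7]),
   (121, [2, 3, 3, 3, 2, 3, 2, 4, 4, 4, 5, 4, 4, 4, 8, 9, 6, 9, 10]),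
   (58, [2, 2, 2, 4, 5, 4, 5, 5, 4, 4, 4, 6, 9, 7, 8, 6, 10]),
   (139, [3, 2, 2, 3, 3, 2, 3, 5, 5, 5, 4, 9, 7, 7, 6, 10, 10]),
   (186, [2, 2, 3, 3, 3, 3, 3, 5, 5, 4, 4, 6, 7, 10]),
   (103, [3, 3, 2, 2, 2, 2, 2, 2, 3, 3, 5, 5, 5, 4, 5, 5, 4, 7, 8, 9, 10]),
   (48, [2, 2, 2, 2, 2, 2, 2, 4, 4, 4, 5, 4, 6, 9, 6, 6, 10, 10]),
   (175, [2, 3, 3, 2, 3, 3, 3, 4, 5, 4, 5, 4, 4, 7, 9, 7]),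
   (96, [3, 2, 2, 2, 2, 4, 5, 4, 8, 9, 7, 6]),
   (32, [3, 2, 3, 2, 3, 2, 3, 4, 5, 4, 5, 5, 4, 5, 5, 6, 9, 6, 10, 10]),
   (213, [3, 2, 2, 3, 3, 2, 2, 5, 5, 5, 5, 4, 5, 7, 8, 6]),
   (57, [3, 3, 2, 2, 2, 2, 2, 2, 3, 3, 4, 4, 4, 5, 5, 5, 6, 9, 6, 6]),
   (131, [2, 3, 2, 3, 3, 3, 3, 3, 5, 4, 4, 5, 4, 5, 8, 9, 6, 9, 10, 10]),
   (167, [2, 3, 5, 4, 4, 5, 5, 4, 4, 4, 7, 8, 9, 7]),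
   (76, [2, 2, 2, 4, 5, 4, 5, 4, 4, 9, 8, 6, 6]),
   (64, [2, 2, 2, 2, 3, 2, 3, 5, 4, 4, 5, 4, 5, 5, 8, 6, 6]),
   (238, [2, 3, 2, 3, 3, 3, 3, 5, 5, 5, 4, 5, 4, 7, 8, 6]),
   (123, [2, 3, 2, 3, 2, 3, 4, 4, 4, 8, 6, 9, 6, 10, 10]),
   (108, [2, 3, 2, 3, 2, 3, 3, 2, 5, 4, 4, 5, 5, 4, 4, 4, 6, 6, 10, 10]),
   (241, [3, 3, 2, 3, 3, 2, 2, 5, 4, 4, 5, 4, 5, 5, 7, 6, 6]),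
   (250, [2, 3, 3, 3, 3, 3, 4, 4, 5, 4, 9, 7, 6, 10, 10]),
   (252, [2, 2, 2, 3, 4, 5, 4, 4, 5, 4, 4, 9, 7, 7, 6]),
   (84, [2, 3, 3, 3, 2, 2, 2, 4, 5, 5, 5, 4, 5, 5, 4, 9, 6, 9]),
   (140, [2, 3, 3, 2, 3, 2, 7, 6, 10]),
   (184, [3, 2, 3, 2, 3, 4, 5, 4, 5, 4, 4, 8, 6, 6, 10]),
   (196, [2, 2, 3, 3, 2, 3, 3, 4, 5, 4, 5, 7, 9, 8, 7, 10, 10]),
   (71, [2, 2, 2, 2, 4, 4, 5, 5, 5, 4, 7, 7, 10, 10]),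
   (187, [3, 3, 2, 2, 2, 2, 2, 2, 2, 4, 5, 4, 5, 4, 9, 10]),
   (80, [2, 2, 3, 2, 2, 4, 4, 4, 7, 7, 10]),
   (163, [2, 2, 2, 4, 5, 4, 5, 5, 9, 7, 8, 6]),
   (127, [3, 3, 3, 3, 5, 5, 5, 4, 5, 4, 8, 7, 9, 10, 10]),
   (174, [3, 2, 2, 2, 3, 2, 2, 4, 4, 5, 6, 10]),
   (261, [3, 2, 2, 2, 2, 2, 2, 3, 3, 5, 5, 5, 5, 4, 5, 7, 9, 6]),
   (99, [2, 2, 2, 2, 2, 2, 2, 5, 4, 4, 5, 4, 4, 7, 7, 6, 10]),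
   (105, [2, 2, 3, 2, 3, 3, 3, 3, 5, 5, 4, 5, 4, 5, 5, 9, 8, 6, 6]),
   (102, [2, 3, 2, 3, 4, 4, 5, 4, 5, 4, 7, 9, 8, 7, 10]),
   (195, [3, 3, 2, 3, 3, 3, 5, 5, 5, 10, 10]),
   (173, [3, 3, 3, 3, 2, 2, 2, 4, 4, 5, 4, 5, 4, 6, 9, 7]),
   (133, [3, 2, 3, 3, 3, 3, 2, 3, 5, 4, 4, 5, 4, 7, 7, 9, 6]),
   (257, [2, 3, 3, 2, 4, 5, 4, 5, 5, 5, 5, 8, 9, 7, 10, 10]),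
   (135, [3, 5, 4, 5, 4, 7, 9, 10]),
   (107, [2, 3, 2, 3, 2, 3, 3, 2, 5, 5, 4, 5, 9, 7, 6]),
   (142, [3, 2, 3, 2, 3, 2, 3, 4, 4, 4, 5, 4, 4, 9, 6, 7, 10, 10]),
   (24, [2, 3, 2, 2, 3, 2, 2, 5, 4, 5, 5, 5, 5, 6, 9, 7, 8, 6]),
   (165, [3, 2, 2, 2, 2, 4, 5, 5, 4, 5, 5, 8, 6, 6, 9]),
   (11, [3, 3, 3, 2, 2, 2, 3, 5, 4, 5, 4, 4, 4, 9, 6, 10]),
   (54, [3, 2, 2, 3, 3, 2, 2, 5, 4, 4, 4, 5, 4, 9, 7, 8, 6, 10, 10]),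
   (272, [2, 2, 2, 2, 2, 3, 3, 4, 4, 4, 5, 4, 4, 4, 7, 9, 6, 10, 10]),
   (168, [3, 2, 2, 2, 2, 2, 3, 3, 4, 5, 4, 5, 5, 5, 4, 9, 10]),
   (39, [3, 2, 2, 3, 2, 2, 5, 5, 5, 4, 5, 5, 4, 7, 9, 6]),
   (109, [2, 2, 3, 3, 3, 4, 4, 5, 4, 5, 5, 7, 9, 7, 6]),
   (35, [2, 3, 2, 3, 3, 3, 3, 5, 4, 4, 5, 4, 8, 9, 6, 9]),
   (267, [2, 3, 2, 2, 5, 4, 5, 4, 5, 5, 8, 9, 6, 9, 10]),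
   (160, [3, 2, 5, 5, 4, 5, 5, 4, 9, 8, 7, 10]),
   (66, [2, 3, 3, 3, 2, 2, 2, 4, 4, 4, 5, 4, 4, 4, 6, 6, 9, 6, 6]),
   (87, [3, 3, 3, 2, 2, 2, 4, 5, 5, 7, 9, 6, 6]),
   (13, [3, 2, 3, 3, 3, 3, 3, 4, 5, 5, 5, 5, 7, 9, 8, 6, 10]),
   (151, [2, 2, 2, 3, 2, 2, 2, 5, 5, 4, 4, 4, 8, 7, 7, 6]),
   (157, [2, 2, 2, 3, 4, 5, 4, 4, 4, 8, 6]),
   (114, [2, 3, 3, 3, 2, 2, 2, 4, 5, 4, 5, 5, 4, 8, 9, 7, 10, 10]),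
   (17, [2, 3, 3, 4, 5, 4, 5, 5, 4, 4, 4, 7, 9, 10, 10]),
   (183, [3, 3, 2, 2, 2, 3, 4, 5, 7, 6, 10, 10]),
   (263, [3, 2, 3, 2, 5, 5, 5, 4, 5, 7, 7, 8, 9]),
   (22, [2, 2, 3, 3, 2, 4, 4, 5, 4, 4, 9, 7, 6]),
   (134, [2, 2, 2, 4, 5, 5, 9]),
   (259, [2, 2, 3, 3, 2, 3, 4, 5, 4, 5, 5, 8, 9, 7, 10]),
   (6, [2, 2, 2, 2, 2, 2, 4, 5, 5, 4, 8, 6, 10, 10]),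
   (218, [3, 3, 2, 5, 5, 8, 9, 10]),
   (274, [2, 3, 2, 2, 4, 4, 4, 5, 5, 5, 4, 7, 8, 9]),
   (222, [2, 2, 3, 2, 3, 3, 3, 3, 5, 4, 5, 4, 4, 7, 9, 8, 7, 10]),
   (49, [2, 2, 2, 2, 5, 4, 5, 4, 4, 9, 8, 7, 9, 10, 10]),
   (268, [2, 2, 2, 2, 2, 2, 3, 5, 4, 5, 5, 4, 4, 4, 9, 7, 6, 10, 10]),
   (233, [3, 2, 2, 2, 3, 3, 2, 5, 4, 4, 4, 9, 8, 7]),
   (81, [2, 3, 5, 4, 4, 5, 4, 5, 4, 8, 9, 10]),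
   (37, [3, 2, 3, 3, 3, 3, 3, 4, 5, 4, 5, 4, 5, 8, 9, 6, 9, 10, 10]),
   (266, [3, 2, 2, 2, 3, 3, 2, 2, 4, 4, 5, 9, 7, 7, 6, 10]),
   (88, [3, 3, 2, 3, 4, 5, 5, 5, 7, 6]),
   (178, [3, 3, 3, 2, 2, 2, 4, 5, 4, 5, 5, 5, 4, 9, 7, 8, 6, 10, 10]),
   (18, [2, 2, 2, 2, 3, 3, 3, 2, 3, 2, 5, 4, 5, 5, 5, 4, 9, 7, 9, 6, 10]),
   (210, [3, 2, 2, 3, 3, 2, 2, 5, 5, 8, 6, 9, 6, 10, 10]),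
   (137, [2, 2, 2, 2, 2, 5, 4, 4, 4, 5, 4, 4, 9, 10, 10]),
   (110, [5, 5, 4, 6, 9, 8, 6, 6]),
   (129, [3, 2, 3, 2, 2, 2, 5, 4, 5, 5, 5, 5, 6, 9, 8, 6, 10, 10]),
   (70, [2, 3, 2, 2, 5, 4, 5, 5, 5, 4, 9, 8, 6, 6]),
   (31, [3, 2, 3, 2, 2, 2, 5, 5, 8, 7, 9, 7]),
   (2, [3, 2, 2, 2, 3, 2, 2, 5, 5, 4, 5, 8, 9, 6, 9, 10]),
   (56, [3, 2, 2, 2, 3, 2, 3, 4, 4, 5, 9, 8, 7, 10, 10]),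
   (116, [2, 3, 2, 2, 2, 4, 4, 5, 4, 5, 5, 4, 6, 9, 6, 7, 10]),
   (200, [2, 2, 2, 2, 3, 2, 2, 5, 4, 5, 8, 7, 9, 7]),
   (95, [3, 3, 2, 2, 2, 5, 4, 4, 7, 9, 7]),
   (117, [2, 2, 3, 2, 3, 5, 4, 4, 5, 4, 5, 4, 6, 9, 7, 8, 6]),
   (235, [2, 2, 2, 3, 3, 2, 4, 5, 4, 5, 6, 9, 6, 7, 10]),
   (50, [3, 2, 2, 3, 2, 2, 5, 4, 5, 5, 4, 7, 9, 7, 10]),
   (221, [3, 2, 3, 3, 3, 2, 3, 2, 4, 4, 5, 5, 5, 4, 9, 8, 6, 6]),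
   (44, [2, 3, 3, 3, 3, 3, 4, 5, 4, 5, 7, 7, 9]),
   (227, [3, 2, 2, 3, 3, 2, 4, 4, 4, 5, 4, 6, 6, 9, 6, 6, 10, 10]),
   (162, [3, 3, 2, 2, 3, 2, 2, 5, 5, 5, 4, 5, 7, 7, 9]),
   (214, [2, 2, 3, 3, 2, 2, 4, 4, 5, 5, 5, 5, 8, 9, 10, 10]),
   (228, [5, 4, 4, 5, 4, 5, 5, 6, 6, 9]),
   (30, [3, 2, 2, 2, 2, 2, 3, 3, 5, 4, 5, 4, 5, 4, 5, 7, 7, 9, 6]),
   (166, [2, 2, 3, 3, 2, 4, 5, 5, 4, 9, 7, 7, 6]),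
   (79, [2, 2, 2, 3, 3, 5, 4, 4, 4, 5, 4, 4, 7, 8, 9]),
   (28, [3, 2, 2, 2, 2, 2, 2, 3, 3, 7, 9, 8, 7, 10, 10]),
   (198, [2, 2, 3, 3, 2, 2, 5, 4, 5, 4, 5, 4, 5, 7, 6, 10, 10]),
   (143, [3, 2, 3, 3, 3, 2, 2, 2, 5, 4, 5, 5, 8, 9, 6, 9, 10, 10]),
   (53, [3, 3, 3, 3, 2, 3, 4, 4, 5, 7, 8, 9, 10, 10]),
   (55, [2, 2, 2, 2, 2, 3, 5, 4, 5, 4, 4, 4, 7, 8, 9, 10, 10]),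
   (92, [2, 2, 2, 2, 3, 3, 3, 2, 3, 2, 4, 4, 5, 4, 4, 7, 9, 10, 10]),
   (42, [3, 2, 2, 4, 4, 5, 5, 5, 7, 6, 6, 10, 10]),
   (73, [3, 2, 2, 2, 3, 2, 3, 4, 5, 4, 5, 5, 7, 9, 7]),
   (115, [3, 2, 2, 3, 2, 2, 4, 4, 6, 8, 9, 7]),
   (77, [3, 3, 2, 3, 3, 3, 3, 4, 5, 4, 5, 4, 5, 9, 6, 7]),
   (270, [3, 2, 2, 2, 2, 3, 5, 4, 4, 5, 4, 5, 5, 6, 8, 9, 7, 10]),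
   (15, [3, 2, 2, 3, 2, 3, 4, 5, 4, 4, 4, 5, 4, 4]),
   (21, [2, 2, 2, 2, 2, 3, 2, 2, 5, 5, 5, 5, 4, 5, 4, 7, 7, 8, 9, 10, 10]),
   (262, [2, 2, 2, 3, 2, 2, 4, 4, 9, 8, 6, 10, 10]),
   (138, [3, 2, 3, 2, 5, 5, 4, 9, 6, 6, 10, 10]),
   (74, [3, 2, 3, 2, 2, 2, 5, 4, 4, 5, 5, 5, 6, 9, 10, 10]),
   (90, [2, 3, 2, 3, 3, 2, 4, 5, 5, 4, 5, 6, 9, 6, 7, 10]),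
   (176, [3, 3, 2, 3, 3, 3, 4, 5, 4, 8, 9, 7, 10]),
   (211, [3, 2, 2, 2, 4, 4, 5, 4, 5, 6, 9, 6, 7]),
   (93, [2, 2, 3, 3, 2, 4, 5, 4, 4, 5, 4, 4, 9, 6, 10]),
   (104, [2, 3, 2, 2, 2, 4, 5, 5, 4, 4, 4, 6, 9, 7, 10, 10]),
   (144, [3, 2, 2, 2, 2, 2, 2, 2, 5, 4, 5, 4, 5, 6, 9, 6]),
   (253, [3, 2, 2, 3, 2, 3, 4, 4, 9, 8, 6, 10]),
   (271, [3, 2, 2, 4, 4, 4, 5, 5, 5, 4, 8, 8, 6, 10]),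
   (269, [2, 2, 2, 2, 2, 3, 2, 2, 4, 4, 5, 4, 8, 9, 10]),
   (61, [2, 2, 3, 3, 2, 2, 4, 5, 4, 4, 6, 8, 9, 7, 10]),
   (14, [2, 3, 3, 3, 2, 2, 2, 5, 4, 4, 5, 4, 5, 4, 9, 7, 8, 6]),
   (197, [3, 3, 2, 3, 3, 2, 2, 5, 4, 4, 5, 4, 5, 4, 6, 8, 6, 6]),
   (193, [3, 2, 3, 3, 3, 2, 3, 2, 5, 5, 5, 5, 4, 5, 9, 8, 7]),
   (101, [3, 3, 3, 2, 2, 2, 5, 4, 4, 4, 5, 4, 4, 6, 6, 9, 6, 6, 10, 10]),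
   (136, [3, 3, 2, 2, 3, 3, 2, 5, 4, 7, 8, 6, 10]),
   (106, [2, 2, 2, 2, 3, 5, 5, 4, 4, 5, 4, 5, 7, 8, 9]),
   (258, [3, 2, 2, 3, 3, 4, 5, 4, 4, 4, 5, 4, 4, 6, 9, 8, 6, 6]),
   (33, [2, 3, 3, 2, 2, 3, 3, 2, 5, 5, 4, 5, 6, 9, 6, 10]),
   (3, [3, 3, 3, 3, 3, 4, 4, 4, 5, 4, 4, 6, 9, 6, 7, 10, 10]),
   (230, [2, 3, 2, 2, 4, 5, 5, 4, 4, 4, 7]),
   (51, [3, 2, 3, 3, 5, 4, 4, 4, 7, 8, 6]),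
   (159, [2, 3, 2, 2, 2, 3, 2, 3, 5, 4, 5, 6, 7, 10, 10]),
   (146, [3, 3, 2, 2, 2, 2, 3, 4, 4, 5, 4, 5, 7, 9, 8, 6, 10]),
   (38, [2, 2, 2, 2, 2, 2, 3, 3, 4, 4, 4, 4, 5, 4, 4, 7, 9, 6]),
   (182, [3, 3, 2, 4, 5, 4, 5, 4, 9, 6, 7, 10]),
   (209, [2, 3, 2, 3, 4, 5, 5, 5, 4, 5, 6, 6, 9, 6, 6, 10, 10]),
   (203, [3, 3, 3, 3, 2, 3, 3, 5, 4, 4, 4, 9, 7, 10, 10]),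
   (149, [2, 2, 3, 2, 3, 3, 2, 5, 5, 4, 5, 5, 8, 7, 9]),
   (190, [2, 3, 2, 3, 3, 3, 3, 5, 4, 4, 5, 4, 5, 5, 8, 7, 7, 6, 10, 10]),
   (94, [3, 3, 2, 3, 3, 2, 2, 5, 4, 5, 4, 7, 9, 7, 6, 10]),
   (155, [2, 2, 3, 3, 3, 2, 3, 2, 4, 5, 4, 4, 5, 4, 4, 9, 7, 7, 6, 10]),
   (249, [2, 2, 2, 2, 3, 3, 4, 5, 4, 5, 5, 5, 4, 8, 9, 6, 9]),
   (10, [2, 3, 3, 2, 3, 3, 5, 5, 4, 4, 5, 4, 5, 7, 9, 8, 6, 10, 10]),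
   (216, [3, 2, 2, 2, 2, 2, 2, 2, 4, 5, 4, 5, 4, 5, 8, 9, 6, 6, 10, 10]),
   (188, [2, 3, 3, 4, 4, 5, 4, 4, 4, 9, 6, 7]),
   (82, [2, 2, 3, 3, 2, 3, 2, 4, 5, 5, 4, 6, 6, 9, 10, 10])]

/-- Part of a closure certificate. -/
def gLev0c11 : List (ℕ × List ℕ) :=
  [(205, [2, 3, 3, 2, 2, 3, 3, 2, 5, 5, 4, 4, 6, 9, 8, 6, 10]),
   (220, [2, 2, 2, 3, 4, 5, 5, 5, 5, 4, 5, 4, 8, 6, 10]),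
   (199, [3, 3, 3, 2, 3, 2, 5, 4, 5, 4, 8, 6, 6, 9, 10]),
   (27, [3, 2, 2, 3, 3, 2, 5, 4, 4, 4, 5, 4, 4, 9, 6, 10]),
   (180, [3, 3, 2, 2, 2, 3, 2, 2, 4, 5, 5, 6, 6, 9, 6, 6, 10]),
   (25, [3, 2, 2, 2, 2, 2, 3, 3, 4, 4, 5, 4, 4, 6, 9, 10]),
   (130, [2, 2, 2, 2, 2, 2, 5, 4, 4, 4, 5, 4, 4, 8, 6, 6, 9]),
   (164, [2, 2, 3, 2, 2, 2, 4, 4, 4, 5, 5, 5, 4, 9, 6, 9]),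
   (161, [3, 2, 2, 3, 2, 3, 3, 2, 4, 5, 5, 4, 5, 9, 7, 10, 10]),
   (26, [3, 2, 3, 2, 2, 5, 4, 5, 5, 8, 9, 7, 10, 10]),
   (145, [2, 2, 2, 2, 2, 2, 2, 7, 8, 6, 10, 10]),
   (242, [2, 2, 2, 3, 2, 3, 5, 5, 4, 4, 5, 4, 5, 7, 7, 9, 6, 10, 10]),
   (212, [3, 3, 2, 2, 2, 2, 3, 4, 4, 5, 5, 4, 4, 4, 8, 6, 9, 6, 10]),
   (208, [3, 2, 3, 2, 2, 2, 4, 5, 4, 4, 7, 7, 6]),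
   (260, [3, 3, 3, 2, 3, 2, 3, 5, 4, 4, 5, 5, 4, 4, 4, 8, 7, 9, 7, 10]),
   (46, [2, 3, 3, 2, 3, 3, 5, 5, 5, 4, 5, 9, 7, 6, 10, 10]),
   (34, [2, 3, 3, 3, 2, 2, 2, 3, 5, 5, 4, 9, 8, 7, 10]),
   (62, [3, 2, 2, 3, 2, 2, 4, 5, 4, 4, 7, 9, 10]),
   (243, [3, 2, 3, 2, 2, 2, 5, 5, 4, 5, 5, 5, 4, 9, 8, 7, 9, 10]),
   (86, [2, 3, 3, 2, 3, 2, 3, 2, 3, 5, 4, 5, 4, 5, 5, 8, 6, 6]),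
   (141, [2, 2, 3, 3, 3, 3, 3, 4, 4, 4, 5, 4, 5, 7, 7, 10]),
   (150, [2, 3, 2, 2, 2, 2, 2, 2, 2, 5, 5, 4, 5, 5, 8, 7, 10, 10]),
   (204, [3, 2, 3, 2, 3, 3, 3, 3, 4, 5, 4, 5, 5, 4, 5, 5, 8, 9, 6, 6, 10, 10]),
   (219, [2, 2, 3, 5, 4, 4, 5, 4, 4, 4, 8, 6, 10]),
   (1, [3, 3, 2, 3, 5, 5, 4, 7, 6, 6, 10, 10]),
   (100, [3, 3, 2, 2, 3, 3, 2, 4, 5, 4, 5, 5, 5, 5, 8, 9, 7, 10]),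
   (240, [2, 2, 2, 2, 3, 5, 5, 4, 5, 5, 5, 4, 9, 7, 6, 10]),
   (52, [2, 3, 3, 2, 3, 3, 5, 5, 4, 5, 4, 5, 5, 6, 6, 9, 10, 10]),
   (41, [2, 2, 2, 2, 3, 2, 2, 5, 4, 5, 5, 4, 4, 4, 6]),
   (215, [3, 2, 3, 2, 3, 2, 2, 5, 5, 4, 8, 8, 6, 10]),
   (273, [3, 3, 2, 5, 4, 4, 5, 5, 5, 6, 8, 6, 6]),
   (59, [3, 2, 2, 2, 3, 3, 2, 2, 5, 4, 5, 5, 5, 4, 9, 6, 7, 10, 10]),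
   (67, [3, 2, 3, 2, 4, 4, 5, 6, 9, 7, 10, 10]),
   (232, [3, 5, 4, 4, 8, 7, 9, 10, 10]),
   (217, [2, 2, 3, 3, 2, 3, 3, 5, 5, 5, 5, 4, 5, 4, 8, 7, 7, 6, 10]),
   (65, [2, 3, 2, 3, 2, 2, 4, 5, 4, 5, 5, 9, 7, 7, 6, 10, 10]),
   (264, [3, 3, 2, 3, 2, 3, 5, 4, 4, 4, 5, 4, 8, 9, 10, 10]),
   (245, [3, 3, 4, 5, 5, 9, 8, 7, 10, 10]),
   (45, [2, 2, 3, 5, 5, 5, 5, 9, 6, 7, 10]),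
   (7, [3, 2, 3, 3, 2, 2, 5, 4, 4, 5, 4, 9, 10, 10]),
   (179, [2, 2, 2, 3, 2, 2, 2, 4, 5, 5, 5, 8, 6, 6, 10]),
   (113, [2, 2, 3, 2, 2, 5, 4, 5, 5, 4, 5, 5, 6, 9, 8, 6, 10, 10]),
   (5, [3, 3, 3, 3, 2, 3, 2, 4, 4, 5, 4, 4, 7, 8, 9, 7, 10, 10]),
   (223, [3, 2, 2, 3, 2, 3, 3, 2, 4, 4, 4, 5, 4, 5, 8, 6, 6, 9]),
   (202, [2, 2, 3, 3, 2, 3, 2, 5, 4, 4, 4, 6, 9, 8, 6, 10, 10]),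
   (4, [2, 3, 3, 3, 2, 2, 2, 5, 5, 4, 8, 7, 9, 7]),
   (246, [2, 3, 2, 3, 2, 5, 5, 5, 5, 4, 5, 4, 8, 6, 6]),
   (248, [2, 2, 2, 2, 3, 2, 3, 4, 4, 4, 5, 4, 5, 8, 7, 7, 6, 10, 10]),
   (206, [3, 3, 2, 3, 2, 2, 5, 5, 4, 4, 6, 9]),
   (192, [3, 2, 3, 3, 3, 3, 3, 5, 4, 5, 6, 9, 8, 6, 10]),
   (170, [3, 3, 3, 3, 5, 4, 5, 4, 9, 8, 7, 9, 10]),
   (201, [2, 2, 3, 3, 3, 3, 3, 5, 4, 5, 4, 5, 4, 5, 8, 8, 6, 10]),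
   (98, [3, 2, 3, 3, 5, 5, 5, 4, 5, 4, 4, 4, 7, 9, 7, 6]),
   (239, [3, 3, 2, 3, 5, 4, 5, 5, 4, 7]),
   (226, [3, 2, 3, 2, 2, 2, 4, 5, 5, 4, 5, 9, 6, 7, 10]),
   (0, [9]),
   (244, [3, 3, 3, 3, 3, 3, 5, 5, 4, 4, 8, 9, 7, 10]),
   (132, [3, 3, 3, 4, 5, 5, 8, 9, 7, 6, 10]),
   (3, [5, 4, 5, 5, 5, 4, 9, 7, 7, 6, 10]),
   (37, [3, 2, 2, 2, 4, 5, 5, 4, 5, 5, 8, 6, 6, 9, 10, 10]),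
   (33, [3, 3, 2, 3, 2, 2, 4, 4, 4, 4, 5, 4, 4, 7, 9, 10]),
   (151, [2, 2, 2, 2, 2, 5, 5, 4, 5, 5, 4, 9, 8, 6, 6, 10, 10]),
   (29, [3, 3, 3, 3, 3, 5, 4, 5, 4, 4, 4, 8, 7]),
   (5, [2, 3, 2, 3, 2, 3, 4, 4, 5, 4, 5, 5, 4, 7, 6, 6]),
   (81, [3, 2, 3, 3, 3, 2, 3, 2, 4, 4, 4, 5, 4, 4, 7, 9, 10, 10]),
   (240, [3, 2, 2, 2, 2, 2, 3, 3, 5, 4, 4, 5, 4, 8, 7, 9, 10, 10]),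
   (24, [3, 2, 2, 3, 3, 2, 2, 4, 4, 5, 4, 4, 7, 7, 6, 10, 10]),
   (258, [2, 3, 3, 3, 2, 3, 3, 5, 4, 4, 5, 5, 4, 4, 4, 9, 7, 6, 10]),
   (51, [2, 2, 2, 2, 3, 2, 2, 5, 4, 5, 5, 4, 5, 5, 7, 7, 9, 6, 10]),
   (116, [2, 2, 2, 2, 3, 2, 3, 5, 5, 5, 4, 5, 9, 7, 9]),
   (179, [3, 2, 2, 2, 2, 2, 3, 3, 4, 4, 4, 4, 5, 4, 4, 6, 6]),
   (236, [2, 3, 3, 2, 5, 5, 5, 4, 4, 4, 7, 9, 6]),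
   (28, [3, 4, 5, 4, 5, 9, 10]),
   (45, [2, 2, 3, 3, 2, 3, 3, 5, 5, 4, 4, 6, 7]),
   (113, [2, 2, 3, 3, 2, 4, 5, 5, 5, 4, 5, 4, 6, 6, 10]),
   (150, [2, 2, 2, 2, 2, 2, 5, 5, 4, 4, 9]),
   (63, [2, 2, 3, 2, 3, 4, 4, 5, 10]),
   (243, [2, 2, 2, 2, 2, 3, 2, 3, 5, 4, 5, 4, 6, 7]),
   (156, [2, 2, 2, 2, 2, 3, 5, 5, 4, 4, 4, 6, 7, 10]),
   (190, [2, 2, 2, 3, 3, 5, 4, 4, 4, 5, 4, 7, 9, 6]),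
   (217, [2, 3, 2, 3, 3, 3, 2, 2, 2, 5, 4, 5, 4, 4, 6, 9, 7, 10]),
   (89, [2, 3, 3, 3, 2, 3, 3, 4, 5, 5, 5, 4, 5, 5, 4, 7, 9, 7, 10]),
   (17, [2, 3, 2, 2, 3, 2, 3, 3, 2, 5, 5, 4, 5, 5, 4, 7, 9, 6, 6, 10]),
   (270, [2, 2, 2, 2, 4, 4, 4, 5, 4, 5, 9, 7, 10, 10]),
   (44, [2, 2, 3, 2, 2, 2, 5, 5, 5, 4, 5, 7, 9, 6, 10, 10]),
   (260, [3, 3, 2, 2, 2, 4, 4, 5, 4, 6, 9, 7, 8, 6]),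
   (57, [3, 2, 2, 2, 3, 2, 2, 5, 5, 4, 4, 4, 6, 8, 9, 7]),
   (242, [2, 3, 2, 3, 3, 2, 5, 5, 4, 5, 8, 6, 9, 6, 10]),
   (201, [2, 2, 3, 3, 2, 5, 4, 4, 5, 4, 5, 4, 6, 6, 9, 6, 6, 10]),
   (16, [3, 3, 3, 2, 2, 2, 3, 5, 5, 4, 5, 4, 6, 6, 9]),
   (23, [2, 3, 3, 2, 2, 2, 4, 4, 5, 4, 4, 4, 6, 9, 6, 7, 10, 10]),
   (53, [2, 2, 3, 2, 3, 3, 2, 5, 4, 4, 5, 4, 5, 5, 8, 6, 6, 10]),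
   (140, [3, 2, 3, 2, 3, 4, 4, 5, 4, 5, 7, 8, 6]),
   (114, [2, 3, 2, 2, 2, 2, 2, 2, 2, 4, 4, 5, 4, 5, 4, 7, 7, 6, 10, 10]),
   (14, [2, 3, 3, 3, 3, 3, 5, 5, 5, 4, 4, 4, 6, 6, 9, 6, 6]),
   (220, [2, 2, 3, 2, 2, 2, 5, 4, 5, 4, 5, 5, 7, 8, 9]),
   (123, [2, 3, 2, 2, 2, 3, 2, 3, 4, 5, 4, 4, 4, 5, 4, 4, 8, 7, 10]),
   (134, [3, 3, 2, 2, 2, 2, 2, 2, 2, 4, 5, 4, 5, 5, 4, 5, 5, 10, 10]),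
   (19, [3, 3, 3, 2, 2, 4, 5, 5, 4, 5]),
   (78, [2, 3, 3, 4, 5, 4, 5, 4, 4, 8, 9, 7, 10, 10]),
   (18, [3, 2, 3, 3, 3, 2, 2, 2, 4, 5, 5, 5, 5, 8, 6, 6, 9]),
   (124, [3, 3, 2, 2, 2, 2, 3, 5, 5, 4, 4, 8, 9, 6, 9, 10, 10]),
   (10, [2, 3, 2, 4, 4, 4, 4, 5, 4, 5, 8, 9, 7, 10]),
   (98, [3, 3, 3, 2, 3, 5, 4, 4, 5, 4, 6, 9, 6, 6, 10, 10]),
   (136, [2, 3, 3, 2, 3, 4, 5, 4, 5, 5, 4, 7, 7, 9, 6, 10, 10]),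
   (1, [3, 3, 2, 3, 2, 4, 8, 7, 9, 7, 10, 10]),
   (273, [2, 2, 2, 2, 2, 2, 4, 5, 4, 4, 9, 7, 8, 6, 10]),
   (187, [2, 2, 2, 2, 2, 3, 4, 4, 5, 5, 5, 5, 4, 5, 4, 8, 8, 6, 10, 10]),
   (246, [3, 2, 3, 3, 4, 4, 5, 5, 5, 7, 9, 8, 6, 10, 10]),
   (237, [2, 2, 3, 2, 3, 5, 5, 4, 5, 4, 6, 8, 9, 7, 10]),
   (192, [2, 3, 2, 3, 3, 3, 3, 4, 4, 4, 5, 4, 5, 8, 7]),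
   (83, [3, 2, 3, 3, 3, 5, 5, 4, 4, 4, 8, 8, 6, 10]),
   (241, [3, 3, 3, 3, 3, 4, 4, 6, 8, 6, 6, 10, 10]),
   (79, [2, 2, 3, 3, 3, 3, 3, 5, 4, 4, 7, 9, 6, 6, 10]),
   (184, [2, 2, 3, 2, 3, 4, 4, 5, 4, 5, 5, 4, 9, 7, 10]),
   (265, [2, 2, 2, 3, 2, 2, 4, 4, 5, 5, 5, 8, 8, 6, 10]),
   (238, [3, 2, 2, 2, 2, 2, 3, 3, 4, 5, 4, 5, 5, 8, 9, 7, 6]),
   (112, [2, 3, 3, 4, 4, 4, 4, 5, 4, 4, 6, 9, 6, 6, 10, 10]),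
   (155, [3, 3, 2, 3, 3, 2, 2, 5, 5, 4, 5, 10, 10]),
   (42, [3, 3, 2, 2, 3, 3, 2, 4, 4, 5, 4, 5, 4, 8, 6, 6, 9, 10]),
   (141, [3, 3, 3, 3, 2, 2, 2, 3, 5, 4, 5, 5, 4, 4, 4, 7, 10, 10]),
   (107, [2, 2, 2, 2, 2, 4, 4, 4, 5, 4, 4, 4, 7, 9, 6, 6]),
   (32, [2, 2, 2, 2, 2, 2, 2, 5, 4, 5, 4, 5, 5, 7, 9, 7, 6, 10]),
   (167, [3, 3, 2, 2, 3, 2, 2, 5, 4, 5, 5, 4, 4, 4, 9, 6]),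
   (96, [3, 2, 2, 2, 3, 2, 2, 2, 4, 5, 5, 4, 5, 5, 4, 7, 8, 9, 7]),
   (186, [3, 3, 2, 2, 3, 2, 3, 5, 4, 5, 5, 4, 5, 5, 8, 6, 6, 10, 10]),
   (233, [3, 2, 2, 2, 2, 3, 4, 4, 5, 4, 5, 4, 7, 7, 10]),
   (48, [3, 2, 2, 2, 3, 3, 2, 2, 4, 5, 4, 5, 5, 4, 4, 4, 7, 9, 8, 6]),
   (175, [3, 2, 3, 2, 3, 3, 2, 4, 5, 4, 5, 5, 8, 6, 6, 10]),
   (139, [2, 2, 2, 2, 3, 2, 2, 5, 4, 6, 9, 8, 6, 10, 10]),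
   (121, [2, 3, 3, 2, 3, 3, 5, 4, 4, 4, 5, 4, 7, 7, 9, 10]),
   (80, [3, 2, 3, 2, 3, 2, 2, 4, 5, 5, 4, 7, 9, 7, 6, 10, 10]),
   (85, [2, 3, 2, 2, 3, 3, 2, 2, 4, 5, 5, 4, 4, 4, 7, 9, 6, 6]),
   (7, [3, 2, 2, 5, 5, 4, 4, 4, 6, 8, 6, 6]),
   (58, [3, 2, 3, 2, 3, 3, 2, 5, 4, 4, 5, 5, 4, 4, 4, 9, 7, 9, 10, 10]),
   (76, [3, 3, 2, 3, 3, 3, 5, 4, 4, 5, 4, 4, 6, 8, 6, 6]),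
   (183, [2, 2, 2, 2, 2, 3, 5, 4, 5, 5, 4, 5, 5, 8, 6, 9, 6, 10]),
   (91, [2, 2, 2, 3, 3, 2, 2, 5, 5, 5, 4, 5, 9, 7, 9, 6, 10]),
   (118, [2, 3, 2, 2, 2, 4, 5, 4, 5, 5, 5, 4, 7, 9, 7, 6]),
   (211, [2, 2, 3, 3, 2, 3, 2, 5, 5, 4, 5, 5, 4, 9, 7, 6, 6]),
   (20, [2, 2, 2, 2, 3, 3, 5, 6, 9, 6, 7]),
   (67, [2, 2, 3, 3, 2, 3, 3, 5, 5, 4, 4, 7, 9, 8, 6, 10, 10]),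
   (13, [2, 3, 3, 2, 2, 3, 3, 2, 5, 5, 4, 5, 5, 5, 4, 7, 7, 9, 10, 10]),
   (84, [3, 3, 2, 2, 2, 3, 2, 2, 5, 4, 5, 9, 8, 6, 6, 10]),
   (60, [2, 2, 2, 3, 3, 2, 2, 4, 5, 4, 5, 6, 9, 6, 6, 10]),
   (251, [2, 2, 2, 3, 3, 2, 5, 4, 5, 5, 4, 5, 5, 9, 7, 8, 6]),
   (221, [3, 3, 2, 2, 2, 3, 5, 4, 4, 5, 5, 4, 4, 4, 7, 7, 10]),
   (106, [3, 2, 2, 3, 2, 2, 5, 4, 5, 5, 4, 7, 9, 6, 6, 10]),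
   (247, [2, 3, 3, 2, 5, 5, 4, 5, 5, 4, 4, 4]),
   (213, [2, 3, 3, 2, 3, 3, 3, 4, 5, 4, 5, 9, 10, 10]),
   (21, [2, 3, 5, 4, 4, 5, 4, 4, 7, 7, 9, 6, 10]),
   (274, [2, 2, 4, 4, 4, 5, 5, 5, 4, 7, 7, 10, 10]),
   (226, [2, 3, 2, 2, 3, 2, 2, 4, 4, 4, 5, 4, 5, 7, 9, 8, 6, 10]),
   (261, [3, 2, 3, 3, 3, 2, 3, 2, 7, 7, 9, 10, 10]),
   (66, [2, 2, 3, 3, 2, 5, 5, 4, 5, 5, 8, 6, 10, 10]),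
   (257, [2, 3, 3, 2, 2, 3, 2, 3, 5, 4, 5, 6, 6, 9, 6, 6]),
   (6, [3, 3, 2, 2, 3, 3, 2, 5, 4, 4, 5, 4, 7, 7, 9, 10]),
   (267, [3, 2, 3, 3, 2, 2, 4, 5, 5, 4, 5, 5, 8, 9, 6, 9]),
   (222, [2, 3, 2, 5, 4, 5, 5, 4, 4, 4, 8, 9]),
   (138, [2, 3, 2, 3, 2, 3, 5, 5, 5, 4, 4, 4, 8, 9, 7, 6]),
   (105, [3, 3, 2, 3, 2, 3, 2, 3, 4, 4, 4, 4, 5, 4, 4, 6, 9, 6, 6]),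
   (218, [2, 2, 3, 3, 2, 3, 3, 4, 5, 5, 5, 4, 5, 5, 4, 7, 8, 6, 10]),
   (120, [3, 3, 2, 3, 2, 3, 4, 5, 5, 5, 5, 9, 7, 6, 6, 10]),
   (142, [2, 2, 2, 2, 3, 3, 5, 5, 5, 4, 5, 4, 8, 9, 6, 6, 10]),
   (194, [2, 2, 3, 4, 4, 5, 4, 6, 6, 9, 6, 6]),
   (15, [2, 3, 2, 2, 3, 2, 2, 4, 5, 5, 5, 5, 4, 5, 4, 6, 6, 10]),
   (115, [3, 2, 2, 3, 2, 3, 3, 2, 5, 4, 5, 5, 4, 4, 4, 7, 8, 6, 10, 10]),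
   (145, [3, 3, 2, 2, 2, 3, 2, 2, 6, 6, 10, 10]),
   (272, [3, 2, 2, 3, 3, 2, 4, 4, 5, 5, 5, 5, 4, 5, 4, 8, 8, 6, 10, 10]),
   (143, [2, 5, 4, 5, 4, 5, 5, 8, 9, 7, 6]),
   (212, [3, 2, 2, 2, 2, 2, 2, 2, 5, 5, 4, 4, 7, 9, 7, 6, 10]),
   (232, [2, 2, 3, 3, 3, 4, 4, 5, 4, 5, 6, 10]),
   (35, [3, 3, 2, 2, 2, 2, 2, 2, 3, 3, 5, 4, 9, 6, 9, 10, 10]),
   (195, [3, 3, 3, 3, 2, 2, 2, 5, 5, 4, 6, 9, 6, 6]),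
   (259, [2, 3, 2, 3, 3, 2, 4, 4, 4, 5, 4, 5, 6, 8, 6, 6]),
   (99, [3, 2, 2, 3, 3, 2, 4, 4, 4, 5, 4, 6, 8, 6, 6, 10, 10]),
   (239, [3, 2, 3, 3, 3, 2, 3, 2, 4, 5, 4, 5, 5, 4, 5, 5, 6, 8, 6, 6]),
   (252, [2, 2, 2, 4, 4, 5, 5, 5, 4, 7, 6]),
   (152, [3, 3, 2, 3, 2, 2, 5, 5, 5, 4, 5, 4, 8, 9, 6, 6, 10, 10]),
   (46, [3, 3, 3, 2, 2, 2, 4, 4, 5, 5, 5, 5, 6, 9, 6, 7]),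
   (126, [3, 3, 3, 3, 3, 4, 4, 5, 4, 5, 4, 8, 6]),
   (128, [2, 3, 3, 2, 2, 3, 2, 3, 5, 4, 4, 5, 4, 4, 4, 7, 9, 8, 7, 10]),
   (64, [2, 3, 3, 2, 3, 3, 2, 2, 5, 5, 4, 4, 6, 8, 9, 7, 10]),
   (178, [3, 2, 3, 2, 4, 4, 5, 5, 5, 5, 4, 5, 4, 6, 9, 6]),
   (159, [3, 3, 2, 2, 2, 3, 2, 2, 4, 5, 5, 4, 5, 7, 7, 8, 9]),
   (9, [3, 2, 3, 3, 2, 3, 3, 2, 2, 4, 5, 4, 8, 6, 6]),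
   (160, [2, 3, 2, 3, 2, 4, 5, 4, 5, 5, 4, 4, 4, 7, 6]),
   (102, [2, 3, 2, 2, 3, 3, 2, 2, 4, 4, 5, 4, 5, 7, 9, 6, 6, 10, 10]),
   (135, [2, 2, 2, 2, 2, 2, 3, 3, 5, 5, 4, 5, 5, 8, 9, 7, 6]),
   (127, [3, 3, 3, 2, 2, 5, 4, 4, 5, 4, 5, 4, 8, 8, 6, 10, 10]),
   (173, [2, 2, 3, 3, 4, 4, 5, 5, 5, 4, 7, 7, 9, 6, 10, 10]),
   (198, [3, 2, 2, 3, 3, 2, 2, 5, 4, 4, 7, 9, 6, 6]),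
   (161, [2, 2, 3, 2, 3, 3, 2, 5, 4, 4, 5, 4, 5, 5, 6, 6, 9, 6, 6, 10, 10]),
   (103, [3, 3, 2, 3, 3, 3, 3, 5, 5, 4, 5, 5, 4, 8, 7, 9]),
   (97, [3, 3, 3, 3, 2, 3, 3, 4, 4, 5, 4, 7, 7, 10, 10]),
   (229, [3, 3, 3, 2, 3, 5, 5, 5, 5, 7, 8, 9, 7]),
   (216, [2, 3, 2, 2, 3, 2, 2, 4, 4, 4, 4, 5, 4, 4, 8, 7, 7, 6, 10, 10]),
   (70, [2, 3, 2, 3, 3, 3, 2, 2, 2, 4, 5, 4, 6, 10]),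
   (263, [2, 2, 2, 2, 2, 3, 3, 4, 4, 5, 6, 6, 9, 10]),
   (154, [3, 3, 2, 4, 4, 5, 6, 6]),
   (210, [2, 3, 3, 3, 4, 5, 4, 5, 4, 5, 7, 7, 9, 6]),
   (228, [3, 2, 3, 3, 5, 5, 4, 5, 7, 7]),
   (30, [3, 2, 3, 2, 3, 3, 3, 3, 5, 5, 4, 5, 4, 5, 5, 7, 9, 7, 10, 10]),
   (82, [3, 3, 3, 2, 2, 2, 3, 5, 4, 5, 4, 4, 6, 9, 7]),
   (88, [3, 2, 2, 2, 3, 3, 2, 5, 5, 5, 4, 6, 9, 8, 6]),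
   (77, [2, 2, 2, 2, 3, 2, 3, 5, 5, 4, 4, 5, 4, 5, 6]),
   (248, [3, 3, 2, 3, 2, 4, 4, 5, 8, 9, 6, 9, 10, 10]),
   (197, [2, 3, 3, 2, 3, 3, 2, 2, 4, 5, 4, 4, 6, 9, 8, 6]),
   (111, [3, 2, 2, 3, 3, 4, 5, 4, 5, 4, 5, 9, 8, 7, 10]),
   (144, [2, 3, 2, 2, 3, 2, 3, 3, 2, 5, 5, 5, 5, 4, 5, 9, 10, 10]),
   (95, [2, 3, 2, 3, 2, 2, 5, 5, 5, 4, 5, 6, 9, 7, 8, 6, 10, 10]),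
   (117, [2, 2, 3, 2, 3, 4, 5, 4, 5, 4, 4, 9, 7, 6, 6, 10, 10]),
   (235, [2, 3, 3, 2, 3, 2, 4, 4, 4, 5, 5, 5, 7, 9, 6, 6, 10, 10]),
   (50, [2, 3, 3, 2, 3, 4, 4, 5, 4, 5, 5, 4, 6, 9, 8, 6, 6]),
   (196, [3, 2, 3, 2, 3, 3, 2, 4, 4, 4, 4, 5, 4, 4, 9, 7, 6]),
   (119, [3, 2, 3, 2, 3, 2, 2, 4, 5, 4, 5, 5, 8, 6]),
   (206, [5, 4, 5, 5, 8, 7]),
   (34, [3, 3, 2, 3, 3, 2, 2, 5, 4, 4, 5, 5, 4, 4, 4, 7, 7, 9]),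
   (214, [2, 3, 2, 4, 5, 5, 5, 9, 8, 6, 10]),
   (137, [2, 3, 3, 3, 4, 5, 4, 5, 7, 7, 9, 6, 10, 10])]

/-- Part of a closure certificate. -/
def gLev0c12 : List (ℕ × List ℕ) :=
  [(110, [3, 3, 3, 3, 3, 3, 5, 5, 4, 5, 5, 8, 7, 10]),
   (166, [3, 2, 2, 2, 3, 2, 3, 4, 5, 4, 5, 5, 5, 5, 6, 9, 8, 6, 10, 10]),
   (68, [2, 2, 4, 5, 5, 5, 4, 5, 5, 4, 6, 8, 9, 7, 10, 10]),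
   (207, [2, 3, 2, 3, 3, 2, 5, 4, 4, 5, 4, 5, 5, 9, 7, 10]),
   (49, [3, 2, 3, 3, 3, 3, 4, 4, 4, 5, 4, 7, 7]),
   (168, [2, 3, 3, 2, 3, 3, 3, 5, 4, 5, 4, 5, 7, 9, 10, 10]),
   (47, [3, 2, 3, 3, 2, 5, 5, 4, 8, 9, 6, 9, 10]),
   (93, [3, 3, 3, 3, 2, 3, 2, 3, 4, 4, 5, 5, 4, 4, 4, 8, 6, 6]),
   (182, [3, 2, 3, 3, 2, 2, 4, 5, 4, 5, 5, 4, 6, 6, 9, 6, 6, 10]),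
   (69, [2, 3, 2, 2, 3, 2, 2, 5, 4, 4, 4, 5, 4, 4, 6, 6]),
   (73, [2, 2, 3, 3, 2, 2, 4, 5, 5, 5, 4, 5, 6, 6, 10, 10]),
   (11, [2, 3, 3, 2, 4, 5, 4, 8, 7, 9, 7, 10]),
   (31, [3, 2, 3, 3, 3, 3, 3, 4, 4, 5, 4, 5, 5, 7]),
   (125, [3, 2, 2, 2, 2, 5, 5, 5, 8, 7, 7, 6, 10]),
   (165, [2, 3, 2, 2, 3, 2, 3, 3, 2, 5, 4, 4, 5, 4, 4, 4, 6, 9]),
   (163, [2, 3, 3, 2, 3, 5, 4, 5, 5, 4, 4, 4, 9, 8, 6]),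
   (271, [3, 3, 3, 2, 2, 2, 5, 5, 5, 7, 8, 6, 10]),
   (133, [2, 2, 2, 2, 3, 3, 3, 2, 3, 2, 4, 5, 5, 4, 4, 4, 6, 6, 9, 6, 6]),
   (130, [2, 5, 4, 4, 5, 4, 5, 4, 7, 9, 6, 6, 10, 10]),
   (90, [3, 3, 2, 2, 3, 3, 2, 5, 4, 4, 4, 5, 4, 7, 9, 7, 6, 10, 10]),
   (253, [2, 3, 2, 2, 2, 3, 5, 4, 4, 4, 9, 7, 8, 6, 10, 10]),
   (108, [2, 3, 3, 2, 3, 3, 5, 5, 5, 5, 4, 5, 4, 6, 9, 6, 7, 10]),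
   (55, [2, 3, 3, 2, 2, 2, 5, 4, 4, 5, 4, 4, 7, 7, 9, 10]),
   (199, [3, 3, 2, 3, 5, 5, 5, 5, 7, 6]),
   (200, [2, 2, 2, 3, 3, 5, 4, 4, 5, 4, 5, 5, 7, 9, 7, 6, 10]),
   (176, [3, 2, 2, 3, 3, 2, 5, 9, 7, 7, 6, 10, 10]),
   (262, [3, 3, 2, 2, 2, 3, 5, 4, 4, 5, 5, 5, 7, 9, 8, 6, 10]),
   (52, [3, 3, 3, 2, 2, 2, 4, 4, 5, 5, 5, 5, 4, 5, 4, 6, 9, 7, 8, 6, 10]),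
   (205, [2, 3, 2, 3, 3, 3, 2, 2, 2, 4, 4, 5, 4, 6, 9, 7, 8, 6, 10]),
   (185, [3, 2, 3, 2, 3, 4, 5, 4, 5, 4, 8, 8, 6, 10]),
   (56, [2, 3, 3, 2, 2, 2, 4, 5, 4, 5, 5, 9, 6, 9]),
   (219, [2, 2, 2, 2, 2, 2, 2, 5, 4, 4, 5, 4, 8, 7, 9, 7]),
   (41, [3, 3, 3, 3, 2, 3, 4, 5, 5, 5, 4, 9, 8, 6, 6, 10]),
   (169, [2, 3, 3, 2, 3, 4, 5, 5, 5, 4, 5, 5, 4, 6, 9, 6, 10, 10]),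
   (71, [2, 2, 2, 2, 2, 2, 2, 5, 4, 5, 4, 5, 5, 6, 8, 9, 7]),
   (189, [2, 2, 2, 3, 2, 3, 3, 2, 5, 5, 5, 4, 5, 7, 9]),
   (8, [2, 3, 3, 2, 2, 4, 4, 5, 5, 5, 4, 8, 6, 10]),
   (256, [2, 3, 3, 2, 3, 3, 5, 4, 4, 4, 5, 4, 4, 6, 9, 6, 6, 10]),
   (230, [3, 2, 2, 3, 2, 3, 4, 4, 4, 5, 5, 5, 7, 7, 9, 10]),
   (75, [2, 3, 2, 2, 3, 2, 2, 4, 5, 4, 5, 4, 6, 9, 6]),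
   (22, [3, 2, 2, 2, 3, 2, 2, 2, 5, 4, 5, 5, 4, 4, 4, 7, 10]),
   (164, [2, 2, 3, 3, 2, 3, 2, 4, 4, 5, 4, 5, 7, 7, 8, 9, 10]),
   (223, [2, 3, 2, 3, 3, 3, 2, 2, 2, 5, 5, 4, 4, 4, 7, 8, 9, 7, 10]),
   (92, [2, 2, 3, 2, 2, 2, 5, 4, 5, 5, 4, 5, 5, 9, 8, 7, 9, 10, 10]),
   (209, [3, 3, 3, 2, 3, 3, 4, 4, 4, 5, 4, 7, 9, 6, 6]),
   (62, [2, 2, 2, 2, 2, 2, 5, 4, 4, 5, 4, 9, 6, 10]),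
   (149, [2, 2, 3, 2, 3, 3, 3, 3, 5, 4, 5, 5, 9, 7, 6]),
   (153, [3, 2, 3, 3, 4, 5, 5, 4, 5, 5, 8, 6, 6, 10]),
   (94, [2, 4, 5, 4, 5, 5, 8, 9, 7, 10, 10]),
   (224, [3, 2, 3, 2, 5, 4, 5, 5, 9, 6, 9]),
   (249, [3, 2, 3, 3, 3, 4, 5, 5, 5, 5, 4, 5, 4, 9, 7, 10]),
   (225, [2, 3, 3, 3, 2, 3, 2, 5, 4, 5, 4, 4, 4, 8, 7, 9, 7, 10]),
   (266, [2, 2, 3, 5, 5, 4, 5, 6, 6]),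
   (208, [3, 3, 3, 2, 3, 4, 5, 5, 6, 10]),
   (129, [3, 3, 2, 2, 5, 4, 5, 4, 4, 4, 7, 9, 8, 7, 10]),
   (61, [3, 5, 5, 5, 4, 5, 7, 8, 9, 7]),
   (148, [3, 3, 2, 2, 3, 3, 2, 4, 4, 5, 4, 5, 4, 7, 9, 10]),
   (104, [2, 2, 3, 3, 3, 2, 3, 2, 4, 4, 5, 5, 5, 5, 4, 5, 4, 7, 8, 6, 10]),
   (170, [2, 2, 2, 2, 3, 4, 4, 5, 5, 5, 4, 9, 7, 6, 6, 10]),
   (180, [3, 2, 3, 3, 3, 5, 5, 4, 5, 4, 5, 5, 7, 9, 7, 6]),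
   (65, [2, 2, 3, 5, 4, 4, 5, 4, 5, 4, 9, 7, 9]),
   (74, [3, 2, 3, 3, 2, 3, 3, 2, 2, 5, 5, 5, 5, 9, 7, 8, 6]),
   (146, [3, 3, 3, 3, 2, 2, 2, 5, 4, 4, 5, 4, 5, 5, 6, 9, 7]),
   (268, [2, 3, 2, 5, 5, 4, 5, 5, 4, 4, 4, 8, 9, 7]),
   (4, [2, 3, 3, 2, 2, 3, 2, 3, 4, 5, 5, 4, 8, 9]),
   (54, [2, 2, 2, 3, 3, 2, 2, 4, 4, 5, 4, 5, 5, 8, 9]),
   (122, [2, 2, 2, 3, 3, 2, 2, 5, 5, 4, 5, 4, 9, 7, 6, 6, 10]),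
   (39, [3, 2, 4, 5, 4, 5, 4, 8, 8, 6, 10]),
   (188, [3, 3, 2, 3, 3, 3, 3, 5, 5, 4, 4, 9, 6, 6, 10]),
   (147, [2, 3, 3, 2, 3, 2, 3, 2, 3, 4, 5, 4, 5, 5, 5, 4, 7, 9, 8, 7]),
   (157, [2, 2, 2, 5, 4, 5, 4, 4, 7, 7, 9]),
   (162, [2, 2, 2, 2, 2, 2, 3, 4, 5, 4, 5, 4, 5, 6, 7, 10]),
   (203, [2, 2, 2, 2, 3, 3, 4, 4, 5, 5, 5, 5, 6, 7]),
   (40, [2, 3, 2, 2, 2, 2, 2, 2, 2, 5, 4, 5, 4, 4, 10, 10]),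
   (204, [4, 4, 4, 5, 4, 4, 9, 6, 10]),
   (171, [3, 2, 3, 2, 5, 5, 4, 5, 10]),
   (177, [3, 5, 4, 4, 4, 5, 4, 4, 7, 7, 6]),
   (86, [3, 3, 2, 2, 2, 2, 3, 4, 4, 5, 5, 5, 4, 7, 8, 6, 10, 10]),
   (193, [2, 3, 3, 3, 3, 4, 5, 5, 5, 4, 5, 6, 6, 9]),
   (158, [3, 2, 2, 3, 3, 2, 5, 5, 5, 4, 5, 4, 4, 4, 7, 6, 6]),
   (245, [2, 3, 3, 3, 2, 3, 2, 4, 5, 5, 4, 4, 4, 7, 9, 10]),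
   (254, [2, 2, 2, 3, 2, 2, 4, 5, 5, 4, 7, 7, 9, 6, 10]),
   (269, [3, 3, 5, 5, 4, 5, 4, 7, 9, 6, 6, 10]),
   (101, [2, 2, 2, 3, 2, 2, 4, 4, 4, 5, 4, 5, 7, 8, 9]),
   (215, [3, 2, 3, 2, 3, 2, 2, 4, 5, 4, 5, 5, 4, 5, 5, 8, 6, 10, 10]),
   (231, [3, 2, 3, 3, 2, 4, 5, 4, 4, 5, 4, 4, 7, 7, 9, 10]),
   (59, [2, 3, 3, 3, 2, 2, 2, 5, 5, 5, 4, 5, 4, 4, 4, 9, 8, 6, 10, 10]),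
   (250, [2, 2, 2, 2, 2, 3, 3, 4, 4, 5, 4, 5, 6, 8, 9, 7, 10]),
   (109, [3, 2, 2, 2, 2, 2, 3, 3, 4, 5, 5, 5, 9, 6, 6, 10, 10]),
   (36, [3, 2, 3, 2, 2, 2, 4, 4, 4, 5, 4, 7, 9, 8, 7]),
   (25, [2, 2, 2, 2, 3, 3, 5, 5, 4, 5, 9, 8, 7]),
   (202, [2, 2, 2, 3, 3, 3, 2, 3, 2, 4, 5, 4, 5, 5, 5, 5, 7, 9]),
   (100, [3, 3, 2, 5, 5, 5, 5, 4, 5, 4, 6, 7]),
   (12, [3, 2, 3, 2, 3, 2, 2, 4, 5, 5, 8, 9, 6, 9]),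
   (131, [3, 2, 2, 3, 3, 4, 4, 5, 4, 5, 5, 8, 9, 6, 6, 10, 10]),
   (234, [3, 2, 3, 3, 5, 4, 4, 5, 4, 5, 4, 8, 6, 10, 10]),
   (72, [2, 3, 3, 2, 3, 2, 4, 5, 5, 5, 4, 5, 5, 4, 7, 9, 8, 6, 10]),
   (181, [3, 3, 2, 3, 3, 2, 2, 4, 4, 4, 5, 4, 4, 8, 6, 6, 10, 10]),
   (38, [2, 3, 3, 2, 3, 5, 4, 5, 5, 4, 7, 9, 8, 6, 10, 10]),
   (264, [2, 2, 3, 2, 3, 4, 5, 4, 5, 5, 5, 5, 8, 9, 7, 6, 10, 10]),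
   (26, [2, 3, 2, 3, 2, 2, 5, 4, 4, 5, 5, 4, 4, 4, 6, 9, 8, 6, 6, 10]),
   (255, [3, 2, 2, 2, 3, 2, 2, 2, 4, 4, 5, 5, 5, 7, 9]),
   (2, [3, 2, 2, 2, 2, 2, 2, 3, 3, 4, 4, 5, 4, 9, 6, 7, 10, 10]),
   (227, [3, 2, 3, 2, 3, 2, 2, 5, 4, 5, 4, 5, 5, 7, 9, 7, 6, 10]),
   (172, [2, 3, 3, 3, 2, 3, 2, 4, 4, 5, 4, 5, 5, 7, 6, 6]),
   (27, [2, 2, 2, 3, 3, 5, 4, 4, 5, 4, 4, 8, 6, 6, 10]),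
   (191, [3, 3, 3, 2, 2, 4, 5, 5, 5, 4, 5, 4, 6, 6, 9, 10]),
   (43, [2, 2, 3, 3, 2, 3, 2, 4, 5, 4, 5, 9, 7, 6, 6]),
   (87, [3, 2, 2, 2, 3, 3, 2, 4, 4, 4, 5, 4, 5, 9, 7, 9, 10]),
   (174, [2, 2, 2, 3, 3, 3, 2, 3, 2, 4, 4, 4, 5, 4, 5, 6, 9, 8, 6, 10, 10]),
   (0, [10]),
   (206, [2, 3, 2, 4, 5, 4, 5, 8, 7, 9, 10, 10]),
   (255, [2, 2, 2, 2, 2, 3, 2, 3, 5, 4, 5, 4, 4, 7, 9, 6, 10, 10]),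
   (184, [3, 2, 3, 2, 2, 2, 4, 5, 4, 4, 6, 9, 6, 6]),
   (142, [2, 2, 2, 2, 3, 3, 5, 4, 4, 5, 5, 4, 4, 4, 9, 7, 6, 6]),
   (181, [3, 2, 3, 3, 3, 2, 3, 2, 5, 4, 5, 4, 8, 9]),
   (2, [3, 3, 2, 2, 2, 2, 2, 2, 3, 3, 4, 5, 4, 5, 5, 4, 6, 9, 10, 10]),
   (62, [2, 3, 2, 3, 4, 4, 5, 4, 5, 4, 9, 7, 8, 6, 10]),
   (95, [2, 3, 3, 2, 2, 2, 5, 5, 4, 5, 5, 5, 4, 9, 8, 6, 10]),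
   (69, [3, 2, 2, 2, 3, 2, 2, 4, 5, 6, 8, 6, 6, 10]),
   (248, [3, 3, 2, 2, 2, 3, 5, 7, 8, 9, 7]),
   (253, [3, 2, 3, 2, 3, 2, 3, 4, 5, 7, 7, 6, 10, 10]),
   (269, [3, 2, 2, 2, 2, 4, 4, 5, 4, 5, 4, 9, 10]),
   (231, [2, 3, 3, 2, 3, 2, 4, 5, 4, 4, 5, 4, 4, 9, 7, 9, 6, 10, 10]),
   (111, [2, 3, 2, 3, 3, 2, 5, 4, 4, 4, 5, 4, 8, 7, 10]),
   (72, [2, 3, 2, 2, 2, 3, 4, 4, 9, 6, 9]),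
   (150, [2, 2, 2, 3, 2, 2, 5, 5, 4, 4, 4, 7, 9, 8, 7, 10, 10]),
   (170, [2, 2, 2, 2, 3, 3, 3, 2, 3, 2, 4, 4, 5, 4, 6, 6, 9, 6, 6, 10]),
   (247, [3, 3, 3, 2, 3, 2, 4, 5, 4, 5, 5, 4, 5, 5, 6, 9, 6, 10, 10]),
   (261, [2, 3, 2, 2, 2, 4, 4, 4, 5, 4, 8, 9, 7, 6, 10]),
   (157, [2, 3, 3, 3, 2, 2, 2, 5, 4, 5, 4, 4, 8, 6, 6, 9]),
   (262, [2, 2, 2, 2, 2, 2, 2, 4, 5, 5, 4, 9, 7, 7, 6, 10, 10]),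
   (129, [4, 5, 5, 5, 4, 5, 5, 4, 9, 8, 6, 10]),
   (189, [3, 3, 3, 3, 2, 3, 2, 5, 4, 5, 5, 5, 4, 8, 6, 6, 9]),
   (176, [2, 3, 3, 2, 2, 3, 3, 2, 4, 8, 7, 9, 7, 10, 10]),
   (106, [3, 3, 2, 3, 3, 2, 2, 4, 5, 5, 7, 8, 9, 10]),
   (149, [2, 3, 3, 2, 3, 3, 3, 4, 5, 4, 5, 5, 4, 7, 7, 8, 9, 10]),
   (28, [3, 3, 3, 2, 3, 2, 5, 4, 5, 9, 10]),
   (114, [3, 2, 2, 2, 2, 2, 3, 3, 5, 4, 4, 5, 5, 5, 8, 9, 6, 6, 10]),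
   (259, [3, 3, 3, 3, 3, 5, 4, 6, 9, 8, 6]),
   (165, [2, 3, 2, 2, 2, 2, 2, 2, 2, 4, 5, 5, 5, 6, 6]),
   (80, [3, 2, 3, 3, 3, 3, 3, 5, 4, 5, 4, 5, 7, 9, 7]),
   (121, [3, 2, 2, 4, 4, 5, 4, 5, 5, 4, 9, 10]),
   (214, [3, 2, 3, 3, 3, 2, 2, 2, 5, 4, 5, 4, 4, 4, 8, 6, 9, 6]),
   (57, [2, 2, 2, 2, 2, 3, 3, 4, 4, 4, 5, 4, 4, 4, 6, 9, 7, 8, 6]),
   (154, [3, 2, 3, 2, 4, 5, 5, 4, 8, 7, 7, 6, 10, 10]),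
   (36, [2, 3, 3, 2, 3, 3, 3, 4, 5, 4, 4, 5, 4, 4, 9, 6, 9]),
   (140, [2, 2, 2, 3, 3, 2, 2, 5, 4, 8, 9, 10, 10]),
   (126, [2, 3, 3, 2, 4, 4, 5, 5, 5, 8, 7, 9, 7, 10, 10]),
   (24, [2, 3, 2, 3, 3, 3, 3, 3, 5, 5, 5, 4, 5, 4, 4, 4, 8, 9, 7, 10, 10]),
   (219, [3, 2, 2, 2, 2, 2, 3, 3, 5, 5, 5, 4, 5, 5, 4, 6, 6, 9, 6, 6, 10, 10]),
   (134, [3, 3, 2, 3, 2, 3, 2, 3, 4, 4, 4, 6, 6, 9]),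
   (101, [3, 2, 3, 3, 3, 2, 3, 2, 4, 5, 5, 4, 4, 4, 9, 7, 9, 6, 10]),
   (30, [2, 2, 2, 3, 3, 3, 2, 3, 2, 5, 5, 4, 5, 4, 5, 5, 7, 8, 6]),
   (54, [2, 2, 2, 3, 2, 3, 3, 2, 4, 9, 10]),
   (55, [2, 2, 2, 3, 2, 2, 5, 5, 5, 4, 4, 4, 6, 9, 7, 8, 6]),
   (66, [3, 2, 3, 3, 2, 5, 5, 4, 5, 6, 9, 10, 10]),
   (138, [2, 3, 3, 2, 3, 2, 3, 2, 3, 9, 8, 6, 6]),
   (19, [3, 3, 3, 3, 2, 3, 3, 5, 4, 5, 4, 5, 4, 5, 6, 9, 10]),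
   (200, [3, 3, 3, 2, 2, 2, 3, 5, 5, 5, 4, 4, 4, 8, 7]),
   (161, [3, 3, 3, 2, 2, 2, 5, 4, 4, 4, 5, 4, 4, 7, 9, 8, 6, 10, 10]),
   (273, [2, 3, 3, 2, 4, 5, 5, 5, 4, 5, 5, 4, 8, 6, 9, 6, 10, 10]),
   (49, [3, 3, 2, 2, 3, 2, 2, 4, 4, 5, 4, 5, 5, 9]),
   (174, [3, 2, 2, 2, 3, 3, 2, 2, 4, 4, 4, 5, 4, 4, 4, 7, 7, 9, 6, 10, 10]),
   (112, [2, 3, 3, 3, 3, 3, 4, 5, 5, 5, 4, 5, 6]),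
   (198, [2, 2, 2, 2, 2, 3, 3, 5, 4, 4, 5, 4, 5, 4, 9, 10, 10]),
   (197, [2, 2, 3, 3, 2, 3, 2, 4, 4, 5, 4, 4, 4, 6, 8, 6, 6]),
   (124, [3, 3, 2, 3, 4, 5, 4, 5, 5, 5, 4, 6, 8, 6, 6]),
   (68, [3, 3, 3, 2, 3, 2, 3, 5, 7, 8, 9, 10, 10]),
   (146, [3, 2, 3, 3, 3, 4, 5, 5, 7, 7, 8, 9]),
   (186, [3, 2, 3, 3, 3, 3, 4, 4, 5, 5, 4, 4, 4, 6, 9, 6, 7]),
   (238, [2, 2, 2, 2, 2, 2, 3, 3, 4, 4, 4, 5, 5, 5, 7, 9, 8, 6, 10, 10]),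
   (230, [2, 2, 2, 3, 3, 2, 2, 5, 5, 5, 4, 5, 4, 4, 4, 8, 6]),
   (163, [2, 3, 2, 2, 3, 2, 2, 4, 4, 5, 4, 5, 5, 6, 7]),
   (103, [3, 3, 2, 2, 2, 2, 2, 2, 2, 4, 4, 4, 5, 4, 4, 6, 6, 9, 10, 10]),
   (183, [2, 2, 2, 3, 2, 3, 4, 4, 4, 4, 5, 4, 4, 7, 9, 7, 6, 10]),
   (77, [2, 2, 2, 2, 2, 4, 5, 5, 5, 8, 6, 6, 9, 10]),
   (13, [3, 2, 2, 2, 2, 2, 2, 3, 3, 4, 4, 4, 5, 4, 5, 6, 9, 8, 6]),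
   (167, [3, 3, 3, 3, 4, 4, 5, 4, 4, 7, 7, 9, 10, 10]),
   (254, [2, 3, 3, 2, 3, 2, 4, 5, 5, 5, 7, 9, 7]),
   (70, [3, 3, 2, 4, 5, 5, 4, 5, 5, 6, 7, 10, 10]),
   (97, [3, 2, 3, 3, 3, 5, 5, 5, 4, 4, 4, 6, 8, 6, 6]),
   (179, [2, 3, 3, 2, 2, 4, 4, 5, 4, 5, 5, 4, 9, 6, 7, 10]),
   (73, [3, 3, 3, 2, 3, 4, 4, 5, 7, 9, 6, 6]),
   (151, [2, 3, 2, 2, 2, 3, 5, 4, 5, 5, 5, 4, 6, 9, 6]),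
   (239, [3, 3, 2, 3, 2, 3, 5, 5, 5, 9, 7, 6, 6]),
   (16, [3, 3, 3, 2, 2, 2, 5, 4, 5, 5, 4, 4, 4, 9, 8, 6, 10]),
   (46, [2, 3, 3, 2, 3, 4, 4, 5, 5, 5, 5, 9, 7, 8, 6, 10]),
   (78, [3, 3, 3, 5, 5, 5, 4, 5, 4, 6, 7, 10, 10]),
   (79, [3, 2, 2, 2, 3, 2, 2, 2, 4, 4, 6, 9, 7]),
   (107, [3, 3, 2, 3, 3, 3, 4, 4, 4, 5, 5, 5, 4, 8, 9, 7, 6, 10]),
   (65, [2, 2, 2, 2, 3, 3, 3, 2, 3, 2, 5, 4, 5, 4, 4, 6, 9, 8, 6, 6, 10]),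
   (221, [2, 2, 3, 3, 5, 4, 4, 4, 7, 7, 9, 10, 10]),
   (71, [2, 3, 2, 3, 3, 3, 2, 2, 2, 4, 4, 5, 4, 5, 5, 4, 8, 9, 6, 6]),
   (37, [3, 3, 3, 3, 2, 2, 2, 4, 5, 4, 5, 5, 5, 5, 6, 9, 6, 10, 10]),
   (94, [3, 3, 2, 2, 2, 2, 3, 5, 5, 4, 5, 4, 5, 5, 6, 6, 9, 10, 10]),
   (252, [3, 3, 2, 3, 3, 3, 4, 4, 4, 4, 5, 4, 5, 6, 9, 6, 6]),
   (86, [2, 2, 2, 2, 2, 2, 2, 4, 4, 5, 4, 7, 6, 10]),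
   (108, [2, 3, 2, 2, 3, 2, 3, 3, 2, 4, 5, 4, 5, 5, 5, 5, 8, 9, 6, 9, 10, 10]),
   (26, [2, 2, 2, 2, 2, 3, 2, 3, 5, 4, 5, 4, 5, 4, 5, 6, 9, 7, 10, 10]),
   (268, [3, 3, 2, 3, 3, 3, 4, 4, 4, 5, 4, 4, 4, 8, 9, 6, 6, 10, 10]),
   (196, [2, 2, 2, 2, 2, 3, 5, 4, 5, 5, 5, 4, 6, 8, 6, 6]),
   (41, [2, 3, 2, 2, 3, 2, 3, 3, 2, 5, 4, 4, 5, 4, 5, 7, 9, 6, 6, 10, 10]),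
   (169, [2, 3, 2, 2, 3, 2, 2, 4, 5, 5, 4, 6, 8, 9, 7]),
   (162, [3, 3, 2, 3, 3, 3, 5, 4, 5, 5, 5, 4, 9, 8, 7]),
   (155, [3, 3, 2, 3, 3, 3, 5, 4, 5, 4, 8, 9, 6, 9]),
   (274, [3, 3, 2, 3, 3, 3, 3, 4, 4, 4, 4, 5, 4, 5, 8, 6, 10]),
   (83, [3, 2, 3, 2, 3, 5, 5, 5, 4, 4, 4, 7, 9, 8, 6, 10, 10]),
   (234, [2, 2, 2, 2, 2, 3, 3, 5, 5, 4, 4, 4, 8, 6, 9, 6]),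
   (241, [3, 2, 3, 2, 2, 4, 4, 5, 5, 4, 4, 4, 7, 9, 8, 7]),
   (244, [2, 2, 3, 2, 2, 5, 4, 4, 5, 5, 5, 8, 7, 9, 7, 10]),
   (188, [2, 2, 3, 2, 2, 2, 4, 5, 9, 6, 6, 10, 10]),
   (171, [2, 3, 4, 5, 5, 5, 4, 5, 4, 9, 8, 6, 10]),
   (132, [2, 2, 2, 2, 3, 2, 3, 4, 4, 5, 4, 7, 9, 10, 10]),
   (152, [3, 2, 3, 3, 2, 2, 4, 5, 5, 5, 5, 6, 9]),
   (90, [2, 3, 3, 2, 2, 3, 2, 3, 5, 5, 4, 4, 4, 7, 9, 8, 6]),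
   (233, [4, 5, 4, 5, 4, 6, 9, 7, 8, 6]),
   (31, [2, 3, 2, 2, 3, 2, 3, 3, 2, 4, 4, 5, 7, 9, 6, 10, 10]),
   (211, [2, 2, 2, 2, 2, 3, 2, 3, 5, 4, 5, 5, 4, 5, 5, 7, 8, 9, 10]),
   (11, [2, 3, 2, 3, 2, 3, 4, 4, 4, 5, 4, 5, 9, 7, 6, 10, 10])]

/-- Part of a closure certificate. -/
def gLev0c13 : List (ℕ × List ℕ) :=
  [(260, [2, 3, 3, 2, 3, 3, 5, 5, 4, 5, 5, 7, 6, 10, 10]),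
   (185, [3, 3, 2, 3, 3, 5, 5, 5, 4, 5, 4, 4, 4, 7, 10]),
   (44, [2, 3, 3, 3, 2, 2, 2, 3, 5, 4, 4, 5, 4, 5, 4, 7, 9, 7, 6, 10]),
   (110, [2, 3, 3, 2, 2, 2, 5, 5, 5, 4, 7, 6, 10]),
   (27, [2, 2, 3, 3, 3, 4, 5, 4, 5, 4, 4, 7, 7, 10, 10]),
   (190, [3, 2, 2, 3, 3, 2, 5, 5, 4, 4, 6, 9, 6, 10, 10]),
   (116, [2, 2, 3, 3, 3, 3, 3, 5, 4, 5, 5, 4, 6, 9, 6, 7, 10]),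
   (18, [3, 2, 2, 2, 2, 2, 3, 3, 5, 4, 4, 5, 4, 5, 5, 8, 8, 6]),
   (102, [2, 5, 5, 4, 5, 4, 8, 8, 6]),
   (145, [3, 2, 2, 2, 3, 3, 2, 4, 4, 5, 4, 4, 6, 8, 6, 6, 10]),
   (20, [3, 2, 2, 2, 4, 5, 5, 5, 4, 9, 7]),
   (242, [2, 3, 3, 3, 2, 3, 3, 5, 5, 4, 4, 9, 7, 9, 10, 10]),
   (122, [2, 3, 2, 3, 2, 3, 4, 4, 5, 4, 7, 10]),
   (10, [2, 3, 2, 2, 3, 2, 2, 5, 5, 5, 7, 7, 9, 6]),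
   (34, [2, 3, 5, 4, 5, 4, 5, 8, 9, 10, 10]),
   (270, [2, 2, 2, 2, 3, 4, 4, 4, 5, 5, 5, 7, 9, 6, 6]),
   (168, [2, 2, 3, 3, 2, 3, 3, 4, 4, 5, 5, 5, 4, 7, 8, 9, 10]),
   (195, [2, 3, 3, 2, 3, 2, 4, 5, 4, 5, 5, 5, 4, 7, 7, 8, 9, 10, 10]),
   (143, [2, 3, 2, 3, 3, 3, 3, 3, 7, 6]),
   (220, [3, 3, 2, 3, 4, 5, 5, 5, 4, 5, 9, 8, 6, 10]),
   (53, [2, 2, 5, 5, 5, 9, 7, 9, 6, 10]),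
   (203, [2, 2, 3, 2, 3, 3, 3, 3, 5, 4, 5, 4, 5, 5, 6, 9, 10]),
   (64, [3, 2, 3, 2, 3, 2, 2, 5, 4, 4, 5, 4, 7]),
   (74, [2, 3, 3, 2, 3, 3, 2, 2, 4, 4, 4, 5, 4, 8, 7]),
   (92, [3, 3, 3, 3, 2, 2, 2, 4, 4, 5, 9, 6, 6]),
   (266, [2, 3, 3, 2, 3, 3, 3, 5, 4, 5, 5, 5, 5, 7, 7, 10, 10]),
   (12, [2, 2, 3, 2, 3, 3, 3, 3, 3, 5, 5, 4, 5, 4, 4, 4, 9]),
   (256, [3, 3, 3, 2, 3, 2, 3, 4, 5, 4, 9, 7, 9, 6, 10]),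
   (199, [2, 2, 2, 3, 5, 4, 4, 4, 5, 4, 4, 7, 6, 6, 10]),
   (218, [2, 2, 2, 2, 2, 4, 5, 5, 4, 5, 5, 6]),
   (84, [2, 3, 3, 4, 5, 5, 4, 5, 5, 6, 9, 6, 6, 10, 10]),
   (246, [3, 3, 2, 3, 2, 2, 5, 4, 4, 5, 4, 4, 4, 7, 6, 6, 10]),
   (265, [2, 3, 3, 3, 2, 2, 2, 4, 5, 5, 5, 5, 9, 7, 8, 6, 10, 10]),
   (207, [3, 3, 2, 3, 2, 4, 4, 4, 4, 5, 4, 4, 7, 9, 7, 6]),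
   (93, [3, 3, 3, 3, 3, 3, 4, 5, 5, 5, 5, 7, 7, 8, 9, 10]),
   (210, [3, 2, 2, 3, 3, 2, 5, 5, 5, 5, 4, 5, 4, 9, 7, 6, 6]),
   (245, [3, 3, 3, 2, 3, 2, 4, 4, 5, 4, 7, 8, 6]),
   (98, [2, 2, 2, 2, 3, 2, 2, 5, 4, 4, 5, 4, 5, 5, 9, 7, 9]),
   (61, [3, 3, 2, 2, 2, 2, 2, 2, 2, 5, 5, 5, 9, 8, 7, 9, 10]),
   (89, [2, 2, 2, 2, 2, 2, 2, 5, 5, 5, 4, 5, 4, 6, 9, 6, 6, 10]),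
   (76, [3, 3, 3, 3, 2, 3, 2, 3, 5, 5, 5, 4, 5, 4, 4, 4, 8, 9, 7, 10, 10]),
   (133, [2, 3, 3, 3, 2, 2, 2, 3, 5, 4, 4, 5, 4, 7, 9, 7, 10]),
   (226, [2, 2, 3, 3, 2, 5, 4, 4, 4, 7, 7, 9, 10]),
   (232, [2, 2, 3, 3, 2, 5, 4, 4, 5, 4, 4, 9, 7, 6]),
   (187, [2, 3, 3, 2, 3, 3, 2, 2, 5, 4, 4, 5, 4, 5, 4, 8, 6, 6, 9, 10]),
   (8, [3, 3, 2, 3, 2, 5, 4, 4, 5, 4, 5, 5, 8, 7, 9, 10, 10]),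
   (258, [3, 3, 3, 2, 2, 2, 5, 5, 5, 4, 5, 6, 10, 10]),
   (120, [2, 3, 5, 5, 5, 5, 4, 5, 4, 7, 9, 7, 6, 10, 10]),
   (137, [2, 2, 3, 3, 2, 2, 5, 5, 4, 4, 8, 6]),
   (91, [2, 3, 2, 2, 2, 4, 4, 4, 4, 5, 4, 5, 7, 9, 6, 6, 10]),
   (29, [2, 2, 2, 2, 2, 2, 2, 5, 5, 4, 5, 4, 6, 9, 7, 8, 6, 10, 10]),
   (257, [2, 3, 4, 5, 5, 4, 4, 4, 7, 9, 7, 6]),
   (85, [3, 3, 2, 3, 3, 3, 3, 5, 4, 4, 5, 4, 7, 6, 6, 10, 10]),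
   (271, [2, 2, 2, 2, 2, 2, 3, 4, 4, 5, 4, 7, 9, 10]),
   (100, [2, 2, 3, 3, 4, 4, 5, 5, 5, 5, 7, 7, 10, 10]),
   (43, [2, 3, 2, 3, 2, 3, 5, 5, 4, 4, 4, 6, 9, 6, 6, 10]),
   (166, [3, 3, 3, 2, 3, 4, 5, 5, 4, 5, 5, 4, 9, 7, 8, 6, 10, 10]),
   (58, [2, 2, 3, 3, 3, 3, 3, 4, 5, 5, 4, 5, 5, 6, 9, 6, 6, 10, 10]),
   (38, [3, 2, 2, 2, 2, 3, 5, 5, 4, 5, 4, 4, 4, 7, 8, 6, 10]),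
   (144, [3, 2, 2, 2, 2, 2, 2, 2, 4, 4, 5, 5, 5, 4, 7, 6, 6]),
   (223, [3, 2, 3, 3, 2, 2, 4, 5, 5, 5, 5, 6, 10, 10]),
   (118, [3, 3, 3, 2, 3, 2, 4, 5, 4, 5, 5, 4, 6, 9, 6, 6, 10]),
   (23, [3, 2, 2, 2, 2, 3, 5, 5, 5, 8, 6, 10]),
   (127, [3, 2, 3, 3, 3, 2, 3, 2, 4, 5, 4, 5, 5, 5, 4, 6, 9, 7, 10]),
   (130, [2, 3, 3, 2, 4, 4, 5, 4, 5, 4, 5, 9, 6, 9, 10]),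
   (249, [3, 2, 3, 3, 3, 3, 3, 5, 5, 5, 5, 4, 5, 4, 9, 10]),
   (39, [2, 3, 2, 2, 3, 2, 2, 5, 5, 5, 5, 4, 5, 4, 6, 9, 10]),
   (235, [3, 3, 2, 3, 3, 3, 5, 4, 4, 5, 5, 4, 4, 4, 9, 6, 6, 10]),
   (125, [2, 2, 3, 3, 3, 3, 3, 4, 5, 6, 9, 8, 6, 10, 10]),
   (15, [2, 2, 2, 3, 5, 5, 4, 5, 5, 6, 9, 6, 6, 10, 10]),
   (21, [2, 3, 3, 3, 3, 2, 3, 5, 5, 4, 4, 5, 4, 5, 6, 8, 6, 6, 10, 10]),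
   (201, [3, 2, 3, 3, 3, 5, 4, 5, 4, 5, 5, 6, 9, 6, 10, 10]),
   (240, [3, 2, 3, 2, 2, 4, 4, 5, 4, 5, 4, 5, 8, 6, 6, 9, 10]),
   (81, [3, 2, 2, 2, 2, 5, 4, 5, 5, 5, 5, 9, 7, 6, 6]),
   (227, [3, 3, 2, 3, 2, 3, 2, 3, 4, 4, 5, 4, 5, 5, 4, 6, 9, 6, 6]),
   (14, [2, 2, 2, 3, 2, 3, 3, 2, 4, 5, 4, 5, 4, 5, 7, 8, 9, 10, 10]),
   (229, [3, 3, 2, 3, 3, 2, 2, 5, 5, 4, 5, 5, 4, 7, 8, 9, 10, 10]),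
   (35, [3, 3, 2, 3, 2, 3, 4, 5, 5, 5, 5, 4, 5, 4, 8, 6, 9, 6, 10, 10]),
   (42, [2, 2, 2, 2, 2, 3, 3, 5, 5, 5, 5, 4, 5, 4, 9, 8, 6]),
   (172, [2, 2, 2, 2, 2, 3, 3, 5, 4, 5, 5, 4, 5, 5, 9, 8, 6, 10, 10]),
   (212, [2, 2, 2, 2, 2, 2, 3, 4, 5, 4, 5, 9, 6, 6, 10, 10]),
   (191, [3, 3, 3, 2, 3, 4, 4, 5, 5, 5, 5, 4, 5, 4, 6, 10]),
   (156, [3, 2, 3, 2, 3, 3, 2, 4, 4, 5, 5, 4, 4, 4, 6, 9, 7, 8, 6, 10, 10]),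
   (40, [3, 3, 3, 2, 2, 2, 4, 5, 4, 5, 5, 4, 9, 6, 7]),
   (153, [2, 3, 2, 2, 2, 3, 4, 5, 4, 5, 5, 5, 5, 7, 7, 6]),
   (173, [3, 2, 2, 2, 2, 2, 3, 3, 5, 4, 5, 7, 9, 7, 10]),
   (159, [2, 3, 2, 3, 5, 4, 5, 4, 5, 8, 9, 7, 6, 10]),
   (217, [2, 2, 3, 3, 2, 4, 4, 4, 5, 4, 5, 8, 7]),
   (45, [2, 3, 3, 2, 2, 3, 3, 2, 4, 4, 5, 4, 6, 6, 9, 6, 6, 10, 10]),
   (47, [3, 2, 2, 2, 3, 2, 2, 5, 4, 4, 5, 4, 5, 8, 6, 9, 6, 10, 10]),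
   (52, [2, 2, 3, 5, 5, 4, 5, 5, 4, 6, 6, 9, 6, 6, 10, 10]),
   (5, [3, 3, 2, 2, 2, 3, 4, 4, 5, 4, 4, 4, 6, 9, 10, 10]),
   (1, [3, 2, 3, 2, 3, 4, 5, 5, 5, 4, 5, 5, 4, 6, 9, 7, 8, 6, 10, 10]),
   (237, [2, 2, 2, 2, 2, 5, 4, 5, 4, 4, 7, 8, 9, 10, 10]),
   (51, [2, 2, 3, 3, 2, 2, 5, 4, 5, 5, 8, 9, 7, 10, 10]),
   (82, [3, 3, 3, 2, 2, 2, 5, 5, 5, 4, 5, 9, 6, 6, 10]),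
   (202, [3, 3, 3, 2, 3, 5, 4, 4, 5, 4, 4, 7, 9, 7, 10]),
   (128, [3, 3, 3, 3, 4, 4, 5, 5, 5, 8, 9, 7, 6, 10]),
   (182, [2, 2, 2, 2, 2, 3, 5, 5, 5, 4, 5, 5, 4, 6, 8, 6, 6]),
   (209, [2, 2, 3, 3, 2, 2, 4, 5, 4, 4, 5, 4, 4, 6, 9, 7, 8, 6]),
   (119, [2, 2, 2, 3, 3, 3, 2, 3, 2, 5, 5, 4, 5, 5, 8, 7, 7, 6]),
   (88, [3, 2, 2, 2, 3, 2, 2, 4, 4, 5, 4, 5, 5, 4, 9, 7, 6, 6, 10]),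
   (115, [2, 3, 2, 2, 2, 3, 5, 4, 7, 7, 9, 6]),
   (99, [2, 3, 3, 3, 3, 3, 4, 5, 4, 5, 4, 4, 6, 6, 9, 6, 6]),
   (224, [3, 3, 2, 2, 2, 2, 2, 2, 3, 3, 4, 5, 5, 5, 4, 8, 7, 7, 6, 10]),
   (175, [3, 3, 3, 2, 2, 2, 4, 4, 4, 5, 4, 4, 4, 8, 7, 9, 10]),
   (96, [3, 3, 2, 3, 3, 3, 4, 5, 5, 4, 9, 8, 6, 10]),
   (56, [2, 3, 2, 3, 2, 5, 5, 4, 5, 5, 5, 4, 7, 7, 9]),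
   (267, [3, 3, 3, 2, 2, 2, 3, 5, 5, 5, 4, 9, 6, 7, 10]),
   (193, [3, 2, 3, 3, 2, 3, 3, 2, 2, 5, 4, 4, 4, 9, 8, 7, 9, 10, 10]),
   (22, [3, 3, 3, 3, 3, 3, 5, 4, 7, 9, 7, 6, 10]),
   (205, [3, 2, 3, 3, 2, 2, 5, 4, 4, 5, 4, 5, 8, 9, 6, 9, 10, 10]),
   (135, [2, 3, 3, 2, 2, 3, 3, 2, 4, 5, 4, 4, 4, 5, 4, 4, 8, 9, 7, 6]),
   (17, [2, 2, 2, 3, 2, 2, 5, 5, 5, 7, 7]),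
   (33, [2, 2, 2, 3, 2, 3, 3, 2, 4, 4, 5, 4, 5, 5, 7, 9, 6, 6, 10]),
   (141, [2, 3, 3, 3, 3, 5, 5, 5, 4, 5, 5, 4, 6, 6]),
   (104, [3, 3, 2, 2, 2, 2, 3, 4, 5, 4, 4, 7, 8, 9, 10, 10]),
   (3, [3, 3, 2, 2, 2, 3, 5, 5, 4, 4, 8, 7, 9]),
   (264, [2, 2, 2, 2, 2, 3, 3, 4, 4, 5, 4, 5, 9, 6, 10]),
   (60, [2, 3, 3, 3, 3, 2, 3, 5, 4, 5, 5, 4, 4, 4, 6, 9, 7, 8, 6, 10, 10]),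
   (7, [3, 3, 3, 3, 2, 2, 2, 5, 4, 4, 5, 4, 5, 4, 9, 7, 9, 6]),
   (67, [2, 2, 2, 4, 5, 4, 7, 9, 8, 7, 10, 10]),
   (194, [2, 2, 2, 5, 4, 5, 5, 4, 5, 5, 8, 8, 6, 10, 10]),
   (25, [2, 2, 2, 2, 2, 3, 4, 5, 5, 6, 9, 6, 7, 10]),
   (147, [3, 3, 3, 3, 3, 4, 4, 5, 4, 9, 6, 7]),
   (236, [3, 3, 2, 3, 2, 3, 2, 3, 5, 5, 5, 4, 5, 5, 4]),
   (177, [2, 3, 2, 2, 4, 4, 4, 5, 4, 7, 7, 6, 10, 10]),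
   (131, [3, 3, 2, 3, 2, 3, 2, 3, 5, 5, 4, 5, 5, 6, 9, 7, 10]),
   (148, [2, 3, 3, 2, 5, 4, 4, 5, 4, 5, 4, 9, 6, 10, 10]),
   (250, [3, 3, 2, 2, 2, 3, 4, 5, 5, 4, 5, 5, 4, 6, 6, 9, 10, 10]),
   (208, [2, 3, 2, 3, 2, 4, 5, 4, 4, 4, 5, 4, 4, 6]),
   (213, [2, 3, 3, 3, 2, 3, 2, 5, 5, 4, 5, 4, 9, 7]),
   (32, [2, 2, 3, 2, 2, 2, 5, 5, 4, 4, 4, 8, 9, 6, 9, 10, 10]),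
   (243, [2, 3, 3, 2, 3, 5, 5, 4, 5, 5, 5, 4, 8, 9, 6, 9, 10, 10]),
   (164, [3, 2, 2, 2, 2, 2, 2, 3, 3, 4, 5, 4, 4, 4, 5, 4, 4, 6, 9, 10, 10]),
   (59, [3, 2, 3, 2, 2, 5, 5, 5, 4, 4, 4, 7, 9, 8, 7]),
   (225, [3, 3, 2, 2, 2, 5, 4, 4, 4, 5, 4, 4, 7, 9, 6, 6]),
   (117, [2, 3, 2, 3, 3, 3, 3, 5, 5, 5, 4, 5, 4, 8, 9, 6, 6]),
   (123, [3, 2, 3, 4, 5, 4, 5, 5, 5, 5, 6, 6, 9]),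
   (215, [3, 2, 2, 2, 2, 2, 2, 3, 3, 4, 5, 5, 9, 8, 7, 9, 10, 10]),
   (75, [3, 2, 4, 5, 4, 5, 5, 4, 4, 4]),
   (228, [3, 3, 2, 2, 2, 2, 2, 2, 2, 5, 4, 4, 5, 5, 4, 4, 4, 9, 6, 7, 10]),
   (87, [2, 2, 3, 3, 2, 4, 5, 4, 5, 4, 9, 7, 7, 6]),
   (109, [3, 3, 2, 2, 2, 3, 2, 2, 4, 5, 4, 5, 5, 5, 4, 9, 8, 6, 6, 10]),
   (9, [2, 2, 3, 2, 3, 3, 2, 5, 4, 4, 5, 4, 9, 7, 9]),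
   (6, [2, 2, 2, 3, 4, 5, 4, 6, 9, 6]),
   (158, [3, 2, 3, 2, 3, 2, 3, 5, 4, 5, 4, 5, 9, 7, 7, 6]),
   (50, [2, 2, 2, 3, 3, 3, 2, 3, 2, 4, 5, 4, 8, 7]),
   (192, [2, 2, 2, 2, 2, 2, 2, 5, 5, 4, 5, 5, 4, 6, 6, 10, 10]),
   (160, [3, 2, 3, 3, 2, 2, 5, 5, 5, 4, 5, 4, 6, 9, 7, 10, 10]),
   (113, [2, 2, 2, 3, 2, 2, 5, 4, 5, 5, 4, 5, 5, 9, 8, 7, 10, 10]),
   (48, [2, 2, 2, 3, 2, 2, 5, 4, 5, 5, 9, 7, 6, 6]),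
   (180, [3, 3, 2, 2, 3, 3, 2, 5, 5, 5, 4, 4, 4, 6, 10, 10]),
   (263, [3, 2, 3, 2, 3, 3, 2, 5, 4, 4, 5, 5, 4, 4, 4, 7, 7, 9, 6]),
   (251, [2, 2, 2, 2, 3, 3, 5, 4, 4, 4, 5, 4, 4, 8, 6, 10]),
   (4, [2, 3, 3, 2, 3, 3, 3, 4, 5, 4, 5, 4, 4, 8, 6, 6, 9, 10, 10]),
   (222, [3, 2, 3, 2, 3, 2, 2, 4, 4, 5, 4, 5, 4, 8, 6, 9, 6, 10]),
   (139, [2, 2, 3, 3, 2, 3, 5, 5, 5, 5, 4, 5, 7, 9, 7, 6, 10, 10]),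
   (105, [2, 3, 3, 2, 3, 2, 3, 2, 3, 5, 4, 4, 5, 4, 5, 6, 8, 6, 6, 10]),
   (136, [3, 2, 2, 2, 3, 4, 5, 4, 4, 5, 4, 4, 7, 8, 9, 7, 10]),
   (178, [3, 2, 3, 2, 3, 3, 3, 3, 5, 4, 5, 4, 9, 8, 6, 10]),
   (63, [2, 3, 2, 3, 2, 2, 5, 4, 5, 5, 4, 5, 5, 7, 7, 9, 6]),
   (272, [2, 3, 3, 2, 2, 3, 2, 3, 4, 5, 5, 5, 4, 9, 7, 9, 6, 10, 10]),
   (204, [2, 3, 2, 2, 2, 2, 2, 2, 2, 4, 5, 4, 4, 4, 8, 9, 6, 6]),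
   (216, [3, 5, 5, 8, 9, 6, 6, 10, 10])]

/-- The transversal of a level. -/
def gLev0w : List (List ℕ) :=
  [[], [0], [1], [0, 0], [0, 1], [0, 0, 0], [0, 0, 1], [1, 0, 1], [0, 0, 0, 0], [0, 0, 0, 1], [1, 0, 0, 1], [0, 1, 0, 1], [0, 0, 0, 0, 0], [1, 0, 0, 0, 0], [0, 0, 0, 0, 1], [1, 0, 0, 0, 1], [0, 1, 0, 0, 1], [0, 0, 1, 0, 1], [1, 0, 1, 0, 1], [0, 0, 0, 0, 0, 0], [1, 0, 0, 0, 0, 0], [0, 1, 0, 0, 0, 0], [0, 0, 0, 0, 0, 1], [1, 0, 0, 0, 0, 1], [0, 1, 0, 0, 0, 1], [0, 0, 1, 0, 0, 1], [1, 0, 1, 0, 0, 1], [0, 0, 0, 1, 0, 1], [0, 1, 0, 1, 0, 1], [0, 0, 0, 0, 0, 0, 0], [0, 1, 0, 0, 0, 0, 0], [0, 0, 1, 0, 0, 0, 0], [1, 0, 1, 0, 0, 0, 0], [0, 0, 0, 0, 0, 0, 1], [1, 0, 0, 0, 0, 0, 1], [0, 1, 0, 0, 0, 0,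 1], [0, 0, 1, 0, 0, 0, 1], [1, 0, 1, 0, 0, 0, 1], [0, 0, 0, 1, 0, 0, 1], [0, 1, 0, 1, 0, 0, 1], [0, 0, 0, 0, 1, 0, 1], [1, 0, 0, 0, 1, 0, 1], [0, 0, 1, 0, 1, 0, 1], [1, 0, 1, 0, 1, 0, 1], [0, 0, 0, 0, 0, 0, 0, 0], [1, 0, 0, 0, 0, 0, 0, 0], [0, 0, 1, 0, 0, 0, 0, 0], [1, 0, 1, 0, 0, 0, 0, 0], [0, 0, 0, 1, 0, 0, 0, 0], [1, 0, 0, 1, 0, 0, 0, 0], [0, 0, 0, 0, 0, 0, 0, 1], [1, 0, 0, 0, 0, 0, 0, 1], [0, 1, 0, 0, 0, 0, 0, 1], [0, 0, 1, 0, 0, 0, 0, 1], [1, 0, 1, 0, 0, 0, 0, 1], [0, 0, 0, 1, 0, 0, 0, 1], [1, 0, 0, 1, 0, 0, 0, 1], [0, 1, 0, 1, 0, 0, 0, 1], [1, 0, 0, 0, 1, 0, 0, 1], [0, 0, 1, 0, 1, 0, 0, 1], [1, 0, 1, 0, 1, 0, 0, 1], [0, 0, 0, 0, 0, 1, 0, 1], [1, 0, 0, 0, 0, 1, 0, 1], [0, 1, 0, 0, 0, 1, 0,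 1], [0, 0, 0, 1, 0, 1, 0, 1], [1, 0, 0, 1, 0, 1, 0, 1], [0, 1, 0, 1, 0, 1, 0, 1], [0, 0, 0, 0, 0, 0, 0, 0, 0], [0, 1, 0, 0, 0, 0, 0, 0, 0], [0, 0, 0, 1, 0, 0, 0, 0, 0], [1, 0, 0, 1, 0, 0, 0, 0, 0], [0, 1, 0, 1, 0, 0, 0, 0, 0], [0, 0, 0, 0, 1, 0, 0, 0, 0], [1, 0, 0, 0, 1, 0, 0, 0, 0], [0, 1, 0, 0, 1, 0, 0, 0, 0], [0, 0, 0, 0, 0, 0, 0, 0, 1], [0, 0, 1, 0, 0, 0, 0, 0, 1], [1, 0, 1, 0, 0, 0, 0, 0, 1], [0, 0, 0, 1, 0, 0, 0, 0, 1], [1, 0, 0, 1, 0, 0, 0, 0, 1], [0, 1, 0, 1, 0, 0, 0, 0, 1], [0, 0, 0, 0, 1, 0, 0, 0, 1], [0, 1, 0, 0, 1, 0, 0, 0, 1], [0, 0, 1, 0, 1, 0, 0, 0, 1], [1, 0, 1, 0, 1, 0, 0, 0, 1], [0, 1, 0, 0, 0, 1, 0, 0, 1], [1, 0, 0, 1, 0, 1, 0, 0, 1], [0, 1, 0, 1, 0, 1, 0, 0, 1], [0, 0, 0, 0,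 0, 0, 1, 0, 1], [0, 0, 1, 0, 0, 0, 1, 0, 1], [1, 0, 1, 0, 0, 0, 1, 0, 1], [0, 0, 0, 0, 1, 0, 1, 0, 1], [0, 0, 1, 0, 1, 0, 1, 0, 1], [1, 0, 1, 0, 1, 0, 1, 0, 1], [0, 0, 0, 0, 0, 0, 0, 0, 0, 0], [1, 0, 0, 0, 0, 0, 0, 0, 0, 0], [0, 0, 1, 0, 0, 0, 0, 0, 0, 0], [1, 0, 1, 0, 0, 0, 0, 0, 0, 0], [0, 0, 0, 0, 1, 0, 0, 0, 0, 0], [0, 1, 0, 0, 1, 0, 0, 0, 0, 0], [0, 0, 1, 0, 1, 0, 0, 0, 0, 0], [1, 0, 1, 0, 1, 0, 0, 0, 0, 0], [0, 0, 0, 0, 0, 1, 0, 0, 0, 0], [1, 0, 0, 0, 0, 1, 0, 0, 0, 0], [0, 1, 0, 0, 0, 1, 0, 0, 0, 0], [0, 0, 1, 0, 0, 1, 0, 0, 0, 0], [1, 0, 1, 0, 0, 1, 0, 0, 0, 0], [0, 1, 0, 1, 0, 0, 0, 0, 0, 1], [1, 0, 0, 0, 1, 0, 0, 0, 0, 1], [0, 0, 0, 0, 0, 1, 0, 0, 0, 1], [1, 0, 0, 0, 0, 1, 0, 0, 0, 1],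 [0, 0, 1, 0, 0, 1, 0, 0, 0, 1], [1, 0, 1, 0, 0, 1, 0, 0, 0, 1], [0, 0, 0, 1, 0, 1, 0, 0, 0, 1], [1, 0, 0, 1, 0, 1, 0, 0, 0, 1], [0, 1, 0, 1, 0, 1, 0, 0, 0, 1], [0, 0, 1, 0, 0, 0, 1, 0, 0, 1], [1, 0, 1, 0, 0, 0, 1, 0, 0, 1], [0, 1, 0, 0, 1, 0, 1, 0, 0, 1], [0, 0, 0, 0, 0, 0, 0, 1, 0, 1], [1, 0, 0, 0, 0, 0, 0, 1, 0, 1], [0, 0, 0, 1, 0, 0, 0, 1, 0, 1], [0, 1, 0, 1, 0, 0, 0, 1, 0, 1], [0, 0, 0, 0, 0, 1, 0, 1, 0, 1], [1, 0, 0, 0, 0, 1, 0, 1, 0, 1], [0, 0, 0, 1, 0, 1, 0, 1, 0, 1], [1, 0, 0, 1, 0, 1, 0, 1, 0, 1], [0, 1, 0, 1, 0, 1, 0, 1, 0, 1], [0, 0, 0, 0, 0, 0, 0, 0, 0, 0, 0], [1, 0, 0, 0, 0, 0, 0, 0, 0, 0, 0], [0, 1, 0, 0, 0, 0, 0, 0, 0, 0, 0], [0, 0, 0, 1, 0, 0, 0, 0, 0, 0, 0], [0, 1, 0, 1, 0, 0, 0,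 0, 0, 0, 0], [0, 0, 0, 0, 0, 1, 0, 0, 0, 0, 0], [1, 0, 0, 0, 0, 1, 0, 0, 0, 0, 0], [0, 0, 1, 0, 0, 1, 0, 0, 0, 0, 0], [1, 0, 1, 0, 0, 1, 0, 0, 0, 0, 0], [0, 0, 0, 1, 0, 1, 0, 0, 0, 0, 0], [0, 0, 0, 0, 0, 0, 1, 0, 0, 0, 0], [0, 1, 0, 0, 0, 0, 1, 0, 0, 0, 0], [0, 0, 1, 0, 0, 0, 1, 0, 0, 0, 0], [0, 0, 0, 1, 0, 0, 1, 0, 0, 0, 0], [0, 1, 0, 1, 0, 0, 1, 0, 0, 0, 0], [0, 0, 1, 0, 1, 0, 0, 0, 0, 0, 1], [1, 0, 1, 0, 1, 0, 0, 0, 0, 0, 1], [0, 1, 0, 0, 0, 1, 0, 0, 0, 0, 1], [0, 0, 0, 0, 0, 0, 1, 0, 0, 0, 1], [0, 1, 0, 0, 0, 0, 1, 0, 0, 0, 1], [0, 0, 0, 1, 0, 0, 1, 0, 0, 0, 1], [1, 0, 0, 1, 0, 0, 1, 0, 0, 0, 1], [0, 1, 0, 1, 0, 0, 1, 0, 0, 0, 1], [0, 0, 0, 0, 1, 0, 1, 0, 0, 0, 1], [1, 0, 0, 0, 1, 0, 1, 0, 0,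 0, 1], [0, 0, 1, 0, 1, 0, 1, 0, 0, 0, 1], [1, 0, 1, 0, 1, 0, 1, 0, 0, 0, 1], [0, 0, 0, 1, 0, 0, 0, 1, 0, 0, 1], [1, 0, 0, 1, 0, 0, 0, 1, 0, 0, 1], [0, 1, 0, 1, 0, 0, 0, 1, 0, 0, 1], [0, 0, 0, 0, 0, 0, 0, 0, 1, 0, 1], [1, 0, 0, 0, 0, 0, 0, 0, 1, 0, 1], [0, 0, 0, 0, 1, 0, 0, 0, 1, 0, 1], [1, 0, 0, 0, 1, 0, 0, 0, 1, 0, 1], [0, 0, 1, 0, 1, 0, 0, 0, 1, 0, 1], [1, 0, 1, 0, 1, 0, 0, 0, 1, 0, 1], [0, 0, 0, 0, 0, 0, 1, 0, 1, 0, 1], [0, 1, 0, 0, 0, 0, 1, 0, 1, 0, 1], [0, 1, 0, 0, 1, 0, 1, 0, 1, 0, 1], [0, 0, 1, 0, 1, 0, 1, 0, 1, 0, 1], [0, 1, 0, 0, 0, 0, 0, 0, 0, 0, 0, 0], [0, 0, 1, 0, 0, 0, 0, 0, 0, 0, 0, 0], [1, 0, 1, 0, 0, 0, 0, 0, 0, 0, 0, 0], [0, 0, 0, 0, 1, 0, 0, 0, 0, 0, 0, 0], [1, 0, 0, 0, 1, 0, 0,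 0, 0, 0, 0, 0], [0, 0, 1, 0, 1, 0, 0, 0, 0, 0, 0, 0], [1, 0, 1, 0, 1, 0, 0, 0, 0, 0, 0, 0], [0, 0, 0, 0, 0, 0, 1, 0, 0, 0, 0, 0], [0, 1, 0, 0, 0, 0, 1, 0, 0, 0, 0, 0], [0, 0, 0, 1, 0, 0, 1, 0, 0, 0, 0, 0], [1, 0, 0, 1, 0, 0, 1, 0, 0, 0, 0, 0], [0, 1, 0, 1, 0, 0, 1, 0, 0, 0, 0, 0], [0, 0, 0, 0, 1, 0, 1, 0, 0, 0, 0, 0], [1, 0, 0, 0, 1, 0, 1, 0, 0, 0, 0, 0], [0, 0, 0, 0, 0, 0, 0, 1, 0, 0, 0, 0], [0, 0, 1, 0, 0, 0, 0, 1, 0, 0, 0, 0], [0, 0, 0, 1, 0, 0, 0, 1, 0, 0, 0, 0], [1, 0, 1, 0, 1, 0, 0, 1, 0, 0, 0, 0], [1, 0, 1, 0, 0, 0, 1, 0, 0, 0, 0, 1], [0, 0, 0, 0, 0, 0, 0, 1, 0, 0, 0, 1], [0, 0, 1, 0, 0, 0, 0, 1, 0, 0, 0, 1], [0, 0, 0, 0, 1, 0, 0, 1, 0, 0, 0, 1], [1, 0, 0, 0, 1, 0, 0, 1, 0, 0, 0, 1], [0,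 1, 0, 0, 1, 0, 0, 1, 0, 0, 0, 1], [0, 0, 1, 0, 1, 0, 0, 1, 0, 0, 0, 1], [1, 0, 1, 0, 1, 0, 0, 1, 0, 0, 0, 1], [0, 0, 0, 0, 0, 1, 0, 1, 0, 0, 0, 1], [0, 1, 0, 0, 0, 1, 0, 1, 0, 0, 0, 1], [1, 0, 0, 1, 0, 1, 0, 1, 0, 0, 0, 1], [0, 1, 0, 1, 0, 1, 0, 1, 0, 0, 0, 1], [0, 1, 0, 0, 1, 0, 0, 0, 1, 0, 0, 1], [0, 0, 1, 0, 1, 0, 0, 0, 1, 0, 0, 1], [1, 0, 1, 0, 1, 0, 0, 0, 1, 0, 0, 1], [0, 0, 0, 0, 0, 0, 0, 0, 0, 1, 0, 1], [0, 1, 0, 0, 0, 0, 0, 0, 0, 1, 0, 1], [0, 1, 0, 0, 0, 1, 0, 0, 0, 1, 0, 1], [0, 0, 0, 1, 0, 1, 0, 0, 0, 1, 0, 1], [1, 0, 0, 1, 0, 1, 0, 0, 0, 1, 0, 1], [0, 0, 0, 0, 0, 0, 0, 1, 0, 1, 0, 1], [1, 0, 1, 0, 0, 0, 0, 1, 0, 1, 0, 1], [0, 0, 1, 0, 0, 1, 0, 1, 0, 1, 0, 1], [1, 0, 1, 0, 0, 1, 0, 1,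 0, 1, 0, 1], [0, 0, 0, 1, 0, 1, 0, 1, 0, 1, 0, 1], [0, 0, 1, 0, 0, 0, 0, 0, 0, 0, 0, 0, 0], [0, 0, 0, 1, 0, 0, 0, 0, 0, 0, 0, 0, 0], [1, 0, 0, 1, 0, 0, 0, 0, 0, 0, 0, 0, 0], [0, 0, 0, 0, 0, 1, 0, 0, 0, 0, 0, 0, 0], [1, 0, 0, 0, 0, 1, 0, 0, 0, 0, 0, 0, 0], [0, 1, 0, 0, 0, 1, 0, 0, 0, 0, 0, 0, 0], [0, 0, 0, 1, 0, 1, 0, 0, 0, 0, 0, 0, 0], [1, 0, 0, 1, 0, 1, 0, 0, 0, 0, 0, 0, 0], [0, 0, 0, 0, 0, 0, 0, 1, 0, 0, 0, 0, 0], [1, 0, 1, 0, 0, 0, 0, 1, 0, 0, 0, 0, 0], [0, 0, 0, 0, 1, 0, 0, 1, 0, 0, 0, 0, 0], [0, 0, 1, 0, 1, 0, 0, 1, 0, 0, 0, 0, 0], [1, 0, 1, 0, 1, 0, 0, 1, 0, 0, 0, 0, 0], [0, 0, 0, 0, 0, 1, 0, 1, 0, 0, 0, 0, 0], [0, 0, 0, 0, 0, 0, 0, 0, 1, 0, 0, 0, 0], [1, 0, 0, 0, 0, 0, 0, 0, 1, 0, 0, 0, 0],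 [0, 0, 0, 1, 0, 0, 0, 0, 1, 0, 0, 0, 0], [0, 0, 0, 0, 1, 0, 0, 0, 1, 0, 0, 0, 0], [0, 1, 0, 1, 0, 1, 0, 0, 1, 0, 0, 0, 0], [0, 1, 0, 1, 0, 0, 0, 1, 0, 0, 0, 0, 1], [0, 0, 0, 0, 0, 0, 0, 0, 1, 0, 0, 0, 1], [1, 0, 0, 0, 0, 0, 0, 0, 1, 0, 0, 0, 1], [0, 0, 0, 1, 0, 0, 0, 0, 1, 0, 0, 0, 1], [1, 0, 0, 1, 0, 0, 0, 0, 1, 0, 0, 0, 1], [1, 0, 0, 0, 0, 1, 0, 0, 1, 0, 0, 0, 1], [1, 0, 0, 1, 0, 1, 0, 0, 1, 0, 0, 0, 1], [0, 0, 1, 0, 0, 0, 1, 0, 1, 0, 0, 0, 1], [0, 0, 1, 0, 1, 0, 1, 0, 1, 0, 0, 0, 1], [0, 0, 0, 1, 0, 1, 0, 0, 0, 1, 0, 0, 1], [1, 0, 0, 1, 0, 1, 0, 0, 0, 1, 0, 0, 1], [0, 1, 0, 1, 0, 1, 0, 0, 0, 1, 0, 0, 1], [0, 0, 1, 0, 0, 0, 1, 0, 0, 0, 1, 0, 1], [1, 0, 1, 0, 0, 0, 1, 0, 0, 0, 1, 0, 1], [1, 0,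 0, 0, 1, 0, 1, 0, 0, 0, 1, 0, 1], [0, 1, 0, 0, 1, 0, 1, 0, 0, 0, 1, 0, 1], [0, 0, 0, 1, 0, 0, 0, 0, 0, 0, 0, 0, 0, 0], [1, 0, 0, 0, 1, 0, 0, 0, 0, 0, 0, 0, 0, 0], [0, 1, 0, 0, 1, 0, 0, 0, 0, 0, 0, 0, 0, 0], [0, 0, 0, 0, 0, 0, 1, 0, 0, 0, 0, 0, 0, 0], [1, 0, 0, 0, 0, 0, 1, 0, 0, 0, 0, 0, 0, 0], [0, 0, 0, 0, 1, 0, 1, 0, 0, 0, 0, 0, 0, 0], [0, 1, 0, 1, 0, 0, 0, 0, 1, 0, 0, 0, 0, 0], [1, 0, 0, 0, 0, 1, 0, 0, 1, 0, 0, 0, 0, 0], [0, 1, 0, 1, 0, 1, 0, 0, 1, 0, 0, 0, 0, 0], [0, 1, 0, 0, 0, 0, 0, 0, 0, 1, 0, 0, 0, 0], [0, 0, 0, 0, 1, 0, 0, 0, 0, 1, 0, 0, 0, 0], [0, 0, 1, 0, 1, 0, 0, 0, 1, 0, 0, 0, 0, 1], [1, 0, 1, 0, 1, 0, 0, 0, 1, 0, 0, 0, 0, 1], [0, 0, 0, 0, 1, 0, 0, 0, 0, 1, 0, 0, 0, 1], [1, 0, 0, 0,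 1, 0, 0, 0, 0, 1, 0, 0, 0, 1], [0, 1, 0, 0, 1, 0, 0, 0, 0, 1, 0, 0, 0, 1], [0, 1, 0, 0, 0, 0, 1, 0, 0, 1, 0, 0, 0, 1], [0, 1, 0, 0, 1, 0, 1, 0, 0, 1, 0, 0, 0, 1], [0, 0, 0, 1, 0, 0, 0, 1, 0, 1, 0, 0, 0, 1], [1, 0, 0, 1, 0, 0, 0, 1, 0, 1, 0, 0, 0, 1], [0, 0, 0, 0, 1, 0, 1, 0, 0, 0, 1, 0, 0, 1], [0, 0, 1, 0, 1, 0, 1, 0, 0, 0, 1, 0, 0, 1], [1, 0, 0, 1, 0, 0, 0, 1, 0, 0, 0, 1, 0, 1], [0, 0, 0, 0, 0, 0, 0, 1, 0, 0, 0, 0, 0, 0, 0], [0, 1, 0, 0, 0, 0, 0, 1, 0, 0, 0, 0, 0, 0, 0], [0, 0, 0, 0, 0, 1, 0, 0, 0, 0, 1, 0, 0, 0, 0], [0, 0, 1, 0, 0, 1, 0, 1, 0, 0, 1, 0, 0, 0, 1], [0, 0, 0, 0, 1, 0, 0, 0, 1, 0, 1, 0, 0, 0, 1], [1, 0, 0, 1, 0, 1, 0, 1, 0, 0, 0, 1, 0, 0, 1]]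

/-- A level. -/
def gLev0 : StabCert.Lev :=
  ⟨0, [0, 1, 2, 3, 4, 5, 6, 7, 8, 9, 10], gLev0w, gLev0c0 ++ gLev0c1 ++ gLev0c2 ++ gLev0c3 ++ gLev0c4 ++ gLev0c5 ++ gLev0c6 ++ gLev0c7 ++ gLev0c8 ++ gLev0c9 ++ gLev0c10 ++ gLev0c11 ++ gLev0c12 ++ gLev0c13⟩

/-- Part of a closure certificate. -/
def gLev1c0 : List (ℕ × List ℕ) :=
  [(1, []),
   (3, []),
   (5, []),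
   (7, []),
   (9, []),
   (11, []),
   (13, []),
   (15, []),
   (17, []),
   (4, [5, 5, 5, 4, 6, 9, 10, 10]),
   (20, []),
   (21, []),
   (22, []),
   (24, []),
   (26, []),
   (28, []),
   (30, []),
   (32, []),
   (34, []),
   (36, []),
   (38, []),
   (40, []),
   (42, []),
   (44, []),
   (46, []),
   (18, [5, 4, 5, 4, 7, 8, 9]),
   (49, []),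
   (51, []),
   (53, []),
   (33, [4, 5, 4, 5, 5, 4, 4, 4, 8, 6, 6, 9]),
   (54, []),
   (56, []),
   (58, []),
   (60, []),
   (62, []),
   (29, [5, 4, 6, 9, 6, 10]),
   (19, [4, 4, 5, 4, 8, 6, 6, 9]),
   (64, []),
   (66, []),
   (68, []),
   (69, []),
   (71, []),
   (73, []),
   (75, []),
   (77, []),
   (41, [4, 4, 5, 4, 5, 9, 6, 7, 10, 10]),
   (79, []),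
   (57, [4, 4, 4, 4, 5, 4, 5, 8, 9, 10]),
   (80, []),
   (72, [4, 4, 4, 9, 8, 7]),
   (74, [5, 4, 4, 4, 5, 4, 4, 7, 9, 7, 10, 10]),
   (50, [5, 4, 4, 5, 4, 5, 5, 7, 7, 9, 6]),
   (84, []),
   (86, []),
   (87, []),
   (2, [4]),
   (61, [5, 4, 4, 4, 5, 4, 4, 6, 9, 7, 10]),
   (88, []),
   (90, []),
   (92, []),
   (70, [5, 5, 4, 5, 4, 5, 5, 8, 7, 9]),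
   (37, [5, 4, 4, 5, 4, 5, 7]),
   (95, []),
   (52, [5, 5, 5, 4, 5, 4, 9, 7, 9, 6]),
   (98, []),
   (99, []),
   (10, [9, 7, 8, 6]),
   (35, [5, 4, 5, 4, 4, 8, 8, 6, 10]),
   (103, []),
   (105, []),
   (43, [5, 5, 5, 5, 4, 5, 7, 6, 6, 10]),
   (93, [5, 4, 5, 5, 5, 5, 8, 7, 9, 7, 10, 10]),
   (14, [4, 5, 5, 4, 6, 7]),
   (108, []),
   (27, [5, 4, 5, 5, 5, 5, 9, 6, 7, 10]),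
   (67, [4, 5, 5, 5, 4, 5, 4, 9, 7, 7, 6, 10, 10]),
   (110, [4, 4, 4, 5, 4, 4, 4, 7, 9, 10, 10]),
   (104, [5, 5, 4, 5, 4, 4, 4, 6, 8, 9, 7, 10]),
   (114, []),
   (115, []),
   (116, []),
   (117, []),
   (119, []),
   (120, []),
   (122, []),
   (8, [4, 4, 5, 4, 5, 5, 4, 6, 10, 10]),
   (0, []),
   (124, [5, 4, 5, 4, 5, 5, 6, 9, 7, 8, 6, 10, 10]),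
   (102, [5, 7, 9, 7, 6, 10, 10]),
   (109, [5, 5, 4, 4, 5, 4, 5, 7, 9, 8, 6]),
   (127, []),
   (82, [4, 5, 4, 5, 7, 6, 10]),
   (118, [4, 8, 9, 6, 6]),
   (123, [5, 4, 4, 4, 7, 7, 9, 6]),
   (65, [4, 4, 4, 5, 4, 5, 8, 6, 6, 9, 10]),
   (89, [5, 4, 6, 8, 9, 7, 10, 10]),
   (130, []),
   (131, []),
   (129, [5, 4, 4, 5, 5, 5, 6, 9, 8, 6, 10, 10]),
   (132, []),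
   (76, [5, 5, 4, 4, 5, 4, 5, 6, 9, 10]),
   (31, [4, 5, 4, 5, 4, 4, 9, 8, 6]),
   (134, []),
   (135, []),
   (137, []),
   (55, [4, 4, 5, 6, 6]),
   (16, [5, 5, 5, 4, 5, 5, 4, 8, 7, 10, 10]),
   (138, []),
   (140, []),
   (141, []),
   (142, []),
   (97, [4, 4, 5, 10, 10]),
   (39, [5, 5, 4, 5, 5, 8, 7, 7, 6]),
   (48, [5, 5, 4, 4, 8, 9, 6, 6]),
   (143, [4, 5, 4, 5, 5, 4, 4, 4, 6, 8, 6, 6, 10, 10]),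
   (146, []),
   (125, [5, 5, 5, 7, 8, 9, 7, 10, 10]),
   (78, [4, 4, 4, 5, 4, 9, 6, 7, 10]),
   (23, [4, 4, 5, 4, 5, 6, 7, 10]),
   (100, [4, 4, 5, 4, 4, 4, 9, 6, 9, 10, 10]),
   (148, []),
   (45, [4, 5, 4, 5, 5, 8, 7, 7, 6, 10, 10]),
   (145, [4, 5, 5, 5, 4, 5, 5, 4, 6, 9, 6, 7, 10, 10]),
   (150, []),
   (151, []),
   (111, [4, 5, 5, 5, 5, 4, 5, 4, 6, 8, 9, 7, 10, 10]),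
   (153, []),
   (147, [5, 4, 5, 4, 4, 4, 8, 9, 6, 9, 10, 10]),
   (94, [4, 4, 5, 5, 5, 5, 9, 7, 8, 6]),
   (101, [4, 4, 5, 4, 5, 5, 4, 7, 7, 9, 6, 10]),
   (12, [4, 5, 4, 5, 7, 9, 8, 7, 10]),
   (113, [5, 5, 4, 4, 6, 9, 7, 10, 10]),
   (155, []),
   (106, [5, 4, 4, 5, 4, 4, 4, 7, 9, 7]),
   (126, [4, 5, 4, 5, 9, 6, 9]),
   (139, [5, 6, 9, 8, 6, 6]),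
   (156, []),
   (59, [4, 4, 4, 5, 5, 5, 9, 7, 8, 6]),
   (107, [4, 5, 4, 4, 4, 8, 9, 6, 9, 10]),
   (136, [5, 5, 5, 4, 7, 9, 6]),
   (96, [4, 4, 5, 5, 5, 4, 8, 7, 9]),
   (25, [4, 4, 4, 5, 5, 5, 4, 8, 6, 6, 9, 10]),
   (154, [5, 5, 5, 4, 5, 4, 4, 4, 7, 9, 6, 6, 10, 10]),
   (157, []),
   (47, [4, 5, 5, 5, 4, 5, 8, 9, 6, 6, 10]),
   (83, [4, 5, 5, 6, 9, 10, 10]),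
   (152, [5, 5, 5, 4, 5, 5, 4, 8, 7, 10, 10]),
   (85, [4, 4, 4, 5, 4, 4, 4, 7, 6, 6, 10, 10]),
   (63, [5, 4, 5, 5, 4, 5, 5, 7, 7, 6, 10, 10]),
   (81, [4, 5, 4, 5, 5, 5, 5, 9, 7, 9, 10, 10]),
   (159, []),
   (133, [4, 5, 5, 4, 5, 5, 4, 7, 9, 8, 7, 10, 10]),
   (6, [5, 5, 7, 10]),
   (144, [4, 4, 5, 4, 5, 4, 5, 7, 8, 9]),
   (91, [4, 4, 5, 4, 5, 6, 8, 9, 7]),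
   (160, []),
   (112, [5, 5, 4, 4, 4, 9, 8, 7, 10, 10]),
   (158, [4, 4, 5, 4, 5, 4, 5, 9, 8, 7, 9, 10]),
   (149, [4, 5, 5, 5, 4, 5, 5, 4, 9, 6, 9]),
   (121, [4, 5, 5, 5, 4, 7, 8, 6]),
   (161, [4, 5, 5, 5, 4, 8, 9, 6, 9]),
   (128, [4, 5, 4, 5, 4, 6, 9, 8, 6]),
   (2, []),
   (4, []),
   (6, []),
   (8, []),
   (10, []),
   (12, []),
   (14, []),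
   (16, []),
   (18, []),
   (19, []),
   (11, [5, 4, 4, 5, 5, 5, 8, 9, 7, 6, 10]),
   (7, [4, 4, 5, 5, 5, 5, 7, 7, 9, 10, 10]),
   (23, []),
   (25, []),
   (27, []),
   (29, []),
   (31, []),
   (33, []),
   (35, []),
   (37, []),
   (39, []),
   (41, []),
   (43, []),
   (45, []),
   (47, []),
   (48, []),
   (50, []),
   (52, []),
   (51, [4, 5, 5, 4, 5, 5, 4, 7, 9, 7, 10]),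
   (3, [5, 5, 5, 4, 5, 5, 4, 9, 7, 10]),
   (55, []),
   (57, []),
   (59, []),
   (61, []),
   (63, []),
   (15, [5, 4, 5, 5, 5, 4, 8, 8, 6, 10, 10]),
   (60, [4, 5, 5, 5, 4, 5, 5, 4, 8, 9, 7, 10]),
   (65, []),
   (67, []),
   (1, [4, 5, 4, 5, 5, 5, 5, 6, 8, 6, 6]),
   (70, []),
   (72, []),
   (74, []),
   (76, []),
   (58, [4, 5, 5, 8, 7, 9]),
   (78, []),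
   (36, [5, 5, 4, 5, 5, 5, 4, 9, 7, 6]),
   (42, [4, 4, 7, 6]),
   (81, []),
   (38, [5, 5, 5, 4, 4, 4, 8, 9, 10, 10]),
   (82, []),
   (83, []),
   (85, []),
   (34, [4, 5, 4, 8, 6, 6, 10, 10]),
   (62, [5, 5, 4, 5, 7, 7, 8, 9]),
   (68, [4, 4, 5, 5, 5, 4, 7, 6, 6, 10, 10]),
   (0, [5]),
   (89, [])]

/-- Part of a closure certificate. -/
def gLev1c1 : List (ℕ × List ℕ) :=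
  [(91, []),
   (93, []),
   (94, []),
   (86, [4, 4, 5, 4, 5, 6, 7, 10, 10]),
   (96, []),
   (97, []),
   (24, [4, 4, 5, 4, 4, 4, 7, 9, 8, 7, 10]),
   (100, []),
   (101, []),
   (102, []),
   (104, []),
   (44, [4, 5, 5, 5, 4, 8, 9, 7, 6]),
   (106, []),
   (66, [4, 4, 4, 5, 5, 5, 9, 7, 9, 10]),
   (107, []),
   (109, []),
   (110, []),
   (111, []),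
   (112, []),
   (113, []),
   (75, [4, 5, 4, 5, 5, 5, 4, 7, 9, 7]),
   (20, [5, 5, 5, 4, 5, 4, 4, 4, 9, 6, 10]),
   (98, [4, 5, 4, 5, 5, 5, 4, 6, 6, 9, 6, 6]),
   (118, []),
   (71, [5, 5, 5, 4, 5, 4, 7, 7, 9, 6]),
   (121, []),
   (123, []),
   (53, [4, 5, 4, 5, 5, 4, 9, 7, 7, 6, 10, 10]),
   (124, []),
   (125, []),
   (126, []),
   (79, [4, 4, 5, 5, 4, 4, 4, 7, 9, 7, 6, 10]),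
   (13, [5, 4, 6, 9, 6, 10]),
   (128, []),
   (69, [5, 4, 5, 5, 4, 4, 4, 9, 8, 7, 10, 10]),
   (32, [4, 5, 4, 5, 5, 4, 4, 4, 6, 9, 6, 7, 10]),
   (103, [4, 4, 5, 4, 4, 4, 6, 6, 9, 10, 10]),
   (129, []),
   (9, [5, 4, 6, 9, 6, 6, 10]),
   (56, [5, 4, 4, 5, 4, 5, 4, 7, 7, 9, 6]),
   (87, [4, 4, 5, 4, 5, 8, 7, 9, 7, 10]),
   (133, []),
   (80, [5, 5, 4, 5, 5, 4, 6, 9, 10, 10]),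
   (17, [4, 9, 8, 7, 10, 10]),
   (28, [5, 5, 4, 5, 5, 4, 4, 4, 9, 8, 7]),
   (136, []),
   (116, [5, 4, 5, 5, 4, 4, 4, 6, 9, 7, 8, 6, 10, 10]),
   (30, [5, 5, 6, 9, 8, 6, 6]),
   (5, [5, 4, 5, 4, 4, 6, 7, 10]),
   (139, []),
   (137, [4, 4, 5, 5, 5, 5, 6, 9]),
   (130, [5, 5, 4, 5, 5, 6, 8, 6, 6]),
   (21, [5, 5, 5, 4, 4, 4, 9, 7, 9, 6]),
   (143, []),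
   (144, []),
   (92, [4, 5, 4, 5, 8, 7, 10]),
   (145, []),
   (147, []),
   (122, [5, 5, 4, 5, 5, 5, 4, 9, 8, 7, 9, 10]),
   (127, [4, 5, 5, 8, 9, 10]),
   (141, [4, 5, 4, 5, 4, 5, 7, 10]),
   (46, [4, 4, 4, 6, 9, 7, 8, 6]),
   (149, []),
   (95, [4, 5, 4, 4, 6, 9, 8, 6]),
   (135, [5, 5, 5, 4, 4, 4, 9, 7]),
   (134, [4, 4, 4, 4, 5, 4, 5, 9, 6, 10, 10]),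
   (152, []),
   (54, [4, 5, 5, 4, 5, 5, 4, 7, 6, 6]),
   (115, [5, 4, 9, 6, 9, 10, 10]),
   (99, [5, 4, 4, 5, 4, 5, 6, 6]),
   (153, [5, 5, 4, 5, 5, 9, 6, 7]),
   (151, [5, 4, 4, 7, 7, 9, 10, 10]),
   (90, [4, 4, 4, 4, 5, 4, 5, 8, 6, 9, 6, 10]),
   (154, []),
   (88, [5, 7, 8, 9, 7, 10, 10]),
   (131, [4, 4, 4, 4, 5, 4, 5, 6, 6, 9, 6, 6, 10, 10]),
   (84, [5, 4, 5, 5, 4, 5, 5, 7, 9, 7, 6]),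
   (155, [4, 5, 5, 5, 4, 5, 5, 4, 7, 10, 10]),
   (22, [4, 5, 7, 9, 7, 6, 10, 10]),
   (114, [4, 4, 4, 4, 5, 4, 4, 7, 7, 6]),
   (105, [4, 4, 5, 5, 5, 5, 9, 8, 6, 6, 10, 10]),
   (142, [4, 4, 5, 4, 5, 5, 4, 8, 7, 9, 7, 10, 10]),
   (40, [4, 6, 8, 6, 6, 10, 10]),
   (120, [4, 5, 4, 4, 8, 9, 7, 6]),
   (64, [4, 5, 4, 5, 5, 5, 4, 7, 8, 9, 10, 10]),
   (140, [5, 4, 4, 5, 5, 5, 7, 6, 10]),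
   (119, [4, 5, 4, 5, 9, 8, 6, 10, 10]),
   (157, [4, 5, 4, 5, 5, 7, 8, 6]),
   (158, []),
   (108, [4, 4, 8, 7]),
   (132, [4, 4, 4, 5, 5, 5, 4, 7, 8, 9, 7, 10]),
   (73, [5, 4, 5, 5, 4, 4, 4, 7]),
   (138, [4, 5, 4, 4, 7, 7, 9, 6]),
   (159, [4, 4, 5, 5, 5, 5, 4, 5, 4, 7, 9, 6, 6]),
   (26, [5, 5, 5, 4, 5, 8, 6, 10, 10]),
   (146, [5, 5, 4, 5, 4, 5, 5, 8, 9]),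
   (117, [4, 5, 5, 4, 4, 4, 6, 8, 6, 6]),
   (156, [5, 5, 4, 5, 5, 4, 6, 8, 9, 7, 10]),
   (150, [4, 4, 4, 5, 4, 5, 7, 9, 8, 7]),
   (160, [4, 5, 4, 5, 4, 4, 7, 7, 6]),
   (161, []),
   (49, [5, 4, 4, 4, 5, 4, 4, 9, 8, 6, 6, 10, 10]),
   (148, [4, 4, 4, 5, 5, 5, 4, 7, 9, 8, 6, 10, 10]),
   (77, [5, 5, 8, 9, 7, 6, 10]),
   (0, [4]),
   (19, [4, 5, 5, 4, 6, 9]),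
   (4, [4, 4, 5, 4, 5, 4, 5, 6, 6, 10, 10]),
   (144, [4, 5, 5, 5, 5, 9, 6, 7]),
   (40, [5, 4, 5, 4, 4, 4, 9, 7, 9, 10, 10]),
   (74, [5, 4, 4, 5, 4, 5, 8, 9, 7, 6, 10, 10]),
   (142, [4, 5, 5, 4, 5, 5]),
   (109, [5, 4, 5, 4, 5, 9, 7, 6]),
   (59, [4, 5, 5, 4, 5, 5, 4, 9, 8, 6, 6, 10, 10]),
   (55, [5, 4, 5, 5, 7, 7, 6, 10, 10]),
   (132, [5, 5, 5, 6, 9, 6, 6, 10]),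
   (25, [4, 4, 4, 5, 5, 5, 7, 7, 9, 10, 10]),
   (160, [5, 4, 5, 4, 9, 6, 7, 10, 10]),
   (18, [5, 5, 5, 4, 5, 7, 7, 10]),
   (30, [4, 4, 5, 4, 5, 4, 5, 8, 7, 7, 6, 10, 10]),
   (83, [4, 4, 5, 4, 5, 5, 4, 8, 9, 10, 10]),
   (145, [5, 4, 4, 4, 5, 4, 4, 6, 9, 6, 6, 10]),
   (31, [5, 4, 4, 4, 6]),
   (93, [4, 5, 4, 5, 4, 5, 6, 10, 10]),
   (7, [5, 5, 4, 5, 5, 5, 4, 7, 7, 9, 10]),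
   (82, [4, 5, 4, 4, 9, 7, 7, 6]),
   (121, [4, 4, 4, 5, 4, 5, 9, 7, 9, 6]),
   (84, [5, 4, 5, 4, 4, 4, 6, 6, 9, 6, 6, 10, 10]),
   (98, [4, 4, 4, 5, 4, 5, 8, 6, 6, 10]),
   (61, [4, 5, 4, 5, 5, 5, 4, 7, 9, 6, 10]),
   (117, [4, 5, 7, 7, 6, 10]),
   (141, [4, 5, 4, 5, 5, 4, 6, 9, 6, 10, 10]),
   (80, [4, 5, 5, 5, 4, 5, 5, 4, 7, 9, 8, 6, 10, 10]),
   (136, [4, 5, 4, 5, 8, 6, 10, 10]),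
   (97, [4, 5, 4, 5, 5, 5, 4, 7, 7, 9, 10]),
   (152, [5, 4, 5, 5, 7, 8, 6, 10]),
   (70, [4, 4, 5, 4, 7, 7, 9, 10]),
   (67, [6, 9]),
   (140, [4, 5, 4, 5, 5, 5, 4, 7, 7, 10]),
   (52, [4, 5, 4, 5, 4, 5, 8, 6, 9, 6, 10, 10]),
   (43, [5, 5, 4, 4, 8, 9, 7, 10]),
   (119, [5, 5, 4, 4, 5, 4, 5, 9, 8, 7, 9, 10]),
   (77, [5, 5, 4, 5, 5, 4, 7, 9, 8, 6, 10, 10]),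
   (108, [5, 4, 5, 7, 9, 6, 6, 10]),
   (34, [5, 5, 4, 5]),
   (155, [4, 4, 5, 6, 9, 6, 6, 10, 10]),
   (153, [5, 5, 5, 4, 4, 4, 7, 7, 9, 6, 10]),
   (161, [4, 5, 5, 5, 4, 5, 5, 4, 8, 7, 7, 6, 10]),
   (26, [4, 5, 4, 5, 6, 8, 6, 6]),
   (62, [5, 5, 4, 6, 9, 7]),
   (50, [4, 4, 4, 5, 5, 5, 4, 7, 9, 8, 6, 10, 10]),
   (147, [5, 4, 4, 5, 5, 4, 4, 4, 7, 7, 10]),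
   (54, [4, 5, 4, 5, 5, 5, 4, 8, 6, 6, 9]),
   (75, [4, 5, 4, 5, 5, 4, 4, 4, 9, 8, 6, 10, 10]),
   (139, [4, 4, 4, 5, 4, 7, 6, 6]),
   (48, [4, 5, 4, 5, 7, 9, 6, 6, 10]),
   (156, [4, 4, 5, 4, 5, 9, 7, 9]),
   (91, [4, 5, 5, 5, 4, 5, 5, 4, 9, 8, 7]),
   (46, [4, 4, 4, 4, 5, 4, 5, 8, 6, 6, 9]),
   (57, [4, 4, 4, 4, 5, 4, 4, 7, 7, 9]),
   (17, [5, 4, 4, 5, 4, 6, 6, 10, 10]),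
   (9, [5, 5, 4, 4, 6, 10]),
   (107, [4, 4, 4, 5, 4, 5, 7, 6, 6, 10]),
   (92, [4, 5, 5, 4, 7, 9, 8, 7]),
   (6, [4, 4, 4, 5, 5, 5, 7, 7]),
   (33, [4, 4, 5, 4, 7, 9, 8, 6]),
   (2, [4, 4, 4, 4, 5, 4, 5, 7, 8, 9, 7, 10]),
   (69, [4, 4, 5, 5, 5, 4, 7, 8, 6, 10]),
   (131, [4, 5, 5, 5, 5, 4, 5, 4, 7, 8, 6, 10]),
   (113, [5, 5, 4, 4, 6, 8, 9, 7, 10]),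
   (24, [4, 5, 4, 4, 5, 4, 4, 7, 9, 7, 10, 10]),
   (102, [5, 4, 4, 5, 4, 5, 8, 9, 6, 9, 10, 10]),
   (127, [5, 4, 5, 4, 5, 4, 5, 6, 9, 6, 6, 10]),
   (45, [5, 4, 5, 4, 5, 5, 7, 6, 10]),
   (8, [5, 4, 5, 4, 7, 8, 9]),
   (116, [5, 5, 4, 5, 4, 4, 4, 7, 7]),
   (103, [5, 4, 5, 4, 4, 9, 7, 9, 10, 10]),
   (16, [5, 4, 4, 5, 4, 5, 8, 9, 10]),
   (79, [4, 4, 5, 4, 5, 5, 6, 8, 6, 6]),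
   (89, [4, 5, 4, 5, 5, 4, 7, 7, 6]),
   (105, [4, 5, 5, 4, 4, 4, 7, 9, 7, 10]),
   (38, [5, 4, 4, 5, 4, 5, 7, 7, 8, 9, 10]),
   (88, [4, 5, 5, 4, 5, 5, 7, 10, 10]),
   (68, [4, 4, 9, 6, 9]),
   (71, [4, 4, 4, 5, 5, 5, 4, 9, 8, 6, 10]),
   (158, [5, 5, 5, 5, 9, 7, 10, 10]),
   (23, [4, 5, 4, 5, 4, 4, 6, 9, 6, 6]),
   (29, [5, 4, 5, 4, 4, 4, 9, 7, 10, 10]),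
   (58, [5, 5, 4, 4, 5, 4, 5, 8, 6]),
   (137, [4, 4, 4, 5, 5, 5, 4, 8, 9, 7, 10, 10]),
   (138, [4, 4, 5, 5, 5, 9, 7, 7, 6]),
   (36, [5, 4, 5, 4, 5, 5, 9, 7, 10]),
   (81, [5, 4, 4, 4, 5, 4, 4, 9, 6, 7, 10, 10]),
   (120, [5, 5, 5, 4, 5, 8, 7, 9, 7]),
   (95, [4, 4, 4, 4, 5, 4, 5, 7, 6, 10]),
   (129, [5, 4, 4, 4, 8, 7, 9, 7]),
   (114, [4, 5, 4, 4, 4, 6, 9, 10, 10]),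
   (64, [5, 9, 7, 10, 10]),
   (150, [5, 5, 5, 4, 5, 7, 9, 7]),
   (85, [4, 4, 4, 5, 4, 4, 4, 8, 9, 10, 10]),
   (135, [5, 4, 4, 5, 5, 4, 4, 4, 8, 9, 6, 6, 10]),
   (63, [4, 4, 5, 4, 7, 10, 10]),
   (115, [4, 4, 7, 6, 6]),
   (128, [5, 5, 4, 5, 7, 8, 9, 10]),
   (133, [5, 5, 4, 4, 5, 4, 5, 6, 9, 8, 6]),
   (86, [5, 5, 4, 4, 7, 8, 9, 10, 10]),
   (106, [5, 4, 4, 9, 8, 7, 9]),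
   (159, [5, 4, 5, 4, 5, 4, 5, 7, 8, 9, 7]),
   (14, [5, 5, 4, 5, 5, 4, 6, 9, 8, 6, 10, 10]),
   (125, [5, 4, 4, 5, 5, 4, 4, 4, 8, 6, 6, 9, 10]),
   (78, [5, 5, 4, 7, 9, 6]),
   (66, [4, 5, 4, 5, 4, 4, 7, 7, 9, 10]),
   (94, [5, 5, 7, 7, 9, 10]),
   (148, [5, 4, 5, 4, 5, 8, 6, 6, 9]),
   (11, [5, 5, 4, 4, 4, 9, 6, 7, 10]),
   (122, [4, 4, 5, 4, 4, 7, 7, 6, 10]),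
   (13, [5, 4, 4, 5, 4, 5, 4, 7, 9, 6, 10, 10]),
   (151, [4, 5, 4, 5, 5, 4, 7, 6, 6, 10, 10]),
   (146, [5, 5, 4, 5, 4, 9, 7, 8, 6]),
   (112, [4, 4, 5, 4, 5, 4, 9, 7, 10, 10]),
   (42, [5, 4, 4, 4, 5, 4, 4, 7, 9, 7, 10, 10])]

/-- Part of a closure certificate. -/
def gLev1c2 : List (ℕ × List ℕ) :=
  [(56, [4, 5, 5, 4, 5, 5, 8, 9, 7, 6, 10, 10]),
   (1, [4, 5, 4, 5, 5, 5, 4, 6, 9, 8, 6]),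
   (154, [4, 4, 4, 9, 8, 7, 9, 10, 10]),
   (22, [4, 5, 5, 5, 4, 5, 4, 6, 7, 10, 10]),
   (53, [5, 4, 4, 5, 4, 4, 7, 7, 9]),
   (110, [5, 4, 5, 4, 5, 4, 5, 8, 6, 6, 10]),
   (12, [4, 5, 7, 7, 8, 9]),
   (126, [4, 5, 4, 5, 5, 4, 4, 4, 9, 6, 6, 10]),
   (35, [4, 5, 4, 5, 4, 9, 7, 8, 6, 10, 10]),
   (60, [4, 4, 4, 5, 5, 5, 9, 6]),
   (118, [5, 4, 5, 5, 4, 4, 4, 7, 9, 10, 10]),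
   (27, [5, 5, 5, 4, 5, 4, 9, 7, 9, 6]),
   (10, [5, 6, 9, 8, 6]),
   (96, [4, 5, 5, 5, 5, 7, 9, 6]),
   (134, [4, 5, 4, 5, 4, 5, 8, 7, 10, 10]),
   (99, [4, 5, 5, 4, 9, 7, 6]),
   (87, [5, 4, 4, 5, 4, 5, 5, 7, 7, 6]),
   (90, [4, 4, 4, 4, 5, 4, 5, 8, 9, 6, 6, 10, 10]),
   (104, [9, 10]),
   (41, [5, 4, 4, 5, 4, 8, 6, 10]),
   (101, [5, 5, 4, 5, 4, 9, 6, 6, 10]),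
   (100, [4, 5, 4, 5, 5, 4, 4, 4, 7, 9, 6]),
   (47, [5, 5, 5, 4, 5, 5, 4, 6, 7, 10, 10]),
   (149, [4, 5, 4, 5, 4, 5, 7, 6, 6]),
   (130, [4, 5, 5, 5, 5, 9, 10]),
   (3, [5, 4, 4, 5, 4, 5, 4, 6, 9, 7, 8, 6]),
   (44, [5, 5, 4, 5, 4, 5, 5, 9, 10]),
   (32, [5, 4, 4, 5, 4, 4, 6, 6, 10]),
   (124, [4, 6, 6, 9, 10, 10]),
   (76, [4, 5, 4, 5, 5, 5, 4, 9, 6, 9, 10]),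
   (15, [4, 5, 5, 5, 4, 5, 5, 4, 9, 7, 10]),
   (37, [5, 4, 5, 4, 5, 6, 7, 10, 10]),
   (72, [4, 5, 4, 5, 4, 5, 6, 7, 10]),
   (123, [4, 4, 5, 5, 5, 5, 6, 9]),
   (51, [4, 5, 5, 5, 5, 4, 5, 4, 9, 7, 6, 10, 10]),
   (39, [5, 5, 4, 5, 4, 5, 5, 9, 8, 6, 6, 10, 10]),
   (73, [4, 4, 5, 5, 5, 9, 6, 6, 10, 10]),
   (5, [4, 4, 4, 5, 5, 5, 7, 7, 8, 9, 10]),
   (49, [4, 4, 4, 4, 5, 4, 4, 8, 8, 6, 10, 10]),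
   (65, [4, 5, 5, 5, 4, 5, 4, 9, 8, 6, 6, 10]),
   (111, [5, 4, 4, 5, 4, 5, 4, 6, 9, 7, 10, 10]),
   (21, [4, 4, 4, 5, 5, 5, 4, 6, 9, 7, 10, 10]),
   (143, [5, 5, 5, 4, 5, 5, 4, 6, 6, 9, 6, 6, 10, 10]),
   (28, [5, 4, 4, 5, 4, 5, 4, 7, 9, 7, 6, 10, 10]),
   (157, [5, 5, 4, 5, 5, 9, 8, 7, 9]),
   (20, [6, 7, 10]),
   (0, [5]),
   (16, [5, 5, 5, 4, 5, 5, 4, 9, 7, 10]),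
   (27, [4, 5, 5, 4, 6, 7]),
   (149, [4, 5, 5, 4, 5, 5, 4, 7, 9, 7, 10]),
   (24, [4, 5, 4, 5, 5, 4, 5, 5, 6, 9, 6, 7, 10, 10]),
   (31, [5, 5, 5, 4, 5, 5, 4, 8, 7, 10, 10]),
   (106, [5, 4, 5, 4, 5, 7, 7, 8, 9, 10, 10]),
   (85, [4, 5, 5, 5, 9]),
   (103, [4, 4, 5, 5, 5, 4, 9, 6, 7, 10, 10]),
   (41, [4, 5, 5, 4, 5, 5, 7, 7, 9, 10]),
   (59, [4, 9, 8, 7, 10, 10]),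
   (13, [4, 9, 7, 6, 10, 10]),
   (23, [4, 5, 5, 4, 4, 4, 7, 9, 7, 10, 10]),
   (104, [5, 5, 5, 4, 5, 4, 4, 4, 9, 6, 10]),
   (22, [5, 5, 4, 5, 5, 7, 7, 9]),
   (14, [5, 5, 7, 10]),
   (125, [4, 5, 5, 4, 5, 5, 4, 7, 6, 6]),
   (35, [5, 4, 4, 5, 5, 4, 4, 4, 9, 7, 9, 6]),
   (131, [4, 5, 5, 4, 8, 6, 9, 6]),
   (100, [5, 5, 5, 4, 4, 4, 8, 9, 6, 6]),
   (29, [4, 4, 5, 4, 5, 6]),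
   (6, [4, 5, 5, 6, 9, 8, 6, 6]),
   (140, [5, 5, 4, 4, 4, 7, 8, 9]),
   (157, [4, 4, 5, 4, 5, 4, 6, 9, 7, 8, 6]),
   (40, [5, 4, 5, 5, 4, 5, 5, 8, 9, 7, 6, 10, 10]),
   (10, [4, 5, 4, 4, 5, 4, 4, 8, 6, 9, 6, 10, 10]),
   (123, [4, 5, 4, 4, 5, 4, 4, 9, 8, 7, 10, 10]),
   (70, [4, 4, 5, 5, 5, 5, 7, 7]),
   (25, []),
   (7, [4, 4, 4, 9, 6, 9, 10, 10]),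
   (38, [4, 5, 5, 5, 4, 5, 4, 7, 7, 10]),
   (112, [5, 4, 5, 4, 5, 5, 6, 10, 10]),
   (5, [5, 4, 5, 5, 4, 5, 5, 8, 9, 7, 6]),
   (1, [4, 5, 5, 5, 4, 7, 10, 10]),
   (67, [5, 5, 4, 4, 8, 7, 9, 7, 10, 10]),
   (155, [4, 4, 5, 5, 4, 4, 4, 7, 9, 8, 6, 10]),
   (133, [7, 8, 9, 7, 10]),
   (95, [5, 5, 5, 4, 4, 4, 8, 7, 7, 6]),
   (8, [4, 5, 4, 5, 5, 5, 5, 8, 9, 7, 6]),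
   (144, [4, 5, 5, 7, 9, 7, 6]),
   (114, [4, 4, 4, 5, 4, 5, 7, 8, 9]),
   (135, [4, 4, 5, 5, 5, 5, 9, 6, 9]),
   (76, [4, 4, 5, 4, 4, 4, 9, 7, 6, 6, 10]),
   (61, [4, 4, 4, 5, 5, 5, 9, 7, 9]),
   (121, [4, 5, 5, 7, 7, 9, 10, 10]),
   (69, [5, 4, 4, 4, 5, 4, 4, 6, 9, 7, 10]),
   (153, [4, 5, 4, 5, 5, 4, 4, 4, 9, 7, 7, 6]),
   (82, [4, 4, 5, 4, 5, 5, 4, 6, 6, 9, 10]),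
   (129, [4, 5, 4, 5, 5, 7, 7, 10]),
   (46, [5, 5, 4, 9, 6, 10, 10]),
   (78, [4, 5, 4, 5, 5, 5, 5, 6, 9, 7, 8, 6, 10]),
   (18, [5, 4, 4, 4, 5, 4, 4, 6, 7, 10, 10]),
   (77, [5, 4, 4, 5, 5, 5, 9, 7, 7, 6, 10]),
   (39, []),
   (107, [4, 5, 4, 4, 4, 7, 9, 6, 6, 10, 10]),
   (55, [4, 4, 4, 5, 4, 4, 6, 9, 8, 6, 10]),
   (89, [5, 4, 4, 5, 4, 5, 4, 8, 7, 10, 10]),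
   (138, [4, 4, 5, 5, 5, 4, 8, 7, 9, 10, 10]),
   (93, [5, 4, 5, 4, 4, 4, 6, 6, 10]),
   (145, [4, 5, 5, 5, 5, 7, 6, 6]),
   (160, [8, 9, 6, 9, 10, 10]),
   (143, [5, 5, 4, 5, 5, 8, 7, 9, 10]),
   (99, [4, 4, 5, 4, 5, 4, 5, 7, 7, 8, 9]),
   (148, [4, 5, 4, 5, 7, 9, 6, 6, 10, 10]),
   (94, [5, 4, 5, 4, 7, 6, 10]),
   (49, [5, 4, 5, 5, 4, 9, 8, 7, 10, 10]),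
   (84, [5, 4, 5, 5, 4, 5, 5, 8, 8, 6, 10, 10]),
   (2, [4, 4, 4, 5, 4, 5, 7, 7, 6, 10, 10]),
   (87, [5, 4, 5, 4, 4, 9, 7, 8, 6, 10, 10]),
   (50, []),
   (34, [5, 5, 7, 8, 6]),
   (68, [4, 4, 4, 5, 4, 4, 8, 7, 7, 6, 10]),
   (15, [5, 5, 4, 7, 9, 8, 6]),
   (60, [4, 4, 5, 5, 4, 4, 4, 7, 8, 9]),
   (32, [4, 4, 4, 4, 5, 4, 5, 6, 8, 9, 7, 10, 10]),
   (33, [5, 5, 4, 5, 5, 4, 4, 4, 8, 6, 6, 10, 10]),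
   (108, [4, 4, 4, 5, 4, 5, 7, 9, 7, 6, 10]),
   (91, [5, 7, 9, 8, 6, 10, 10]),
   (97, [5, 4, 4, 5, 4, 6, 8, 6, 6]),
   (110, [4, 5, 4, 4, 4, 8, 8, 6, 10]),
   (9, [5, 4, 4, 9, 7, 9, 6, 10, 10]),
   (161, [5, 4, 4, 5, 4, 4, 4, 9, 7, 7, 6, 10]),
   (42, [4, 5, 4, 5, 7, 8, 6, 10, 10]),
   (86, [5, 4, 4, 4, 8, 6, 9, 6]),
   (79, [4, 4, 5, 4, 5, 5, 4, 9, 7, 7, 6, 10, 10]),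
   (134, [5, 4, 4, 5, 4, 9, 7, 9, 6]),
   (63, []),
   (128, [5, 4, 5, 4, 5, 5, 7, 9, 6, 10, 10]),
   (53, [4, 5, 5, 4, 4, 4, 7, 9, 7, 6, 10]),
   (127, [5, 4, 4, 5, 4, 4, 6, 8, 9, 7, 10]),
   (96, [5, 4, 5, 4, 5, 7, 9, 6, 6]),
   (151, [4, 5, 4, 4, 8, 9, 6, 6, 10]),
   (71, [5, 5, 4, 5, 6, 9, 6, 10, 10]),
   (101, [5, 5, 4, 5, 7, 6, 10]),
   (146, [4, 5, 4, 5, 4, 4, 7, 6, 6, 10]),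
   (118, [4, 4, 5, 5, 5, 8, 6, 9, 6]),
   (21, [5, 4, 5, 5, 4, 5, 5, 7, 9, 7, 10]),
   (45, [5, 5, 4, 5, 5, 9, 7, 8, 6, 10, 10]),
   (130, [4, 5, 5, 4, 8, 9, 7, 10]),
   (156, [5, 4, 5, 4, 5, 5, 7, 7, 6, 10]),
   (36, [5, 4, 5, 4, 5, 9, 7]),
   (159, [5, 5, 5, 4, 5, 4, 4, 4, 9, 8, 6]),
   (73, [4, 5, 4, 4, 7, 10, 10]),
   (111, [4, 5, 4, 5, 5, 4, 4, 4, 7, 7, 9, 6, 10, 10]),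
   (113, [5, 4, 5, 4, 6, 9, 6, 7, 10, 10]),
   (58, [4, 5, 5, 8, 7, 9]),
   (90, [4, 5, 4, 4, 4, 5, 4, 4, 9, 6, 7]),
   (62, [5, 5, 4, 4, 4, 9, 8, 7, 10, 10]),
   (47, [5, 5, 5, 4, 4, 4, 6, 8, 6, 6, 10]),
   (51, [4, 5, 5, 4, 4, 4, 6, 9, 6, 7, 10, 10]),
   (119, [5, 5, 4, 4, 9, 7, 6, 6, 10, 10]),
   (30, [4, 5, 5, 7, 7, 8, 9, 10, 10]),
   (74, [4, 5, 4, 4, 9, 6, 9, 10]),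
   (142, [5, 5, 5, 4, 5, 4, 4, 4, 9, 6, 7]),
   (116, [5, 4, 5, 5, 4, 5, 5, 8, 9, 6, 9]),
   (83, []),
   (4, [4, 4, 5, 4, 5, 5, 9, 8, 6]),
   (44, [5, 5, 5, 4, 5, 5, 4, 9, 7, 7, 6]),
   (141, [5, 4, 4, 4, 5, 4, 4, 8, 8, 6]),
   (66, [4, 5, 4, 5, 5, 5, 4, 6, 6, 10]),
   (124, [4, 4, 5, 5, 4, 4, 4, 9, 8, 7, 10, 10]),
   (57, [5, 5, 4, 5, 5, 5, 4, 8, 6, 10]),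
   (137, [5, 5, 4, 5, 4, 5, 5, 8, 7, 7, 6, 10]),
   (17, [5, 5, 4, 4, 5, 4, 5, 6, 9, 6, 10]),
   (43, [5, 4, 4, 5, 4, 4, 7, 8, 6, 10, 10]),
   (75, [4, 4, 5, 4, 5, 5, 4, 8, 9, 6, 6, 10, 10]),
   (52, [4, 5, 5, 5, 4, 5, 6, 9, 8, 6, 6]),
   (3, [4, 4, 4, 6, 9, 8, 6, 10, 10]),
   (92, [5, 5, 5, 4, 4, 4, 7, 9, 6, 10]),
   (12, [4, 5, 4, 5, 5, 4, 5, 5, 9, 8, 7, 9, 10, 10]),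
   (64, [5, 4, 4, 5, 4, 5, 5, 7, 7, 8, 9, 10]),
   (152, [5, 4, 4, 5, 4, 5, 4, 7, 7, 9, 6]),
   (81, [4, 4, 4, 4, 5, 4, 5, 9, 8, 6, 10]),
   (136, [5, 4, 5, 4, 4, 7, 7]),
   (20, [4, 5, 5, 5, 4, 5, 9, 8, 7, 9, 10, 10]),
   (139, [5, 4, 4, 5, 4, 5, 5, 9, 7, 9, 6, 10, 10]),
   (19, [4, 4, 8, 9, 7, 10]),
   (132, [4, 4, 4, 5, 4, 4, 6, 9, 6, 6]),
   (117, [4, 4, 5, 4, 5, 8, 6, 6, 9, 10, 10]),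
   (80, [5, 5, 5, 4, 7, 7, 9, 10, 10]),
   (72, [4, 4, 5, 4, 5, 9, 6, 7, 10, 10]),
   (154, [4, 5, 4, 5, 5, 4, 5, 5, 6, 10]),
   (11, [4, 4, 4, 5, 4, 4, 6, 8, 9, 7]),
   (120, [4, 4, 4, 5, 4, 4, 4, 9]),
   (158, [4, 5, 4, 5, 4, 5, 9, 7, 8, 6]),
   (28, [4, 4, 4, 5, 5, 5, 8, 7, 9, 7, 10]),
   (98, [4, 5, 4, 5, 5, 5, 4, 6, 6, 9, 6, 6]),
   (65, [5, 5, 5, 5, 9, 7, 7, 6]),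
   (115, [5, 5, 4, 6, 9, 6, 6, 10, 10]),
   (56, [5, 5, 5, 5, 9, 6, 9]),
   (102, [4, 4, 5, 4, 4, 7, 9, 8, 7, 10]),
   (126, [5, 4, 5, 4, 5, 5, 6, 9, 7, 8, 6, 10, 10]),
   (109, [4, 4, 5, 4, 5, 5, 4, 6, 6, 9, 6, 6, 10, 10]),
   (147, [5, 5, 4, 5, 4, 6, 9, 8, 6, 6]),
   (37, [5, 5, 4, 5, 5, 4, 8, 9, 7, 6]),
   (26, [4, 5, 5, 5, 4, 5, 5, 4, 6, 9, 10, 10]),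
   (54, [4, 4, 5, 4, 5, 5, 4, 9, 7, 6, 6, 10, 10]),
   (48, [4, 5, 4, 4, 9, 8, 6, 10]),
   (88, [5, 4, 5, 5, 6, 6, 9, 6, 6, 10]),
   (105, [4, 4, 5, 6, 9, 8, 6, 10]),
   (150, [4, 5, 4, 5, 5, 5, 4, 7, 7, 9]),
   (122, [5, 5, 5, 4, 5, 4, 6, 9, 7]),
   (0, [6]),
   (38, [5, 4, 4, 5, 5, 4, 4, 4, 6, 8, 6, 6, 10, 10]),
   (143, [5, 4, 9, 8, 7, 9, 10]),
   (118, [4, 5, 5, 6, 9, 6, 6]),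
   (4, [5, 5, 5, 5, 8, 6]),
   (56, [5, 4, 5, 4, 5, 5, 7]),
   (159, [5, 4, 5, 4, 5, 5, 8, 6, 6, 9, 10, 10]),
   (54, [4, 4, 5, 4, 5, 4, 5, 8, 6, 6]),
   (152, [5, 4, 4, 5, 5, 5, 6, 8, 9, 7, 10]),
   (74, [4, 5, 4, 5, 4, 4, 8, 9, 7, 10]),
   (44, [4, 5, 5, 5, 4, 5, 8, 6, 6, 10, 10]),
   (150, [5, 4, 5, 5, 4, 5, 5, 8, 9, 6, 6])]

/-- Part of a closure certificate. -/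
def gLev1c3 : List (ℕ × List ℕ) :=
  [(10, [5, 4, 5, 4, 5, 5, 7, 8, 9, 7, 10]),
   (33, [4, 5, 5, 5, 5, 4, 5, 4, 9]),
   (100, [5, 4, 4, 5, 5, 5, 9, 6, 7, 10, 10]),
   (73, [4, 5, 4, 4, 4, 5, 4, 4, 6, 6, 9, 10, 10]),
   (140, [4, 5, 5, 5, 6, 9, 10]),
   (141, [5, 4, 4, 5, 4, 7, 9, 6, 10, 10]),
   (90, [5, 4, 5, 4, 5, 8, 9, 7, 6]),
   (119, [4, 4, 4, 4, 5, 4, 4, 9, 7, 9, 6, 10, 10]),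
   (42, [5, 4, 5, 4, 4, 4, 7, 9]),
   (62, [4, 4, 5, 4, 4, 9, 8, 6, 10]),
   (104, [4, 4, 5, 4, 4, 4, 6, 6]),
   (110, [4, 5, 4, 4, 8, 9, 6, 9, 10]),
   (24, [5, 4, 4, 5, 4, 5, 5, 7, 6, 10, 10]),
   (81, [4, 4, 4, 5, 5, 5, 4, 8, 7, 10]),
   (154, [5, 5, 5, 4, 5, 4, 4, 4, 9, 6, 7]),
   (9, [5, 7, 7, 10, 10]),
   (19, [4, 5, 5, 4, 5, 8, 6, 10, 10]),
   (25, [4, 5, 5, 4, 7, 8, 9, 7, 10, 10]),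
   (72, [4, 5, 4, 5, 5, 5, 5, 9, 8, 7, 9, 10]),
   (34, [5, 5, 5, 4, 5, 4, 4, 4, 7, 9, 6, 6, 10, 10]),
   (95, [4, 5, 4, 5, 4, 4, 6, 9, 7, 10]),
   (109, [5, 4, 4, 5, 4, 5, 4, 8, 6, 6, 10, 10]),
   (80, [4, 5, 5, 4, 5, 5, 4, 9, 6, 9, 10]),
   (61, [4, 5, 4, 9, 8, 6, 6]),
   (96, [4, 6, 9, 7, 10, 10]),
   (153, [5, 4, 5, 4, 5, 4, 5, 7, 8, 9, 10, 10]),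
   (142, [4, 5, 7, 7]),
   (43, [5, 4, 5, 4, 5, 5, 7, 7]),
   (39, [5, 4, 5, 5, 5, 4, 6, 9, 10, 10]),
   (5, [4, 7, 7, 10, 10]),
   (148, [5, 4, 4, 5, 4, 4, 4, 7]),
   (40, [5, 4, 5, 4, 9, 8, 7, 9, 10, 10]),
   (12, [4, 4, 5, 4, 4, 4, 7, 8, 9, 7, 10, 10]),
   (6, [4, 5, 5, 7, 7, 8, 9, 10]),
   (89, [5, 5, 5, 4, 5, 4, 4, 4, 6, 9, 6, 10, 10]),
   (115, [5, 4, 5, 5, 9, 6, 6, 10]),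
   (131, [5, 5, 5, 4, 5, 5, 4, 7, 6, 6, 10]),
   (77, [4, 5, 5, 4, 5, 5, 9, 7, 9, 6, 10]),
   (50, [9, 7, 6, 6]),
   (51, [4, 5, 4, 5, 4, 5, 9, 7, 8, 6, 10]),
   (53, [4, 4, 4, 5, 4, 7, 9]),
   (91, [5, 4, 4, 5, 4, 5, 9, 6, 10]),
   (138, [5, 4, 4, 5, 4, 5, 9, 7, 10, 10]),
   (70, [5, 5, 5, 4, 5, 4, 4, 4, 6, 7, 10, 10]),
   (41, [5, 5, 5, 4, 5, 6]),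
   (57, [5, 4, 4, 5, 5, 4, 4, 4, 7, 9, 6, 10]),
   (156, [5, 5, 4, 5, 9, 7, 6, 6]),
   (108, [4, 5, 4, 5, 5, 4, 5, 5, 9, 8, 7, 9, 10]),
   (121, [5, 5, 5, 5, 9, 6, 10]),
   (127, [4, 4, 5, 4, 5, 5, 9, 8, 7, 9]),
   (129, [5, 5, 4, 4, 4, 8, 6, 6, 9]),
   (145, [5, 5, 5, 4, 9, 7, 6]),
   (47, [4, 5, 6, 9, 10]),
   (123, [5, 4, 4, 4, 5, 4, 4, 6, 6, 10, 10]),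
   (86, [4, 5, 5, 4, 5, 6, 6, 9, 6, 6, 10, 10]),
   (155, [5, 5, 4, 5, 9, 6, 9, 10]),
   (98, [4, 4, 8, 6, 6]),
   (105, [5, 5, 4, 5, 4, 4, 4, 6, 10]),
   (114, [5, 5, 4, 4, 8, 7, 7, 6, 10]),
   (48, [4, 5, 4, 4, 7, 7, 6]),
   (92, [5, 5, 4, 5, 4, 5, 5, 8, 7, 7, 6, 10, 10]),
   (130, [5, 5, 4, 4, 4, 8, 9, 7, 10, 10]),
   (27, [5, 4, 4, 5, 4, 4, 4, 7, 9, 10, 10]),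
   (134, [5, 4, 5, 5, 5, 4, 7, 7, 10]),
   (16, [5, 5, 4, 4, 5, 4, 5, 7, 6, 6]),
   (151, [5, 4, 4, 5, 4, 4, 8, 6, 10, 10]),
   (161, [4, 4, 4, 5, 4, 5, 7, 9, 6, 10, 10]),
   (160, [4, 5, 4, 4, 4, 5, 4, 4, 7, 9, 6, 6]),
   (31, [5, 4, 5, 7, 6, 10, 10]),
   (29, [5, 5, 5, 5, 4, 5, 6, 7]),
   (82, [4, 5, 5, 5, 7, 10]),
   (22, [4, 5, 4, 5, 5, 5, 4, 6, 9, 7, 8, 6, 10, 10]),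
   (14, [5, 5, 4, 5, 4, 5, 5, 7]),
   (60, [5, 5, 4, 5, 4]),
   (133, [4, 5, 4, 4, 4, 8, 6, 6, 10]),
   (87, [4, 5, 4, 5, 5, 7, 9, 8, 7, 10, 10]),
   (37, [5, 5, 4, 5, 9, 6]),
   (158, [4, 5, 5, 6, 9, 7, 8, 6, 10]),
   (99, [4, 4, 4, 4, 5, 4, 4, 9, 7, 9, 6, 10, 10]),
   (52, [4, 5, 5, 5, 9, 7, 10]),
   (30, [4, 4, 5, 4, 4, 8, 7, 7, 6, 10, 10]),
   (102, [5, 5, 5, 4, 5, 9, 8, 6, 10, 10]),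
   (58, [5, 4, 5, 4, 5, 5, 8, 6]),
   (139, [5, 5, 4, 5, 4, 5, 5, 6, 6, 9, 10, 10]),
   (122, [4, 4, 5, 4, 9, 8, 6, 6, 10, 10]),
   (75, [5, 4, 4, 6, 9, 6, 6, 10]),
   (125, [5, 5, 5, 4, 5, 7, 9, 6, 6]),
   (18, [5, 5, 5, 4, 5, 4, 9, 7, 9, 6, 10]),
   (84, [4, 5, 5, 5, 4, 5, 8, 7, 7, 6, 10]),
   (101, [4, 5, 4, 5, 5, 4, 5, 5, 8, 9, 10, 10]),
   (103, [5, 5, 5, 4, 5, 4, 4, 4, 8, 9, 6, 9, 10, 10]),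
   (93, [4, 4, 5, 4, 5, 5, 4, 8, 9, 10, 10]),
   (83, [4, 5, 5, 4, 5, 5, 4, 6, 6, 9, 10, 10]),
   (113, [4, 5, 4, 5, 5, 4, 5, 5, 9, 8, 7, 9, 10]),
   (63, [4, 4, 5, 4, 4, 6, 6, 9, 10]),
   (59, [5, 4, 5, 9, 7, 8, 6]),
   (107, [4, 5, 5, 5, 4, 9, 8, 6]),
   (13, [4, 5, 4, 5, 5, 4, 4, 4, 7, 6, 6, 10, 10]),
   (137, [5, 5, 5, 5, 4, 5, 4, 9, 7, 7, 6, 10, 10]),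
   (79, [5, 4, 5, 4, 4, 6, 8, 6, 6]),
   (135, [5, 5, 4, 5, 5, 9, 7, 7, 6, 10]),
   (69, [5, 4, 4, 6, 9, 7, 10, 10]),
   (55, [5, 4, 5, 4, 5, 5, 7, 7, 10]),
   (64, [5, 5, 4, 4, 4, 7, 9, 7, 6, 10, 10]),
   (65, [5, 5, 4, 5, 4, 5, 5, 6, 6, 9, 6, 6, 10, 10]),
   (8, [5, 5, 5, 4, 5, 5, 4, 7, 9]),
   (124, [5, 5, 4, 4, 4, 9, 7, 9, 6]),
   (28, [4, 4, 5, 5, 5, 5, 4, 5, 4, 6, 9, 8, 6, 6]),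
   (26, [5, 4, 4, 4, 5, 4, 9, 7, 7, 6]),
   (85, [5, 4, 4, 5, 4, 4, 9, 7, 8, 6, 10, 10]),
   (36, [5, 4, 5, 4, 5, 5, 8, 6, 10, 10]),
   (116, [5, 5, 5, 4, 5, 4, 4, 4, 8, 7, 7, 6, 10]),
   (3, [4, 4, 5, 5, 5, 5, 4, 5, 4, 8, 9, 6, 9, 10]),
   (68, [4, 5, 4, 5, 5, 4, 4, 4, 6, 9, 8, 6, 10]),
   (112, [4, 5, 5, 5, 4, 5, 4, 7, 6, 6, 10, 10]),
   (35, [4, 4, 5, 5, 5, 7, 9, 7, 6, 10]),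
   (146, [5, 4, 5, 5, 5, 5, 6, 8, 6, 6]),
   (21, [4, 4, 5, 4, 5, 4, 5, 9, 7, 6, 6, 10]),
   (15, [4, 4, 4, 5, 4, 6, 9, 6, 6, 10]),
   (71, [4, 4, 4, 5, 4, 4, 4, 7, 7, 8, 9]),
   (128, [4, 5, 4, 5, 5, 4, 6, 10, 10]),
   (66, [5, 5, 5, 5, 8, 6, 9, 6, 10]),
   (97, [5, 4, 4, 4, 5, 4, 8, 7, 10, 10]),
   (126, [5, 5, 4, 5, 5, 7, 7, 8, 9, 10, 10]),
   (11, [4, 4, 4, 4, 5, 4, 4, 7, 6, 10, 10]),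
   (23, [5, 4, 4, 5, 5, 4, 4, 4, 8, 6, 9, 6, 10]),
   (7, [5, 4, 5, 5, 5, 5, 8, 6, 10]),
   (32, [5, 5, 4, 6, 10]),
   (76, [4, 4, 5, 4, 5, 5, 4, 7, 7, 9, 6, 10, 10]),
   (149, [5, 5, 4, 9, 10]),
   (1, [4, 5, 4, 4, 4, 7, 9, 10, 10]),
   (147, [4, 5, 5, 4, 5, 7, 7, 6, 10]),
   (67, [5, 4, 4, 5, 5, 5, 9, 7, 8, 6, 10]),
   (106, [4, 4, 5, 4, 5, 5, 8, 9, 7, 10]),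
   (132, [4, 4, 5, 4, 5, 5, 4, 9, 8, 7, 9, 10, 10]),
   (2, [4, 5, 4, 5, 4, 6, 7]),
   (20, [4, 4, 5, 4, 4, 6, 6, 9, 10, 10]),
   (17, [5, 5, 4, 5, 7, 7, 9, 6]),
   (136, [4, 5, 4, 5, 5, 4, 7, 9, 6, 6, 10]),
   (49, [5, 4, 4, 5, 4, 4, 4, 6, 9, 6, 7, 10, 10]),
   (117, [5, 4, 4, 5, 5, 5, 8, 9, 10]),
   (88, [4, 4, 5, 4, 5, 5, 8, 6, 6, 9, 10]),
   (120, [5, 5, 5, 4, 8, 6, 10]),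
   (144, [5, 4, 5, 5, 4, 4, 4, 7, 7, 8, 9]),
   (94, [5, 5, 5, 5, 4, 5, 4, 9, 7, 6, 6, 10, 10]),
   (78, [5, 5, 4, 4, 7, 7, 6]),
   (46, [5, 5, 4, 5, 4, 4, 4, 8, 6, 9, 6, 10, 10]),
   (45, [5, 5, 4, 5, 4, 7, 10]),
   (111, [4, 4, 4, 5, 5, 5, 6, 9, 10, 10]),
   (157, [5, 5, 4, 4, 4, 6, 8, 9, 7, 10]),
   (0, [7]),
   (38, [5, 5, 5, 6, 9, 7, 8, 6]),
   (77, [5, 5, 4, 5, 8, 6, 6]),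
   (34, [4, 4, 4, 5, 4, 4, 6, 9, 8, 6, 10, 10]),
   (127, [5, 4, 5, 4, 5, 5, 9, 7, 9, 6]),
   (2, [5, 5, 4, 5, 5, 4, 4, 4, 10]),
   (152, [4, 4, 4, 5, 5, 5, 4, 7, 9, 8, 7]),
   (20, [4, 4, 5, 5, 5, 5, 9, 6, 6, 10]),
   (76, [4, 4, 4, 5, 4, 4, 7, 8, 6, 10, 10]),
   (17, [5, 4, 5, 4, 5, 5, 6, 6, 9, 10]),
   (109, [5, 5, 4, 4, 8, 9, 6, 6, 10, 10]),
   (136, [5, 5, 7, 9, 7, 6]),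
   (58, [4, 4, 5, 4, 6, 6, 9, 10, 10]),
   (12, [5, 5, 5, 5, 7, 9, 6, 10]),
   (10, [5, 4, 4, 4, 5, 4, 9, 7, 8, 6, 10]),
   (7, [4, 5, 4, 5, 8, 9, 7, 6]),
   (117, [4, 5, 5, 6, 7, 10, 10]),
   (149, [5, 5, 5, 4, 4, 4, 7, 7, 9, 6]),
   (28, [5, 5, 4, 5, 4, 4, 4, 6, 9, 8, 6, 10]),
   (99, [4, 5, 4, 4, 4, 5, 4, 4, 7, 10]),
   (15, [4, 5, 8, 8, 6, 10]),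
   (21, [5, 4, 4, 5, 4, 5, 4, 9, 6, 10]),
   (161, [5, 5, 4, 5, 5, 8, 7, 7, 6]),
   (54, [4, 4, 5, 5, 4, 4, 4, 9, 8, 6]),
   (154, [4, 5, 5, 5, 5, 9, 8, 7, 9, 10]),
   (98, [4, 4, 5, 5, 4, 4, 4, 7, 9, 7, 6, 10]),
   (26, [4, 4, 5, 5, 5, 5, 4, 5, 4, 8, 7, 10]),
   (74, [5, 4, 4, 8, 7, 9, 7, 10, 10]),
   (72, [5, 4, 4, 5, 4, 5, 6, 9, 6, 6, 10]),
   (111, [4, 5, 5, 5, 4, 5, 5, 4, 8, 8, 6]),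
   (97, [5, 7, 7, 9, 6, 10]),
   (3, [5, 5, 5, 4, 7, 9, 6, 10]),
   (67, [5, 4, 8, 6, 6]),
   (94, [4, 4, 5, 5, 5, 5, 7, 6, 10, 10]),
   (31, [4, 4, 5, 5, 5, 5, 4, 5, 4, 7, 9, 7, 6, 10, 10]),
   (4, [4, 4, 4, 5, 4, 4, 4, 7, 8, 9, 7]),
   (122, [4, 4, 5, 4, 5, 5, 4, 8, 7, 9, 7]),
   (95, [5, 4, 4, 4, 5, 4, 4, 7, 8, 9, 10, 10]),
   (101, [4, 4, 5, 4, 5, 6, 9, 8, 6, 6, 10]),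
   (40, [5, 4, 4, 5, 4, 9, 7, 8, 6, 10]),
   (123, [4, 4, 4, 5, 4, 7, 8, 6, 10, 10]),
   (46, [4, 4, 5, 4, 4, 4, 6, 6, 9, 6, 6, 10, 10]),
   (138, [4, 4, 5, 5, 5, 5, 4, 5, 4, 9, 8, 7, 9, 10, 10]),
   (65, [5, 4, 4, 5, 4, 4, 7, 7, 9, 6]),
   (84, [5, 5, 4, 4, 4, 9, 7, 7, 6, 10]),
   (16, [5, 5, 4, 5, 5, 8, 9, 7, 6, 10, 10]),
   (143, [5, 4, 4, 5, 4, 4, 4, 9, 8, 6, 6, 10, 10]),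
   (68, [4, 5, 4, 5, 9, 8, 7, 9, 10]),
   (108, [4, 4, 5, 5, 4, 4, 4, 7, 9, 8, 7, 10]),
   (89, [5, 5, 4, 5, 4, 6, 8, 9, 7, 10]),
   (62, [4, 4, 5, 5, 4, 4, 4, 9, 8, 6, 6, 10]),
   (66, [5, 5, 5, 8, 6, 9, 6]),
   (144, [5, 5, 4, 5, 4, 5, 5, 7, 9, 6, 10]),
   (37, [5, 5, 5, 4, 5, 4, 8, 6, 10]),
   (130, [5, 4, 4, 5, 4, 5, 5, 8, 6, 6, 9, 10, 10]),
   (114, [5, 4, 4, 5, 5, 4, 4, 4, 6, 9, 6, 6, 10, 10]),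
   (49, [5, 4, 5, 5, 4, 5, 5, 9, 8, 6, 10]),
   (57, [4, 5, 4, 5, 5, 9, 7, 9, 6]),
   (13, [4, 5, 4, 5, 4, 4, 9, 7, 8, 6]),
   (69, [5, 5, 5, 5, 8, 7, 9, 7, 10]),
   (59, [5, 4, 5, 4, 5, 4, 5, 7, 7, 10]),
   (61, [5, 5, 4, 5, 7, 9, 7, 10]),
   (129, [4, 5, 6, 7, 10, 10]),
   (104, [5, 4, 5, 4, 5, 5, 6, 9, 7, 10]),
   (25, [4, 4, 4, 5, 4, 4, 7, 7, 9, 10]),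
   (116, [4, 4, 6, 10]),
   (86, [5, 5, 5, 4, 5, 9, 6]),
   (91, [4, 5, 5, 5, 8, 8, 6]),
   (160, [4, 4, 5, 5, 5, 8, 9, 6, 6]),
   (60, [4, 4, 4, 5, 4, 4, 4, 6, 8, 9, 7, 10, 10])]

/-- Part of a closure certificate. -/
def gLev1c4 : List (ℕ × List ℕ) :=
  [(112, [4, 5, 5, 4, 4, 4, 9, 8, 6, 6, 10, 10]),
   (105, [4, 5, 4, 5, 5, 4, 5, 5, 7, 7, 10, 10]),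
   (18, [5, 5, 5, 4, 5, 5, 4, 6, 9]),
   (148, [4, 5, 5, 5, 4, 5, 4, 7, 7, 6, 10]),
   (141, [4, 4, 4, 4, 5, 4, 4, 6, 9, 8, 6, 10, 10]),
   (92, [4, 5, 4, 5, 4, 5, 7, 6, 10, 10]),
   (146, [5, 5, 4, 5, 5, 5, 4, 7, 8, 9, 7, 10]),
   (5, [4, 4, 4, 5, 4, 9, 7, 9, 6]),
   (145, [5, 4, 4, 5, 5, 4, 4, 4, 6, 9, 8, 6, 10]),
   (81, [4, 9, 7, 9, 6]),
   (124, [4, 4, 4, 4, 5, 4, 5, 7, 7, 10]),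
   (115, [4, 4, 4, 5, 4, 4, 7, 7, 6, 10, 10]),
   (82, [5, 4, 5, 4, 5, 5, 6, 6, 9, 10]),
   (106, [4, 5, 5, 5, 4, 5, 9, 6, 7, 10, 10]),
   (156, [4, 5, 5, 4, 5, 6, 9]),
   (48, [4, 6, 6, 9, 10, 10]),
   (51, [7, 7]),
   (87, [4, 5, 4, 4]),
   (155, [5, 5, 4, 5, 5, 4, 4, 4, 8, 7, 7, 6, 10]),
   (56, [5, 4, 5, 5, 4, 5, 5, 8, 6, 6, 9, 10]),
   (30, [4, 4, 5, 4, 4, 4, 9, 8, 7, 10]),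
   (32, [5, 4, 5, 7, 8, 9, 7, 10]),
   (119, [4, 5, 4, 5, 4, 5, 7, 8, 9, 7, 10]),
   (22, [4, 4, 4, 5, 4, 8, 9, 6, 9]),
   (100, [5, 4, 5, 5, 4, 6, 6, 9, 10]),
   (53, [5, 4, 4, 5, 5, 5, 6, 9, 8, 6, 6, 10, 10]),
   (36, [5, 5, 5, 4, 9, 8, 7]),
   (90, [5, 5, 4, 5, 5, 5, 4, 9, 8, 7]),
   (64, [4, 4, 5, 5, 5, 4, 9, 7, 6, 6, 10]),
   (134, [4, 4, 5, 4, 5, 4, 8, 6, 10]),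
   (33, [5, 5, 5, 4, 5, 4, 8, 6, 10, 10]),
   (1, [4, 5, 5, 4, 5, 5, 4, 8, 7, 7, 6, 10]),
   (78, [4, 5, 4, 5, 5, 4, 7, 9, 6, 6]),
   (63, [4, 5, 4, 5, 7, 9, 6, 6, 10, 10]),
   (103, [4, 5, 4, 5, 5, 5, 4, 7, 9, 10, 10]),
   (107, [4, 4, 5, 5, 5, 5, 4, 5, 4, 8, 7, 9]),
   (157, [5, 5, 4, 7, 7, 9, 6, 10]),
   (71, [4, 5, 5, 4, 4, 4, 8, 7, 9]),
   (85, [5, 5, 4, 5, 5, 4, 8, 9, 7, 10]),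
   (14, [5, 5, 5, 4, 9, 8, 7, 10, 10]),
   (73, [5, 4, 4, 5, 5, 5, 9, 8, 7]),
   (125, [4, 5, 5, 4, 5, 5, 6, 9, 10]),
   (126, [5, 5, 5, 5, 4, 5, 4, 8, 8, 6, 10, 10]),
   (131, [4, 4, 5, 5, 4, 4, 4, 9, 6, 6, 10]),
   (135, [4, 5, 5, 5, 4, 5, 4, 7, 9, 6]),
   (79, [5, 5, 4, 7, 7, 10, 10]),
   (43, [5, 5, 5, 5, 4, 5, 9, 7, 10]),
   (45, [5, 5, 4, 4, 5, 4, 5, 9, 7, 9, 10]),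
   (80, [4, 5, 4, 5, 5, 4, 9, 6, 10]),
   (75, [5, 5, 5, 5, 4, 5, 8, 6, 9, 6]),
   (24, [5, 5, 4, 5, 5, 4, 6, 7, 10]),
   (113, [4, 5, 5, 4, 5, 8, 7, 7, 6, 10, 10]),
   (96, [5, 5, 4, 5, 5, 4, 4, 4, 8, 9]),
   (39, [4, 4, 5, 4, 5, 5, 4, 6, 8, 6, 6]),
   (118, [5, 4, 5, 4, 4, 9, 7, 8, 6]),
   (29, [5, 5, 4, 5, 5, 7, 8, 9, 10, 10]),
   (70, [4, 4, 5, 4, 7, 9, 6, 10]),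
   (35, [5, 4, 9, 7, 6, 10]),
   (6, [5, 4, 4, 5, 4, 4, 8, 7, 9, 10]),
   (50, [7, 9, 7]),
   (23, [5, 5, 5, 5, 4, 5, 4, 9, 7, 9, 10, 10]),
   (121, [5, 5, 4, 5, 9, 8, 6, 10, 10]),
   (140, [4, 5, 4, 4, 5, 4, 4, 9, 8, 6, 10, 10]),
   (133, [4, 5, 5, 5, 4, 9, 8, 6, 6, 10]),
   (19, [4, 4, 5, 4, 5, 6, 8, 9, 7, 10, 10]),
   (55, [4, 4, 4, 7, 10, 10]),
   (150, [4, 4, 4, 4, 5, 4, 4, 7, 7, 9, 10]),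
   (42, [5, 4, 4, 4, 8, 9, 7, 6, 10]),
   (137, [4, 4, 4, 5, 4, 4, 8, 6, 6, 10, 10]),
   (88, [4, 5, 4, 4, 4, 5, 4, 4, 7, 7, 6, 10, 10]),
   (159, [5, 4, 5, 4, 7, 9, 7, 6]),
   (27, [5, 4, 5, 4, 4, 7, 8, 9, 7, 10]),
   (142, [5, 4, 5, 5, 5, 4]),
   (41, [5, 4, 4, 5, 5, 4, 4, 4, 7, 9, 8, 6, 10, 10]),
   (153, [4, 5, 4, 5, 5, 4, 4, 4, 9, 8, 7, 10, 10]),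
   (102, [4, 4, 4, 4, 5, 4, 4, 9, 8, 6, 10, 10]),
   (8, [4, 4, 4, 5, 4, 4, 9, 7, 9, 6, 10, 10]),
   (158, [4, 4, 5, 5, 5, 8, 9, 6, 6, 10, 10]),
   (110, [5, 5, 5, 4, 5, 4, 9, 7, 6, 6]),
   (9, [5, 4, 5, 5, 9, 7, 8, 6, 10, 10]),
   (11, [4, 4, 4, 5, 4, 9, 10]),
   (147, [5, 4, 5, 7, 7, 9, 10]),
   (128, [4, 4, 4, 6, 9, 7, 10]),
   (52, [4, 4, 4, 5, 5, 5, 4, 7, 7, 9, 10, 10]),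
   (120, [4, 4, 4, 5, 4, 5, 7, 7, 9, 6, 10, 10]),
   (139, [5, 5, 4, 7, 9, 10, 10]),
   (44, [5, 5, 4, 4, 9, 6, 7]),
   (83, [5, 5, 4, 5, 5, 5, 4, 7, 7]),
   (151, [5, 5, 4, 5, 5, 5, 4, 7, 7, 9, 10, 10]),
   (132, [5, 5, 4, 5, 5, 6, 8, 6, 6, 10]),
   (47, [5, 4, 5, 4, 8, 9, 7]),
   (93, [5, 5, 5, 4, 4, 4, 8, 9, 7, 10]),
   (0, [6, 10]),
   (16, [5, 5, 5, 5, 8, 7, 9, 7]),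
   (5, [5, 5, 4, 5, 4, 5, 5, 6, 6, 9, 6, 6]),
   (141, [4, 4, 5, 5, 5, 8, 6, 6, 10, 10]),
   (147, [4, 4, 4, 5, 4, 4, 8, 9, 6, 6, 10, 10]),
   (89, [5, 5, 5, 4, 5, 4, 6, 9, 6]),
   (152, [5, 4, 5, 5, 5, 5, 9, 6, 6, 10, 10]),
   (68, [5, 5, 4, 5, 5, 5, 4, 7, 6]),
   (101, [5, 4, 4, 4, 8, 6, 6]),
   (80, [5, 4, 4, 4, 5, 4, 4, 8, 7, 10, 10]),
   (47, [5, 5, 5, 4, 5, 5, 4, 6, 9, 6, 7]),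
   (87, [4, 5, 5, 7, 6, 6, 10]),
   (145, [4, 5, 5, 4, 5, 8, 6, 9, 6]),
   (98, [4, 4, 8, 6, 6, 10]),
   (138, [4, 4, 5, 9, 6, 6, 10]),
   (78, [5, 5, 4, 5, 5, 4, 6, 9, 10, 10]),
   (38, [4, 5, 5, 5, 5, 7, 6]),
   (39, [4, 4, 4, 4, 5, 4, 5, 9, 7, 9, 6, 10, 10]),
   (133, [4, 5, 4, 5, 5, 5, 4, 9, 8, 7, 9, 10]),
   (66, [5, 5, 4, 5, 5, 4, 9, 7, 9, 10]),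
   (44, [4, 5, 4, 5, 4, 8, 6, 10]),
   (71, [5, 4, 4, 5, 4, 5, 9, 8, 7, 9, 10, 10]),
   (12, [4, 5, 4, 5, 5, 5, 4, 7, 6, 6, 10]),
   (33, [5, 4, 5, 5, 4, 6, 7, 10, 10]),
   (67, [4, 5, 4, 4, 7, 7, 6]),
   (161, [4, 5, 4, 5, 4, 5, 7, 9, 8, 7, 10, 10]),
   (37, [4, 5, 5, 5, 4, 6, 9, 8, 6, 6, 10, 10]),
   (65, [5, 5, 5, 4, 5, 4, 4, 4, 9, 7, 10]),
   (90, [4, 5, 4, 4, 4, 5, 4, 4, 9, 8, 6, 6, 10, 10]),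
   (10, [5, 4, 5, 4, 7, 8, 6, 10, 10]),
   (86, [5, 4, 5, 4, 7, 9, 7]),
   (40, [5, 5, 5, 4, 5, 9, 7, 9, 10]),
   (144, [5, 5, 4, 5, 5, 9, 7, 6, 6, 10, 10]),
   (20, [4, 4, 5, 5, 5, 4, 8, 6, 6]),
   (112, [4, 5, 4, 5, 5, 8, 6, 9, 6, 10]),
   (46, [4, 4, 4, 4, 5, 4, 4, 6, 9, 7, 10, 10]),
   (57, [4, 4, 5, 4, 4, 4, 7, 7, 9, 6, 10, 10]),
   (24, [5, 5, 5, 5, 4, 5, 4, 8, 6, 9, 6, 10]),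
   (128, [4, 4, 4, 5, 4, 4, 4, 8, 6, 6, 10, 10]),
   (27, [5, 4, 5, 5, 5, 5, 6, 6, 9, 6, 6, 10, 10]),
   (118, [4, 5, 4, 5, 9, 8, 6, 10, 10]),
   (49, [5, 4, 4, 5, 4, 4, 4, 9, 7, 6]),
   (111, [4, 5, 4, 5, 5, 5, 5, 7, 9, 7, 6]),
   (70, [5, 5, 8, 9, 7, 6]),
   (23, [5, 4, 4, 4, 5, 4, 7, 9, 8, 6]),
   (117, [5, 5, 5, 4, 7, 9, 8, 6]),
   (127, [4, 5, 4, 4, 4, 6, 9]),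
   (94, [4, 4, 5, 4, 4, 4, 6, 9, 8, 6, 6]),
   (105, [5, 4, 5, 6, 10, 10]),
   (151, [5, 4, 5, 4, 5, 4, 5, 6, 9, 6, 6, 10]),
   (60, [5, 5, 4, 4, 4, 7, 9, 6, 10, 10]),
   (18, [4, 4, 5, 5, 4, 4, 4, 9, 8, 6, 10]),
   (154, [5, 5, 4, 5, 5, 5, 4, 7, 7, 9, 10, 10]),
   (91, [5, 4, 5, 4, 4, 4, 7, 9, 8, 7, 10]),
   (106, [4, 5, 5, 4, 5, 5, 4, 6, 9, 7, 8, 6]),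
   (34, [4, 4, 5, 4, 7, 9, 7, 6, 10, 10]),
   (4, [5, 4, 4, 4, 5, 4, 4, 6, 9, 6, 7]),
   (36, [4, 4, 5, 6, 7, 10, 10]),
   (73, [5, 4, 5, 5, 4, 6, 6, 9, 10]),
   (121, [5, 5, 5, 5, 8, 7, 10]),
   (21, [4, 5, 4, 4, 4, 8, 7, 7, 6, 10]),
   (56, [5, 5, 4, 6, 9, 7, 8, 6]),
   (113, [4, 4, 4, 5, 4, 8, 7, 9]),
   (25, [4, 5, 4, 5, 4, 5, 6, 9, 6, 6, 10, 10]),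
   (42, [4, 4, 4, 5, 5, 5, 4, 7, 7, 6, 10, 10]),
   (17, [5, 4, 4, 4, 5, 4, 4, 9, 7, 9, 6]),
   (30, [4, 4, 5, 5, 5, 9, 7, 8, 6]),
   (26, [4, 5, 4, 5, 5, 4, 7, 7, 9, 6, 10]),
   (110, [5, 4, 4, 5, 4, 5, 4, 8, 9]),
   (85, [5, 5, 5, 4, 5, 4, 8, 9, 7, 10, 10]),
   (43, [4, 4, 4, 5, 4, 8, 8, 6, 10]),
   (50, [5, 4, 4, 5, 4, 4, 4, 6, 9, 6, 7, 10, 10]),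
   (99, [4, 5, 5, 5, 5, 8, 7, 7, 6, 10]),
   (14, [4, 5, 4, 5, 5, 5, 4, 8, 6]),
   (114, [5, 5, 5, 4, 5, 4, 4, 4, 9, 8, 6, 10]),
   (51, [4, 4, 5, 4, 4, 4, 9, 8, 7, 10]),
   (140, [4, 5, 5, 7, 6, 10]),
   (35, [5, 5, 4, 4, 9, 6, 10]),
   (137, [5, 4, 5, 4, 4, 9, 7, 8, 6, 10]),
   (13, [4, 4, 5, 4, 7, 10, 10]),
   (9, [5, 5, 4, 5, 5, 5, 4, 7, 8, 9, 7, 10]),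
   (7, [5, 4, 4, 5, 5, 4, 4, 4, 8, 9, 10, 10]),
   (82, [4, 5, 5, 5, 6, 6, 9, 6, 6, 10, 10]),
   (125, [4, 4, 5, 5, 5, 5, 9, 7, 10, 10]),
   (79, [4, 4, 4, 4, 5, 4, 4, 8, 6]),
   (48, [4, 4, 4, 5, 4, 5, 8, 6, 9, 6]),
   (19, [4, 4, 5, 4, 5, 4, 5, 7, 9, 6, 10, 10]),
   (11, [5, 5, 5, 4, 5, 5, 4, 8, 7, 9, 10]),
   (53, [4, 5, 5, 5, 5, 4, 5, 4, 6, 9, 7, 10]),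
   (158, [5, 5, 5, 7, 7, 6, 10, 10]),
   (97, [4, 5, 4, 5, 4, 4, 7, 9, 8, 7, 10, 10]),
   (155, [5, 4, 4, 5, 4, 5, 4, 6, 8, 6, 6, 10]),
   (72, [4, 5, 4, 4, 5, 4, 4, 6, 9, 10, 10]),
   (54, [5, 4, 4, 4, 7, 7, 6]),
   (29, [4, 5, 4, 5, 5, 5, 5, 8, 6, 6, 9, 10, 10]),
   (32, [4, 5, 5, 6, 9, 7]),
   (122, [4, 5, 5, 5, 4, 9, 6, 9, 10]),
   (119, [4, 5, 4, 5, 5, 5, 5, 8, 9, 6, 6, 10]),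
   (84, [4, 4, 5, 4]),
   (134, [5, 4, 5, 4, 4, 6, 8, 6, 6, 10]),
   (22, [4, 4, 5, 4, 4, 6, 9, 8, 6, 10]),
   (159, [4, 5, 4, 5, 4, 8, 7, 7, 6, 10]),
   (115, [4, 5, 4, 4, 4, 5, 4, 4, 6, 9, 6, 6]),
   (109, [5, 4, 4, 5, 5, 4, 4, 4]),
   (15, [4, 4, 4, 5, 5, 5, 4, 9, 7, 9, 10, 10]),
   (69, [4, 4, 5, 4, 5, 4, 8, 7, 7, 6, 10]),
   (148, [5, 4, 4, 6, 9, 6, 10]),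
   (59, [5, 4, 5, 5, 4, 4, 4, 7, 10, 10]),
   (62, [4, 5, 4, 5, 5, 4, 6, 10]),
   (157, [4, 5, 4, 4, 6, 9, 8, 6, 6, 10]),
   (81, [5, 5, 5, 4, 5, 8, 6, 10, 10]),
   (130, [4, 5, 5, 8, 9, 6, 9]),
   (124, [5, 4, 4, 8, 7, 7, 6]),
   (129, [5, 5, 5, 4, 5, 4, 4, 4, 8, 8, 6]),
   (149, [4, 5, 5, 5, 9, 6, 7, 10]),
   (83, [4, 5, 5, 5, 5, 4, 5, 4, 9, 7, 8, 6]),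
   (31, [4, 5, 5, 4, 5, 5, 4, 7, 9, 10]),
   (146, [4, 4, 5, 8, 7, 9, 7]),
   (116, [4, 5, 5, 4, 5, 5, 4, 7, 8, 9, 7, 10]),
   (28, [5, 5, 5, 5, 4, 5, 8, 6, 6, 9]),
   (52, [5, 8, 8, 6]),
   (131, [5, 5, 5, 4, 5, 5, 4, 7]),
   (96, [5, 4, 5, 5, 4, 5, 5, 7, 7, 10]),
   (135, [4, 4, 8, 9, 7, 6, 10, 10]),
   (55, [9, 7, 9]),
   (102, [5, 5, 5, 5, 4, 5, 9, 6, 10, 10]),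
   (74, [5, 4, 5, 5, 4, 7, 9, 10, 10]),
   (77, [5, 4, 5, 4, 5, 7, 7, 9, 10])]

/-- Part of a closure certificate. -/
def gLev1c5 : List (ℕ × List ℕ) :=
  [(1, [5, 5, 5, 5, 4, 5, 4, 9, 6, 10, 10]),
   (108, [4, 4, 4, 5, 4, 4, 4, 9, 6, 7, 10, 10]),
   (64, [4, 4, 9, 6, 9, 10, 10]),
   (107, [5, 4, 5, 4, 4, 4, 7, 7, 9, 10]),
   (45, [4, 4, 5, 4, 4, 4, 9, 8, 6, 6, 10]),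
   (75, [4, 4, 4, 4, 5, 4, 4, 9, 8, 7, 9, 10, 10]),
   (92, [5, 5, 4, 5, 4, 4, 4, 8, 6]),
   (123, [4, 5, 5, 5, 4, 5, 4, 6, 8, 9, 7, 10, 10]),
   (150, [5, 5, 5, 4, 5, 4, 8, 7, 7, 6, 10, 10]),
   (104, [4, 4, 5, 4, 5, 7, 9, 10]),
   (58, [5, 5, 4, 5, 4, 5, 5, 8, 6, 6, 9, 10, 10]),
   (120, [4, 4, 5, 4, 5, 5, 6, 9, 7, 10]),
   (6, [5, 4, 4, 5, 4, 7, 7, 8, 9, 10, 10]),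
   (3, [5, 5, 5, 4, 5, 4, 4, 4, 6, 9, 7, 8, 6, 10, 10]),
   (8, [4, 5, 4, 5, 5, 5, 5, 6, 9, 6, 10, 10]),
   (41, [4, 5, 5, 5, 4, 5, 5, 4, 9, 7, 6]),
   (153, [4, 5, 4, 5, 9, 8, 7, 10, 10]),
   (100, [4, 4, 5, 4, 5, 9, 8, 6, 10, 10]),
   (132, [4, 4, 5, 4, 4, 4, 6, 7, 10]),
   (61, [4, 5, 4, 6, 6, 9, 10]),
   (93, [4, 4, 5, 5, 4, 4, 4, 7, 7, 9, 6, 10, 10]),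
   (126, [4, 5, 4, 5, 5, 4, 4, 4, 7, 8, 9, 10]),
   (136, [4, 4, 5, 4, 5, 5, 9, 7, 6, 10, 10]),
   (143, [4, 4, 5, 5, 4, 4, 4, 8, 6, 10]),
   (76, [5, 4, 4, 6]),
   (95, [8, 7, 9, 10, 10]),
   (139, [5, 4, 5, 4, 5, 9, 8, 6, 6, 10]),
   (88, [4, 5, 5, 5, 4, 5, 9, 6, 9, 10]),
   (103, [5, 4, 4, 5, 4, 4, 4, 9, 7, 9, 6, 10, 10]),
   (156, [4, 4, 4, 5, 5, 5, 9, 7, 9, 6]),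
   (2, [4, 5, 5, 4, 5, 5, 8, 6, 6, 9, 10]),
   (142, [4, 5, 4, 4, 5, 4, 4, 7, 8, 9, 7, 10, 10]),
   (63, [4, 4, 4, 5, 5, 5, 7]),
   (160, [5, 4, 8, 6, 9, 6]),
   (0, [9]),
   (6, [4, 5, 4, 5, 5, 4, 9, 6, 6, 10]),
   (158, [5, 4, 5, 5, 4, 4, 4, 6, 9, 7]),
   (9, [5, 5, 4, 5, 5, 7, 7]),
   (46, [4, 5, 4, 5, 5, 6, 8, 6, 6]),
   (151, [4, 4, 5, 5, 5, 7, 9, 8, 7, 10]),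
   (101, [5, 5, 5, 4, 5, 7, 7, 9]),
   (14, [4, 4, 5, 5, 5, 9, 8, 7, 9, 10]),
   (152, [5, 4, 5, 5, 4, 7, 9, 7, 10]),
   (80, [4, 5, 4, 4, 8, 7, 10]),
   (72, [5, 4, 4, 5, 4, 4, 8, 7, 9, 10]),
   (150, [4, 4, 5, 5, 5, 4, 7, 9, 6, 6, 10, 10]),
   (25, [4, 4, 5, 5, 4, 4, 4, 8, 7, 9, 7, 10, 10]),
   (90, [5, 5, 5, 4, 5, 5, 4, 8, 6, 10, 10]),
   (130, [4, 4, 4, 4, 5, 4, 5, 7, 10]),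
   (30, [5, 4, 4, 7, 10, 10]),
   (146, [4, 4, 5, 4, 5, 7, 9, 7, 6]),
   (34, [5, 4, 5, 4, 7, 9, 8, 7, 10, 10]),
   (15, [4, 5, 7, 7, 9]),
   (54, [5, 4, 5, 4, 5, 9, 6, 7]),
   (111, [4, 4, 4, 5, 4, 5, 6, 7]),
   (108, [4, 4, 5, 5, 5, 7, 9, 8, 7, 10, 10]),
   (83, [5, 4, 5, 5, 4, 5, 5, 9, 8, 6, 10]),
   (64, [4, 5, 5, 5, 4, 7, 7, 10]),
   (95, [4, 4, 5, 4, 5, 4, 5, 9, 7, 10, 10]),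
   (109, [5, 5, 5, 4, 8, 7]),
   (144, [4, 4, 4, 4, 5, 4, 5, 9, 8, 7, 10]),
   (124, [5, 5, 4, 4, 4, 6, 7, 10, 10]),
   (98, [5, 7, 9, 8, 6]),
   (28, [5, 4, 5, 4, 5, 4, 5, 7, 6, 10]),
   (148, [4, 5, 5, 4, 7, 9, 6, 10]),
   (31, [5, 5, 4, 5]),
   (37, [4, 7, 9, 8, 6]),
   (7, [4, 5, 5, 5, 5, 4, 5, 4, 8, 9, 7, 6, 10, 10]),
   (27, [5, 5, 5, 5, 4, 5, 4, 6, 9, 7, 10, 10]),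
   (147, [4, 5, 4, 5, 5, 5, 5, 9, 10]),
   (57, [5, 5, 4, 5, 5, 8, 9, 7, 6, 10]),
   (53, [4, 5, 4, 5, 4, 4, 9, 7, 7, 6, 10]),
   (76, [4, 5, 5, 4, 4, 4, 9, 8, 7]),
   (112, [5, 5, 4, 5, 5, 4, 4, 4, 8, 9, 7, 10, 10]),
   (116, [5, 5, 4, 5, 4, 5, 5, 7, 8, 9, 7, 10]),
   (143, [5, 4, 5, 5, 4, 4, 4, 9, 6, 7, 10, 10]),
   (44, [5, 4, 5, 4, 4, 4, 7, 7, 9, 6, 10, 10]),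
   (135, [5, 5, 5, 4, 5, 7, 6, 6, 10, 10]),
   (110, [5, 4, 4, 5, 5, 5, 6, 6, 9, 6, 6, 10]),
   (8, [5, 4, 4, 8, 6, 6]),
   (127, [4, 4, 5, 4, 5, 4, 8, 9, 7, 10]),
   (97, [4, 5, 5, 5, 5, 4, 5, 4, 9, 10]),
   (105, [5, 5, 5, 4, 5, 4, 4, 4, 7, 8, 9, 10, 10]),
   (89, [5, 4, 4, 5, 4, 7, 9, 8, 6, 10, 10]),
   (113, [4, 5, 5, 4, 5, 5, 4, 7, 9, 7, 6, 10, 10]),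
   (93, [5, 5, 5, 7, 7, 8, 9, 10, 10]),
   (32, [4, 5, 4, 5, 4, 9, 7, 6, 6, 10, 10]),
   (52, [5, 4, 5, 4, 5, 5, 9, 7, 9, 6, 10]),
   (75, [5, 4, 5, 4, 7, 9, 6]),
   (39, [5, 5, 4, 4, 9, 7, 6]),
   (4, [4, 5, 5, 5, 7, 7, 9, 6]),
   (36, [4, 4, 5, 4, 9, 7, 10, 10]),
   (42, [4, 5, 4, 5, 5, 4, 5, 5, 9]),
   (69, [5, 4, 4, 5, 5, 5, 8, 9, 7, 6, 10]),
   (50, [5, 4, 5, 4, 5, 7, 8, 9, 7, 10, 10]),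
   (77, [5, 5, 4, 5, 4, 5, 5, 8, 7, 9, 7]),
   (60, [4, 5, 4, 4, 4, 5, 4, 4, 8, 6, 9, 6, 10]),
   (145, [5, 5, 5, 4, 9, 7, 8, 6, 10]),
   (73, [5, 5, 4, 5, 4, 4, 4, 8, 9, 10, 10]),
   (55, [5, 4, 5, 5, 4, 4, 4, 8, 9, 6, 6, 10]),
   (78, [4, 4, 4, 5, 4, 9, 8, 7, 9, 10]),
   (155, [4, 5, 4, 4, 4, 6, 9, 8, 6, 10, 10]),
   (23, [5, 4, 5, 4, 8, 6, 6]),
   (85, [5, 5, 5, 4, 5, 4, 6, 6, 9, 10, 10]),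
   (43, [4, 5, 4, 5, 5, 4, 4, 4, 6, 9, 7, 10, 10]),
   (21, [4, 5, 7, 6, 6, 10, 10]),
   (84, [5, 4, 4, 4, 6, 8, 6, 6, 10]),
   (68, [4, 4, 4, 4, 5, 4, 5, 6, 9, 8, 6, 6]),
   (74, [5, 5, 4, 5, 9, 8, 7, 9, 10, 10]),
   (137, [5, 4, 5, 4, 7, 6]),
   (142, [5, 5, 4, 5, 5, 4, 4, 4, 7, 9, 6]),
   (35, [4, 5, 4, 6, 9, 7, 10, 10]),
   (51, [5, 4, 4, 5, 5, 4, 4, 4, 7, 7, 8, 9]),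
   (92, [5, 4, 5, 4, 9, 8, 7, 10]),
   (141, [4, 4, 4, 5, 5, 5, 9, 6]),
   (20, [4, 4, 5, 5, 5, 5, 8, 6, 6, 10]),
   (82, [4, 4, 5, 5, 4, 4, 4, 8, 6, 6]),
   (103, [4, 5, 4, 5, 6, 9, 6, 10, 10]),
   (119, [4, 4, 5, 4, 5, 10]),
   (107, [4, 4, 5, 5, 4, 4, 4, 6, 9, 6]),
   (104, [4, 5, 5, 5, 4, 5, 4, 9, 8, 6, 10, 10]),
   (136, [4, 4, 4, 5, 4, 4, 4, 9, 8, 7, 10, 10]),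
   (24, [4, 4, 5, 4, 5, 9, 7, 6, 6]),
   (5, [5, 4, 5, 4, 5, 4, 5, 7, 9, 7, 10]),
   (94, [4, 5, 5, 5, 4, 5, 7, 7, 9, 6]),
   (26, [4, 5, 5, 4, 8, 6]),
   (47, [4, 4, 5, 5, 5, 5, 4, 5, 4, 7, 8, 6, 10, 10]),
   (66, [5, 5, 4, 8, 6, 6]),
   (134, [4, 5, 5, 5, 5, 4, 5, 4, 9, 7]),
   (154, [5, 4, 5, 4, 9, 6, 7, 10]),
   (122, [4, 5, 5, 5, 5, 4, 5, 4, 7, 9, 10, 10]),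
   (79, [5, 5, 4, 5, 5, 9]),
   (99, [5, 5, 5, 4, 5, 5, 4, 8, 7, 9, 10]),
   (29, [5, 7, 9, 6]),
   (160, [4, 4, 5, 4, 5, 4, 7, 9, 6]),
   (132, [5, 5, 5, 4, 4, 4, 10]),
   (157, [4, 5, 4, 4, 8, 7, 9, 7, 10, 10]),
   (161, [5, 5, 5, 9, 7, 7, 6, 10]),
   (133, [5, 4, 4, 5, 4, 5, 4, 8, 7, 9, 10, 10]),
   (121, [4, 6, 6]),
   (86, [4, 5, 5, 5, 4, 5, 5, 4, 7, 9, 6, 6, 10]),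
   (59, [5, 4, 4, 4, 6, 9, 7, 10]),
   (129, [4, 5, 5, 4, 5, 5, 8, 8, 6, 10]),
   (115, [4, 5, 4, 4, 4, 5, 4, 4, 7, 10, 10]),
   (58, [4, 4, 4, 5, 5, 5, 7, 9, 7, 6]),
   (138, [5, 5, 4, 8, 9, 6, 6, 10, 10]),
   (65, [5, 5, 4, 5, 5, 4, 4, 4, 6, 6, 10]),
   (62, [4, 4, 5, 5, 5, 4, 6, 9, 7, 10]),
   (126, [5, 4, 4, 4, 5, 4, 4, 6, 9, 8, 6]),
   (12, [5, 4, 5, 4, 5, 7, 7, 10, 10]),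
   (40, [4, 4, 8, 9, 6, 6, 10, 10]),
   (38, [5, 4, 4, 5, 5, 5, 6, 6]),
   (118, [8, 9, 6, 9, 10]),
   (10, [4, 4, 5, 5, 5, 5, 7, 7, 10, 10]),
   (91, [4, 5, 5, 5, 5, 7, 6, 6, 10]),
   (131, [4, 5, 5, 5, 4, 5, 4, 8, 9]),
   (96, [5, 4, 5, 5, 4, 5, 5, 6, 6, 9, 10, 10]),
   (70, [5, 4, 5, 4, 5, 8, 7, 9, 10]),
   (17, [5, 4, 5, 9, 7, 7, 6]),
   (100, [5, 4, 4, 4, 5, 4, 4, 9, 6]),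
   (114, [4, 5, 5, 5, 5, 4, 5, 4, 7, 7, 8, 9, 10]),
   (56, [5, 5, 5, 4, 5, 6, 6, 9]),
   (45, [5, 4, 4, 5, 4, 4, 4, 8, 9, 7, 6, 10]),
   (71, [4, 5, 4, 5, 5, 4, 6, 9, 8, 6, 6, 10]),
   (33, [5, 4, 4, 5, 4, 8, 8, 6]),
   (48, [4, 4, 5, 4, 5, 5, 4, 7, 8, 9, 10, 10]),
   (1, [4, 4, 5, 5, 5, 8, 6, 6, 10, 10]),
   (106, [4, 4, 5, 4, 8, 9, 10, 10]),
   (13, [5, 4, 4, 5, 4, 5, 7, 7, 8, 9, 10]),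
   (123, [5, 4, 5, 5, 5, 4, 9, 6, 9]),
   (87, [4, 4, 5, 4, 5, 6, 9, 7, 8, 6]),
   (19, [5, 4, 5, 5, 5, 4, 9, 6, 10]),
   (81, [4, 4, 5, 4, 4, 7, 7, 9, 10]),
   (153, [4, 5, 5, 4, 4, 4, 6, 6, 9]),
   (16, [4, 5, 5, 4, 5, 5, 9, 6, 9, 10]),
   (3, [5, 5, 4, 4, 4, 9, 8, 6, 10, 10]),
   (117, [4, 5, 5, 4, 5, 5, 4, 9, 7, 10]),
   (2, [5, 4, 4, 7, 7, 6, 10]),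
   (120, [4, 5, 5, 4, 4, 4, 8, 9, 6, 6, 10]),
   (102, [4, 5, 5, 5, 5, 6, 9, 6, 6, 10, 10]),
   (159, [4, 4, 5, 4, 5, 4, 5, 6, 9, 8, 6, 6, 10]),
   (61, [5, 4, 4, 4, 8, 6, 6]),
   (18, [5, 5, 5, 4, 5, 4, 7, 7, 6]),
   (149, [5, 4, 4, 5, 5, 5, 7, 7, 9, 6, 10]),
   (11, [4, 4, 5, 4, 4, 4, 9, 8, 7, 10]),
   (49, [4, 4, 5, 4, 5, 7, 8, 6]),
   (128, [5, 5, 5, 4, 5, 5, 4, 6, 9]),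
   (67, [5, 4, 4, 4, 8, 9, 6, 6, 10, 10]),
   (88, [4, 5, 5, 4, 5, 5, 7, 9, 8, 6, 10]),
   (139, [5, 4, 5, 7, 6]),
   (125, [4, 5, 5, 4, 5, 9, 8, 7]),
   (63, [4, 5, 4, 4, 5, 4, 4, 8, 7, 10]),
   (41, [4, 5, 4, 4, 7, 7, 6, 10, 10]),
   (140, [4, 5, 5, 5, 4, 5, 5, 4, 7, 7, 9]),
   (156, [5, 5, 5, 6, 6]),
   (22, [4, 5, 4, 5, 4, 5, 6, 9, 8, 6]),
   (0, [10]),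
   (76, [4, 5, 5, 5, 8, 9, 10]),
   (41, [5, 5, 5, 4, 5, 4, 4, 4, 9, 7, 7, 6]),
   (17, [5, 4, 5, 5, 4, 8, 9, 6, 9, 10, 10]),
   (143, [5, 5, 8, 9, 7, 10, 10]),
   (46, [4, 4, 6, 7, 10]),
   (8, [4, 4, 8, 7, 7, 6]),
   (125, [5, 4, 4, 5, 4, 4, 9, 8, 7, 10, 10]),
   (101, [4, 5, 5, 5, 4, 5, 8, 7]),
   (34, [5, 4, 4, 5, 4, 4, 7, 6, 6, 10]),
   (64, [4, 5, 5, 4, 4, 4, 8, 6, 6]),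
   (87, [4, 5, 5, 4, 8, 9, 7, 10, 10]),
   (63, [4, 9, 6, 7, 10]),
   (68, [10]),
   (54, [5, 5, 4, 4, 5, 4, 5, 8, 7, 7, 6, 10]),
   (157, [4, 5, 5, 4, 5, 5, 6, 9, 10, 10]),
   (1, [4, 4, 5, 4, 4, 4, 9, 8, 6]),
   (40, [5, 5, 5, 4, 4, 4, 8, 6, 6, 9, 10]),
   (86, [5, 5, 9, 6, 10, 10]),
   (133, [5, 5, 4, 4, 6, 8, 6, 6]),
   (10, [4, 5, 4, 5, 5, 4, 4, 4, 7, 9, 6, 10]),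
   (131, [5, 4, 4, 4, 5, 4, 9, 6, 9, 10, 10]),
   (44, [5, 4, 4, 5, 4, 4, 4, 7, 6, 6, 10]),
   (13, [5, 5, 4, 5, 4, 4, 4, 6, 6, 10])]

/-- Part of a closure certificate. -/
def gLev1c6 : List (ℕ × List ℕ) :=
  [(144, [4, 5, 4, 4, 5, 4, 4, 8, 9, 7, 6, 10, 10]),
   (78, [4, 4, 4, 5, 5, 5, 4, 7, 9, 6, 10]),
   (88, [5, 4, 5, 5, 4, 9, 7, 10, 10]),
   (116, [4, 5, 5, 4, 5, 5, 4, 7, 7, 6, 10]),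
   (18, [4, 4, 5, 4, 5, 4, 7, 9, 6]),
   (12, [5, 4, 4, 5, 4, 4, 8, 6]),
   (66, [5, 5, 5, 5, 4, 5, 4, 6, 10, 10]),
   (43, [4, 4, 4, 5, 4, 4, 4, 6, 9, 8, 6, 6]),
   (155, [5, 5, 4, 4, 4, 9, 6, 7, 10, 10]),
   (148, [5, 4, 5, 5, 5, 5, 9, 10]),
   (126, [5, 5, 5, 4, 5, 5, 4, 6, 9, 8, 6, 10, 10]),
   (158, [4, 4, 5, 5, 5, 6, 8, 9, 7, 10]),
   (57, [5, 4, 5, 4, 4, 7, 7, 9, 6]),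
   (24, [5, 5, 4, 4, 5, 4, 5, 7, 9, 8, 6, 10, 10]),
   (132, [4, 4, 4, 4, 5, 4, 5, 7, 8, 9]),
   (74, [5, 4, 4, 5, 5, 5, 7, 8, 9, 7]),
   (3, [5, 4, 4, 4, 5, 4, 7, 7, 6, 10]),
   (151, [9, 8, 6, 6, 10]),
   (160, [4, 5, 4, 4, 8, 9, 6, 9]),
   (55, [5, 4, 4, 5, 4, 6, 8, 6, 6, 10, 10]),
   (137, [5, 5, 4, 6, 9, 6, 7, 10, 10]),
   (152, [4, 4, 5, 9, 8, 6, 6]),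
   (61, [4, 5, 4, 5, 4, 4, 6, 6, 9, 10, 10]),
   (156, [5, 4, 5, 4, 5, 4, 5, 8, 6, 6]),
   (69, [5, 4, 5, 5, 4, 4, 4, 6, 9, 6, 7]),
   (77, [5, 5, 7, 9, 8, 6]),
   (85, [4, 4, 4, 4, 5, 4, 4, 8, 9, 10]),
   (99, [4, 4, 5, 5, 5, 4, 7, 7, 8, 9, 10, 10]),
   (26, [5, 5, 5, 5, 4, 5, 6, 8, 6, 6, 10, 10]),
   (53, [4, 5, 4, 6, 9, 6, 6, 10, 10]),
   (145, [5, 4, 5, 4, 6, 6, 10]),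
   (31, [4, 5, 4, 4, 5, 4, 4]),
   (4, [5, 5, 5, 4, 5, 7, 10, 10]),
   (122, [5, 4, 5, 5, 5, 4, 8, 9, 7, 6, 10]),
   (15, [5, 4, 5, 4, 5, 4, 5, 7, 7, 10]),
   (60, [9, 7, 7, 6, 10]),
   (129, [5, 5, 5, 5, 8, 7, 9, 7, 10, 10]),
   (5, [4, 4, 4, 5, 5, 5, 4, 7, 9, 8, 7]),
   (105, [4, 4, 4, 5, 4, 4, 4, 7, 7, 6, 10, 10]),
   (29, [5, 4, 4, 5, 5, 5, 9, 6, 10]),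
   (20, [5, 4, 5, 5, 5, 4, 6, 9, 10]),
   (149, [5, 5, 5, 5, 8, 9]),
   (92, [5, 5, 8, 7, 9, 7, 10]),
   (120, [5, 4, 5, 4, 5, 4, 5, 9, 7, 6, 10]),
   (23, [5, 5, 5, 4, 5, 5, 4, 6, 9, 10, 10]),
   (121, [4, 4, 6, 9, 7, 8, 6, 10]),
   (39, [5, 4, 5, 7, 7, 9, 6]),
   (50, [5, 4, 4, 5, 4, 4, 9, 6, 7, 10]),
   (90, [5, 4, 4, 5, 4, 5, 4, 9, 7, 10, 10]),
   (84, [5, 4, 4, 4, 5, 4, 4, 9, 7, 7, 6, 10, 10]),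
   (70, [4, 5, 5, 5, 4, 5, 5, 4, 10]),
   (51, [4, 4, 5, 4, 4, 4, 9, 7, 6, 6, 10, 10]),
   (16, [4, 5, 4, 5, 4, 4, 9, 8, 7, 9, 10, 10]),
   (127, [5, 4, 5, 6, 6, 9]),
   (110, [5, 8, 9, 7, 6, 10, 10]),
   (109, [5, 4, 5, 5, 4, 5, 5, 7, 9, 10]),
   (27, [5, 5, 5, 8, 7, 9]),
   (138, [5, 4, 5, 4, 6, 9]),
   (82, [6, 9, 8, 6, 10]),
   (98, [4, 4, 5, 6, 9, 8, 6, 6]),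
   (111, [4, 4, 5, 4, 4, 4, 6, 9, 8, 6, 6, 10]),
   (71, [5, 5, 4, 4, 5, 4, 5, 8, 9, 6, 9, 10, 10]),
   (28, [5, 4, 4, 4, 5, 4, 4, 7, 9, 7, 10]),
   (136, [5, 5, 4, 5, 4, 5, 5, 7, 6, 6, 10, 10]),
   (52, [4, 5, 5, 6, 9, 8, 6, 6, 10]),
   (89, [5, 4, 4, 4, 5, 4, 8, 9, 6, 9, 10]),
   (134, [5, 4, 5, 4, 5, 7, 9, 7, 6, 10]),
   (67, [4, 4, 4, 5, 4, 4, 4, 6, 6]),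
   (30, [4, 5, 5, 4, 7, 6]),
   (7, [4, 4, 4, 4, 5, 4, 5, 9, 8, 7]),
   (81, [5, 4, 5, 4, 4, 4, 8, 6, 6]),
   (139, [4, 4, 4, 5, 4, 5, 9, 8, 7, 9, 10]),
   (96, [5, 4, 5, 4, 5, 5, 8, 9, 7]),
   (19, [4, 5, 4, 5, 5, 5, 4, 7, 9, 7, 6, 10, 10]),
   (100, [4, 4, 5, 4, 8, 9, 6, 6, 10, 10]),
   (75, [5, 5, 6, 9, 6]),
   (83, [4, 5, 5, 4, 5, 7, 8, 9, 10, 10]),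
   (6, [5, 5, 4, 5, 5, 5, 4, 9, 6, 7]),
   (47, [4, 5, 5, 5, 4, 5, 4, 6, 9, 6, 10, 10]),
   (33, [4, 6, 10, 10]),
   (130, [4, 5, 4, 5, 5, 4, 5, 5, 7, 9, 10]),
   (113, [4, 4, 5, 5, 5, 4, 6, 6, 9, 6, 6, 10, 10]),
   (42, [5, 4, 4, 4, 5, 4, 4, 9, 7, 9]),
   (107, [5, 7, 8, 9, 10]),
   (21, [5, 4, 5, 5, 4, 5, 5, 7, 9, 6, 10]),
   (161, [4, 5, 4, 4, 9, 6, 9, 10]),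
   (25, [5, 4, 5, 4, 8, 6, 6, 9]),
   (73, [5, 5, 4, 5, 5, 4, 4, 4, 9, 7, 6, 6, 10]),
   (118, [4, 5, 4, 4, 9]),
   (62, [5, 4, 4, 5, 4, 5, 4, 7, 8, 6, 10]),
   (141, [5, 4, 7, 7, 8, 9]),
   (104, [4, 5, 4, 5, 5, 5, 4, 9, 6]),
   (80, [5, 5, 4, 4, 7, 8, 6, 10]),
   (128, [5, 5, 4, 5, 5, 6, 6, 9, 10]),
   (123, [4, 5, 4, 4, 4, 5, 4, 4, 8, 8, 6, 10]),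
   (119, [4, 5, 4, 5, 4, 4, 9, 7, 9]),
   (91, [4, 5, 5, 4, 5, 6, 8, 9, 7]),
   (48, [6, 8, 6, 6, 10]),
   (36, [4, 5, 4, 5, 5, 5, 5, 8, 7, 9, 7]),
   (112, [5, 4, 4, 5, 4, 5, 4, 6, 10, 10]),
   (114, [4, 5, 4, 5, 5, 4, 4, 4, 8, 7, 9, 10]),
   (93, [5, 5, 4, 4, 4, 6, 9]),
   (9, [5, 4, 5, 5, 4, 5, 5, 8, 6, 6, 9, 10]),
   (49, [4, 4, 4, 5, 4, 4, 4, 6, 8, 9, 7, 10, 10]),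
   (142, [5, 5, 4, 5, 5, 4, 4, 4, 9, 6, 10, 10]),
   (59, [4, 5, 4, 6, 8, 6, 6, 10]),
   (115, [4, 5, 4, 4, 4, 8, 9, 7, 10, 10]),
   (108, [5, 4, 5, 5, 4, 5, 5, 7, 7, 10]),
   (159, [5, 4, 5, 5, 4, 5, 5, 7, 8, 9, 7]),
   (97, [4, 5, 5, 4, 5, 8, 9, 6, 6, 10, 10]),
   (72, [5, 5, 5, 4, 5, 5, 4, 7, 7, 9, 6]),
   (65, [4, 5, 5, 5, 5, 4, 5, 4, 6, 9, 6, 6]),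
   (11, [5, 4, 5, 9, 8, 7]),
   (22, [4, 4, 4, 5, 4, 4, 9, 6, 7, 10]),
   (94, [5, 4, 5, 6, 9, 7, 10]),
   (154, [5, 4, 5, 4, 7, 9, 6, 10, 10]),
   (45, [4, 4, 5, 4, 5, 5, 6, 9, 7, 8, 6, 10, 10]),
   (124, [5, 4, 5, 5, 4, 4, 4, 6, 6, 9, 6, 6, 10, 10]),
   (117, [5, 5, 5, 5, 6, 9, 6, 7, 10]),
   (56, [5, 4, 4, 8, 7, 7, 6, 10]),
   (37, [4, 4, 4, 5, 4, 5, 6, 9, 6, 10, 10]),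
   (14, [5, 5, 5, 4, 5, 4, 4, 4, 8, 7, 7, 6]),
   (146, [5, 5, 5, 4, 5, 4, 4, 4, 9, 7, 7, 6, 10]),
   (35, [7, 8, 9, 7, 10, 10]),
   (103, [5, 4, 5, 4, 5, 8, 7, 9, 7, 10]),
   (135, [4, 4, 5, 5, 5, 7, 9, 6, 6]),
   (150, [4, 4, 5, 4, 5, 7, 9, 6, 6, 10]),
   (2, [4, 4, 5, 4, 4, 6, 9, 7, 8, 6, 10, 10]),
   (140, [4, 4, 5, 4, 4, 7, 8, 6, 10, 10]),
   (32, [5, 4, 5, 4, 5, 7, 8, 9, 10]),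
   (95, [5, 4, 4, 5, 4, 5, 5, 7, 7, 8, 9, 10]),
   (153, [5, 5, 5, 4, 5, 4, 7, 8, 9, 10, 10]),
   (102, [5, 4, 4, 5, 4, 8, 7, 9, 7]),
   (58, [4, 4, 5, 5, 5, 4, 6, 7, 10, 10]),
   (147, [4, 4, 5, 4, 5, 4, 8, 9, 6, 6, 10]),
   (38, [5, 5, 5, 8, 6, 6, 10]),
   (106, [5, 5, 4, 7, 7, 9, 6, 10, 10]),
   (79, [5, 5, 4, 5, 5, 4])]

/-- The transversal of a level. -/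
def gLev1w : List (List ℕ) :=
  [[], [2], [3], [2, 2], [3, 2], [2, 3], [3, 3], [2, 2, 2], [3, 2, 2], [2, 3, 2], [3, 3, 2], [2, 2, 3], [3, 2, 3], [2, 3, 3], [3, 3, 3], [2, 2, 2, 2], [3, 2, 2, 2], [2, 3, 2, 2], [3, 3, 2, 2], [3, 2, 3, 2], [2, 3, 3, 2], [2, 2, 2, 3], [2, 3, 2, 3], [3, 3, 2, 3], [2, 2, 3, 3], [3, 2, 3, 3], [2, 3, 3, 3], [3, 3, 3, 3], [2, 2, 2, 2, 2], [3, 2, 2, 2, 2], [2, 3, 2, 2, 2], [3, 3, 2, 2, 2], [2, 2, 3, 2, 2], [3, 2, 3, 2, 2], [2, 3, 3, 2, 2], [3, 3, 3, 2, 2], [2, 3, 2, 3, 2], [3, 3, 2, 3, 2], [2, 2, 3, 3, 2], [3, 2, 3, 3, 2], [2, 2, 2, 2, 3], [3, 2, 2, 2, 3], [2, 2, 3, 2, 3], [3, 2, 3, 2, 3], [2, 3, 3, 2, 3], [3, 3, 3, 2, 3], [2, 2, 2, 3, 3], [3, 2, 2, 3, 3], [3, 3, 2, 3, 3],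 [2, 2, 3, 3, 3], [3, 2, 3, 3, 3], [2, 3, 3, 3, 3], [3, 3, 3, 3, 3], [2, 2, 2, 2, 2, 2], [2, 2, 3, 2, 2, 2], [3, 2, 3, 2, 2, 2], [2, 3, 3, 2, 2, 2], [3, 3, 3, 2, 2, 2], [2, 2, 2, 3, 2, 2], [3, 2, 2, 3, 2, 2], [2, 3, 2, 3, 2, 2], [3, 3, 2, 3, 2, 2], [2, 2, 3, 3, 2, 2], [3, 2, 3, 3, 2, 2], [2, 3, 3, 2, 3, 2], [3, 3, 3, 2, 3, 2], [2, 2, 2, 3, 3, 2], [3, 2, 2, 3, 3, 2], [2, 3, 2, 3, 3, 2], [2, 2, 2, 2, 2, 3], [3, 2, 2, 2, 2, 3], [2, 3, 2, 2, 2, 3], [3, 3, 2, 2, 2, 3], [2, 2, 2, 3, 2, 3], [3, 2, 2, 3, 2, 3], [2, 3, 2, 3, 2, 3], [3, 3, 2, 3, 2, 3], [2, 2, 3, 3, 2, 3], [3, 3, 3, 3, 2, 3], [2, 2, 2, 2, 3, 3], [2, 3, 3, 2, 3, 3], [3, 3, 3, 2, 3, 3], [3, 3, 2, 3, 3, 3], [3, 2, 3, 3, 3, 3], [2, 3, 3, 3, 3,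 3], [3, 3, 3, 3, 3, 3], [2, 2, 2, 2, 2, 2, 2], [2, 2, 2, 3, 2, 2, 2], [2, 3, 3, 3, 2, 2, 2], [3, 3, 3, 3, 2, 2, 2], [2, 2, 2, 2, 3, 2, 2], [3, 2, 2, 2, 3, 2, 2], [2, 3, 2, 2, 3, 2, 2], [3, 3, 2, 2, 3, 2, 2], [3, 2, 3, 2, 3, 2, 2], [2, 2, 2, 3, 3, 2, 2], [3, 2, 2, 3, 3, 2, 2], [3, 3, 2, 3, 3, 2, 2], [2, 2, 3, 3, 2, 3, 2], [2, 3, 3, 3, 2, 3, 2], [3, 3, 3, 3, 2, 3, 2], [3, 2, 2, 2, 3, 3, 2], [3, 3, 2, 2, 3, 3, 2], [2, 2, 3, 2, 3, 3, 2], [3, 2, 3, 2, 3, 3, 2], [2, 2, 2, 2, 2, 2, 3], [3, 3, 2, 2, 2, 2, 3], [3, 3, 3, 2, 2, 2, 3], [2, 2, 2, 2, 3, 2, 3], [3, 2, 2, 2, 3, 2, 3], [3, 3, 2, 2, 3, 2, 3], [3, 2, 3, 2, 3, 2, 3], [3, 3, 3, 2, 3, 2, 3], [3, 2, 2, 3, 3, 2, 3], [2, 3, 3, 3, 3, 2, 3], [2, 2, 2, 2,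 2, 3, 3], [2, 2, 3, 3, 2, 3, 3], [2, 3, 3, 3, 2, 3, 3], [3, 3, 3, 3, 2, 3, 3], [2, 3, 3, 2, 3, 3, 3], [2, 3, 2, 3, 3, 3, 3], [3, 3, 2, 3, 3, 3, 3], [2, 2, 3, 3, 3, 3, 3], [3, 2, 3, 3, 3, 3, 3], [3, 2, 2, 2, 2, 2, 2, 2], [3, 2, 2, 2, 3, 2, 2, 2], [3, 2, 3, 3, 3, 2, 2, 2], [2, 2, 2, 2, 2, 3, 2, 2], [3, 3, 2, 2, 2, 3, 2, 2], [3, 2, 2, 2, 3, 3, 2, 2], [2, 3, 2, 2, 3, 3, 2, 2], [2, 3, 3, 2, 3, 3, 2, 2], [2, 2, 3, 3, 3, 2, 3, 2], [3, 2, 3, 3, 3, 2, 3, 2], [2, 3, 3, 2, 2, 3, 3, 2], [2, 2, 2, 3, 2, 3, 3, 2], [3, 2, 2, 3, 2, 3, 3, 2], [2, 3, 2, 3, 2, 3, 3, 2], [2, 3, 3, 3, 2, 2, 2, 3], [3, 3, 3, 3, 2, 2, 2, 3], [2, 2, 2, 2, 2, 3, 2, 3], [2, 3, 2, 2, 2, 3, 2, 3], [2, 3, 3, 2, 2, 3, 2, 3], [3, 3, 2, 3, 2,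 3, 2, 3], [3, 3, 3, 3, 2, 3, 2, 3], [3, 2, 3, 3, 3, 3, 2, 3], [2, 2, 2, 2, 2, 2, 3, 3], [3, 2, 2, 2, 2, 2, 3, 3], [2, 2, 3, 2, 3, 3, 3, 3], [3, 2, 3, 2, 3, 3, 3, 3], [2, 3, 2, 3, 3, 3, 3, 3], [2, 3, 2, 2, 2, 2, 2, 2, 2], [3, 3, 2, 2, 2, 2, 2, 2, 2], [2, 3, 2, 3, 3, 3, 2, 2, 2], [3, 2, 3, 3, 2, 3, 3, 2, 2], [2, 2, 2, 3, 3, 3, 2, 3, 2], [2, 3, 2, 2, 3, 2, 3, 3, 2], [2, 3, 3, 2, 3, 2, 3, 2, 3], [3, 2, 2, 2, 2, 2, 2, 3, 3], [2, 2, 3, 2, 3, 3, 3, 3, 3], [2, 2, 2, 2, 3, 3, 3, 2, 3, 2], [3, 3, 2, 2, 2, 2, 2, 2, 3, 3]]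

/-- A level. -/
def gLev1 : StabCert.Lev :=
  ⟨1, [2, 3, 4, 5, 6, 7, 8, 9, 10], gLev1w, gLev1c0 ++ gLev1c1 ++ gLev1c2 ++ gLev1c3 ++ gLev1c4 ++ gLev1c5 ++ gLev1c6⟩

/-- Part of a closure certificate. -/
def gLev2c0 : List (ℕ × List ℕ) :=
  [(1, []),
   (3, []),
   (5, []),
   (7, []),
   (9, []),
   (11, []),
   (13, []),
   (2, [6, 6]),
   (16, []),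
   (18, []),
   (20, []),
   (0, [6]),
   (22, []),
   (14, [8, 7, 7, 6]),
   (25, []),
   (27, []),
   (29, []),
   (24, [8, 9, 10]),
   (31, []),
   (33, []),
   (26, [6, 10, 10]),
   (36, []),
   (37, []),
   (39, []),
   (41, []),
   (43, []),
   (44, []),
   (45, []),
   (47, []),
   (49, []),
   (51, []),
   (35, [10]),
   (34, [7, 7, 9]),
   (53, []),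
   (46, [8, 6, 9, 6, 10]),
   (55, []),
   (57, []),
   (59, []),
   (61, []),
   (28, [8, 9, 7, 6]),
   (62, []),
   (64, []),
   (66, []),
   (67, []),
   (69, []),
   (71, []),
   (60, [8, 7, 9, 7]),
   (74, []),
   (54, [6]),
   (76, []),
   (78, []),
   (8, [6, 9]),
   (40, [7, 9, 8, 7]),
   (32, [8, 6, 6, 9, 10, 10]),
   (80, []),
   (82, []),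
   (83, []),
   (85, []),
   (86, []),
   (88, []),
   (19, [6, 9, 8, 6, 6]),
   (90, []),
   (63, [9, 10, 10]),
   (38, [8, 9, 10, 10]),
   (87, [8, 7, 9, 10]),
   (6, [6, 10]),
   (79, []),
   (65, [8, 7, 10]),
   (15, [6, 6, 10, 10]),
   (70, [7, 10]),
   (95, []),
   (58, [7, 9]),
   (42, [7, 9, 6, 6, 10, 10]),
   (92, [6, 9, 7]),
   (94, [9, 7, 6]),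
   (98, []),
   (30, [9, 7]),
   (100, []),
   (48, [7, 8, 9, 7, 10]),
   (81, [7, 10]),
   (75, [9, 8, 6, 6]),
   (101, []),
   (4, [10, 10]),
   (17, [6, 9]),
   (102, []),
   (77, [7, 8, 6, 10]),
   (68, [8, 9, 6, 6, 10]),
   (56, [6, 9, 6]),
   (84, [9, 7, 6, 6]),
   (96, [7, 8, 6, 10, 10]),
   (52, [9, 8, 6, 10]),
   (21, [7, 6, 6]),
   (97, [8, 9, 7, 6, 10]),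
   (99, [7, 6, 6, 10, 10]),
   (103, []),
   (10, [8, 8, 6, 10]),
   (93, [9, 8, 7, 9, 10, 10]),
   (89, [9, 7, 9, 6, 10]),
   (50, [7, 7, 8, 9, 10]),
   (73, [6, 9, 6]),
   (91, []),
   (104, []),
   (12, [6, 6, 9]),
   (23, [6, 10]),
   (72, [8, 9, 7, 6]),
   (2, []),
   (4, []),
   (6, []),
   (8, []),
   (10, []),
   (12, []),
   (14, []),
   (15, []),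
   (17, []),
   (19, []),
   (21, []),
   (1, [7]),
   (23, []),
   (24, []),
   (26, []),
   (28, []),
   (30, []),
   (16, [9, 7, 6]),
   (32, []),
   (34, []),
   (35, []),
   (11, [7, 7]),
   (38, []),
   (40, []),
   (42, []),
   (7, [7, 10]),
   (0, []),
   (46, []),
   (48, []),
   (50, []),
   (3, [9]),
   (52, []),
   (36, [8, 6, 6, 9, 10]),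
   (44, [8, 9, 6, 6, 10]),
   (54, []),
   (56, []),
   (58, []),
   (60, []),
   (59, [6, 9, 6, 7]),
   (47, [6, 9, 6, 6, 10]),
   (63, []),
   (65, []),
   (53, [8, 6, 6, 9, 10]),
   (68, []),
   (70, []),
   (72, []),
   (73, []),
   (75, []),
   (25, [8, 6, 6]),
   (77, []),
   (22, [9, 8, 6, 10]),
   (62, [7, 9, 10, 10]),
   (41, [6, 6, 9, 10]),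
   (79, []),
   (81, []),
   (67, [8, 6, 6, 10, 10]),
   (84, []),
   (49, [8, 9, 7, 6, 10, 10]),
   (87, []),
   (29, [6, 6]),
   (89, []),
   (91, []),
   (90, [8, 9, 6, 9]),
   (5, []),
   (92, []),
   (93, []),
   (94, []),
   (57, [6, 10]),
   (66, [6, 8, 6, 6, 10]),
   (20, [9, 7, 6]),
   (83, [7, 7, 6, 10, 10]),
   (95, [7, 10]),
   (51, [8, 9, 6, 6, 10]),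
   (96, []),
   (97, []),
   (99, []),
   (27, [9, 7, 6, 6]),
   (55, [8, 9, 6, 9, 10, 10]),
   (88, [8, 7, 9, 10, 10]),
   (13, [7, 7, 9, 10, 10]),
   (33, [7, 8, 9, 10]),
   (9, []),
   (39, [7, 9, 7, 6]),
   (80, [8, 7, 7, 6, 10]),
   (69, [9]),
   (37, [10, 10]),
   (61, [6]),
   (18, [7, 7, 9, 10, 10]),
   (64, [6, 9, 8, 6, 6]),
   (101, []),
   (45, [7, 10]),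
   (71, [7, 7, 10, 10]),
   (98, [9, 6, 7, 10]),
   (31, [9, 8, 7, 9]),
   (100, [7, 7]),
   (86, [10]),
   (76, [6, 6, 9]),
   (103, [7, 9, 7, 6]),
   (78, [7, 9, 6, 10, 10]),
   (82, [8, 8, 6, 10, 10]),
   (43, [8, 7, 10, 10]),
   (85, [10]),
   (74, [9, 7, 6, 6, 10, 10]),
   (104, [6, 9, 8, 6]),
   (102, [6, 9, 10]),
   (0, [6]),
   (31, []),
   (25, [8, 7, 7, 6]),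
   (49, []),
   (44, [6, 10, 10]),
   (59, []),
   (67, []),
   (71, []),
   (64, [8, 9, 10]),
   (32, [8, 6, 6, 9, 10, 10])]

/-- Part of a closure certificate. -/
def gLev2c1 : List (ℕ × List ℕ) :=
  [(85, []),
   (2, [8, 8, 6]),
   (47, [8, 9, 7, 6]),
   (87, [8, 7, 9, 10]),
   (70, [7, 10]),
   (94, [9, 7, 6]),
   (16, [6, 9]),
   (76, [9, 7, 6]),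
   (60, [9, 6, 7]),
   (19, [7, 7, 9, 10, 10]),
   (4, [10, 10]),
   (3, [7, 8, 6, 10]),
   (52, [9, 8, 6, 10]),
   (38, [7, 9, 6, 6, 10, 10]),
   (81, [7, 10]),
   (11, [8, 8, 6, 10]),
   (7, []),
   (33, [8, 9, 6, 6, 10]),
   (75, [9, 6, 10]),
   (54, [9, 8, 7, 10]),
   (5, [6, 6, 9]),
   (63, [6, 6]),
   (77, [6, 9, 8, 6, 6]),
   (95, [6, 9, 6, 6, 10]),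
   (98, [9, 8, 6, 6]),
   (24, [8, 6, 6, 10, 10]),
   (15, [8, 9, 7, 6, 10, 10]),
   (53, [6, 9, 8, 6, 6]),
   (102, [7, 7, 9, 6]),
   (103, [8, 7, 9, 7, 10, 10]),
   (90, [8, 9, 10, 10]),
   (14, [7, 7, 10, 10]),
   (46, [9]),
   (45, [6, 6, 10, 10]),
   (20, [8, 8, 6, 10]),
   (79, [7, 9, 6, 6, 10, 10]),
   (89, [6, 9, 6, 10]),
   (78, [7, 7, 8, 9, 10]),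
   (65, [6, 10]),
   (21, [7, 6, 6]),
   (88, [9, 8, 6, 10]),
   (61, [9, 7]),
   (56, [7, 9, 6, 6]),
   (104, [7, 10]),
   (72, [8, 9, 7, 6]),
   (13, [8, 6]),
   (22, [6, 6, 9]),
   (51, [6, 9, 7, 8, 6, 10]),
   (17, [9, 7, 6]),
   (30, [9, 7, 6, 6]),
   (99, [9, 8, 7, 10, 10]),
   (57, [7, 6, 6]),
   (62, [8, 7]),
   (1, [6]),
   (96, [6, 8, 9, 7, 10]),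
   (92, [8, 6]),
   (39, [6, 10]),
   (100, [8, 6, 10, 10]),
   (101, [7, 6]),
   (69, [7, 9, 6, 6, 10, 10]),
   (41, [6, 10]),
   (26, []),
   (29, [8, 7, 7, 6]),
   (73, [9, 7, 7, 6, 10]),
   (93, [9, 7, 6, 6, 10]),
   (97, [9, 7, 7, 6, 10]),
   (58, [7, 6]),
   (9, [9, 8, 6, 10]),
   (12, [8, 7, 9, 10, 10]),
   (43, [9, 7, 6, 6]),
   (34, [6, 8, 9, 7, 10]),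
   (35, [10]),
   (74, [9, 8, 7, 9]),
   (50, [8, 9, 6, 9, 10]),
   (10, [9, 8, 7, 9, 10]),
   (84, [9, 7, 6, 6, 10, 10]),
   (40, [9, 10]),
   (55, [9, 6, 6, 10]),
   (83, [6, 9, 6, 6]),
   (42, [8, 6, 6]),
   (86, [7, 9, 7, 10]),
   (68, [8, 6, 6]),
   (48, [7, 6, 6, 10, 10]),
   (82, [9, 7, 6, 6]),
   (36, [7, 7, 6]),
   (27, [8, 9, 7, 6]),
   (8, [6, 6, 9]),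
   (28, [6, 9, 6]),
   (80, [8, 7]),
   (18, [8, 7, 7, 6, 10, 10]),
   (6, [7, 6, 10, 10]),
   (91, [7, 8, 6, 10, 10]),
   (23, [6, 7, 10]),
   (66, [9, 7, 6, 6]),
   (37, [6, 9, 7, 10]),
   (0, [7]),
   (53, [8, 6, 6, 9, 10, 10]),
   (20, [6, 10]),
   (98, [9, 7, 9, 10, 10]),
   (11, [10, 10]),
   (46, [6, 9, 7, 8, 6, 10, 10]),
   (86, [7, 9, 6, 6, 10, 10]),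
   (104, [8, 9, 7, 6]),
   (67, [8, 6, 6, 9, 10]),
   (66, []),
   (29, [8, 9, 7, 6, 10, 10]),
   (68, [7, 6, 10]),
   (78, [7, 7, 9, 6, 10, 10]),
   (73, [6, 9, 6, 6]),
   (10, [9, 7, 6]),
   (92, [6, 9, 8, 6, 6, 10, 10]),
   (83, []),
   (85, [6, 9, 6, 7]),
   (99, [8, 9]),
   (97, [9, 6, 9, 10]),
   (23, [7, 9, 7, 6]),
   (82, [8, 6, 6, 10]),
   (27, [7, 10]),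
   (2, [9, 10, 10]),
   (6, [7, 7, 9, 10, 10]),
   (102, [9, 6, 6, 10]),
   (51, [9, 7]),
   (32, [8, 6, 9, 6, 10, 10]),
   (19, [8, 6, 6, 9]),
   (14, [9, 7, 9]),
   (65, [7, 9, 8, 7, 10, 10]),
   (61, [6, 9, 6]),
   (22, [9, 6, 6]),
   (56, [6, 9, 6]),
   (93, [6, 9, 6, 7, 10]),
   (8, [7, 9, 7]),
   (42, [6, 6, 9, 10, 10]),
   (26, [6, 9, 8, 6, 10]),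
   (44, [7, 9]),
   (77, [9, 7, 6, 6, 10]),
   (100, [8, 9, 10, 10]),
   (17, [9, 7, 9, 6, 10, 10]),
   (48, [9, 7, 6, 10, 10]),
   (34, [9, 7, 8, 6, 10]),
   (91, [7, 6, 10]),
   (74, [6, 9, 6, 7, 10, 10]),
   (94, [8, 9, 6, 9]),
   (12, [7, 9, 10, 10]),
   (36, [7, 8, 6, 10]),
   (45, [7, 7, 10, 10]),
   (16, [7, 9, 7, 6]),
   (37, [8, 6, 10]),
   (9, [7, 9, 8, 6, 10, 10]),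
   (57, [8, 7, 10, 10]),
   (84, [6, 9, 10]),
   (13, [7, 8, 6, 10]),
   (103, [7, 9, 8, 7, 10, 10]),
   (1, [8, 7, 9, 7, 10]),
   (54, [7, 9, 8, 6]),
   (15, [9, 7, 6]),
   (18, [7, 9, 7, 10]),
   (71, [9, 7]),
   (62, [9, 6, 9]),
   (7, [6, 6]),
   (81, [9, 7, 8, 6, 10, 10]),
   (89, [9, 8, 7, 10, 10]),
   (52, [6, 8, 9, 7, 10]),
   (35, [7, 9, 6, 10, 10]),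
   (4, [7, 6]),
   (69, [7, 7, 9]),
   (72, [9, 10, 10]),
   (31, [6, 6]),
   (76, [9, 8, 7, 9, 10, 10]),
   (55, [7, 9, 7]),
   (49, [9, 7, 6, 6, 10, 10]),
   (75, [9, 8, 6, 6, 10]),
   (70, [6, 9, 8, 6]),
   (95, [9, 7, 6, 6, 10]),
   (47, [9]),
   (3, [6, 9, 8, 6]),
   (21, [7, 9, 6, 6, 10, 10]),
   (90, [9, 6, 7]),
   (80, [9, 6, 7]),
   (50, [8, 9, 10, 10]),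
   (58, [9, 8, 6, 6, 10, 10]),
   (41, [6, 9, 8, 6, 6, 10, 10]),
   (24, [8, 9, 10]),
   (87, [9, 6, 7, 10]),
   (88, [7, 7, 9, 6]),
   (30, [7, 8, 9, 10]),
   (64, [6, 8, 6, 6, 10]),
   (38, [9, 6, 10, 10]),
   (59, [7, 7, 10, 10]),
   (43, [9, 7, 8, 6, 10, 10]),
   (5, [7, 6]),
   (39, []),
   (40, [8, 7, 10]),
   (28, [7, 6, 6]),
   (79, [7, 7, 6, 10]),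
   (60, [6, 9, 6, 6]),
   (96, [7, 7, 8, 9]),
   (25, [6]),
   (101, [9, 8, 7, 9, 10]),
   (33, [9, 10]),
   (63, [7, 7, 8, 9]),
   (0, [6, 10]),
   (52, [6, 9, 10]),
   (53, [7, 8, 9, 10]),
   (74, [7, 9, 7, 6, 10, 10]),
   (51, [9]),
   (37, [8, 9, 6, 9]),
   (100, [9, 6, 7]),
   (15, [8, 7, 10]),
   (35, [9, 8, 7, 9, 10]),
   (59, [9, 8, 6, 6, 10]),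
   (29, [9, 7]),
   (56, [6, 6, 10, 10]),
   (78, [9, 6, 6]),
   (90, [6, 9, 8, 6, 6, 10, 10]),
   (83, [9, 7, 6, 6]),
   (57, [7, 8, 9, 10]),
   (85, [7, 8, 9, 10, 10]),
   (10, [9, 7, 6]),
   (62, [8, 7, 7, 6, 10]),
   (34, [9, 6, 6])]

/-- Part of a closure certificate. -/
def gLev2c2 : List (ℕ × List ℕ) :=
  [(27, [9, 7, 6, 6, 10, 10]),
   (45, [7, 9, 6, 6, 10, 10]),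
   (65, [7, 8, 9, 7, 10, 10]),
   (36, [8, 6, 10]),
   (73, [8, 9, 6, 6, 10]),
   (46, [8, 9]),
   (95, [8, 8, 6, 10]),
   (101, [6, 6, 9]),
   (82, [8, 6, 6, 10]),
   (76, [9, 8, 6, 10]),
   (23, [7, 7, 9]),
   (5, [9, 8, 6, 10, 10]),
   (61, [7, 9, 8, 7]),
   (42, [9, 7, 9, 6, 10]),
   (75, [9, 6]),
   (86, [6, 10, 10]),
   (68, [6, 8, 9, 7, 10]),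
   (48, [6, 9, 7, 8, 6, 10, 10]),
   (77, [7, 9, 6, 10, 10]),
   (94, [9, 6, 7, 10, 10]),
   (8, [9, 7]),
   (84, [6, 6]),
   (9, [6, 10]),
   (80, [6, 9, 7, 10, 10]),
   (92, [6, 9, 6, 6, 10, 10]),
   (43, [6, 9, 6]),
   (44, [6, 9]),
   (69, [7, 10, 10]),
   (31, [9, 7, 9, 6, 10, 10]),
   (19, [8, 7]),
   (14, [9, 8, 6, 10]),
   (102, [7, 7, 9, 10, 10]),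
   (26, [6, 6, 9, 10]),
   (91, [9, 10, 10]),
   (70, [8, 9, 7, 6]),
   (67, [8, 7, 9]),
   (38, [8, 9, 10]),
   (89, [7, 7, 8, 9, 10, 10]),
   (50, [6]),
   (33, [6, 9, 6, 6]),
   (99, [7, 9, 6, 10, 10]),
   (103, [7, 7]),
   (18, [6, 6, 9]),
   (4, [7, 6, 6]),
   (81, [7, 7, 10, 10]),
   (39, [7, 9, 7, 6]),
   (20, [8, 6, 6, 10]),
   (13, [9, 7, 6, 6]),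
   (30, [9, 6, 9, 10]),
   (47, [8, 9, 7, 10, 10]),
   (41, [7, 9, 6, 6, 10, 10]),
   (2, [7, 10]),
   (16, [8, 7, 7, 6, 10]),
   (96, [6, 9]),
   (93, [6, 9, 8, 6, 6, 10, 10]),
   (49, [9, 7, 7, 6, 10]),
   (17, [9, 7, 6, 6]),
   (11, [8, 9, 7, 6]),
   (12, [8, 9, 7, 10]),
   (28, [7, 9, 8, 6]),
   (21, [7, 8, 9, 10]),
   (6, []),
   (97, [8, 9, 7, 6, 10]),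
   (58, [9, 6]),
   (54, [6, 10, 10]),
   (88, [9, 7, 8, 6, 10]),
   (40, [6]),
   (24, [9, 8, 7, 10, 10]),
   (72, [8, 6, 6, 9, 10, 10]),
   (7, [6, 6]),
   (55, [9, 6, 6]),
   (71, [6, 8, 6, 6]),
   (25, [8, 7, 9, 10]),
   (98, [6]),
   (22, [9, 7, 6, 6]),
   (1, [10]),
   (87, [9, 6]),
   (79, [7, 7, 8, 9, 10]),
   (3, [9, 7, 9, 6, 10, 10]),
   (60, [7, 9, 8, 6, 10]),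
   (64, [6, 8, 9, 7, 10, 10]),
   (66, [7, 6, 6]),
   (63, [9, 8, 7, 10, 10]),
   (104, [7, 6, 10, 10]),
   (32, [9, 7, 9, 10, 10]),
   (0, [9]),
   (93, [9, 10]),
   (56, [8, 9, 10, 10]),
   (104, [8, 7, 7, 6, 10, 10]),
   (66, [8, 9, 7, 6]),
   (94, [10, 10]),
   (87, [6, 6, 9, 10, 10]),
   (22, [9, 7, 9, 6]),
   (24, [9, 8, 6, 10]),
   (7, [8, 9, 7]),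
   (70, [8, 6, 10, 10]),
   (53, [9, 8, 7, 9, 10, 10]),
   (78, [9, 7, 9, 6, 10]),
   (6, [8, 7, 7, 6, 10, 10]),
   (50, [9, 6, 9, 10]),
   (42, [6, 9, 7]),
   (58, [8, 9, 6, 9, 10, 10]),
   (10, [8, 6, 9, 6, 10, 10]),
   (60, [8, 9, 10, 10]),
   (46, [7, 9, 8, 6]),
   (63, [6, 6, 9, 10]),
   (32, [6, 6, 9, 6, 6, 10]),
   (31, [9, 7, 8, 6, 10]),
   (82, [8, 9, 6, 6, 10, 10]),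
   (81, [6, 9, 6, 7, 10]),
   (34, [6, 8, 6, 6, 10]),
   (3, [9, 7, 7, 6, 10, 10]),
   (2, [8, 7, 7, 6]),
   (36, [9, 7, 6, 10, 10]),
   (76, [7, 9, 7, 10]),
   (19, [7, 9, 7]),
   (9, [6, 9, 10, 10]),
   (98, [7, 7, 6]),
   (57, [8, 7, 9, 7, 10]),
   (68, [7, 6, 6, 10]),
   (13, [6, 9, 8, 6, 6, 10]),
   (75, [6, 9, 7, 8, 6, 10]),
   (33, [9]),
   (71, [9, 6, 6]),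
   (37, [9, 7, 9, 6, 10, 10]),
   (55, [6, 9, 8, 6, 6, 10]),
   (17, [7, 9, 8, 6, 10]),
   (5, [8, 9, 6, 9, 10]),
   (103, [7, 9, 6, 6]),
   (49, [7, 9, 8, 6]),
   (26, [9, 7, 6, 6]),
   (97, [8, 6, 6, 9]),
   (69, [9, 8, 7, 10, 10]),
   (65, [8, 8, 6]),
   (23, [8, 9, 7]),
   (72, [8, 6, 6, 9]),
   (38, [9, 7, 8, 6, 10]),
   (43, [9, 6, 7, 10]),
   (20, [6, 6, 9, 10]),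
   (29, [6, 8, 6, 6]),
   (64, [8, 6, 6, 10]),
   (102, [7, 7, 9, 6]),
   (39, [8, 6, 10, 10]),
   (83, [7, 6, 6, 10, 10]),
   (48, [10]),
   (18, [9, 8, 6, 6]),
   (80, [9, 10, 10]),
   (99, [6, 9, 6, 10]),
   (11, [9, 7, 6, 6]),
   (73, [6, 8, 9, 7]),
   (89, [9, 6, 7, 10]),
   (91, [6, 9]),
   (86, [7, 9, 8, 7]),
   (79, [7, 7, 9, 10]),
   (47, [6, 9, 8, 6, 10, 10]),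
   (41, [8, 6, 9, 6]),
   (101, [7, 9, 8, 7]),
   (88, [6, 9, 6, 7, 10]),
   (40, [9, 7, 8, 6]),
   (52, [8, 7, 9]),
   (92, [9, 7, 6, 10]),
   (84, [6, 9, 6, 7]),
   (4, [8, 8, 6, 10]),
   (12, [9, 8, 7, 10]),
   (25, [7, 9, 10]),
   (1, [7, 7, 9, 10]),
   (90, [6, 9, 6, 7]),
   (44, [7, 9, 8, 6, 10, 10]),
   (85, [8, 6, 6]),
   (54, [6, 9, 7, 10]),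
   (16, [8, 9]),
   (96, [8, 6, 6]),
   (35, [7, 7, 9]),
   (14, [9, 8, 6]),
   (59, [6, 9, 8, 6, 10]),
   (8, [8, 6, 9, 6]),
   (77, [7, 7, 6]),
   (28, [7, 9, 6]),
   (61, [7, 9, 10, 10]),
   (15, [9, 7, 6, 10]),
   (21, [8, 6, 6, 10, 10]),
   (100, [7, 9, 8, 7]),
   (30, [6, 6, 9, 10, 10]),
   (95, [7, 9, 8, 7]),
   (62, [6, 9, 6, 6, 10]),
   (67, [8, 7, 7, 6]),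
   (51, [10, 10]),
   (27, [6, 9, 6, 10]),
   (74, [7, 9, 7]),
   (45, [7, 6, 10]),
   (0, [10]),
   (22, [7, 9, 6, 6, 10]),
   (37, [9, 8, 6, 6, 10]),
   (82, [6, 9, 8, 6, 6, 10, 10]),
   (57, [7, 8, 9, 10, 10]),
   (104, [6, 9, 7, 10]),
   (67, [9, 7, 9, 6, 10, 10]),
   (36, [7, 9, 8, 7, 10]),
   (81, [6, 6, 9]),
   (5, [9, 8, 6, 6, 10]),
   (72, [9, 8, 7, 9, 10, 10]),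
   (52, [6, 9, 8, 6]),
   (47, [7, 9, 6, 10]),
   (40, [9, 8, 7, 9, 10, 10]),
   (88, [6, 6, 9, 6, 6]),
   (61, [9, 7, 9, 10, 10]),
   (10, [7, 8, 9, 10, 10]),
   (84, [7, 7, 9, 10, 10]),
   (62, [7, 6, 10]),
   (80, [8, 9, 6, 6, 10, 10]),
   (95, [6, 7, 10]),
   (43, [8, 7, 9]),
   (48, [7, 9, 7, 6]),
   (94, [7, 7]),
   (73, [7, 7, 6, 10, 10]),
   (42, [7, 7, 10]),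
   (33, [8, 7, 9, 10]),
   (68, [7, 9]),
   (93, [8, 7, 9, 10, 10]),
   (17, [6, 7])]

/-- Part of a closure certificate. -/
def gLev2c3 : List (ℕ × List ℕ) :=
  [(102, [7, 9, 8, 7, 10, 10]),
   (30, [9, 6, 9, 10]),
   (51, [7, 9, 8, 7, 10, 10]),
   (89, [7, 9, 7, 6, 10, 10]),
   (28, [10, 10]),
   (90, [8, 7, 9, 7, 10, 10]),
   (91, [7, 9, 6]),
   (92, [8, 6, 6, 9, 10, 10]),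
   (32, [9, 8, 7, 10]),
   (15, [8, 6]),
   (96, [7, 8, 9, 10, 10]),
   (85, [6, 9, 6, 10, 10]),
   (77, [8, 9]),
   (98, [7, 9, 7, 6]),
   (65, [9, 7, 6]),
   (79, [7, 7, 9]),
   (4, [7, 9, 6, 10]),
   (69, [9, 6, 6, 10]),
   (1, [9, 7, 9, 6, 10, 10]),
   (19, [6, 6, 9, 6, 6, 10]),
   (41, [6, 8, 9, 7, 10, 10]),
   (38, [6, 6, 10, 10]),
   (71, [6, 6, 9, 10]),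
   (101, [8, 7, 9, 10, 10]),
   (14, [7, 9, 6, 6, 10, 10]),
   (6, [8, 7, 9]),
   (23, [8, 7, 9, 7, 10]),
   (46, [8, 6]),
   (83, [6, 6, 9, 6, 6]),
   (27, [7, 7, 9, 10, 10]),
   (60, [8, 6, 9, 6, 10]),
   (39, [9, 8, 6, 6]),
   (99, [9, 6, 9, 10, 10]),
   (20, [7, 10, 10]),
   (24, [7, 6, 6]),
   (66, [8, 7, 9]),
   (44, [7, 8, 6, 10, 10]),
   (55, [7, 9, 7, 6, 10, 10]),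
   (59, [9, 8, 6, 10, 10]),
   (12, [6, 6, 10, 10]),
   (70, [8, 7, 9, 7, 10, 10]),
   (11, [7, 6, 6, 10]),
   (16, [8, 9, 6, 6, 10, 10]),
   (64, [8, 8, 6, 10, 10]),
   (74, [7, 9, 8, 6, 10, 10]),
   (3, [9, 7, 7, 6, 10]),
   (58, [6]),
   (25, [9, 6, 7]),
   (78, [9, 7, 9, 6, 10, 10]),
   (97, [6, 9, 6, 6, 10, 10]),
   (49, [9, 7, 9, 10, 10]),
   (100, [8, 6, 10, 10]),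
   (75, [6]),
   (76, [9, 7, 6, 6]),
   (29, [7, 8, 9, 7]),
   (50, [6, 6]),
   (86, [9, 8, 7, 9]),
   (35, [9]),
   (54, [7, 7, 9, 6, 10, 10]),
   (26, [6, 6]),
   (87, [10, 10]),
   (7, [6, 8, 6, 6]),
   (2, [9, 7, 6, 10]),
   (34, [6, 9, 8, 6]),
   (56, [6, 6, 9]),
   (63, [6, 6, 10]),
   (13, [9, 8, 6, 6, 10, 10]),
   (45, [9, 7, 9, 10]),
   (21, [6, 6, 9, 6, 6, 10, 10]),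
   (18, [7, 7, 9, 6]),
   (8, [8, 9, 7, 6, 10]),
   (103, [8, 9, 6, 9, 10]),
   (31, [8, 6, 9, 6, 10]),
   (53, [6, 8, 6, 6]),
   (9, [9, 6, 10])]

/-- The transversal of a level. -/
def gLev2w : List (List ℕ) :=
  [[], [4], [5], [4, 4], [5, 4], [4, 5], [5, 5], [4, 4, 4], [5, 4, 4], [4, 5, 4], [5, 5, 4], [4, 4, 5], [5, 4, 5], [4, 5, 5], [5, 5, 5], [5, 4, 4, 4], [4, 5, 4, 4], [5, 5, 4, 4], [4, 4, 5, 4], [5, 4, 5, 4], [4, 5, 5, 4], [5, 5, 5, 4], [4, 5, 4, 5], [5, 5, 4, 5], [5, 4, 5, 5], [4, 5, 5, 5], [5, 5, 5, 5], [4, 5, 4, 4, 4], [5, 5, 4, 4, 4], [4, 4, 5, 4, 4], [5, 4, 5, 4, 4], [4, 4, 4, 5, 4], [5, 4, 4, 5, 4], [4, 5, 4, 5, 4], [5, 5, 4, 5, 4], [5, 4, 5, 5, 4], [4, 5, 5, 5, 4], [4, 4, 5, 4, 5],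 [5, 4, 5, 4, 5], [4, 5, 5, 4, 5], [5, 5, 5, 4, 5], [4, 5, 4, 5, 5], [5, 5, 4, 5, 5], [4, 4, 5, 5, 5], [4, 5, 5, 5, 5], [4, 4, 5, 4, 4, 4], [5, 4, 5, 4, 4, 4], [4, 5, 5, 4, 4, 4], [5, 5, 5, 4, 4, 4], [4, 4, 4, 5, 4, 4], [5, 4, 4, 5, 4, 4], [4, 5, 4, 5, 4, 4], [5, 4, 4, 4, 5, 4], [4, 4, 5, 4, 5, 4], [5, 5, 5, 4, 5, 4], [4, 5, 4, 5, 5, 4], [5, 5, 4, 5, 5, 4], [4, 4, 5, 5, 5, 4], [5, 4, 5, 5, 5, 4], [4, 4, 4, 5, 4, 5], [5, 4, 4, 5, 4, 5], [4, 5, 4, 5, 4, 5], [4, 5, 5, 5, 4, 5], [5, 5, 5, 5, 4, 5], [4, 4, 5, 4, 5, 5], [5, 4, 5, 4, 5, 5], [4, 5, 5, 4, 5, 5], [4, 4, 4, 5, 5, 5], [5, 4, 4, 5, 5, 5], [4, 4, 5, 5, 5, 5], [5, 4, 5, 5, 5, 5], [4, 4, 4, 5, 4, 4, 4], [5, 4, 4, 5, 4, 4, 4], [5, 5, 4, 5, 4, 4,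 4], [4, 4, 5, 5, 4, 4, 4], [5, 4, 5, 5, 4, 4, 4], [4, 4, 4, 4, 5, 4, 4], [5, 4, 4, 4, 5, 4, 4], [4, 5, 4, 4, 5, 4, 4], [5, 4, 4, 5, 4, 5, 4], [4, 5, 5, 5, 4, 5, 4], [5, 5, 5, 5, 4, 5, 4], [4, 4, 5, 4, 5, 5, 4], [4, 5, 5, 4, 5, 5, 4], [5, 5, 5, 4, 5, 5, 4], [4, 4, 4, 5, 5, 5, 4], [4, 5, 4, 5, 5, 5, 4], [5, 5, 4, 5, 5, 5, 4], [4, 4, 4, 4, 5, 4, 5], [5, 5, 4, 4, 5, 4, 5], [4, 4, 5, 4, 5, 4, 5], [5, 4, 5, 4, 5, 4, 5], [5, 4, 4, 5, 4, 5, 5], [5, 5, 4, 5, 4, 5, 5], [5, 4, 5, 5, 4, 5, 5], [4, 5, 4, 5, 5, 5, 5], [5, 5, 5, 4, 5, 4, 4, 4], [5, 4, 4, 5, 5, 4, 4, 4], [4, 5, 4, 5, 5, 4, 4, 4], [5, 5, 4, 5, 5, 4, 4, 4], [4, 5, 4, 4, 4, 5, 4, 4], [4, 5, 5, 5, 5, 4, 5, 4], [4, 5, 5, 5, 4, 5, 5, 4], [4, 5, 4, 5,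 5, 4, 5, 5], [4, 4, 5, 5, 5, 5, 4, 5, 4]]

/-- A level. -/
def gLev2 : StabCert.Lev :=
  ⟨2, [4, 5, 6, 7, 8, 9, 10], gLev2w, gLev2c0 ++ gLev2c1 ++ gLev2c2 ++ gLev2c3⟩

/-- Part of a closure certificate. -/
def gLev3c0 : List (ℕ × List ℕ) :=
  [(1, []),
   (4, []),
   (8, []),
   (12, []),
   (0, []),
   (9, []),
   (15, [10, 10]),
   (23, []),
   (21, []),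
   (20, [10]),
   (10, [10, 10]),
   (27, []),
   (30, []),
   (25, []),
   (34, [10]),
   (18, []),
   (37, []),
   (39, []),
   (6, [10]),
   (32, []),
   (5, [10, 10]),
   (2, []),
   (47, []),
   (35, [10, 10]),
   (14, [10, 10]),
   (52, []),
   (49, [10, 10]),
   (31, []),
   (46, [10]),
   (55, []),
   (3, []),
   (11, []),
   (48, [10]),
   (38, [10, 10]),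
   (24, []),
   (7, [10]),
   (50, []),
   (42, [10]),
   (61, []),
   (62, []),
   (43, []),
   (59, [10, 10]),
   (16, [10, 10]),
   (51, []),
   (22, [10]),
   (60, []),
   (63, []),
   (44, [10, 10]),
   (19, [10, 10]),
   (56, [10]),
   (58, [10]),
   (40, []),
   (13, []),
   (29, []),
   (45, [10]),
   (53, []),
   (26, []),
   (41, [10, 10]),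
   (36, [10, 10]),
   (57, [10, 10]),
   (54, [10, 10]),
   (33, [10]),
   (17, []),
   (28, [10, 10]),
   (2, []),
   (5, []),
   (9, []),
   (13, []),
   (15, []),
   (18, []),
   (20, []),
   (24, []),
   (4, []),
   (0, []),
   (16, [10]),
   (28, []),
   (19, []),
   (32, []),
   (35, []),
   (8, []),
   (37, [10, 10]),
   (40, []),
   (1, []),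
   (44, []),
   (21, [10, 10]),
   (6, [10]),
   (48, []),
   (36, []),
   (50, []),
   (30, []),
   (53, []),
   (17, []),
   (39, []),
   (56, []),
   (47, [10]),
   (51, []),
   (3, []),
   (55, [10, 10]),
   (45, [10, 10]),
   (60, []),
   (54, [10]),
   (10, []),
   (57, [10]),
   (11, []),
   (27, []),
   (33, [10]),
   (42, [10]),
   (62, []),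
   (12, []),
   (58, [10, 10]),
   (31, [10, 10]),
   (25, [10, 10]),
   (52, [10, 10]),
   (38, [10]),
   (7, []),
   (46, [10]),
   (22, [10]),
   (61, []),
   (23, [10, 10]),
   (41, []),
   (59, [10, 10]),
   (49, [10]),
   (34, [10, 10]),
   (29, [10]),
   (14, []),
   (26, []),
   (63, [10]),
   (43, [10, 10]),
   (1, [10]),
   (6, []),
   (10, []),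
   (14, []),
   (16, []),
   (15, [10]),
   (21, []),
   (19, [10, 10]),
   (9, [10]),
   (5, [10, 10]),
   (18, []),
   (29, []),
   (27, [10, 10]),
   (33, []),
   (22, [10]),
   (8, [10, 10]),
   (20, [10]),
   (41, []),
   (42, []),
   (45, []),
   (37, []),
   (0, [10, 10]),
   (36, []),
   (49, []),
   (28, [10]),
   (7, [10]),
   (17, []),
   (52, [10]),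
   (54, []),
   (43, []),
   (57, []),
   (58, []),
   (39, [10, 10]),
   (44, []),
   (55, [10]),
   (31, [10, 10]),
   (3, [10, 10]),
   (4, [10, 10]),
   (11, []),
   (47, [10, 10]),
   (24, [10, 10]),
   (46, [10]),
   (2, []),
   (38, []),
   (56, [10, 10]),
   (25, []),
   (26, [10, 10]),
   (51, [10]),
   (53, [10]),
   (34, []),
   (61, [10]),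
   (32, [10]),
   (63, []),
   (30, [10]),
   (40, []),
   (23, [10, 10]),
   (13, [10]),
   (48, [10]),
   (62, []),
   (50, []),
   (59, [10]),
   (60, [10]),
   (35, [10]),
   (12, []),
   (3, []),
   (7, []),
   (11, []),
   (5, []),
   (17, []),
   (19, []),
   (22, []),
   (15, []),
   (25, []),
   (14, [10, 10]),
   (26, []),
   (4, []),
   (31, []),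
   (34, []),
   (21, [10]),
   (36, []),
   (38, []),
   (2, []),
   (43, []),
   (0, []),
   (46, []),
   (45, [10, 10]),
   (8, [10, 10]),
   (48, [10]),
   (51, []),
   (6, [10]),
   (16, []),
   (24, [])]

/-- Part of a closure certificate. -/
def gLev3c1 : List (ℕ × List ℕ) :=
  [(12, []),
   (42, []),
   (50, []),
   (47, [10]),
   (40, []),
   (59, []),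
   (30, []),
   (27, [10]),
   (1, []),
   (29, [10, 10]),
   (10, []),
   (58, [10]),
   (52, []),
   (37, [10]),
   (41, []),
   (20, [10]),
   (23, []),
   (9, [10]),
   (18, [10, 10]),
   (28, [10, 10]),
   (60, [10]),
   (33, []),
   (13, []),
   (35, [10, 10]),
   (62, []),
   (55, [10, 10]),
   (39, [10, 10]),
   (56, [10]),
   (61, [10, 10]),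
   (49, []),
   (63, []),
   (57, []),
   (44, [10]),
   (53, [10]),
   (32, []),
   (54, []),
   (0, [10]),
   (18, [10, 10]),
   (10, [10]),
   (24, [10]),
   (42, [10]),
   (6, [10, 10]),
   (8, []),
   (48, []),
   (5, [10]),
   (20, []),
   (15, []),
   (53, []),
   (11, [10, 10]),
   (61, [10, 10]),
   (44, []),
   (2, [10, 10]),
   (9, []),
   (57, [10]),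
   (37, [10, 10]),
   (54, [10, 10]),
   (16, []),
   (4, [10, 10]),
   (58, [10]),
   (26, [10]),
   (63, [10, 10]),
   (35, []),
   (62, []),
   (25, [10]),
   (60, [10]),
   (40, []),
   (59, [10]),
   (50, [10, 10]),
   (17, [10, 10]),
   (47, [10]),
   (29, [10]),
   (27, [10, 10]),
   (30, [10, 10]),
   (1, [10, 10]),
   (31, []),
   (22, [10, 10]),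
   (34, [10, 10]),
   (28, []),
   (21, []),
   (33, [10]),
   (49, [10]),
   (13, []),
   (56, [10, 10]),
   (43, [10]),
   (55, [10]),
   (14, [10, 10]),
   (38, [10]),
   (19, [10]),
   (46, []),
   (12, [10]),
   (51, []),
   (7, [10, 10]),
   (52, [10]),
   (32, []),
   (39, []),
   (36, []),
   (41, [10, 10]),
   (45, [10]),
   (23, [10, 10]),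
   (3, [])]

/-- The transversal of a level. -/
def gLev3w : List (List ℕ) :=
  [[], [6], [7], [9], [6, 6], [7, 6], [8, 6], [9, 6], [6, 7], [7, 7], [8, 7], [9, 7], [6, 9], [7, 9], [8, 9], [7, 6, 6], [8, 6, 6], [9, 6, 6], [7, 7, 6], [9, 7, 6], [7, 8, 6], [8, 8, 6], [9, 8, 6], [6, 9, 6], [7, 9, 6], [9, 6, 7], [9, 8, 7], [6, 9, 7], [7, 9, 7], [8, 9, 7], [6, 6, 9], [9, 6, 9], [7, 7, 9], [8, 7, 9], [9, 7, 9], [7, 8, 9], [9, 7, 6, 6], [6, 8, 6, 6], [9, 8, 6, 6], [6, 9, 6, 6], [7, 9, 6, 6], [8, 9, 6, 6], [8, 7, 7, 6], [9, 7, 7, 6], [7, 9, 7, 6], [8, 9, 7, 6], [9, 7, 8, 6], [6, 9, 8, 6], [7, 9, 8, 6], [8, 6, 9, 6], [7, 7, 9, 6], [9, 7, 9, 6], [6, 9, 6, 7], [7, 9, 8, 7], [8, 7, 9, 7], [6, 8, 9, 7], [7, 8,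 9, 7], [8, 6, 6, 9], [8, 9, 6, 9], [9, 8, 7, 9], [7, 7, 8, 9], [6, 9, 8, 6, 6], [6, 6, 9, 6, 6], [6, 9, 7, 8, 6]]

/-- A level. -/
def gLev3 : StabCert.Lev :=
  ⟨3, [6, 7, 8, 9, 10], gLev3w, gLev3c0 ++ gLev3c1⟩

/-- Part of a closure certificate. -/
def gLev4c0 : List (ℕ × List ℕ) :=
  [(1, []),
   (2, []),
   (0, [])]

/-- The transversal of a level. -/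
def gLev4w : List (List ℕ) :=
  [[], [10], [10, 10]]

/-- A level. -/
def gLev4 : StabCert.Lev :=
  ⟨4, [10], gLev4w, gLev4c0⟩

end Cfsg.Agent.MultiplierMcL
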