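import Cfsg.Agent.Lib.Leech.MatEl

/-!
# Data: the 275 vectors
-/

set_option autoImplicit false
set_option maxRecDepth 20000
set_option linter.style.longLine false

namespace Cfsg.Agent.MultiplierMcL

open Cfsg.Agent.Leech

/-- The code of the second generator. -/
def permCode : ℕ := 976990105829392847739289005721748544

/-- Vectors. -/
def vecs0 : List (List ℤ) :=
  [[ep0, ep0, ep0, ep0, ep0, ep0, ep0, ep0, ep0, ep0, ep0, ep0, ep0, ep0, ep0, ep0, ep0, ep0, ep0, ep0, ep0, ep0, ep4, ep4],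
   [ep0, ep0, ep0, ep0, ep0, ep0, ep0, ep0, ep0, ep0, ep0, ep0, ep0, ep0, ep0, ep0, ep0, ep0, ep0, ep0, ep0, ep4, ep0, ep4],
   [ep0, ep0, ep0, ep0, ep0, ep0, ep0, ep0, ep0, ep0, ep0, ep0, ep0, ep0, ep0, ep0, ep0, ep0, ep0, ep0, ep4, ep0, ep0, ep4],
   [ep0, ep0, ep0, ep0, ep0, ep0, ep0, ep0, ep0, ep0, ep0, ep0, ep0, ep0, ep0, ep0, ep0, ep0, ep0, ep4, ep0, ep0, ep0, ep4],
   [ep0, ep0, ep0, ep0, ep0, ep0, ep0, ep0, ep0, ep0, ep0, ep0, ep0, ep0, ep0, ep0, ep0, ep0, ep4, ep0, ep0, ep0, ep0, ep4],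
   [ep0, ep0, ep0, ep0, ep0, ep0, ep0, ep0, ep0, ep0, ep0, ep0, ep0, ep0, ep0, ep0, ep0, ep4, ep0, ep0, ep0, ep0, ep0, ep4],
   [ep0, ep0, ep0, ep0, ep0, ep0, ep0, ep0, ep0, ep0, ep0, ep0, ep0, ep0, ep0, ep0, ep4, ep0, ep0, ep0, ep0, ep0, ep0, ep4],
   [ep0, ep0, ep0, ep0, ep0, ep0, ep0, ep0, ep0, ep0, ep0, ep0, ep0, ep0, ep0, ep4, ep0, ep0, ep0, ep0, ep0, ep0, ep0, ep4],
   [ep0, ep0, ep0, ep0, ep0, ep0, ep0, ep0, ep0, ep0, ep0, ep0, ep0, ep0, ep4, ep0, ep0, ep0, ep0, ep0, ep0, ep0, ep0, ep4],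
   [ep0, ep0, ep0, ep0, ep0, ep0, ep0, ep0, ep0, ep0, ep0, ep0, ep0, ep4, ep0, ep0, ep0, ep0, ep0, ep0, ep0, ep0, ep0, ep4],
   [ep0, ep0, ep0, ep0, ep0, ep0, ep0, ep0, ep0, ep0, ep0, ep0, ep4, ep0, ep0, ep0, ep0, ep0, ep0, ep0, ep0, ep0, ep0, ep4],
   [ep0, ep0, ep0, ep0, ep0, ep0, ep0, ep0, ep0, ep0, ep0, ep4, ep0, ep0, ep0, ep0, ep0, ep0, ep0, ep0, ep0, ep0, ep0, ep4],
   [ep0, ep0, ep0, ep0, ep0, ep0, ep0, ep0, ep0, ep0, ep4, ep0, ep0, ep0, ep0, ep0, ep0, ep0, ep0, ep0, ep0, ep0, ep0, ep4],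
   [ep0, ep0, ep0, ep0, ep0, ep0, ep0, ep0, ep0, ep4, ep0, ep0, ep0, ep0, ep0, ep0, ep0, ep0, ep0, ep0, ep0, ep0, ep0, ep4],
   [ep0, ep0, ep0, ep0, ep0, ep0, ep0, ep0, ep4, ep0, ep0, ep0, ep0, ep0, ep0, ep0, ep0, ep0, ep0, ep0, ep0, ep0, ep0, ep4],
   [ep0, ep0, ep0, ep0, ep0, ep0, ep0, ep4, ep0, ep0, ep0, ep0, ep0, ep0, ep0, ep0, ep0, ep0, ep0, ep0, ep0, ep0, ep0, ep4],
   [ep0, ep0, ep0, ep0, ep0, ep0, ep4, ep0, ep0, ep0, ep0, ep0, ep0, ep0, ep0, ep0, ep0, ep0, ep0, ep0, ep0, ep0, ep0, ep4],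
   [ep0, ep0, ep0, ep0, ep0, ep4, ep0, ep0, ep0, ep0, ep0, ep0, ep0, ep0, ep0, ep0, ep0, ep0, ep0, ep0, ep0, ep0, ep0, ep4],
   [ep0, ep0, ep0, ep0, ep4, ep0, ep0, ep0, ep0, ep0, ep0, ep0, ep0, ep0, ep0, ep0, ep0, ep0, ep0, ep0, ep0, ep0, ep0, ep4],
   [ep0, ep0, ep0, ep4, ep0, ep0, ep0, ep0, ep0, ep0, ep0, ep0, ep0, ep0, ep0, ep0, ep0, ep0, ep0, ep0, ep0, ep0, ep0, ep4],
   [ep0, ep0, ep4, ep0, ep0, ep0, ep0, ep0, ep0, ep0, ep0, ep0, ep0, ep0, ep0, ep0, ep0, ep0, ep0, ep0, ep0, ep0, ep0, ep4],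
   [ep0, ep4, ep0, ep0, ep0, ep0, ep0, ep0, ep0, ep0, ep0, ep0, ep0, ep0, ep0, ep0, ep0, ep0, ep0, ep0, ep0, ep0, ep0, ep4],
   [ep1, em1, em1, em1, em1, ep1, em1, ep1, ep1, ep1, ep1, ep1, ep1, ep1, ep1, em1, ep1, ep1, em1, ep1, ep1, ep1, ep1, ep3],
   [ep1, em1, em1, em1, ep1, ep1, ep1, em1, em1, ep1, ep1, ep1, ep1, ep1, ep1, ep1, ep1, ep1, ep1, ep1, em1, ep1, em1, ep3],
   [ep1, em1, em1, em1, ep1, ep1, ep1, ep1, ep1, em1, ep1, ep1, em1, em1, ep1, ep1, ep1, ep1, ep1, em1, ep1, ep1, ep1, ep3],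
   [ep1, em1, em1, em1, ep1, ep1, ep1, ep1, ep1, ep1, em1, em1, ep1, ep1, ep1, ep1, em1, ep1, ep1, ep1, ep1, em1, ep1, ep3],
   [ep1, em1, em1, ep1, em1, em1, ep1, ep1, ep1, ep1, ep1, ep1, em1, ep1, ep1, ep1, ep1, ep1, ep1, ep1, em1, em1, ep1, ep3],
   [ep1, em1, em1, ep1, em1, ep1, ep1, em1, ep1, em1, ep1, em1, ep1, ep1, em1, ep1, ep1, ep1, ep1, ep1, ep1, ep1, ep1, ep3],
   [ep1, em1, em1, ep1, em1, ep1, ep1, ep1, em1, ep1, em1, ep1, ep1, ep1, ep1, ep1, ep1, em1, ep1, em1, ep1, ep1, ep1, ep3],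
   [ep1, em1, em1, ep1, ep1, em1, em1, ep1, em1, em1, ep1, ep1, ep1, ep1, ep1, ep1, em1, ep1, ep1, ep1, ep1, ep1, ep1, ep3],
   [ep1, em1, em1, ep1, ep1, em1, ep1, em1, ep1, ep1, em1, ep1, ep1, em1, ep1, ep1, ep1, ep1, em1, ep1, ep1, ep1, ep1, ep3],
   [ep1, em1, em1, ep1, ep1, em1, ep1, ep1, ep1, ep1, ep1, em1, ep1, ep1, ep1, em1, ep1, ep1, ep1, em1, ep1, ep1, em1, ep3],
   [ep1, em1, em1, ep1, ep1, ep1, em1, ep1, ep1, ep1, em1, ep1, em1, ep1, em1, ep1, ep1, ep1, ep1, ep1, ep1, ep1, em1, ep3],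
   [ep1, em1, em1, ep1, ep1, ep1, em1, ep1, ep1, ep1, ep1, em1, ep1, em1, ep1, ep1, ep1, em1, ep1, ep1, em1, ep1, ep1, ep3],
   [ep1, em1, em1, ep1, ep1, ep1, ep1, em1, ep1, ep1, ep1, ep1, em1, ep1, ep1, em1, em1, em1, ep1, ep1, ep1, ep1, ep1, ep3],
   [ep1, em1, em1, ep1, ep1, ep1, ep1, ep1, em1, ep1, ep1, ep1, ep1, em1, em1, em1, ep1, ep1, ep1, ep1, ep1, em1, ep1, ep3],
   [ep1, em1, em1, ep1, ep1, ep1, ep1, ep1, ep1, em1, ep1, ep1, ep1, ep1, ep1, ep1, ep1, em1, em1, ep1, ep1, em1, em1, ep3],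
   [ep1, em1, em1, ep1, ep1, ep1, ep1, ep1, ep1, ep1, ep1, ep1, ep1, ep1, em1, ep1, em1, ep1, em1, em1, em1, ep1, ep1, ep3],
   [ep1, em1, ep1, em1, em1, em1, ep1, ep1, ep1, em1, em1, ep1, ep1, ep1, ep1, ep1, ep1, ep1, ep1, ep1, ep1, ep1, em1, ep3],
   [ep1, em1, ep1, em1, em1, ep1, ep1, em1, ep1, ep1, ep1, ep1, ep1, em1, ep1, ep1, ep1, em1, ep1, ep1, ep1, em1, ep1, ep3],
   [ep1, em1, ep1, em1, em1, ep1, ep1, ep1, em1, ep1, ep1, ep1, em1, ep1, em1, ep1, em1, ep1, ep1, ep1, ep1, ep1, ep1, ep3],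
   [ep1, em1, ep1, em1, ep1, em1, em1, em1, ep1, ep1, ep1, em1, em1, ep1, ep1, ep1, ep1, ep1, ep1, ep1, ep1, ep1, ep1, ep3],
   [ep1, em1, ep1, em1, ep1, em1, ep1, ep1, em1, ep1, ep1, ep1, ep1, ep1, ep1, ep1, ep1, ep1, em1, em1, ep1, em1, ep1, ep3],
   [ep1, em1, ep1, em1, ep1, em1, ep1, ep1, ep1, ep1, ep1, ep1, ep1, em1, ep1, em1, em1, ep1, ep1, ep1, em1, ep1, ep1, ep3],
   [ep1, em1, ep1, em1, ep1, ep1, em1, ep1, ep1, em1, ep1, ep1, ep1, ep1, em1, ep1, ep1, ep1, ep1, ep1, em1, em1, ep1, ep3],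
   [ep1, em1, ep1, em1, ep1, ep1, em1, ep1, ep1, ep1, ep1, ep1, ep1, ep1, ep1, ep1, em1, em1, ep1, em1, ep1, ep1, em1, ep3],
   [ep1, em1, ep1, em1, ep1, ep1, ep1, em1, ep1, ep1, em1, ep1, ep1, ep1, em1, em1, ep1, ep1, ep1, em1, ep1, ep1, ep1, ep3],
   [ep1, em1, ep1, em1, ep1, ep1, ep1, ep1, em1, em1, ep1, em1, ep1, ep1, ep1, em1, ep1, em1, ep1, ep1, ep1, ep1, ep1, ep3],
   [ep1, em1, ep1, em1, ep1, ep1, ep1, ep1, ep1, ep1, em1, ep1, em1, ep1, ep1, ep1, ep1, em1, em1, ep1, em1, ep1, ep1, ep3],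
   [ep1, em1, ep1, em1, ep1, ep1, ep1, ep1, ep1, ep1, ep1, em1, ep1, em1, em1, ep1, ep1, ep1, em1, ep1, ep1, ep1, em1, ep3],
   [ep1, em1, ep1, ep1, em1, em1, em1, ep1, ep1, ep1, ep1, ep1, ep1, em1, em1, ep1, ep1, ep1, ep1, em1, ep1, ep1, ep1, ep3],
   [ep1, em1, ep1, ep1, em1, em1, ep1, ep1, ep1, ep1, ep1, em1, ep1, ep1, ep1, ep1, em1, em1, em1, ep1, ep1, ep1, ep1, ep3],
   [ep1, em1, ep1, ep1, em1, ep1, em1, em1, ep1, ep1, em1, ep1, ep1, ep1, ep1, ep1, em1, ep1, ep1, ep1, em1, ep1, ep1, ep3],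
   [ep1, em1, ep1, ep1, em1, ep1, em1, ep1, em1, ep1, ep1, em1, ep1, ep1, ep1, ep1, ep1, ep1, ep1, ep1, ep1, em1, em1, ep3],
   [ep1, em1, ep1, ep1, em1, ep1, ep1, em1, ep1, ep1, ep1, ep1, em1, ep1, ep1, ep1, ep1, ep1, em1, em1, ep1, ep1, em1, ep3]]

/-- Vectors. -/
def vecs1 : List (List ℤ) :=
  [[ep1, em1, ep1, ep1, em1, ep1, ep1, ep1, em1, em1, ep1, ep1, ep1, em1, ep1, ep1, ep1, ep1, em1, ep1, em1, ep1, ep1, ep3],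
   [ep1, em1, ep1, ep1, em1, ep1, ep1, ep1, ep1, em1, ep1, ep1, ep1, ep1, ep1, em1, em1, ep1, ep1, em1, ep1, em1, ep1, ep3],
   [ep1, em1, ep1, ep1, em1, ep1, ep1, ep1, ep1, ep1, em1, em1, em1, em1, ep1, em1, ep1, ep1, ep1, ep1, ep1, ep1, ep1, ep3],
   [ep1, em1, ep1, ep1, em1, ep1, ep1, ep1, ep1, ep1, ep1, ep1, ep1, ep1, em1, em1, ep1, em1, ep1, ep1, em1, ep1, em1, ep3],
   [ep1, em1, ep1, ep1, ep1, em1, em1, ep1, ep1, ep1, em1, ep1, ep1, ep1, ep1, em1, ep1, em1, ep1, ep1, ep1, em1, ep1, ep3],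
   [ep1, em1, ep1, ep1, ep1, em1, ep1, em1, ep1, em1, ep1, ep1, ep1, ep1, ep1, ep1, ep1, em1, ep1, em1, em1, ep1, ep1, ep3],
   [ep1, em1, ep1, ep1, ep1, em1, ep1, em1, ep1, ep1, ep1, ep1, ep1, ep1, em1, ep1, em1, ep1, ep1, ep1, ep1, em1, em1, ep3],
   [ep1, em1, ep1, ep1, ep1, em1, ep1, ep1, em1, ep1, em1, em1, ep1, ep1, em1, ep1, ep1, ep1, ep1, ep1, em1, ep1, ep1, ep3],
   [ep1, em1, ep1, ep1, ep1, em1, ep1, ep1, em1, ep1, ep1, ep1, em1, em1, ep1, ep1, ep1, em1, ep1, ep1, ep1, ep1, em1, ep3],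
   [ep1, em1, ep1, ep1, ep1, em1, ep1, ep1, ep1, em1, ep1, ep1, em1, ep1, em1, em1, ep1, ep1, em1, ep1, ep1, ep1, ep1, ep3],
   [ep1, em1, ep1, ep1, ep1, ep1, em1, em1, em1, ep1, ep1, ep1, ep1, ep1, em1, ep1, ep1, em1, em1, ep1, ep1, ep1, ep1, ep3],
   [ep1, em1, ep1, ep1, ep1, ep1, em1, em1, ep1, em1, ep1, ep1, ep1, em1, ep1, em1, ep1, ep1, ep1, ep1, ep1, ep1, em1, ep3],
   [ep1, em1, ep1, ep1, ep1, ep1, em1, ep1, em1, ep1, ep1, ep1, em1, ep1, ep1, em1, ep1, ep1, ep1, em1, em1, ep1, ep1, ep3],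
   [ep1, em1, ep1, ep1, ep1, ep1, em1, ep1, ep1, em1, em1, em1, ep1, ep1, ep1, ep1, ep1, ep1, em1, em1, ep1, ep1, ep1, ep3],
   [ep1, em1, ep1, ep1, ep1, ep1, em1, ep1, ep1, ep1, ep1, ep1, em1, em1, ep1, ep1, em1, ep1, em1, ep1, ep1, em1, ep1, ep3],
   [ep1, em1, ep1, ep1, ep1, ep1, ep1, em1, em1, em1, em1, ep1, em1, ep1, ep1, ep1, ep1, ep1, ep1, ep1, ep1, em1, ep1, ep3],
   [ep1, em1, ep1, ep1, ep1, ep1, ep1, em1, em1, ep1, ep1, em1, ep1, em1, ep1, ep1, em1, ep1, ep1, em1, ep1, ep1, ep1, ep3],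
   [ep1, em1, ep1, ep1, ep1, ep1, ep1, em1, ep1, ep1, ep1, em1, ep1, ep1, ep1, em1, ep1, ep1, em1, ep1, em1, em1, ep1, ep3],
   [ep1, em1, ep1, ep1, ep1, ep1, ep1, ep1, em1, ep1, em1, ep1, ep1, ep1, ep1, em1, em1, ep1, em1, ep1, ep1, ep1, em1, ep3],
   [ep1, em1, ep1, ep1, ep1, ep1, ep1, ep1, ep1, em1, em1, ep1, ep1, em1, em1, ep1, em1, em1, ep1, ep1, ep1, ep1, ep1, ep3],
   [ep1, em1, ep1, ep1, ep1, ep1, ep1, ep1, ep1, em1, ep1, em1, em1, ep1, ep1, ep1, em1, ep1, ep1, ep1, em1, ep1, em1, ep3],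
   [ep1, em1, ep1, ep1, ep1, ep1, ep1, ep1, ep1, ep1, em1, ep1, ep1, em1, ep1, ep1, ep1, ep1, ep1, em1, em1, em1, em1, ep3],
   [ep1, em1, ep1, ep1, ep1, ep1, ep1, ep1, ep1, ep1, ep1, em1, em1, ep1, em1, ep1, ep1, em1, ep1, em1, ep1, em1, ep1, ep3],
   [ep1, ep1, em1, em1, em1, em1, ep1, em1, ep1, ep1, ep1, ep1, ep1, ep1, ep1, ep1, em1, ep1, ep1, em1, ep1, ep1, ep1, ep3],
   [ep1, ep1, em1, em1, em1, ep1, ep1, ep1, ep1, ep1, em1, ep1, ep1, em1, em1, ep1, ep1, ep1, ep1, ep1, em1, ep1, ep1, ep3],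
   [ep1, ep1, em1, em1, em1, ep1, ep1, ep1, ep1, ep1, ep1, em1, em1, ep1, ep1, ep1, ep1, em1, ep1, ep1, ep1, ep1, em1, ep3],
   [ep1, ep1, em1, em1, ep1, em1, em1, ep1, ep1, ep1, ep1, ep1, ep1, em1, ep1, ep1, ep1, ep1, ep1, ep1, ep1, em1, em1, ep3],
   [ep1, ep1, em1, em1, ep1, em1, ep1, ep1, em1, ep1, em1, ep1, em1, ep1, ep1, em1, ep1, ep1, ep1, ep1, ep1, ep1, ep1, ep3],
   [ep1, ep1, em1, em1, ep1, em1, ep1, ep1, ep1, em1, ep1, em1, ep1, ep1, ep1, ep1, ep1, ep1, em1, ep1, em1, ep1, ep1, ep3],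
   [ep1, ep1, em1, em1, ep1, ep1, em1, em1, ep1, em1, em1, ep1, ep1, ep1, ep1, ep1, ep1, em1, ep1, ep1, ep1, ep1, ep1, ep3],
   [ep1, ep1, em1, em1, ep1, ep1, em1, ep1, em1, ep1, ep1, em1, ep1, ep1, em1, ep1, ep1, ep1, ep1, em1, ep1, ep1, ep1, ep3],
   [ep1, ep1, em1, em1, ep1, ep1, ep1, em1, ep1, ep1, ep1, ep1, em1, ep1, em1, ep1, ep1, ep1, em1, ep1, ep1, em1, ep1, ep3],
   [ep1, ep1, em1, em1, ep1, ep1, ep1, ep1, em1, ep1, ep1, ep1, ep1, em1, ep1, ep1, em1, em1, em1, ep1, ep1, ep1, ep1, ep3],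
   [ep1, ep1, em1, em1, ep1, ep1, ep1, ep1, ep1, em1, ep1, ep1, ep1, ep1, em1, em1, em1, ep1, ep1, ep1, ep1, ep1, em1, ep3],
   [ep1, ep1, em1, em1, ep1, ep1, ep1, ep1, ep1, ep1, ep1, ep1, ep1, ep1, ep1, em1, ep1, em1, ep1, em1, em1, em1, ep1, ep3],
   [ep1, ep1, em1, ep1, em1, em1, ep1, ep1, em1, ep1, ep1, ep1, ep1, ep1, em1, ep1, ep1, ep1, em1, ep1, ep1, ep1, em1, ep3],
   [ep1, ep1, em1, ep1, em1, em1, ep1, ep1, ep1, em1, ep1, ep1, ep1, em1, ep1, em1, ep1, em1, ep1, ep1, ep1, ep1, ep1, ep3],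
   [ep1, ep1, em1, ep1, em1, ep1, em1, em1, em1, ep1, ep1, ep1, em1, em1, ep1, ep1, ep1, ep1, ep1, ep1, ep1, ep1, ep1, ep3],
   [ep1, ep1, em1, ep1, em1, ep1, em1, ep1, ep1, em1, ep1, ep1, ep1, ep1, ep1, ep1, ep1, ep1, ep1, em1, em1, ep1, em1, ep3],
   [ep1, ep1, em1, ep1, em1, ep1, em1, ep1, ep1, ep1, ep1, ep1, ep1, ep1, em1, ep1, em1, em1, ep1, ep1, ep1, em1, ep1, ep3],
   [ep1, ep1, em1, ep1, em1, ep1, ep1, em1, ep1, ep1, em1, ep1, ep1, ep1, ep1, em1, ep1, ep1, ep1, ep1, ep1, em1, em1, ep3],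
   [ep1, ep1, em1, ep1, em1, ep1, ep1, ep1, em1, ep1, ep1, em1, ep1, ep1, ep1, em1, em1, ep1, ep1, ep1, em1, ep1, ep1, ep3],
   [ep1, ep1, em1, ep1, em1, ep1, ep1, ep1, ep1, em1, em1, ep1, em1, ep1, ep1, ep1, em1, ep1, em1, ep1, ep1, ep1, ep1, ep3],
   [ep1, ep1, em1, ep1, em1, ep1, ep1, ep1, ep1, ep1, ep1, em1, ep1, em1, ep1, ep1, ep1, ep1, em1, em1, ep1, em1, ep1, ep3],
   [ep1, ep1, em1, ep1, ep1, em1, em1, em1, ep1, ep1, ep1, ep1, ep1, ep1, em1, em1, ep1, ep1, ep1, ep1, em1, ep1, ep1, ep3],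
   [ep1, ep1, em1, ep1, ep1, em1, em1, ep1, ep1, ep1, ep1, ep1, em1, ep1, ep1, ep1, ep1, em1, em1, em1, ep1, ep1, ep1, ep3],
   [ep1, ep1, em1, ep1, ep1, em1, ep1, em1, em1, ep1, ep1, em1, ep1, ep1, ep1, ep1, ep1, em1, ep1, ep1, ep1, em1, ep1, ep3],
   [ep1, ep1, em1, ep1, ep1, em1, ep1, ep1, ep1, em1, em1, ep1, ep1, ep1, em1, ep1, ep1, ep1, ep1, em1, ep1, em1, ep1, ep3],
   [ep1, ep1, em1, ep1, ep1, em1, ep1, ep1, ep1, ep1, em1, ep1, ep1, ep1, ep1, ep1, em1, em1, ep1, ep1, em1, ep1, em1, ep3],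
   [ep1, ep1, em1, ep1, ep1, em1, ep1, ep1, ep1, ep1, ep1, em1, em1, em1, em1, ep1, em1, ep1, ep1, ep1, ep1, ep1, ep1, ep3],
   [ep1, ep1, em1, ep1, ep1, ep1, em1, em1, ep1, ep1, ep1, em1, ep1, ep1, ep1, ep1, em1, ep1, em1, ep1, ep1, ep1, em1, ep3],
   [ep1, ep1, em1, ep1, ep1, ep1, em1, ep1, em1, ep1, em1, ep1, ep1, ep1, ep1, ep1, ep1, ep1, em1, ep1, em1, em1, ep1, ep3],
   [ep1, ep1, em1, ep1, ep1, ep1, em1, ep1, ep1, em1, ep1, em1, em1, ep1, ep1, em1, ep1, ep1, ep1, ep1, ep1, em1, ep1, ep3],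
   [ep1, ep1, em1, ep1, ep1, ep1, em1, ep1, ep1, ep1, em1, ep1, ep1, em1, ep1, em1, em1, ep1, ep1, em1, ep1, ep1, ep1, ep3],
   [ep1, ep1, em1, ep1, ep1, ep1, ep1, em1, em1, em1, ep1, ep1, ep1, ep1, ep1, em1, ep1, ep1, em1, em1, ep1, ep1, ep1, ep3]]

/-- Vectors. -/
def vecs2 : List (List ℤ) :=
  [[ep1, ep1, em1, ep1, ep1, ep1, ep1, em1, ep1, em1, ep1, ep1, ep1, em1, ep1, ep1, em1, ep1, ep1, ep1, em1, em1, ep1, ep3],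
   [ep1, ep1, em1, ep1, ep1, ep1, ep1, em1, ep1, ep1, em1, em1, em1, ep1, ep1, ep1, ep1, ep1, ep1, em1, em1, ep1, ep1, ep3],
   [ep1, ep1, em1, ep1, ep1, ep1, ep1, em1, ep1, ep1, ep1, ep1, ep1, em1, em1, ep1, ep1, em1, ep1, em1, ep1, ep1, em1, ep3],
   [ep1, ep1, em1, ep1, ep1, ep1, ep1, ep1, em1, em1, em1, em1, ep1, em1, ep1, ep1, ep1, ep1, ep1, ep1, ep1, ep1, em1, ep3],
   [ep1, ep1, em1, ep1, ep1, ep1, ep1, ep1, em1, em1, ep1, ep1, em1, ep1, em1, ep1, ep1, em1, ep1, ep1, em1, ep1, ep1, ep3],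
   [ep1, ep1, em1, ep1, ep1, ep1, ep1, ep1, em1, ep1, ep1, ep1, em1, ep1, ep1, ep1, em1, ep1, ep1, em1, ep1, em1, em1, ep3],
   [ep1, ep1, em1, ep1, ep1, ep1, ep1, ep1, ep1, ep1, em1, em1, ep1, ep1, em1, em1, ep1, em1, em1, ep1, ep1, ep1, ep1, ep3],
   [ep1, ep1, em1, ep1, ep1, ep1, ep1, ep1, ep1, ep1, ep1, ep1, em1, em1, ep1, em1, ep1, ep1, em1, ep1, em1, ep1, em1, ep3],
   [ep1, ep1, ep1, em1, em1, em1, em1, ep1, em1, ep1, ep1, ep1, ep1, ep1, ep1, ep1, ep1, em1, ep1, ep1, em1, ep1, ep1, ep3],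
   [ep1, ep1, ep1, em1, em1, em1, ep1, ep1, ep1, ep1, ep1, em1, ep1, ep1, em1, em1, ep1, ep1, ep1, ep1, ep1, em1, ep1, ep3],
   [ep1, ep1, ep1, em1, em1, ep1, em1, ep1, ep1, em1, ep1, em1, ep1, em1, ep1, ep1, em1, ep1, ep1, ep1, ep1, ep1, ep1, ep3],
   [ep1, ep1, ep1, em1, em1, ep1, em1, ep1, ep1, ep1, em1, ep1, em1, ep1, ep1, ep1, ep1, ep1, ep1, em1, ep1, em1, ep1, ep3],
   [ep1, ep1, ep1, em1, em1, ep1, ep1, em1, em1, ep1, em1, em1, ep1, ep1, ep1, ep1, ep1, ep1, em1, ep1, ep1, ep1, ep1, ep3],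
   [ep1, ep1, ep1, em1, em1, ep1, ep1, em1, ep1, em1, ep1, ep1, em1, ep1, ep1, em1, ep1, ep1, ep1, ep1, em1, ep1, ep1, ep3],
   [ep1, ep1, ep1, em1, em1, ep1, ep1, ep1, em1, ep1, ep1, ep1, ep1, em1, ep1, em1, ep1, ep1, ep1, em1, ep1, ep1, em1, ep3],
   [ep1, ep1, ep1, em1, em1, ep1, ep1, ep1, ep1, em1, ep1, ep1, ep1, ep1, em1, ep1, ep1, em1, em1, em1, ep1, ep1, ep1, ep3],
   [ep1, ep1, ep1, em1, em1, ep1, ep1, ep1, ep1, ep1, ep1, ep1, ep1, ep1, ep1, ep1, em1, ep1, em1, ep1, em1, em1, em1, ep3],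
   [ep1, ep1, ep1, em1, ep1, em1, em1, ep1, ep1, ep1, em1, ep1, ep1, ep1, em1, ep1, em1, ep1, em1, ep1, ep1, ep1, ep1, ep3],
   [ep1, ep1, ep1, em1, ep1, em1, ep1, em1, em1, em1, ep1, ep1, ep1, em1, em1, ep1, ep1, ep1, ep1, ep1, ep1, ep1, ep1, ep3],
   [ep1, ep1, ep1, em1, ep1, em1, ep1, em1, ep1, ep1, ep1, ep1, ep1, ep1, ep1, em1, ep1, em1, em1, ep1, ep1, ep1, em1, ep3],
   [ep1, ep1, ep1, em1, ep1, em1, ep1, ep1, ep1, em1, ep1, ep1, em1, ep1, ep1, ep1, em1, em1, ep1, ep1, ep1, em1, ep1, ep3],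
   [ep1, ep1, ep1, em1, ep1, em1, ep1, ep1, ep1, ep1, em1, em1, ep1, em1, ep1, ep1, ep1, em1, ep1, em1, ep1, ep1, ep1, ep3],
   [ep1, ep1, ep1, em1, ep1, em1, ep1, ep1, ep1, ep1, ep1, ep1, em1, ep1, em1, ep1, ep1, ep1, ep1, em1, em1, ep1, em1, ep3],
   [ep1, ep1, ep1, em1, ep1, ep1, em1, em1, em1, ep1, ep1, ep1, ep1, ep1, ep1, em1, em1, ep1, ep1, ep1, ep1, em1, ep1, ep3],
   [ep1, ep1, ep1, em1, ep1, ep1, em1, em1, ep1, ep1, ep1, ep1, ep1, em1, ep1, ep1, ep1, ep1, em1, em1, em1, ep1, ep1, ep3],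
   [ep1, ep1, ep1, em1, ep1, ep1, em1, ep1, em1, em1, ep1, ep1, em1, ep1, ep1, ep1, ep1, ep1, em1, ep1, ep1, ep1, em1, ep3],
   [ep1, ep1, ep1, em1, ep1, ep1, em1, ep1, ep1, ep1, em1, em1, ep1, ep1, ep1, em1, ep1, ep1, ep1, ep1, em1, ep1, em1, ep3],
   [ep1, ep1, ep1, em1, ep1, ep1, em1, ep1, ep1, ep1, ep1, ep1, em1, em1, em1, em1, ep1, em1, ep1, ep1, ep1, ep1, ep1, ep3],
   [ep1, ep1, ep1, em1, ep1, ep1, ep1, em1, ep1, em1, ep1, em1, ep1, ep1, ep1, ep1, ep1, ep1, ep1, em1, ep1, em1, em1, ep3],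
   [ep1, ep1, ep1, em1, ep1, ep1, ep1, em1, ep1, ep1, em1, ep1, em1, em1, ep1, ep1, em1, ep1, ep1, ep1, ep1, ep1, em1, ep3],
   [ep1, ep1, ep1, em1, ep1, ep1, ep1, em1, ep1, ep1, ep1, em1, ep1, ep1, em1, ep1, em1, em1, ep1, ep1, em1, ep1, ep1, ep3],
   [ep1, ep1, ep1, em1, ep1, ep1, ep1, ep1, em1, em1, em1, ep1, ep1, ep1, ep1, ep1, em1, ep1, ep1, em1, em1, ep1, ep1, ep3],
   [ep1, ep1, ep1, em1, ep1, ep1, ep1, ep1, em1, ep1, em1, ep1, ep1, ep1, em1, ep1, ep1, em1, ep1, ep1, ep1, em1, em1, ep3],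
   [ep1, ep1, ep1, em1, ep1, ep1, ep1, ep1, em1, ep1, ep1, em1, em1, em1, ep1, ep1, ep1, ep1, ep1, ep1, em1, em1, ep1, ep3],
   [ep1, ep1, ep1, em1, ep1, ep1, ep1, ep1, ep1, em1, em1, ep1, ep1, em1, ep1, em1, ep1, ep1, em1, ep1, ep1, em1, ep1, ep3],
   [ep1, ep1, ep1, em1, ep1, ep1, ep1, ep1, ep1, ep1, ep1, em1, em1, ep1, ep1, em1, em1, ep1, em1, em1, ep1, ep1, ep1, ep3],
   [ep1, ep1, ep1, ep1, em1, em1, em1, em1, ep1, em1, ep1, ep1, ep1, ep1, ep1, ep1, ep1, ep1, em1, ep1, ep1, em1, ep1, ep3],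
   [ep1, ep1, ep1, ep1, em1, em1, em1, ep1, ep1, ep1, ep1, ep1, em1, ep1, ep1, em1, em1, ep1, ep1, ep1, ep1, ep1, em1, ep3],
   [ep1, ep1, ep1, ep1, em1, em1, ep1, em1, ep1, ep1, em1, ep1, em1, ep1, em1, ep1, ep1, em1, ep1, ep1, ep1, ep1, ep1, ep3],
   [ep1, ep1, ep1, ep1, em1, em1, ep1, em1, ep1, ep1, ep1, em1, ep1, em1, ep1, ep1, ep1, ep1, ep1, ep1, em1, ep1, em1, ep3],
   [ep1, ep1, ep1, ep1, em1, em1, ep1, ep1, em1, em1, ep1, em1, em1, ep1, ep1, ep1, ep1, ep1, ep1, em1, ep1, ep1, ep1, ep3],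
   [ep1, ep1, ep1, ep1, em1, em1, ep1, ep1, em1, ep1, em1, ep1, ep1, em1, ep1, ep1, em1, ep1, ep1, ep1, ep1, em1, ep1, ep3],
   [ep1, ep1, ep1, ep1, em1, em1, ep1, ep1, ep1, ep1, em1, ep1, ep1, ep1, ep1, em1, ep1, ep1, em1, em1, em1, ep1, ep1, ep3],
   [ep1, ep1, ep1, ep1, em1, ep1, em1, em1, ep1, ep1, ep1, em1, ep1, ep1, ep1, em1, ep1, em1, ep1, em1, ep1, ep1, ep1, ep3],
   [ep1, ep1, ep1, ep1, em1, ep1, em1, ep1, em1, em1, em1, ep1, ep1, ep1, em1, em1, ep1, ep1, ep1, ep1, ep1, ep1, ep1, ep3],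
   [ep1, ep1, ep1, ep1, em1, ep1, em1, ep1, ep1, ep1, em1, ep1, ep1, em1, ep1, ep1, ep1, em1, em1, ep1, ep1, ep1, em1, ep3],
   [ep1, ep1, ep1, ep1, em1, ep1, em1, ep1, ep1, ep1, ep1, em1, em1, ep1, em1, ep1, ep1, ep1, em1, ep1, em1, ep1, ep1, ep3],
   [ep1, ep1, ep1, ep1, em1, ep1, ep1, em1, em1, em1, ep1, ep1, ep1, ep1, ep1, ep1, em1, em1, ep1, ep1, ep1, ep1, em1, ep3],
   [ep1, ep1, ep1, ep1, em1, ep1, ep1, em1, em1, ep1, ep1, ep1, ep1, ep1, em1, ep1, ep1, ep1, ep1, em1, em1, em1, ep1, ep3],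
   [ep1, ep1, ep1, ep1, em1, ep1, ep1, em1, ep1, ep1, ep1, ep1, ep1, em1, em1, em1, em1, ep1, em1, ep1, ep1, ep1, ep1, ep3],
   [ep1, ep1, ep1, ep1, em1, ep1, ep1, ep1, em1, ep1, ep1, ep1, em1, ep1, ep1, em1, ep1, em1, em1, ep1, ep1, em1, ep1, ep3],
   [ep1, ep1, ep1, ep1, em1, ep1, ep1, ep1, ep1, em1, em1, em1, ep1, ep1, ep1, ep1, ep1, em1, ep1, ep1, em1, em1, ep1, ep3],
   [ep1, ep1, ep1, ep1, em1, ep1, ep1, ep1, ep1, em1, ep1, ep1, em1, em1, em1, ep1, ep1, ep1, ep1, ep1, ep1, em1, em1, ep3],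
   [ep1, ep1, ep1, ep1, em1, ep1, ep1, ep1, ep1, ep1, em1, em1, ep1, ep1, em1, ep1, em1, ep1, ep1, em1, ep1, ep1, em1, ep3],
   [ep1, ep1, ep1, ep1, em1, ep1, ep1, ep1, ep1, ep1, ep1, ep1, em1, em1, ep1, ep1, em1, em1, ep1, em1, em1, ep1, ep1, ep3]]

/-- Vectors. -/
def vecs3 : List (List ℤ) :=
  [[ep1, ep1, ep1, ep1, ep1, em1, em1, em1, em1, ep1, em1, ep1, ep1, ep1, ep1, ep1, ep1, ep1, ep1, em1, ep1, ep1, em1, ep3],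
   [ep1, ep1, ep1, ep1, ep1, em1, em1, ep1, em1, ep1, ep1, em1, ep1, em1, ep1, em1, ep1, ep1, em1, ep1, ep1, ep1, ep1, ep3],
   [ep1, ep1, ep1, ep1, ep1, em1, em1, ep1, ep1, em1, em1, ep1, em1, em1, ep1, ep1, ep1, ep1, ep1, ep1, em1, ep1, ep1, ep3],
   [ep1, ep1, ep1, ep1, ep1, em1, em1, ep1, ep1, em1, ep1, em1, ep1, ep1, em1, ep1, ep1, em1, ep1, ep1, ep1, ep1, em1, ep3],
   [ep1, ep1, ep1, ep1, ep1, em1, em1, ep1, ep1, ep1, ep1, em1, ep1, ep1, ep1, ep1, em1, ep1, ep1, em1, em1, em1, ep1, ep3],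
   [ep1, ep1, ep1, ep1, ep1, em1, ep1, em1, em1, ep1, ep1, ep1, em1, ep1, ep1, ep1, em1, ep1, em1, ep1, em1, ep1, ep1, ep3],
   [ep1, ep1, ep1, ep1, ep1, em1, ep1, em1, ep1, em1, em1, em1, ep1, ep1, ep1, em1, em1, ep1, ep1, ep1, ep1, ep1, ep1, ep3],
   [ep1, ep1, ep1, ep1, ep1, em1, ep1, em1, ep1, ep1, ep1, ep1, em1, em1, ep1, em1, ep1, ep1, ep1, em1, ep1, em1, ep1, ep3],
   [ep1, ep1, ep1, ep1, ep1, em1, ep1, ep1, em1, em1, ep1, ep1, ep1, ep1, ep1, em1, ep1, ep1, ep1, ep1, em1, em1, em1, ep3],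
   [ep1, ep1, ep1, ep1, ep1, em1, ep1, ep1, em1, ep1, ep1, ep1, ep1, ep1, em1, em1, em1, em1, ep1, em1, ep1, ep1, ep1, ep3],
   [ep1, ep1, ep1, ep1, ep1, em1, ep1, ep1, ep1, em1, ep1, ep1, ep1, em1, ep1, ep1, em1, ep1, em1, em1, ep1, ep1, em1, ep3],
   [ep1, ep1, ep1, ep1, ep1, em1, ep1, ep1, ep1, ep1, em1, em1, em1, ep1, ep1, ep1, ep1, ep1, em1, ep1, ep1, em1, em1, ep3],
   [ep1, ep1, ep1, ep1, ep1, em1, ep1, ep1, ep1, ep1, ep1, ep1, ep1, em1, em1, ep1, ep1, em1, em1, ep1, em1, em1, ep1, ep3],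
   [ep1, ep1, ep1, ep1, ep1, ep1, em1, em1, ep1, em1, ep1, ep1, em1, ep1, em1, ep1, em1, ep1, ep1, em1, ep1, ep1, ep1, ep3],
   [ep1, ep1, ep1, ep1, ep1, ep1, em1, em1, ep1, ep1, em1, em1, ep1, em1, em1, ep1, ep1, ep1, ep1, ep1, ep1, em1, ep1, ep3],
   [ep1, ep1, ep1, ep1, ep1, ep1, em1, em1, ep1, ep1, ep1, ep1, em1, ep1, ep1, ep1, ep1, em1, ep1, ep1, em1, em1, em1, ep3],
   [ep1, ep1, ep1, ep1, ep1, ep1, em1, ep1, em1, em1, ep1, ep1, ep1, em1, ep1, ep1, ep1, em1, ep1, em1, ep1, em1, ep1, ep3],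
   [ep1, ep1, ep1, ep1, ep1, ep1, em1, ep1, em1, ep1, em1, em1, em1, ep1, ep1, ep1, em1, em1, ep1, ep1, ep1, ep1, ep1, ep3],
   [ep1, ep1, ep1, ep1, ep1, ep1, em1, ep1, em1, ep1, ep1, ep1, ep1, em1, em1, ep1, em1, ep1, ep1, ep1, em1, ep1, em1, ep3],
   [ep1, ep1, ep1, ep1, ep1, ep1, em1, ep1, ep1, em1, ep1, ep1, ep1, ep1, ep1, em1, em1, em1, em1, ep1, em1, ep1, ep1, ep3],
   [ep1, ep1, ep1, ep1, ep1, ep1, em1, ep1, ep1, ep1, ep1, ep1, ep1, ep1, em1, em1, ep1, ep1, em1, em1, ep1, em1, em1, ep3],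
   [ep1, ep1, ep1, ep1, ep1, ep1, ep1, em1, em1, ep1, em1, ep1, ep1, em1, ep1, em1, ep1, em1, ep1, ep1, em1, ep1, ep1, ep3],
   [ep1, ep1, ep1, ep1, ep1, ep1, ep1, em1, em1, ep1, ep1, em1, em1, ep1, em1, em1, ep1, ep1, ep1, ep1, ep1, ep1, em1, ep3],
   [ep1, ep1, ep1, ep1, ep1, ep1, ep1, em1, ep1, em1, em1, ep1, ep1, ep1, em1, ep1, ep1, ep1, em1, ep1, em1, ep1, em1, ep3],
   [ep1, ep1, ep1, ep1, ep1, ep1, ep1, em1, ep1, em1, ep1, em1, em1, em1, ep1, ep1, ep1, em1, em1, ep1, ep1, ep1, ep1, ep3],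
   [ep1, ep1, ep1, ep1, ep1, ep1, ep1, em1, ep1, ep1, em1, ep1, ep1, ep1, ep1, ep1, em1, em1, em1, em1, ep1, em1, ep1, ep3],
   [ep1, ep1, ep1, ep1, ep1, ep1, ep1, ep1, em1, em1, ep1, em1, ep1, ep1, em1, ep1, em1, ep1, em1, ep1, ep1, em1, ep1, ep3],
   [ep1, ep1, ep1, ep1, ep1, ep1, ep1, ep1, em1, ep1, em1, ep1, em1, em1, em1, ep1, ep1, ep1, em1, em1, ep1, ep1, ep1, ep3],
   [ep1, ep1, ep1, ep1, ep1, ep1, ep1, ep1, em1, ep1, ep1, em1, ep1, ep1, ep1, ep1, ep1, em1, em1, em1, em1, ep1, em1, ep3],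
   [ep1, ep1, ep1, ep1, ep1, ep1, ep1, ep1, ep1, em1, em1, ep1, em1, ep1, ep1, em1, ep1, em1, ep1, em1, ep1, ep1, em1, ep3],
   [ep1, ep1, ep1, ep1, ep1, ep1, ep1, ep1, ep1, em1, ep1, em1, ep1, em1, em1, em1, ep1, ep1, ep1, em1, em1, ep1, ep1, ep3],
   [ep1, ep1, ep1, ep1, ep1, ep1, ep1, ep1, ep1, ep1, em1, ep1, em1, ep1, em1, em1, em1, ep1, ep1, ep1, em1, em1, ep1, ep3],
   [ep1, ep1, ep1, ep1, ep1, ep1, ep1, ep1, ep1, ep1, ep1, em1, ep1, em1, ep1, em1, em1, em1, ep1, ep1, ep1, em1, em1, ep3],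
   [ep2, ep0, ep0, ep0, ep0, ep0, ep0, ep0, ep0, ep0, ep0, ep0, ep2, ep0, ep2, ep0, ep2, ep2, ep2, ep0, ep0, ep0, ep2, ep2],
   [ep2, ep0, ep0, ep0, ep0, ep0, ep0, ep0, ep0, ep0, ep2, ep2, ep0, ep2, ep0, ep0, ep2, ep0, ep2, ep0, ep2, ep0, ep0, ep2],
   [ep2, ep0, ep0, ep0, ep0, ep0, ep0, ep0, ep0, ep2, ep0, ep0, ep2, ep0, ep0, ep0, ep0, ep0, ep2, ep2, ep2, ep2, ep0, ep2],
   [ep2, ep0, ep0, ep0, ep0, ep0, ep0, ep0, ep2, ep0, ep2, ep2, ep0, ep0, ep0, ep2, ep0, ep0, ep0, ep2, ep0, ep2, ep0, ep2],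
   [ep2, ep0, ep0, ep0, ep0, ep0, ep0, ep0, ep2, ep2, ep0, ep0, ep2, ep2, ep0, ep2, ep2, ep0, ep0, ep0, ep0, ep0, ep0, ep2],
   [ep2, ep0, ep0, ep0, ep0, ep0, ep0, ep2, ep0, ep0, ep0, ep0, ep0, ep0, ep0, ep2, ep2, ep0, ep0, ep2, ep2, ep0, ep2, ep2],
   [ep2, ep0, ep0, ep0, ep0, ep0, ep0, ep2, ep0, ep2, ep0, ep0, ep0, ep0, ep2, ep2, ep0, ep2, ep0, ep0, ep0, ep2, ep0, ep2],
   [ep2, ep0, ep0, ep0, ep0, ep0, ep0, ep2, ep2, ep0, ep0, ep0, ep0, ep2, ep0, ep0, ep0, ep0, ep2, ep0, ep0, ep2, ep2, ep2],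
   [ep2, ep0, ep0, ep0, ep0, ep0, ep2, ep0, ep0, ep0, ep0, ep2, ep2, ep2, ep0, ep0, ep0, ep0, ep0, ep2, ep0, ep0, ep2, ep2],
   [ep2, ep0, ep0, ep0, ep0, ep0, ep2, ep0, ep0, ep0, ep2, ep0, ep0, ep0, ep2, ep0, ep0, ep2, ep0, ep2, ep2, ep0, ep0, ep2],
   [ep2, ep0, ep0, ep0, ep0, ep0, ep2, ep0, ep0, ep2, ep2, ep0, ep0, ep0, ep0, ep0, ep2, ep0, ep0, ep0, ep0, ep2, ep2, ep2],
   [ep2, ep0, ep0, ep0, ep0, ep0, ep2, ep2, ep0, ep0, ep2, ep0, ep2, ep0, ep0, ep2, ep0, ep0, ep2, ep0, ep0, ep0, ep0, ep2],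
   [ep2, ep0, ep0, ep0, ep0, ep0, ep2, ep2, ep2, ep2, ep0, ep2, ep0, ep0, ep0, ep0, ep0, ep0, ep0, ep0, ep2, ep0, ep0, ep2],
   [ep2, ep0, ep0, ep0, ep0, ep2, ep0, ep0, ep0, ep0, ep0, ep2, ep2, ep0, ep0, ep2, ep0, ep2, ep0, ep0, ep2, ep0, ep0, ep2],
   [ep2, ep0, ep0, ep0, ep0, ep2, ep0, ep0, ep0, ep0, ep2, ep0, ep0, ep2, ep2, ep2, ep0, ep0, ep0, ep0, ep0, ep0, ep2, ep2],
   [ep2, ep0, ep0, ep0, ep0, ep2, ep0, ep0, ep2, ep2, ep2, ep0, ep0, ep0, ep0, ep0, ep0, ep2, ep2, ep0, ep0, ep0, ep0, ep2],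
   [ep2, ep0, ep0, ep0, ep0, ep2, ep0, ep2, ep0, ep0, ep0, ep2, ep0, ep0, ep2, ep0, ep0, ep0, ep2, ep2, ep0, ep0, ep0, ep2],
   [ep2, ep0, ep0, ep0, ep0, ep2, ep2, ep0, ep2, ep0, ep0, ep0, ep2, ep0, ep2, ep0, ep0, ep0, ep0, ep0, ep0, ep2, ep0, ep2],
   [ep2, ep0, ep0, ep0, ep0, ep2, ep2, ep2, ep0, ep0, ep0, ep0, ep0, ep2, ep0, ep0, ep2, ep2, ep0, ep0, ep0, ep0, ep0, ep2],
   [ep2, ep0, ep0, ep0, ep2, ep0, ep0, ep0, ep0, ep2, ep0, ep2, ep0, ep0, ep0, ep2, ep0, ep0, ep2, ep0, ep0, ep0, ep2, ep2],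
   [ep2, ep0, ep0, ep0, ep2, ep0, ep0, ep0, ep2, ep0, ep0, ep2, ep0, ep2, ep2, ep0, ep0, ep2, ep0, ep0, ep0, ep0, ep0, ep2],
   [ep2, ep0, ep0, ep0, ep2, ep0, ep0, ep0, ep2, ep0, ep2, ep0, ep2, ep0, ep0, ep0, ep0, ep0, ep0, ep0, ep2, ep0, ep2, ep2]]

/-- Vectors. -/
def vecs4 : List (List ℤ) :=
  [[ep2, ep0, ep0, ep0, ep2, ep0, ep0, ep2, ep0, ep0, ep0, ep2, ep2, ep0, ep0, ep0, ep2, ep0, ep0, ep0, ep0, ep2, ep0, ep2],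
   [ep2, ep0, ep0, ep0, ep2, ep0, ep0, ep2, ep0, ep2, ep2, ep0, ep0, ep2, ep0, ep0, ep0, ep0, ep0, ep2, ep0, ep0, ep0, ep2],
   [ep2, ep0, ep0, ep0, ep2, ep0, ep2, ep0, ep0, ep0, ep0, ep0, ep0, ep2, ep0, ep2, ep0, ep0, ep0, ep0, ep2, ep2, ep0, ep2],
   [ep2, ep0, ep0, ep0, ep2, ep0, ep2, ep0, ep2, ep0, ep0, ep0, ep0, ep0, ep0, ep0, ep2, ep0, ep2, ep2, ep0, ep0, ep0, ep2],
   [ep2, ep0, ep0, ep0, ep2, ep2, ep0, ep0, ep0, ep0, ep0, ep0, ep0, ep0, ep0, ep0, ep0, ep2, ep0, ep2, ep0, ep2, ep2, ep2],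
   [ep2, ep0, ep0, ep0, ep2, ep2, ep0, ep0, ep0, ep2, ep0, ep0, ep0, ep0, ep2, ep0, ep2, ep0, ep0, ep0, ep2, ep0, ep0, ep2],
   [ep2, ep0, ep0, ep2, ep0, ep0, ep0, ep0, ep0, ep0, ep0, ep0, ep0, ep2, ep2, ep0, ep2, ep0, ep0, ep2, ep0, ep2, ep0, ep2],
   [ep2, ep0, ep0, ep2, ep0, ep0, ep0, ep0, ep0, ep2, ep0, ep0, ep0, ep2, ep0, ep0, ep0, ep2, ep0, ep0, ep2, ep0, ep2, ep2],
   [ep2, ep0, ep0, ep2, ep0, ep0, ep0, ep0, ep0, ep2, ep2, ep2, ep2, ep0, ep2, ep0, ep0, ep0, ep0, ep0, ep0, ep0, ep0, ep2],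
   [ep2, ep0, ep0, ep2, ep0, ep0, ep0, ep0, ep2, ep0, ep0, ep0, ep0, ep0, ep2, ep2, ep0, ep0, ep2, ep0, ep2, ep0, ep0, ep2],
   [ep2, ep0, ep0, ep2, ep0, ep0, ep0, ep2, ep2, ep0, ep0, ep0, ep2, ep0, ep0, ep0, ep0, ep2, ep0, ep2, ep0, ep0, ep0, ep2],
   [ep2, ep0, ep0, ep2, ep0, ep0, ep2, ep0, ep0, ep0, ep0, ep2, ep0, ep0, ep0, ep0, ep0, ep2, ep2, ep0, ep0, ep2, ep0, ep2],
   [ep2, ep0, ep0, ep2, ep0, ep2, ep0, ep0, ep2, ep0, ep0, ep2, ep0, ep0, ep0, ep0, ep2, ep0, ep0, ep0, ep0, ep0, ep2, ep2],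
   [ep2, ep0, ep0, ep2, ep0, ep2, ep0, ep2, ep0, ep0, ep2, ep0, ep0, ep0, ep0, ep0, ep0, ep0, ep0, ep0, ep2, ep2, ep0, ep2],
   [ep2, ep0, ep0, ep2, ep0, ep2, ep2, ep0, ep0, ep2, ep0, ep0, ep0, ep0, ep0, ep2, ep0, ep0, ep0, ep2, ep0, ep0, ep0, ep2],
   [ep2, ep0, ep0, ep2, ep2, ep0, ep0, ep0, ep0, ep0, ep2, ep0, ep0, ep0, ep0, ep2, ep2, ep2, ep0, ep0, ep0, ep0, ep0, ep2],
   [ep2, ep0, ep0, ep2, ep2, ep0, ep2, ep2, ep0, ep0, ep0, ep0, ep0, ep0, ep2, ep0, ep0, ep0, ep0, ep0, ep0, ep0, ep2, ep2],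
   [ep2, ep0, ep0, ep2, ep2, ep2, ep0, ep0, ep0, ep0, ep0, ep0, ep2, ep2, ep0, ep0, ep0, ep0, ep2, ep0, ep0, ep0, ep0, ep2],
   [ep2, ep0, ep2, ep0, ep0, ep0, ep0, ep0, ep0, ep0, ep0, ep2, ep0, ep0, ep2, ep0, ep0, ep0, ep0, ep0, ep2, ep2, ep2, ep2],
   [ep2, ep0, ep2, ep0, ep0, ep0, ep0, ep0, ep0, ep0, ep2, ep0, ep2, ep2, ep0, ep0, ep0, ep2, ep0, ep0, ep0, ep2, ep0, ep2],
   [ep2, ep0, ep2, ep0, ep0, ep0, ep0, ep0, ep0, ep2, ep0, ep2, ep0, ep0, ep0, ep0, ep2, ep2, ep0, ep2, ep0, ep0, ep0, ep2],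
   [ep2, ep0, ep2, ep0, ep0, ep0, ep0, ep2, ep2, ep0, ep2, ep0, ep0, ep0, ep2, ep0, ep2, ep0, ep0, ep0, ep0, ep0, ep0, ep2],
   [ep2, ep0, ep2, ep0, ep0, ep0, ep2, ep0, ep0, ep2, ep0, ep0, ep0, ep2, ep2, ep0, ep0, ep0, ep2, ep0, ep0, ep0, ep0, ep2],
   [ep2, ep0, ep2, ep0, ep0, ep0, ep2, ep0, ep2, ep0, ep0, ep0, ep0, ep0, ep0, ep2, ep0, ep2, ep0, ep0, ep0, ep0, ep2, ep2],
   [ep2, ep0, ep2, ep0, ep0, ep2, ep0, ep0, ep0, ep0, ep0, ep0, ep0, ep0, ep0, ep2, ep2, ep0, ep2, ep0, ep0, ep2, ep0, ep2],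
   [ep2, ep0, ep2, ep0, ep0, ep2, ep0, ep0, ep2, ep0, ep0, ep0, ep0, ep2, ep0, ep0, ep0, ep0, ep0, ep2, ep2, ep0, ep0, ep2],
   [ep2, ep0, ep2, ep0, ep0, ep2, ep0, ep2, ep0, ep2, ep0, ep0, ep2, ep0, ep0, ep0, ep0, ep0, ep0, ep0, ep0, ep0, ep2, ep2],
   [ep2, ep0, ep2, ep0, ep2, ep0, ep0, ep0, ep0, ep0, ep0, ep0, ep2, ep0, ep2, ep2, ep0, ep0, ep0, ep2, ep0, ep0, ep0, ep2],
   [ep2, ep0, ep2, ep0, ep2, ep0, ep0, ep2, ep0, ep0, ep0, ep0, ep0, ep0, ep0, ep0, ep0, ep2, ep2, ep0, ep2, ep0, ep0, ep2],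
   [ep2, ep0, ep2, ep0, ep2, ep2, ep2, ep0, ep0, ep0, ep2, ep2, ep0, ep0, ep0, ep0, ep0, ep0, ep0, ep0, ep0, ep0, ep0, ep2],
   [ep2, ep0, ep2, ep2, ep0, ep0, ep0, ep0, ep0, ep0, ep2, ep0, ep0, ep0, ep0, ep0, ep0, ep0, ep2, ep2, ep0, ep0, ep2, ep2],
   [ep2, ep0, ep2, ep2, ep0, ep0, ep0, ep2, ep0, ep0, ep0, ep2, ep0, ep2, ep0, ep2, ep0, ep0, ep0, ep0, ep0, ep0, ep0, ep2],
   [ep2, ep0, ep2, ep2, ep0, ep0, ep2, ep0, ep0, ep0, ep0, ep0, ep2, ep0, ep0, ep0, ep2, ep0, ep0, ep0, ep2, ep0, ep0, ep2],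
   [ep2, ep0, ep2, ep2, ep2, ep0, ep0, ep0, ep2, ep2, ep0, ep0, ep0, ep0, ep0, ep0, ep0, ep0, ep0, ep0, ep0, ep2, ep0, ep2],
   [ep2, ep2, ep0, ep0, ep0, ep0, ep0, ep0, ep0, ep0, ep0, ep0, ep0, ep2, ep0, ep2, ep0, ep2, ep2, ep2, ep0, ep0, ep0, ep2],
   [ep2, ep2, ep0, ep0, ep0, ep0, ep0, ep0, ep2, ep0, ep0, ep0, ep0, ep0, ep0, ep0, ep2, ep2, ep0, ep0, ep2, ep2, ep0, ep2],
   [ep2, ep2, ep0, ep0, ep0, ep0, ep0, ep0, ep2, ep2, ep0, ep0, ep0, ep0, ep2, ep0, ep0, ep0, ep0, ep2, ep0, ep0, ep2, ep2],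
   [ep2, ep2, ep0, ep0, ep0, ep0, ep0, ep2, ep0, ep0, ep0, ep0, ep2, ep2, ep2, ep0, ep0, ep0, ep0, ep0, ep2, ep0, ep0, ep2],
   [ep2, ep2, ep0, ep0, ep0, ep0, ep0, ep2, ep0, ep0, ep2, ep2, ep0, ep0, ep0, ep0, ep0, ep2, ep0, ep0, ep0, ep0, ep2, ep2],
   [ep2, ep2, ep0, ep0, ep0, ep0, ep2, ep0, ep0, ep0, ep0, ep2, ep0, ep0, ep2, ep2, ep2, ep0, ep0, ep0, ep0, ep0, ep0, ep2],
   [ep2, ep2, ep0, ep0, ep0, ep2, ep0, ep0, ep0, ep0, ep2, ep0, ep2, ep0, ep0, ep0, ep2, ep0, ep0, ep2, ep0, ep0, ep0, ep2],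
   [ep2, ep2, ep0, ep0, ep0, ep2, ep0, ep0, ep0, ep2, ep0, ep2, ep0, ep2, ep0, ep0, ep0, ep0, ep0, ep0, ep0, ep2, ep0, ep2],
   [ep2, ep2, ep0, ep0, ep0, ep2, ep2, ep0, ep0, ep0, ep0, ep0, ep0, ep0, ep0, ep0, ep0, ep0, ep2, ep0, ep2, ep0, ep2, ep2],
   [ep2, ep2, ep0, ep0, ep2, ep0, ep0, ep0, ep0, ep0, ep2, ep0, ep0, ep0, ep2, ep0, ep0, ep0, ep2, ep0, ep0, ep2, ep0, ep2],
   [ep2, ep2, ep0, ep0, ep2, ep0, ep2, ep0, ep0, ep2, ep0, ep0, ep2, ep0, ep0, ep0, ep0, ep2, ep0, ep0, ep0, ep0, ep0, ep2],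
   [ep2, ep2, ep0, ep0, ep2, ep2, ep0, ep2, ep2, ep0, ep0, ep0, ep0, ep0, ep0, ep2, ep0, ep0, ep0, ep0, ep0, ep0, ep0, ep2],
   [ep2, ep2, ep0, ep2, ep0, ep0, ep0, ep0, ep0, ep0, ep0, ep0, ep2, ep0, ep0, ep2, ep0, ep0, ep0, ep0, ep0, ep2, ep2, ep2],
   [ep2, ep2, ep0, ep2, ep0, ep0, ep0, ep2, ep0, ep2, ep0, ep0, ep0, ep0, ep0, ep0, ep2, ep0, ep2, ep0, ep0, ep0, ep0, ep2],
   [ep2, ep2, ep0, ep2, ep0, ep0, ep2, ep0, ep2, ep0, ep2, ep0, ep0, ep2, ep0, ep0, ep0, ep0, ep0, ep0, ep0, ep0, ep0, ep2],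
   [ep2, ep2, ep0, ep2, ep2, ep0, ep0, ep0, ep0, ep0, ep0, ep2, ep0, ep0, ep0, ep0, ep0, ep0, ep0, ep2, ep2, ep0, ep0, ep2],
   [ep2, ep2, ep2, ep0, ep0, ep0, ep0, ep0, ep0, ep2, ep2, ep0, ep0, ep0, ep0, ep2, ep0, ep0, ep0, ep0, ep2, ep0, ep0, ep2],
   [ep2, ep2, ep2, ep0, ep0, ep0, ep0, ep0, ep2, ep0, ep0, ep2, ep2, ep0, ep0, ep0, ep0, ep0, ep2, ep0, ep0, ep0, ep0, ep2],
   [ep2, ep2, ep2, ep0, ep0, ep0, ep2, ep2, ep0, ep0, ep0, ep0, ep0, ep0, ep0, ep0, ep0, ep0, ep0, ep2, ep0, ep2, ep0, ep2],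
   [ep2, ep2, ep2, ep0, ep2, ep0, ep0, ep0, ep0, ep0, ep0, ep0, ep0, ep2, ep0, ep0, ep2, ep0, ep0, ep0, ep0, ep0, ep2, ep2],
   [ep2, ep2, ep2, ep2, ep0, ep2, ep0, ep0, ep0, ep0, ep0, ep0, ep0, ep0, ep2, ep0, ep0, ep2, ep0, ep0, ep0, ep0, ep0, ep2]]

/-- The 275 vectors. -/
def vecs : List (List ℤ) := vecs0 ++ vecs1 ++ vecs2 ++ vecs3 ++ vecs4

end Cfsg.Agent.MultiplierMcL
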