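import Cfsg.Agent.Lib.PcCover.BoundFast

/-!
# Data: bound for the 3-part of the multiplier of the McLaughlin group
-/

set_option autoImplicit false
set_option maxRecDepth 40000
set_option linter.style.longLine false

namespace Cfsg.Agent.MultiplierMcL.Three

/-- The letters as words. -/
def words : List (List ℕ) :=
  [[3, 3, 2, 3, 3, 3, 4, 5, 5, 5, 5, 8, 8, 6, 10],
    [4, 4, 5, 4, 5, 7, 9, 7, 10, 10],
    [4, 5, 5, 4, 4, 4, 6, 6, 9, 6, 6, 10],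
    [2, 2, 2, 2, 3, 3, 4, 5, 5, 5, 5, 4, 5, 4, 9, 10, 10],
    [2, 3, 3, 2, 3, 3, 3, 4, 5, 4, 5, 5, 4, 5, 5, 7, 9, 7, 6, 10],
    [2, 2, 3, 3, 4, 5, 4, 4, 7, 9, 6, 10],
    [3, 2, 2, 2, 3, 2, 2, 5, 4, 4, 4, 7, 8, 9, 7, 10],
    [1, 0, 0, 0, 0, 0, 3, 2, 2, 2, 3, 2, 2, 2, 4, 5, 5, 5, 4, 5, 9, 8, 7, 10, 10],
    [0, 0, 0, 1, 0, 0, 0, 1, 0, 1, 2, 3, 2, 3, 3, 3, 2, 2, 2, 5, 4, 4, 4, 9, 7, 7, 6, 10, 10]]

/-- The letters as packed tables. -/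
def tabs : List ℕ :=
  [0x1f942268799d2a5d1d02978d74d93cbeca26261cc3451a213ad1569da07107bb39fc8e46b59f6f280a5e08376085cb49e3e3bd6ee4300d5d47a7a1c5c4fc8544974d869bc20a6a8439db81c6631934491f3b54ac885bd9927b3ea884810299b80e8a2809e18924080d62b446054784b5796de2a43c02170a80a0cd8a0b2c210581a27164a2091e9dcbc381583c5a0449aa4c2f31837d205445c2528f5582fa00c22529dca8355b68ccd23c865887f668ec6c1b3a818627008a18c49f4e120d2012130c42134c8940a166a98d720d1907dd0ff0f1bce8b3220e5fa20171b0e4f943a019ed42ba3d54bf50438ca961f8be0eb57d31c5102151cdba850eab9bc4665c1a1b11773b16c526cbe0daeb6817082bb7491d4c232a90dc0c070b8c1c82062f4ac18202c844645636cd645091352289149a00400,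
    0x411ecc162c39ef094715cfcea5ba3e20f9842fdbab118b4536e180ad6243572281e27c3142d72fc74a99ac6a69c0d0e9038890a30d65b71e03726331f64922b992ed83aab5450267ac0e6c075bb01e5a153495e3f7c08d68a108a220a7a6a4010cd77a2e9eab84e9d90b0f139e17cca34ad9dab310c28bc2d05105901528228b3115ec1a0e7d408bd127432954e0835436d38484f3c8c0a44ab54283a77a7df4a306aa5fa4719c3122bb61b40ee0c26ab978307f2342e8b279b9c00316339920733865b27f25158a6726fa08b08009379884b553cc502b128f87a84081a0f25f2e821c4e82e31924164d109dc4452871ca6c1db080c6b36bfd8e5b320086c98218e5263809b8c64965607cc2da2329c1626100783a520c19834057390118992a0d0f66f0483928b2558899a63270b836041e0a40200,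
    0x33dc6de86c387b086e9a1d4fe34afcb4eb3995960655dc3190f86936da6f572b2df8e983405c2c77f809cc196ab4462232c37d8a513b87c6a1b76a8d94205997cbcd83889208625123a125545198e85026c2ce0a85c9adeece70125982879a5c8ee777875e01e648cc8ae47d27db2f2459fdb4855593a00fd110a52657883e5d82a404095ed01f9014c52412460eae40ab0f4466a3ecc30a4ec4882e21b17125055b2f94ab24a40d808736a5940bd889902e3e3f09496b7301b80a03240692a8c33b11520d31a3c205356ac4ea0c09210d4bc03a7938133782568c139055ecd66b9284cc63c0e04e390b108642e16b361e6c1db705e900c1f1e25b41a25e81c2226936e82a1e5327d5ab089e4c16028423a440101c0f6196542112e81954ee158d06e8d182e8ec8605a9d30085210cf6b81e0500200,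
    0x33d7efe34c3a1a5a86195bcea1e958e6eb8438dbaaa5dac13b0480a49a6f57bb510e8a3d1f9df121aa1448ce7e40d8e6d2fb8902e4502b5f2465e239f6ed209257cd80bb686c2a70c15949e781a812f288b054ab45c92192610d961a3066595d0071511b9d21d72a09b6af5e80a151064179cc9f01a5c66a855be98a4e283fca7022e188a296839ac1860801dd2a1549a9850e079c243207458c5644b7c11c8aa3461fd6eb35b330aad502a3d22294e2a5ce7269199be70080784622203b07e94339d162ae09b40a41a3a9903eac31c2c4a206cb009a121f311fa8437834fad713151ac3713a41dc2f1c1096a9a87a85360a5c174f616631f1e2083b265e88d160445a441a3d828794322038dc7402c78c21d2e8765903260602e2610cd0782d928304f668054832360841e2b41b0c720e53a240800,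
    0x34cfa8e87c385b017d97947054d9e4fcb9693d994be7ac253ac768ad4f8f43827914a28340df8f98209cba1c749cc6a386b3b5cae46a0906c1161141823a4cb5d48d82f93224626abca16a07096542ea26c318ab478ba14a8d4d098b4282a93804584382dde0a5b81c64af591e15cde641d9b8ee2a15e14a82510592977f3e0cc2a42c08a2bf1e8b124ce6cb2e1a827bb6cf42e602109e1545bfc28bc18a7d0d104a20d028946420eef048159e6b388ac492096603c4093309b02c3422094d2b633b34c8335c38c326a6d2a5cc451db75308806a45380e3a0c1fab0624012ce7388102e6d2e0608e1b1b908182f1f9ca0e5b1e2b48cc611b3dd66e32be97610031ed2ac35d3417a8f5637cc01f21820264b71088421a35bb0de393a920fe800e8040a521f2ad54a61598ca61e34101c0a7090a40600,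
    0xc4c4ca34c392acc3f034b4504da716036519e9d4071ab04a2d584219ff0438159d6b92ac25a68a70accea4f3e211e0054405d6e8b4793144062ec2e065f2e1c42ad8102f10ec05dbfa0a797a1bcd48e4f1cd4ab48904592530b399a477681a0641f788399e1e40ac53eaf062989cd164401ae7810a0caee40509d8a7f6ebbc4af314a45fa2a1e9208a19463d85aa97b91d961b3ec30e864543a524247e0097b012f429ca9932b79c6f5221357e416a2f84c1a8826074930780472031b8407e76339814897040a07c3025aa892141a3c8c2e24a25940130e2853afb04ada04586e18dbe1844b0d00234810958c6879660e6c3736858e0173e1f2126ca158e66741ae1a6d2a4196b11593b4a4e73da9c16ad6b01174c421a34e49a6111866db1596c80cd6707504ee55889d84a570e05eb81e3e87600,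
    0x141063f3e43862c83809d362d7095d16d2288358a8947205e8d14ab4198c178a9221033b41e16847923dae2165325d44f0b8ea08d54637e12306e3ddfa4c7b2210c676b1d60b003f2ddc8d96e8ad74b458c3de0f984165d2010e1c5ca07199e196266f06146391b2f4c4ff3e9e864a81a91c3e55178a532fc03135145c4e968b668141399e94510420c04061958e805d9dd6c0f322bc10ee43c0580c2581e522a55aa99f02a0a24d2e73292082aa0572b0404a3487848d32a05832113a039ea4121029b6b31717806222c27cbe56118f4d849229fd7c901d849730d05a16145d710dc96cd6a14d38a137b61e63e758f1dec661b9ce4600d3fa187b7d279f6a776236249821aa622aa812b468e612b81d0bc768b0906e6718d706a6d31004960d910c21d09a6964e3028e1566b49198126d202fc8c00,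
    0x282a59480000ca107988e81061a0c9e5b4c2c4a67d071982208352d574123695ca86c5f235700b37218e2c109870429b260908837039740270611bce4755eaf180676bb70950a0f0c1d8a41e40e122532185d01853abc5e8e62a20c00d329e9325f021f00704119554c9a012cd40092423d5a14452797e6b5c8300af60c8ee027613a5d8c5e0b144f07e152a470791624918815714a1106172ad125831a7d00c448c44f6ac2b33a002b87938fedb4140874501f42c3e3951bf12a3154168364d6c2c12c9c510cd94d11332dcc327886a20df68250d0ff8621080cd693cd6c4976b842e9d23a9482695b908b8b4219cc8d1243b585af7720d03ad36a114450583a2dc10d7caa964d977369d4e21fbd1d220258d9d6cc72bedbcfd73b24ee851aaed90f26ebd450fa7833dfcef71a4c7af8638a5ab0e,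
    0x506eb84d9096e0b00af0940a4e84426415d26868494f80d5e8653a1d6a787b9108abd48021dca6494480e8d4004964c00a9fd16a502aa88ebf2b9b83b0a69a5ce2005f2d80446599b0a86d429a8c2ab7007a1a692e1e85a0f3ea9078c316131f2b10630464fb5412de83f18a89b82b87974ec7c3f2b44cc9883bd2ac20722460435c81968407ea706c98441ed027549bc070f61788542246289dd2337d3f06a5b6bb59c904730edd0995012072f50b3895c25021c91870082393ca3140f87a583393c2ee72d0b988090688128bb8298c385e7688c36ea6718190223a17c308341425522a4523df0f34b439d7028394ca30366191227988ab052b06d3fdb6ec6a189cacb80b199e6b70c00ccd92a9cdbc6827421fc6f2b148330632b8c74f1423449a5966b483ec785b2834f26fb40ee506eb5618d8]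

/-- The elements in blocks, by increasing key. -/
def blocks : List (List (List ℕ)) :=
  [[[], [2], [1], [1, 1], [1, 1, 2, 2], [1, 1, 2], [1, 2], [1, 2, 2], [2, 2], [0, 1, 2, 2], [0, 1, 2], [0, 1, 1, 2, 2], [0], [0, 2], [0, 1, 1, 2], [0, 2, 2], [0, 1, 1], [0, 1], [1, 1, 2, 2, 4, 5, 5], [1, 1, 2, 4], [2, 2, 4, 5], [4], [1, 2, 2, 4], [2, 4, 5, 5], [1, 2, 4, 5], [1, 4, 5, 5], [1, 1, 4, 5]],
    [[1, 2, 3, 5, 5], [1, 3], [2, 3, 5, 5], [2, 2, 3, 5], [3], [1, 1, 3], [1, 1, 2, 3, 5, 5], [1, 1, 2, 2, 3, 5], [1, 2, 2, 3, 5], [0, 0, 1, 4, 4, 5], [0, 0, 2, 4, 4, 5], [0, 0, 1, 2, 4, 4, 5, 5], [0, 0, 2, 2, 4, 4, 5, 5], [0, 0, 4, 4], [0, 0, 1, 2, 2, 4, 4], [0, 0, 1, 1, 2, 2, 4, 4, 5], [0, 0, 1, 1, 4, 4, 5, 5], [0, 0, 1, 1, 2, 4, 4], [1, 1, 2, 2, 3, 4, 4, 5], [1, 1, 3, 4, 4, 5], [2, 3, 4, 4, 5, 5], [3, 4, 4, 5, 5], [1, 3, 4, 4],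 [1, 2, 3, 4, 4], [2, 2, 3, 4, 4, 5, 5], [1, 2, 2, 3, 4, 4], [1, 1, 2, 3, 4, 4, 5]],
    [[2, 2, 3, 4], [2, 3, 4, 5, 5], [1, 2, 3, 4, 5], [1, 1, 2, 3, 4], [1, 1, 3, 4, 5, 5], [1, 1, 2, 2, 3, 4, 5], [1, 3, 4], [1, 2, 2, 3, 4, 5, 5], [3, 4, 5], [1, 2, 3, 3, 4, 5], [1, 2, 2, 3, 3, 4, 5], [1, 1, 2, 2, 3, 3, 4], [2, 3, 3, 4, 5, 5], [2, 2, 3, 3, 4, 5, 5], [1, 1, 2, 3, 3, 4], [3, 3, 4, 5, 5], [1, 1, 3, 3, 4], [1, 3, 3, 4, 5], [0, 1, 3, 3, 4, 4, 5, 5], [0, 1, 2, 3, 3, 4, 4, 5], [0, 1, 1, 2, 2, 3, 3, 4, 4, 5], [0, 3, 3, 4, 4, 5], [0, 2, 3, 3, 4, 4], [0, 2, 2, 3, 3, 4, 4, 5, 5], [0, 1, 1, 3, 3, 4, 4], [0, 1, 2, 2, 3, 3, 4, 4], [0, 1, 1, 2, 3, 3, 4, 4, 5, 5]],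
    [[0, 0, 1, 2, 2, 3, 4], [0, 0, 1, 1, 3, 4], [0, 0, 1, 3, 4, 5], [0, 0, 1, 1, 2, 3, 4, 5], [0, 0, 1, 2, 3, 4, 5, 5], [0, 0, 1, 1, 2, 2, 3, 4, 5, 5], [0, 0, 3, 4, 5, 5], [0, 0, 2, 3, 4], [0, 0, 2, 2, 3, 4, 5], [1, 1, 2, 3, 3, 5], [1, 1, 3, 3], [2, 3, 3, 5], [1, 2, 3, 3, 5], [2, 2, 3, 3, 5, 5], [1, 3, 3], [1, 2, 2, 3, 3, 5, 5], [3, 3], [1, 1, 2, 2, 3, 3, 5, 5], [1, 4, 4, 5], [1, 2, 2, 4, 4], [1, 1, 2, 4, 4], [2, 4, 4, 5], [1, 1, 2, 2, 4, 4, 5], [2, 2, 4, 4, 5, 5], [1, 1, 4, 4, 5, 5], [4, 4], [1, 2, 4, 4, 5, 5]],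
    [[3, 3, 4, 4, 5], [2, 2, 3, 3, 4, 4, 5, 5], [1, 1, 2, 3, 3, 4, 4, 5, 5], [1, 2, 2, 3, 3, 4, 4], [1, 1, 2, 2, 3, 3, 4, 4, 5], [1, 2, 3, 3, 4, 4, 5], [1, 3, 3, 4, 4, 5, 5], [1, 1, 3, 3, 4, 4], [2, 3, 3, 4, 4], [0, 1, 2, 3, 4], [0, 1, 1, 2, 3, 4, 5, 5], [0, 3, 4], [0, 1, 3, 4, 5, 5], [0, 2, 3, 4, 5], [0, 1, 1, 3, 4, 5], [0, 1, 1, 2, 2, 3, 4], [0, 1, 2, 2, 3, 4, 5], [0, 2, 2, 3, 4, 5, 5], [0, 0, 1, 1, 2, 3, 3, 5], [0, 0, 2, 3, 3, 5], [0, 0, 2, 2, 3, 3, 5, 5], [0, 0, 1, 1, 2, 2, 3, 3, 5, 5], [0, 0, 3, 3], [0, 0, 1, 1, 3, 3], [0, 0, 1, 2, 3, 3, 5], [0, 0, 1, 3, 3], [0, 0, 1, 2, 2, 3, 3, 5, 5]],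
    [[1, 3, 3, 5], [1, 2, 2, 3, 3], [1, 1, 2, 2, 3, 3], [2, 2, 3, 3], [1, 2, 3, 3, 5, 5], [3, 3, 5], [2, 3, 3, 5, 5], [1, 1, 3, 3, 5], [1, 1, 2, 3, 3, 5, 5], [1, 2, 2, 3], [1, 1, 2, 3, 5], [1, 1, 2, 2, 3], [2, 2, 3], [3, 5, 5], [1, 3, 5, 5], [1, 1, 3, 5, 5], [2, 3, 5], [1, 2, 3, 5], [1, 3, 3, 4], [1, 1, 3, 3, 4, 5, 5], [2, 3, 3, 4, 5], [3, 3, 4, 5], [1, 1, 2, 2, 3, 3, 4, 5, 5], [1, 2, 2, 3, 3, 4], [1, 2, 3, 3, 4], [2, 2, 3, 3, 4, 5], [1, 1, 2, 3, 3, 4, 5, 5]],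
    [[1, 2, 2, 3, 4], [1, 3, 4, 5], [3, 4, 5, 5], [1, 1, 3, 4], [1, 1, 2, 3, 4, 5], [1, 2, 3, 4, 5, 5], [1, 1, 2, 2, 3, 4, 5, 5], [2, 3, 4], [2, 2, 3, 4, 5], [0, 1, 2, 3, 3], [0, 2, 3, 3], [0, 2, 2, 3, 3, 5], [0, 1, 1, 2, 2, 3, 3, 5], [0, 1, 1, 3, 3, 5, 5], [0, 1, 2, 2, 3, 3, 5], [0, 1, 3, 3, 5, 5], [0, 1, 1, 2, 3, 3], [0, 3, 3, 5, 5], [0, 1, 4, 5, 5], [0, 1, 1, 2, 2, 4, 5, 5], [0, 1, 2, 2, 4], [0, 1, 1, 4, 5], [0, 1, 1, 2, 4], [0, 2, 4, 5, 5], [0, 1, 2, 4, 5], [0, 4], [0, 2, 2, 4, 5]],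
    [[1, 3, 3, 4, 4], [1, 2, 3, 3, 4, 4, 5, 5], [1, 1, 3, 3, 4, 4, 5], [1, 2, 2, 3, 3, 4, 4, 5], [1, 1, 2, 3, 3, 4, 4], [2, 3, 3, 4, 4, 5], [1, 1, 2, 2, 3, 3, 4, 4, 5, 5], [2, 2, 3, 3, 4, 4], [3, 3, 4, 4, 5, 5], [0, 1, 2, 4, 4], [0, 1, 1, 4, 4], [0, 1, 1, 2, 4, 4, 5], [0, 1, 4, 4, 5, 5], [0, 2, 2, 4, 4], [0, 1, 2, 2, 4, 4, 5], [0, 2, 4, 4, 5, 5], [0, 4, 4, 5], [0, 1, 1, 2, 2, 4, 4, 5, 5], [0, 0, 3, 3, 5], [0, 0, 1, 2, 2, 3, 3], [0, 0, 1, 3, 3, 5], [0, 0, 1, 1, 2, 2, 3, 3], [0, 0, 1, 1, 3, 3, 5], [0, 0, 1, 2, 3, 3, 5, 5], [0, 0, 1, 1, 2, 3, 3, 5, 5], [0, 0, 2, 3, 3, 5, 5], [0, 0, 2, 2, 3, 3]],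
    [[1, 2, 4, 4, 5], [1, 1, 4, 4, 5], [2, 2, 4, 4, 5], [1, 1, 2, 4, 4, 5, 5], [2, 4, 4], [4, 4, 5, 5], [1, 4, 4], [1, 1, 2, 2, 4, 4], [1, 2, 2, 4, 4, 5, 5], [1, 2, 2, 5], [1, 2, 5], [1, 1, 5], [1, 1, 2, 5], [1, 1, 2, 2, 5], [2, 2, 5], [1, 5], [2, 5], [5], [1, 4], [1, 2, 4, 5, 5], [1, 1, 4, 5, 5], [2, 4], [1, 2, 2, 4, 5], [2, 2, 4, 5, 5], [4, 5], [1, 1, 2, 4, 5], [1, 1, 2, 2, 4]],
    [[0, 1, 2, 2, 3, 3, 4], [0, 1, 3, 3, 4], [0, 3, 3, 4, 5], [0, 2, 2, 3, 3, 4, 5], [0, 1, 1, 2, 2, 3, 3, 4, 5, 5], [0, 2, 3, 3, 4, 5], [0, 1, 1, 2, 3, 3, 4, 5, 5], [0, 1, 2, 3, 3, 4], [0, 1, 1, 3, 3, 4, 5, 5], [0, 1, 2, 2, 3, 4, 4], [0, 1, 3, 4, 4], [0, 1, 1, 2, 2, 3, 4, 4, 5], [0, 1, 2, 3, 4, 4], [0, 1, 1, 3, 4, 4, 5], [0, 1, 1, 2, 3, 4, 4, 5], [0, 3, 4, 4, 5, 5], [0, 2, 2, 3, 4, 4, 5, 5], [0, 2, 3, 4, 4, 5, 5], [0, 1, 3, 5, 5], [0, 3,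 5, 5], [0, 1, 2, 2, 3], [0, 1, 1, 3, 5, 5], [0, 1, 2, 3, 5], [0, 2, 3, 5], [0, 2, 2, 3], [0, 1, 1, 2, 2, 3], [0, 1, 1, 2, 3, 5]],
    [[1, 2, 2, 3, 4, 4, 5], [1, 2, 3, 4, 4, 5], [3, 4, 4], [1, 3, 4, 4, 5], [2, 2, 3, 4, 4], [2, 3, 4, 4], [1, 1, 2, 3, 4, 4, 5, 5], [1, 1, 3, 4, 4, 5, 5], [1, 1, 2, 2, 3, 4, 4, 5, 5], [0, 0, 1, 1, 4], [0, 0, 1, 2, 4], [0, 0, 2, 4, 5], [0, 0, 2, 2, 4], [0, 0, 1, 1, 2, 4, 5, 5], [0, 0, 1, 4, 5], [0, 0, 1, 1, 2, 2, 4, 5], [0, 0, 4, 5, 5], [0, 0, 1, 2, 2, 4, 5, 5], [2, 3, 3, 4, 4, 5, 5], [1, 1, 3, 3, 4, 4, 5, 5], [2, 2, 3, 3, 4, 4, 5], [1, 1, 2, 2, 3, 3, 4, 4], [1, 2, 2, 3, 3, 4, 4, 5, 5], [1, 3, 3, 4, 4, 5], [3, 3, 4, 4], [1, 2, 3, 3, 4, 4], [1, 1, 2, 3, 3, 4, 4, 5]],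
    [[0, 0, 1, 2, 2, 3], [0, 0, 1, 1, 2, 2, 3], [0, 0, 2, 3, 5], [0, 0, 3, 5, 5], [0, 0, 1, 3, 5, 5], [0, 0, 1, 1, 3, 5, 5], [0, 0, 1, 2, 3, 5], [0, 0, 2, 2, 3], [0, 0, 1, 1, 2, 3, 5], [1, 1, 2, 2, 4, 4, 5, 5], [4, 4, 5], [1, 2, 4, 4], [2, 2, 4, 4], [2, 4, 4, 5, 5], [1, 1, 2, 4, 4, 5], [1, 1, 4, 4], [1, 2, 2, 4, 4, 5], [1, 4, 4, 5, 5], [0, 1, 1, 2, 2, 3, 4, 5, 5], [0, 3, 4, 5, 5], [0, 1, 2, 3, 4, 5, 5], [0, 2, 2, 3, 4, 5], [0, 1, 1, 3, 4], [0, 2, 3, 4], [0, 1, 1, 2, 3, 4, 5], [0, 1, 3, 4, 5], [0, 1, 2, 2, 3, 4]],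
    [[0, 0, 2, 2, 3, 4, 4, 5], [0, 0, 1, 2, 3, 4, 4, 5, 5], [0, 0, 1, 1, 2, 3, 4, 4], [0, 0, 2, 3, 4, 4, 5], [0, 0, 1, 1, 3, 4, 4], [0, 0, 1, 2, 2, 3, 4, 4, 5, 5], [0, 0, 3, 4, 4, 5], [0, 0, 1, 1, 2, 2, 3, 4, 4], [0, 0, 1, 3, 4, 4, 5, 5], [1, 1, 2, 3, 4, 4], [2, 2, 3, 4, 4, 5], [1, 1, 3, 4, 4], [1, 2, 2, 3, 4, 4, 5, 5], [1, 1, 2, 2, 3, 4, 4], [1, 3, 4, 4, 5, 5], [3, 4, 4, 5], [2, 3, 4, 4, 5], [1, 2, 3, 4, 4, 5, 5], [0, 0, 1, 2, 2, 3, 3, 4, 4], [0, 0, 1, 1, 3, 3, 4, 4], [0, 0, 3, 3, 4, 4, 5], [0, 0, 1, 3, 3, 4, 4, 5, 5], [0, 0, 1, 1, 2, 2, 3, 3, 4, 4, 5], [0, 0, 2, 3, 3, 4, 4], [0, 0, 1, 1, 2, 3, 3, 4, 4, 5, 5], [0, 0, 1, 2, 3, 3, 4, 4, 5], [0, 0, 2, 2, 3, 3, 4, 4, 5, 5]],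
    [[0, 0, 2, 2, 3, 3, 4, 5], [0, 0, 1, 1, 2, 2, 3, 3, 4, 5, 5], [0, 0, 1, 3, 3, 4], [0, 0, 3, 3, 4, 5], [0, 0, 1, 2, 2, 3, 3, 4], [0, 0, 1, 1, 2, 3, 3, 4, 5, 5], [0, 0, 2, 3, 3, 4, 5], [0, 0, 1, 2, 3, 3, 4], [0, 0, 1, 1, 3, 3, 4, 5, 5], [0, 0], [0, 0, 1], [0, 0, 1, 1, 2], [0, 0, 1, 2, 2], [0, 0, 1, 1, 2, 2], [0, 0, 2, 2], [0, 0, 1, 1], [0, 0, 1, 2], [0, 0, 2], [1, 1, 4], [2, 4, 5], [1, 1, 2, 4, 5, 5], [1, 2, 2, 4, 5, 5], [1, 4, 5], [1, 2, 4], [4, 5, 5], [2, 2, 4], [1, 1, 2, 2, 4, 5]],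
    [[2, 2, 5, 5], [1, 1, 2, 5, 5], [2, 5, 5], [1, 1, 2, 2, 5, 5], [1, 2, 5, 5], [5, 5], [1, 5, 5], [1, 2, 2, 5, 5], [1, 1, 5, 5], [0, 0, 1, 2, 5], [0, 0, 2, 5], [0, 0, 1, 1, 2, 2, 5], [0, 0, 1, 1, 5], [0, 0, 5], [0, 0, 1, 5], [0, 0, 2, 2, 5], [0, 0, 1, 1, 2, 5], [0, 0, 1, 2, 2, 5], [0, 2, 3, 3, 4], [0, 1, 1, 3, 3, 4, 5], [0, 2, 2, 3, 3, 4], [0, 1, 1, 2, 2, 3, 3, 4, 5], [0, 1, 2, 3, 3, 4, 5, 5], [0, 3, 3, 4], [0, 1, 3, 3, 4, 5, 5], [0, 1, 1, 2, 3, 3, 4, 5], [0, 1, 2, 2, 3, 3, 4, 5, 5]],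
    [[0, 0, 1, 1, 2, 3, 3, 4, 5], [0, 0, 1, 2, 2, 3, 3, 4, 5, 5], [0, 0, 2, 3, 3, 4], [0, 0, 1, 1, 3, 3, 4, 5], [0, 0, 2, 2, 3, 3, 4], [0, 0, 1, 2, 3, 3, 4, 5, 5], [0, 0, 1, 3, 3, 4, 5, 5], [0, 0, 1, 1, 2, 2, 3, 3, 4, 5], [0, 0, 3, 3, 4], [0, 2, 3, 4, 4], [0, 2, 2, 3, 4, 4], [0, 1, 2, 3, 4, 4, 5], [0, 1, 1, 2, 2, 3, 4, 4, 5, 5], [0, 3, 4, 4], [0, 1, 1, 2, 3, 4, 4, 5, 5], [0, 1, 3, 4, 4, 5], [0, 1, 2, 2, 3, 4, 4, 5], [0, 1, 1, 3, 4, 4, 5, 5], [0, 0, 1, 2, 3, 4], [0, 0, 1, 2, 2, 3, 4, 5], [0, 0, 1, 3, 4, 5, 5], [0, 0, 2, 3, 4, 5], [0, 0, 1, 1, 2, 2, 3, 4], [0, 0, 2, 2, 3, 4, 5, 5], [0, 0, 3, 4], [0, 0, 1, 1, 2, 3, 4, 5, 5], [0, 0, 1, 1, 3, 4, 5]],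
    [[0, 0, 1, 3, 4, 4, 5], [0, 0, 1, 1, 3, 4, 4, 5, 5], [0, 0, 2, 3, 4, 4], [0, 0, 1, 2, 3, 4, 4, 5], [0, 0, 1, 1, 2, 2, 3, 4, 4, 5, 5], [0, 0, 3, 4, 4], [0, 0, 1, 1, 2, 3, 4, 4, 5, 5], [0, 0, 1, 2, 2, 3, 4, 4, 5], [0, 0, 2, 2, 3, 4, 4], [0, 1, 1, 2, 2, 4, 4], [0, 2, 4, 4], [0, 2, 2, 4, 4, 5], [0, 1, 2, 4, 4, 5], [0, 1, 2, 2, 4, 4, 5, 5], [0, 1, 1, 2, 4, 4, 5, 5], [0, 1, 1, 4, 4, 5], [0, 1, 4, 4], [0, 4, 4, 5, 5], [0, 1, 1, 5, 5], [0, 2, 5, 5], [0, 1, 2, 2, 5, 5], [0, 1, 5, 5], [0, 1, 1, 2, 5, 5], [0, 2, 2, 5, 5], [0, 1, 1, 2, 2, 5, 5], [0, 1, 2, 5, 5], [0, 5, 5]],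
    [[0, 1, 1, 2, 3, 5, 5], [0, 1, 1, 3], [0, 1, 2, 3, 5, 5], [0, 1, 2, 2, 3, 5], [0, 2, 3, 5, 5], [0, 1, 3], [0, 3], [0, 1, 1, 2, 2, 3, 5], [0, 2, 2, 3, 5], [0, 0, 2, 3, 3, 4, 4, 5, 5], [0, 0, 1, 3, 3, 4, 4, 5], [0, 0, 1, 1, 2, 3, 3, 4, 4, 5], [0, 0, 1, 1, 3, 3, 4, 4, 5, 5], [0, 0, 2, 2, 3, 3, 4, 4, 5], [0, 0, 1, 2, 3, 3, 4, 4], [0, 0, 3, 3, 4, 4], [0, 0, 1, 2, 2, 3, 3, 4, 4, 5, 5], [0, 0, 1, 1, 2, 2, 3, 3, 4, 4], [0, 2, 2, 3, 5, 5], [0, 1, 1, 2, 3], [0, 1, 1, 2, 2, 3, 5, 5], [0, 2, 3], [0, 1, 2, 3], [0, 3, 5], [0, 1, 1, 3, 5], [0, 1, 2, 2, 3, 5, 5], [0, 1, 3, 5]],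
    [[0, 0, 3], [0, 0, 1, 1, 2, 3, 5, 5], [0, 0, 1, 2, 3, 5, 5], [0, 0, 2, 2, 3, 5], [0, 0, 1, 2, 2, 3, 5], [0, 0, 1, 1, 2, 2, 3, 5], [0, 0, 1, 1, 3], [0, 0, 1, 3], [0, 0, 2, 3, 5, 5], [0, 0, 1, 2, 3, 3, 4, 4, 5, 5], [0, 0, 1, 1, 2, 2, 3, 3, 4, 4, 5, 5], [0, 0, 2, 2, 3, 3, 4, 4], [0, 0, 3, 3, 4, 4, 5, 5], [0, 0, 1, 1, 2, 3, 3, 4, 4], [0, 0, 1, 2, 2, 3, 3, 4, 4, 5], [0, 0, 2, 3, 3, 4, 4, 5], [0, 0, 1, 1, 3, 3, 4, 4, 5], [0, 0, 1, 3, 3, 4, 4], [0, 1, 1, 3, 4, 4], [0, 2, 3, 4, 4, 5], [0, 3, 4, 4, 5], [0, 1, 1, 2, 3, 4, 4], [0, 1, 2, 3, 4, 4, 5, 5], [0, 1, 3, 4, 4, 5, 5], [0, 2, 2, 3, 4, 4, 5], [0, 1, 1, 2, 2, 3, 4, 4], [0, 1, 2, 2, 3, 4, 4, 5, 5]],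
    [[0, 1, 1, 2, 4, 5, 5], [0, 2, 2, 4], [0, 4, 5, 5], [0, 1, 1, 4], [0, 1, 2, 2, 4, 5, 5], [0, 1, 1, 2, 2, 4, 5], [0, 1, 2, 4], [0, 2, 4, 5], [0, 1, 4, 5], [0, 0, 1, 2, 3, 3, 4, 5], [0, 0, 3, 3, 4, 5, 5], [0, 0, 1, 1, 3, 3, 4], [0, 0, 1, 3, 3, 4, 5], [0, 0, 2, 3, 3, 4, 5, 5], [0, 0, 1, 1, 2, 2, 3, 3, 4], [0, 0, 1, 1, 2, 3, 3, 4], [0, 0, 1, 2, 2, 3, 3, 4, 5], [0, 0, 2, 2, 3, 3, 4, 5, 5], [0, 1, 1, 2, 2, 3, 3], [0, 3, 3, 5], [0, 1, 2, 2, 3, 3], [0, 1, 3, 3, 5], [0, 1, 1, 2, 3, 3, 5, 5], [0, 2, 2, 3, 3], [0, 1, 1, 3, 3, 5], [0, 2, 3, 3, 5, 5], [0, 1, 2, 3, 3, 5, 5]],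
    [[3, 4], [1, 1, 2, 2, 3, 4], [1, 1, 2, 3, 4, 5, 5], [1, 3, 4, 5, 5], [2, 2, 3, 4, 5, 5], [1, 1, 3, 4, 5], [1, 2, 3, 4], [2, 3, 4, 5], [1, 2, 2, 3, 4, 5], [0, 0, 1, 1, 3, 5], [0, 0, 1, 3, 5], [0, 0, 2, 2, 3, 5, 5], [0, 0, 1, 1, 2, 3], [0, 0, 2, 3], [0, 0, 1, 2, 3], [0, 0, 1, 1, 2, 2, 3, 5, 5], [0, 0, 1, 2, 2, 3, 5, 5], [0, 0, 3, 5], [0, 0, 1, 1, 2, 2, 3, 4, 4, 5], [0, 0, 3, 4, 4, 5, 5], [0, 0, 1, 2, 2, 3, 4, 4], [0, 0, 1, 3, 4, 4], [0, 0, 1, 1, 2, 3, 4, 4, 5], [0, 0, 2, 2, 3, 4, 4, 5, 5], [0, 0, 1, 1, 3, 4, 4, 5], [0, 0, 1, 2, 3, 4, 4], [0, 0, 2, 3, 4, 4, 5, 5]],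
    [[1, 1, 2, 3, 3, 4, 5], [2, 2, 3, 3, 4], [3, 3, 4], [1, 1, 2, 2, 3, 3, 4, 5], [1, 1, 3, 3, 4, 5], [1, 3, 3, 4, 5, 5], [2, 3, 3, 4], [1, 2, 2, 3, 3, 4, 5, 5], [1, 2, 3, 3, 4, 5, 5], [0, 1, 1, 3, 3, 4], [0, 1, 1, 2, 3, 3, 4], [0, 1, 2, 3, 3, 4, 5], [0, 1, 2, 2, 3, 3, 4, 5], [0, 1, 1, 2, 2, 3, 3, 4], [0, 1, 3, 3, 4, 5], [0, 3, 3, 4, 5, 5], [0, 2, 2, 3, 3, 4, 5, 5], [0, 2, 3, 3, 4, 5, 5], [0, 0, 1, 2, 4, 4], [0, 0, 1, 2, 2, 4, 4, 5], [0, 0, 1, 4, 4, 5, 5], [0, 0, 4, 4, 5], [0, 0, 1, 1, 2, 4, 4, 5], [0, 0, 1, 1, 4, 4], [0, 0, 2, 2, 4, 4], [0, 0, 2, 4, 4, 5, 5], [0, 0, 1, 1, 2, 2, 4, 4, 5, 5]],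
    [[0, 0, 1, 1, 2, 4, 5], [0, 0, 1, 2, 2, 4, 5], [0, 0, 2, 2, 4, 5, 5], [0, 0, 1, 2, 4, 5, 5], [0, 0, 1, 1, 2, 2, 4], [0, 0, 4, 5], [0, 0, 1, 4], [0, 0, 2, 4], [0, 0, 1, 1, 4, 5, 5], [0, 3, 3], [0, 1, 1, 3, 3], [0, 1, 1, 2, 3, 3, 5], [0, 1, 3, 3], [0, 1, 2, 2, 3, 3, 5, 5], [0, 2, 2, 3, 3, 5, 5], [0, 1, 2, 3, 3, 5], [0, 2, 3, 3, 5], [0, 1, 1, 2, 2, 3, 3, 5, 5], [0, 1, 1, 2, 3, 3, 4, 4, 5], [0, 2, 2, 3, 3, 4, 4, 5], [0, 1, 3, 3, 4, 4, 5], [0, 1, 2, 2, 3, 3, 4, 4, 5, 5], [0, 1, 1, 3, 3, 4, 4, 5, 5], [0, 2, 3, 3, 4, 4, 5, 5], [0, 3, 3, 4, 4], [0, 1, 1, 2, 2, 3, 3, 4, 4], [0, 1, 2, 3, 3, 4, 4]],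
    [[0, 2, 2, 4, 5, 5], [0, 1, 2, 4, 5, 5], [0, 2, 4], [0, 1, 1, 2, 2, 4], [0, 1, 2, 2, 4, 5], [0, 1, 4], [0, 4, 5], [0, 1, 1, 4, 5, 5], [0, 1, 1, 2, 4, 5], [0, 0, 4], [0, 0, 1, 4, 5, 5], [0, 0, 1, 1, 2, 2, 4, 5, 5], [0, 0, 1, 2, 2, 4], [0, 0, 1, 1, 4, 5], [0, 0, 2, 4, 5, 5], [0, 0, 1, 1, 2, 4], [0, 0, 1, 2, 4, 5], [0, 0, 2, 2, 4, 5], [2, 3], [1, 1, 3, 5], [1, 2, 2, 3, 5, 5], [3, 5], [1, 1, 2, 2, 3, 5, 5], [1, 1, 2, 3], [2, 2, 3, 5, 5], [1, 3, 5], [1, 2, 3]],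
    [[1, 1, 2, 2, 3, 3, 5], [3, 3, 5, 5], [1, 1, 2, 3, 3], [1, 2, 2, 3, 3, 5], [2, 2, 3, 3, 5], [2, 3, 3], [1, 3, 3, 5, 5], [1, 1, 3, 3, 5, 5], [1, 2, 3, 3], [0, 4, 4], [0, 1, 1, 2, 2, 4, 4, 5], [0, 1, 2, 2, 4, 4], [0, 1, 4, 4, 5], [0, 1, 1, 2, 4, 4], [0, 2, 4, 4, 5], [0, 2, 2, 4, 4, 5, 5], [0, 1, 1, 4, 4, 5, 5], [0, 1, 2, 4, 4, 5, 5], [0, 0, 1, 2, 2, 5, 5], [0, 0, 1, 1, 5, 5], [0, 0, 2, 2, 5, 5], [0, 0, 1, 1, 2, 5, 5], [0, 0, 2, 5, 5], [0, 0, 1, 2, 5, 5], [0, 0, 1, 5, 5], [0, 0, 5, 5], [0, 0, 1, 1, 2, 2, 5, 5]],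
    [[0, 0, 1, 2, 2, 3, 3, 5], [0, 0, 1, 3, 3, 5, 5], [0, 0, 1, 2, 3, 3], [0, 0, 1, 1, 3, 3, 5, 5], [0, 0, 2, 2, 3, 3, 5], [0, 0, 2, 3, 3], [0, 0, 1, 1, 2, 3, 3], [0, 0, 1, 1, 2, 2, 3, 3, 5], [0, 0, 3, 3, 5, 5], [0, 1, 2, 2, 3, 4, 5, 5], [0, 1, 1, 3, 4, 5, 5], [0, 1, 3, 4], [0, 2, 3, 4, 5, 5], [0, 1, 1, 2, 3, 4], [0, 2, 2, 3, 4], [0, 1, 2, 3, 4, 5], [0, 1, 1, 2, 2, 3, 4, 5], [0, 3, 4, 5], [0, 1, 1, 3, 3, 4, 4, 5], [0, 1, 2, 2, 3, 3, 4, 4, 5], [0, 1, 1, 2, 2, 3, 3, 4, 4, 5, 5], [0, 3, 3, 4, 4, 5, 5], [0, 1, 2, 3, 3, 4, 4, 5, 5], [0, 2, 3, 3, 4, 4, 5], [0, 1, 3, 3, 4, 4], [0, 1, 1, 2, 3, 3, 4, 4], [0, 2, 2, 3, 3, 4, 4]],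
    [[0, 5], [0, 2, 2, 5], [0, 1, 1, 2, 2, 5], [0, 1, 1, 2, 5], [0, 1, 2, 5], [0, 1, 5], [0, 1, 2, 2, 5], [0, 1, 1, 5], [0, 2, 5], [0, 0, 1, 1, 4, 4, 5], [0, 0, 1, 1, 2, 4, 4, 5, 5], [0, 0, 1, 1, 2, 2, 4, 4], [0, 0, 2, 4, 4], [0, 0, 2, 2, 4, 4, 5], [0, 0, 4, 4, 5, 5], [0, 0, 1, 2, 2, 4, 4, 5, 5], [0, 0, 1, 4, 4], [0, 0, 1, 2, 4, 4, 5], [0, 0, 2, 2, 3, 4], [0, 0, 3, 4, 5], [0, 0, 2, 3, 4, 5, 5], [0, 0, 1, 1, 3, 4, 5, 5], [0, 0, 1, 1, 2, 3, 4], [0, 0, 1, 1, 2, 2, 3, 4, 5], [0, 0, 1, 3, 4], [0, 0, 1, 2, 2, 3, 4, 5, 5], [0, 0, 1, 2, 3, 4, 5]]]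

/-- The indices. -/
def fast : PcCover.Fast where
  mulI := [[0, 1, 2, 3, 4, 5, 6, 7, 8, 9, 10, 11, 12, 13, 14, 15, 16, 17, 18, 19, 20, 21, 22, 23, 24, 25, 26],
    [1, 3, 7, 0, 8, 9, 10, 11, 14, 15, 16, 2, 19, 20, 4, 5, 6, 21, 22, 23, 24, 25, 26, 12, 13, 17, 18],
    [2, 7, 5, 11, 12, 0, 13, 9, 19, 1, 20, 15, 17, 18, 23, 3, 24, 4, 6, 21, 22, 8, 10, 25, 26, 14, 16],
    [3, 0, 11, 1, 14, 15, 16, 2, 4, 5, 6, 7, 23, 24, 8, 9, 10, 25, 26, 12, 13, 17, 18, 19, 20, 21, 22],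
    [4, 8, 12, 14, 6, 17, 0, 19, 10, 21, 1, 23, 13, 2, 16, 25, 3, 18, 5, 20, 7, 22, 9, 24, 11, 26, 15],
    [5, 9, 0, 15, 17, 2, 18, 1, 21, 7, 22, 3, 4, 6, 25, 11, 26, 12, 13, 8, 10, 19, 20, 14, 16, 23, 24],
    [6, 10, 13, 16, 0, 18, 4, 20, 1, 22, 8, 24, 2, 12, 3, 26, 14, 5, 17, 7, 19, 9, 21, 11, 23, 15, 25],
    [7, 11, 9, 2, 19, 1, 20, 15, 23, 3, 24, 5, 21, 22, 12, 0, 13, 8, 10, 25, 26, 14, 16, 17, 18, 4, 6],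
    [8, 14, 19, 4, 10, 21, 1, 23, 16, 25, 3, 12, 20, 7, 6, 17, 0, 22, 9, 24, 11, 26, 15, 13, 2, 18, 5],
    [9, 15, 1, 5, 21, 7, 22, 3, 25, 11, 26, 0, 8, 10, 17, 2, 18, 19, 20, 14, 16, 23, 24, 4, 6, 12, 13],
    [10, 16, 20, 6, 1, 22, 8, 24, 3, 26, 14, 13, 7, 19, 0, 18, 4, 9, 21, 11, 23, 15, 25, 2, 12, 5, 17],
    [11, 2, 15, 7, 23, 3, 24, 5, 12, 0, 13, 9, 25, 26, 19, 1, 20, 14, 16, 17, 18, 4, 6, 21, 22, 8, 10],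
    [12, 19, 17, 23, 13, 4, 2, 21, 20, 8, 7, 25, 18, 5, 24, 14, 11, 6, 0, 22, 9, 10, 1, 26, 15, 16, 3],
    [13, 20, 18, 24, 2, 6, 12, 22, 7, 10, 19, 26, 5, 17, 11, 16, 23, 0, 4, 9, 21, 1, 8, 15, 25, 3, 14],
    [14, 4, 23, 8, 16, 25, 3, 12, 6, 17, 0, 19, 24, 11, 10, 21, 1, 26, 15, 13, 2, 18, 5, 20, 7, 22, 9],
    [15, 5, 3, 9, 25, 11, 26, 0, 17, 2, 18, 1, 14, 16, 21, 7, 22, 23, 24, 4, 6, 12, 13, 8, 10, 19, 20],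
    [16, 6, 24, 10, 3, 26, 14, 13, 0, 18, 4, 20, 11, 23, 1, 22, 8, 15, 25, 2, 12, 5, 17, 7, 19, 9, 21],
    [17, 21, 4, 25, 18, 12, 5, 8, 22, 19, 9, 14, 6, 0, 26, 23, 15, 13, 2, 10, 1, 20, 7, 16, 3, 24, 11],
    [18, 22, 6, 26, 5, 13, 17, 10, 9, 20, 21, 16, 0, 4, 15, 24, 25, 2, 12, 1, 8, 7, 19, 3, 14, 11, 23],
    [19, 23, 21, 12, 20, 8, 7, 25, 24, 14, 11, 17, 22, 9, 13, 4, 2, 10, 1, 26, 15, 16, 3, 18, 5, 6, 0],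
    [20, 24, 22, 13, 7, 10, 19, 26, 11, 16, 23, 18, 9, 21, 2, 6, 12, 1, 8, 15, 25, 3, 14, 5, 17, 0, 4],
    [21, 25, 8, 17, 22, 19, 9, 14, 26, 23, 15, 4, 10, 1, 18, 12, 5, 20, 7, 16, 3, 24, 11, 6, 0, 13, 2],
    [22, 26, 10, 18, 9, 20, 21, 16, 15, 24, 25, 6, 1, 8, 5, 13, 17, 7, 19, 3, 14, 11, 23, 0, 4, 2, 12],
    [23, 12, 25, 19, 24, 14, 11, 17, 13, 4, 2, 21, 26, 15, 20, 8, 7, 16, 3, 18, 5, 6, 0, 22, 9, 10, 1],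
    [24, 13, 26, 20, 11, 16, 23, 18, 2, 6, 12, 22, 15, 25, 7, 10, 19, 3, 14, 5, 17, 0, 4, 9, 21, 1, 8],
    [25, 17, 14, 21, 26, 23, 15, 4, 18, 12, 5, 8, 16, 3, 22, 19, 9, 24, 11, 6, 0, 13, 2, 10, 1, 20, 7],
    [26, 18, 16, 22, 15, 24, 25, 6, 5, 13, 17, 10, 3, 14, 9, 20, 21, 11, 23, 0, 4, 2, 12, 1, 8, 7, 19]]
  conjI := [[0, 1, 2, 3, 4, 5, 6, 7, 8, 9, 10, 11, 12, 13, 14, 15, 16, 17, 18, 19, 20, 21, 22, 23, 24, 25, 26],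
    [0, 10, 13, 14, 4, 17, 6, 19, 1, 9, 8, 11, 2, 12, 16, 26, 3, 18, 5, 20, 7, 21, 22, 23, 24, 15, 25],
    [0, 10, 12, 14, 4, 18, 6, 7, 1, 21, 8, 24, 13, 2, 16, 15, 3, 5, 17, 19, 20, 22, 9, 11, 23, 25, 26],
    [0, 1, 2, 3, 4, 5, 6, 7, 8, 9, 10, 11, 12, 13, 14, 15, 16, 17, 18, 19, 20, 21, 22, 23, 24, 25, 26],
    [0, 1, 2, 3, 4, 5, 6, 7, 8, 9, 10, 11, 12, 13, 14, 15, 16, 17, 18, 19, 20, 21, 22, 23, 24, 25, 26],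
    [0, 1, 2, 3, 4, 5, 6, 7, 8, 9, 10, 11, 12, 13, 14, 15, 16, 17, 18, 19, 20, 21, 22, 23, 24, 25, 26]]
  commI := [[0, 1, 2, 0, 0, 0],
    [3, 0, 0, 0, 4, 0],
    [5, 0, 0, 4, 4, 0],
    [0, 0, 6, 0, 0, 0],
    [0, 6, 6, 0, 0, 0],
    [0, 0, 0, 0, 0, 0]]
  elemsB := blocks
  closI := [[[(0, 12), (0, 2), (0, 1), (1, 4), (0, 21), (8, 17)], [(4, 13), (0, 6), (0, 8), (23, 18), (8, 21), (8, 16)], [(6, 18), (0, 3), (0, 6), (1, 1), (8, 18), (8, 15)], [(7, 10), (0, 0), (0, 5), (1, 5), (13, 18), (8, 11)], [(9, 4), (0, 8), (0, 3), (5, 11), (8, 26), (8, 13)], [(17, 0), (0, 1), (0, 4), (23, 23), (0, 19), (8, 12)], [(18, 22), (0, 5), (0, 7), (23, 26), (13, 23), (8, 10)], [(19, 20), (0, 4), (0, 2), (5, 9), (0, 22), (8, 9)], [(25, 26), (0, 7), (0, 0), (5, 12), (13, 25), (8, 14)], [(7, 19), (0, 11), (0, 17), (9, 20), (6, 20), (26,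 6)], [(12, 1), (0, 14), (0, 9), (17, 22), (19, 6), (26, 4)], [(13, 1), (0, 15), (0, 16), (9, 25), (23, 3), (26, 2)], [(13, 9), (0, 17), (0, 13), (17, 6), (6, 25), (26, 0)], [(15, 21), (0, 10), (0, 15), (17, 21), (23, 2), (26, 8)], [(18, 1), (0, 13), (0, 11), (17, 19), (6, 22), (26, 3)], [(18, 11), (0, 9), (0, 12), (9, 24), (19, 1), (26, 1)], [(21, 23), (0, 12), (0, 14), (17, 1), (19, 3), (26, 7)], [(23, 10), (0, 16), (0, 10), (17, 5), (23, 5), (26, 5)], [(2, 20), (0, 20), (0, 26), (6, 6), (11, 9), (8, 26)], [(4, 10), (0, 23), (0, 18), (2, 3), (3, 20), (8, 25)], [(6, 11), (0, 22), (0, 21), (6, 8), (8, 2), (8, 23)], [(6, 25), (0, 25), (0, 23), (20, 0), (3, 25), (8, 24)], [(9, 0), (0, 18), (0, 25), (6, 0), (3, 19), (8, 22)], [(15, 9), (0, 24), (0, 20), (2, 1), (11, 13), (8, 21)], [(17, 22), (0, 19), (0, 22), (2, 2), (8,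 0), (8, 19)], [(24, 12), (0, 26), (0, 24), (20, 3), (11, 17), (8, 18)], [(26, 7), (0, 21), (0, 19), (20, 5), (8, 1), (8, 20)]],
    [[(2, 19), (1, 6), (1, 8), (5, 4), (6, 5), (23, 26)], [(4, 12), (1, 5), (1, 0), (3, 14), (2, 6), (23, 25)], [(14, 18), (1, 0), (1, 3), (5, 6), (2, 1), (23, 18)], [(16, 11), (1, 8), (1, 4), (24, 4), (6, 8), (23, 24)], [(17, 6), (1, 1), (1, 2), (3, 16), (20, 0), (23, 21)], [(18, 18), (1, 4), (1, 6), (3, 10), (6, 3), (23, 19)], [(22, 11), (1, 2), (1, 7), (5, 8), (20, 2), (23, 23)], [(23, 3), (1, 3), (1, 5), (24, 0), (2, 5), (23, 22)], [(26, 6), (1, 7), (1, 1), (24, 3), (20, 8), (23, 20)], [(0, 2), (1, 16), (1, 11), (16, 0), (14, 14), (21, 20)], [(1, 2), (1, 11), (1, 12), (12, 3), (14, 10), (21, 25)], [(2, 2), (1, 17), (1, 14), (12, 1), (24, 23), (21, 18)], [(2, 13), (1, 14), (1, 13), (20,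 23), (24, 20), (21, 24)], [(3, 25), (1, 9), (1, 10), (16, 5), (13, 9), (21, 21)], [(4, 3), (1, 15), (1, 9), (20, 20), (13, 12), (21, 19)], [(5, 2), (1, 12), (1, 16), (20, 18), (14, 11), (21, 26)], [(8, 20), (1, 13), (1, 17), (16, 1), (24, 19), (21, 23)], [(10, 6), (1, 10), (1, 15), (12, 2), (13, 11), (21, 22)], [(0, 11), (1, 24), (1, 19), (4, 4), (1, 7), (10, 8)], [(4, 14), (1, 21), (1, 26), (7, 2), (23, 19), (10, 7)], [(6, 10), (1, 23), (1, 24), (10, 18), (1, 2), (10, 5)], [(9, 15), (1, 22), (1, 20), (7, 8), (5, 13), (10, 2)], [(9, 18), (1, 19), (1, 23), (7, 0), (1, 1), (10, 3)], [(14, 22), (1, 26), (1, 25), (10, 25), (23, 26), (10, 1)], [(23, 0), (1, 25), (1, 21), (4, 1), (23, 24), (10, 4)], [(24, 11), (1, 18), (1, 22), (4, 3), (5, 9), (10, 0)], [(25, 25), (1, 20), (1, 18), (10, 26), (5, 10), (10, 6)]],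
    [[(0, 15), (2, 7), (2, 8), (21, 1), (10, 4), (6, 8)], [(2, 22), (2, 2), (2, 0), (2, 12), (1, 20), (6, 7)], [(6, 9), (2, 3), (2, 7), (2, 9), (10, 1), (6, 5)], [(9, 6), (2, 1), (2, 5), (2, 14), (12, 9), (6, 4)], [(9, 21), (2, 8), (2, 3), (5, 19), (10, 7), (6, 3)], [(16, 9), (2, 0), (2, 4), (21, 3), (1, 18), (6, 6)], [(18, 23), (2, 4), (2, 2), (5, 18), (1, 22), (6, 1)], [(19, 4), (2, 5), (2, 6), (21, 7), (12, 12), (6, 0)], [(25, 17), (2, 6), (2, 1), (5, 21), (12, 15), (6, 2)], [(0, 10), (2, 14), (2, 10), (0, 24), (4, 5), (21, 8)], [(4, 16), (2, 11), (2, 17), (8, 22), (7, 3), (21, 7)], [(15, 12), (2, 13), (2, 16), (8, 26), (10, 21), (21, 3)], [(16, 10), (2, 9), (2, 13), (0, 23), (10, 18), (21, 6)], [(17, 18), (2, 10), (2, 15), (8, 23), (4, 1), (21, 1)], [(19, 0), (2, 12), (2, 11), (0, 19), (7, 4), (21, 0)], [(21, 15),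 (2, 17), (2, 12), (13, 24), (7, 8), (21, 2)], [(22, 10), (2, 15), (2, 14), (13, 18), (4, 7), (21, 4)], [(25, 24), (2, 16), (2, 9), (13, 22), (10, 23), (21, 5)], [(7, 20), (2, 24), (2, 19), (7, 12), (6, 15), (25, 24)], [(10, 10), (2, 26), (2, 25), (16, 12), (22, 15), (25, 22)], [(11, 1), (2, 23), (2, 24), (24, 10), (6, 12), (25, 20)], [(12, 20), (2, 18), (2, 22), (7, 16), (19, 19), (25, 21)], [(14, 10), (2, 19), (2, 23), (16, 10), (6, 10), (25, 23)], [(15, 23), (2, 25), (2, 21), (24, 15), (22, 14), (25, 26)], [(19, 11), (2, 21), (2, 26), (7, 10), (22, 10), (25, 18)], [(20, 20), (2, 20), (2, 18), (24, 11), (19, 20), (25, 19)], [(21, 22), (2, 22), (2, 20), (16, 14), (19, 22), (25, 25)]],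
    [[(0, 22), (3, 5), (3, 2), (13, 4), (20, 20), (15, 19)], [(1, 5), (3, 6), (3, 3), (19, 11), (12, 4), (15, 26)], [(1, 22), (3, 1), (3, 4), (19, 12), (16, 0), (15, 20)], [(2, 14), (3, 7), (3, 5), (15, 0), (20, 22), (15, 25)], [(3, 12), (3, 3), (3, 0), (15, 5), (12, 1), (15, 18)], [(3, 22), (3, 8), (3, 1), (13, 1), (16, 4), (15, 22)], [(6, 2), (3, 2), (3, 7), (19, 10), (20, 19), (15, 24)], [(7, 5), (3, 4), (3, 8), (15, 2), (16, 2), (15, 21)], [(8, 14), (3, 0), (3, 6), (13, 0), (12, 0), (15, 23)], [(0, 14), (3, 11), (3, 17), (8, 12), (21, 0), (5, 8)], [(2, 24), (3, 16), (3, 9), (0, 3), (2, 16), (5, 7)], [(6, 23), (3, 12), (3, 13), (8, 16), (5, 20), (5, 6)], [(7, 9), (3, 9), (3, 15), (8, 10), (2, 9), (5, 4)], [(9, 16), (3, 15), (3, 16), (14, 0), (2, 13), (5, 3)], [(14, 24), (3, 10), (3, 12), (0, 2), (5, 18), (5, 0)],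 [(17, 25), (3, 17), (3, 14), (14, 7), (21, 7), (5, 1)], [(22, 9), (3, 14), (3, 11), (0, 0), (21, 2), (5, 5)], [(25, 16), (3, 13), (3, 10), (14, 3), (5, 22), (5, 2)], [(0, 17), (3, 24), (3, 26), (10, 3), (8, 15), (11, 17)], [(2, 25), (3, 22), (3, 18), (1, 25), (0, 7), (11, 16)], [(15, 14), (3, 21), (3, 22), (12, 9), (0, 5), (11, 14)], [(17, 4), (3, 26), (3, 23), (12, 16), (8, 16), (11, 13)], [(19, 18), (3, 23), (3, 24), (1, 18), (8, 13), (11, 9)], [(21, 16), (3, 19), (3, 25), (1, 24), (14, 0), (11, 12)], [(23, 7), (3, 25), (3, 20), (10, 7), (14, 8), (11, 15)], [(24, 9), (3, 18), (3, 21), (10, 2), (0, 0), (11, 10)], [(25, 15), (3, 20), (3, 19), (12, 17), (14, 4), (11, 11)]],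
    [[(2, 21), (4, 6), (4, 8), (11, 10), (5, 5), (7, 8)], [(4, 17), (4, 3), (4, 0), (3, 23), (3, 13), (7, 7)], [(7, 11), (4, 8), (4, 4), (8, 3), (5, 8), (7, 4)], [(9, 9), (4, 4), (4, 6), (3, 19), (5, 1), (7, 3)], [(9, 25), (4, 1), (4, 7), (3, 22), (24, 0), (7, 6)], [(19, 6), (4, 2), (4, 3), (8, 0), (3, 12), (7, 1)], [(19, 21), (4, 7), (4, 5), (11, 17), (24, 6), (7, 0)], [(21, 9), (4, 0), (4, 2), (11, 15), (3, 10), (7, 2)], [(26, 8), (4, 5), (4, 1), (8, 4), (24, 5), (7, 5)], [(7, 23), (4, 10), (4, 16), (9, 7), (9, 12), (25, 15)], [(15, 0), (4, 13), (4, 15), (9, 6), (15, 14), (25, 13)], [(15, 24), (4, 12), (4, 13), (14, 23), (15, 13), (25, 17)], [(16, 0), (4, 14), (4, 9), (14, 24), (18, 23), (25, 11)], [(17, 9), (4, 9), (4, 17), (9, 5), (18, 19), (25, 12)], [(20, 9), (4, 11), (4, 10), (14, 19), (9, 13), (25, 10)], [(21,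 26), (4, 17), (4, 14), (21, 13), (18, 25), (25, 16)], [(22, 1), (4, 15), (4, 12), (21, 12), (15, 16), (25, 9)], [(24, 20), (4, 16), (4, 11), (21, 16), (9, 16), (25, 14)], [(0, 5), (4, 19), (4, 21), (14, 16), (15, 0), (7, 24)], [(0, 23), (4, 24), (4, 20), (14, 10), (13, 6), (7, 25)], [(1, 24), (4, 26), (4, 22), (24, 20), (19, 17), (7, 26)], [(2, 5), (4, 20), (4, 23), (24, 26), (13, 1), (7, 21)], [(3, 16), (4, 25), (4, 19), (13, 9), (15, 8), (7, 18)], [(4, 7), (4, 22), (4, 18), (13, 15), (19, 11), (7, 22)], [(11, 11), (4, 18), (4, 26), (14, 9), (19, 9), (7, 23)], [(21, 5), (4, 23), (4, 24), (13, 10), (13, 2), (7, 20)], [(23, 20), (4, 21), (4, 25), (24, 18), (15, 1), (7, 19)]],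
    [[(9, 1), (5, 7), (5, 4), (8, 15), (2, 17), (24, 6)], [(9, 20), (5, 2), (5, 0), (0, 7), (5, 23), (24, 3)], [(11, 18), (5, 3), (5, 7), (0, 4), (2, 11), (24, 0)], [(15, 10), (5, 1), (5, 5), (0, 8), (21, 1), (24, 4)], [(16, 12), (5, 8), (5, 1), (14, 4), (21, 8), (24, 8)], [(19, 19), (5, 0), (5, 6), (8, 17), (5, 21), (24, 1)], [(23, 2), (5, 4), (5, 3), (14, 2), (2, 12), (24, 5)], [(25, 18), (5, 5), (5, 8), (8, 11), (21, 4), (24, 7)], [(26, 3), (5, 6), (5, 2), (14, 1), (5, 26), (24, 2)], [(0, 9), (5, 11), (5, 14), (5, 1), (6, 0), (1, 8)], [(6, 16), (5, 16), (5, 11), (3, 9), (6, 4), (1, 6)], [(6, 19), (5, 12), (5, 15), (5, 2), (20, 1), (1, 7)], [(7, 13), (5, 9), (5, 13), (5, 3), (2, 0), (1, 3)], [(9, 19), (5, 14), (5, 16), (24, 1), (6, 2), (1, 4)], [(11, 25), (5, 15), (5, 17), (24, 6), (20, 3), (1, 1)], [(15, 17), (5,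 13), (5, 10), (24, 7), (2, 4), (1, 5)], [(21, 17), (5, 17), (5, 12), (3, 11), (20, 7), (1, 2)], [(22, 26), (5, 10), (5, 9), (3, 12), (2, 2), (1, 0)], [(2, 18), (5, 19), (5, 24), (8, 18), (7, 0), (2, 17)], [(6, 13), (5, 21), (5, 26), (8, 20), (10, 19), (2, 16)], [(7, 15), (5, 24), (5, 25), (13, 19), (7, 5), (2, 12)], [(9, 2), (5, 18), (5, 20), (8, 24), (4, 0), (2, 15)], [(9, 11), (5, 25), (5, 19), (0, 18), (7, 6), (2, 11)], [(11, 26), (5, 22), (5, 18), (0, 22), (4, 3), (2, 10)], [(16, 25), (5, 26), (5, 23), (13, 23), (10, 25), (2, 9)], [(17, 8), (5, 23), (5, 21), (0, 20), (10, 20), (2, 13)], [(23, 8), (5, 20), (5, 22), (13, 20), (4, 2), (2, 14)]],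
    [[(6, 20), (6, 6), (6, 1), (5, 23), (1, 25), (20, 8)], [(9, 10), (6, 3), (6, 5), (2, 17), (10, 3), (20, 3)], [(11, 19), (6, 1), (6, 7), (2, 15), (1, 21), (20, 0)], [(17, 1), (6, 2), (6, 4), (2, 16), (12, 11), (20, 5)], [(21, 10), (6, 7), (6, 6), (21, 0), (1, 26), (20, 2)], [(22, 15), (6, 4), (6, 0), (21, 8), (12, 17), (20, 6)], [(24, 10), (6, 8), (6, 3), (5, 22), (10, 8), (20, 1)], [(25, 23), (6, 5), (6, 8), (21, 6), (10, 5), (20, 7)], [(26, 1), (6, 0), (6, 2), (5, 25), (12, 10), (20, 4)], [(1, 11), (6, 16), (6, 14), (0, 10), (9, 7), (22, 15)], [(10, 11), (6, 9), (6, 11), (0, 13), (14, 18), (22, 16)], [(12, 0), (6, 14), (6, 17), (26, 1), (9, 3), (22, 14)], [(15, 22), (6, 11), (6, 13), (26, 2), (14, 21), (22, 17)], [(17, 12), (6, 17), (6, 16), (16, 18), (9, 8), (22, 10)], [(18, 4), (6, 12), (6, 15), (26, 6), (21,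 12), (22, 13)], [(19, 12), (6, 13), (6, 9), (16, 21), (14, 24), (22, 12)], [(24, 21), (6, 10), (6, 12), (0, 14), (21, 10), (22, 11)], [(25, 8), (6, 15), (6, 10), (16, 26), (21, 15), (22, 9)], [(1, 9), (6, 21), (6, 24), (4, 12), (7, 12), (23, 5)], [(12, 22), (6, 26), (6, 21), (11, 18), (7, 17), (23, 3)], [(13, 4), (6, 19), (6, 18), (11, 26), (24, 11), (23, 4)], [(14, 12), (6, 25), (6, 22), (4, 14), (16, 15), (23, 7)], [(15, 25), (6, 23), (6, 19), (25, 13), (24, 13), (23, 8)], [(16, 2), (6, 24), (6, 26), (25, 12), (7, 15), (23, 2)], [(20, 14), (6, 22), (6, 20), (25, 15), (16, 12), (23, 1)], [(23, 9), (6, 18), (6, 23), (4, 11), (24, 9), (23, 6)], [(25, 4), (6, 20), (6, 25), (11, 21), (16, 11), (23, 0)]],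
    [[(6, 15), (7, 2), (7, 1), (8, 6), (3, 14), (10, 23)], [(6, 24), (7, 4), (7, 3), (3, 26), (5, 4), (10, 25)], [(14, 19), (7, 8), (7, 4), (8, 1), (5, 7), (10, 19)], [(15, 16), (7, 6), (7, 0), (11, 16), (24, 3), (10, 22)], [(16, 14), (7, 5), (7, 6), (3, 20), (24, 2), (10, 26)], [(16, 19), (7, 1), (7, 7), (3, 21), (3, 11), (10, 18)], [(17, 7), (7, 7), (7, 2), (11, 9), (3, 17), (10, 21)], [(25, 14), (7, 3), (7, 8), (11, 12), (5, 3), (10, 20)], [(25, 21), (7, 0), (7, 5), (8, 5), (24, 1), (10, 24)], [(3, 4), (7, 11), (7, 14), (9, 12), (0, 10), (16, 12)], [(10, 9), (7, 16), (7, 11), (18, 18), (0, 16), (16, 15)], [(12, 2), (7, 15), (7, 17), (9, 14), (26, 3), (16, 14)], [(14, 14), (7, 10), (7, 9), (18, 23), (16, 21), (16, 16)], [(15, 4), (7, 14), (7, 16), (15, 10), (0, 15), (16, 11)], [(18, 14), (7, 17), (7, 12), (15, 16),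 (26, 6), (16, 13)], [(20, 13), (7, 9), (7, 13), (9, 17), (16, 19), (16, 10)], [(21, 21), (7, 12), (7, 15), (18, 20), (26, 0), (16, 17)], [(25, 7), (7, 13), (7, 10), (15, 12), (16, 24), (16, 9)], [(5, 5), (7, 20), (7, 25), (14, 13), (13, 3), (25, 8)], [(5, 9), (7, 21), (7, 20), (13, 12), (13, 4), (25, 0)], [(5, 18), (7, 22), (7, 23), (14, 14), (19, 12), (25, 1)], [(6, 6), (7, 26), (7, 22), (13, 13), (19, 14), (25, 7)], [(7, 2), (7, 18), (7, 24), (14, 12), (15, 3), (25, 3)], [(8, 0), (7, 24), (7, 19), (24, 23), (15, 5), (25, 2)], [(8, 12), (7, 25), (7, 21), (24, 21), (13, 5), (25, 6)], [(8, 21), (7, 23), (7, 26), (24, 22), (19, 13), (25, 5)], [(10, 4), (7, 19), (7, 18), (13, 14), (15, 4), (25, 4)]],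
    [[(4, 9), (8, 3), (8, 8), (10, 1), (8, 10), (3, 26)], [(6, 21), (8, 5), (8, 3), (1, 19), (8, 11), (3, 24)], [(9, 3), (8, 8), (8, 5), (12, 10), (8, 14), (3, 23)], [(9, 14), (8, 4), (8, 7), (10, 6), (14, 1), (3, 20)], [(9, 23), (8, 0), (8, 2), (10, 5), (0, 1), (3, 21)], [(16, 17), (8, 6), (8, 4), (1, 21), (14, 5), (3, 25)], [(16, 21), (8, 1), (8, 0), (1, 22), (0, 2), (3, 18)], [(22, 17), (8, 2), (8, 1), (12, 13), (0, 4), (3, 22)], [(22, 21), (8, 7), (8, 6), (12, 12), (14, 7), (3, 19)], [(6, 14), (8, 13), (8, 15), (1, 8), (8, 22), (14, 7)], [(9, 12), (8, 12), (8, 9), (5, 17), (0, 24), (14, 4)], [(16, 15), (8, 17), (8, 12), (23, 19), (0, 26), (14, 8)], [(17, 19), (8, 16), (8, 13), (5, 10), (8, 25), (14, 1)], [(21, 13), (8, 14), (8, 11), (1, 7), (13, 26), (14, 3)], [(22, 19), (8, 9), (8, 17), (1, 3), (0, 20), (14, 0)],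 [(23, 5), (8, 11), (8, 10), (23, 25), (13, 22), (14, 6)], [(25, 12), (8, 10), (8, 14), (5, 16), (13, 19), (14, 2)], [(26, 0), (8, 15), (8, 16), (23, 21), (8, 24), (14, 5)], [(7, 12), (8, 20), (8, 19), (2, 6), (8, 6), (13, 22)], [(9, 22), (8, 25), (8, 22), (6, 5), (3, 26), (13, 23)], [(16, 18), (8, 24), (8, 25), (2, 4), (3, 24), (13, 18)], [(18, 19), (8, 19), (8, 23), (6, 7), (8, 4), (13, 19)], [(21, 12), (8, 26), (8, 18), (20, 8), (11, 16), (13, 21)], [(22, 14), (8, 22), (8, 24), (20, 4), (3, 23), (13, 25)], [(23, 6), (8, 18), (8, 21), (2, 8), (11, 10), (13, 24)], [(25, 13), (8, 21), (8, 26), (6, 4), (11, 14), (13, 20)], [(25, 20), (8, 23), (8, 20), (20, 1), (8, 7), (13, 26)]],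
    [[(3, 0), (9, 4), (9, 1), (6, 20), (2, 25), (21, 12)], [(12, 21), (9, 8), (9, 7), (23, 5), (25, 24), (21, 14)], [(13, 3), (9, 1), (9, 5), (23, 6), (2, 21), (21, 15)], [(18, 3), (9, 0), (9, 2), (6, 26), (22, 19), (21, 16)], [(20, 18), (9, 3), (9, 8), (6, 19), (25, 20), (21, 13)], [(21, 25), (9, 7), (9, 3), (19, 7), (25, 23), (21, 17)], [(22, 0), (9, 5), (9, 4), (19, 0), (2, 26), (21, 10)], [(24, 23), (9, 6), (9, 0), (19, 6), (22, 26), (21, 11)], [(25, 3), (9, 2), (9, 6), (23, 7), (22, 22), (21, 9)], [(1, 14), (9, 11), (9, 10), (2, 25), (9, 20), (15, 16)], [(11, 4), (9, 13), (9, 12), (25, 24), (17, 5), (15, 15)], [(13, 13), (9, 16), (9, 13), (2, 20), (17, 7), (15, 12)], [(15, 5), (9, 14), (9, 9), (22, 26), (17, 22), (15, 11)], [(15, 26), (9, 15), (9, 14), (25, 18), (17, 24), (15, 17)], [(18, 13), (9, 17), (9, 11),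 (22, 18), (9, 26), (15, 14)], [(20, 19), (9, 10), (9, 17), (25, 21), (9, 19), (15, 13)], [(22, 2), (9, 9), (9, 15), (2, 23), (17, 18), (15, 10)], [(25, 5), (9, 12), (9, 16), (22, 23), (17, 4), (15, 9)], [(3, 2), (9, 21), (9, 22), (6, 15), (4, 12), (17, 5)], [(11, 3), (9, 18), (9, 23), (6, 17), (11, 19), (17, 6)], [(13, 12), (9, 25), (9, 18), (19, 20), (11, 26), (17, 3)], [(16, 1), (9, 19), (9, 26), (6, 13), (25, 10), (17, 1)], [(17, 14), (9, 26), (9, 20), (22, 15), (25, 15), (17, 2)], [(19, 13), (9, 22), (9, 24), (22, 16), (4, 13), (17, 4)], [(21, 24), (9, 20), (9, 19), (19, 23), (25, 14), (17, 8)], [(23, 11), (9, 24), (9, 21), (19, 18), (4, 15), (17, 7)], [(25, 6), (9, 23), (9, 25), (22, 11), (11, 24), (17, 0)]],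
    [[(7, 14), (10, 8), (10, 3), (7, 3), (1, 8), (12, 12)], [(9, 7), (10, 6), (10, 0), (4, 5), (5, 17), (12, 17)], [(15, 13), (10, 3), (10, 5), (10, 24), (1, 4), (12, 15)], [(17, 5), (10, 7), (10, 1), (10, 23), (23, 25), (12, 14)], [(19, 1), (10, 0), (10, 2), (7, 7), (5, 12), (12, 10)], [(22, 16), (10, 1), (10, 4), (4, 8), (23, 18), (12, 16)], [(22, 18), (10, 5), (10, 8), (4, 2), (1, 6), (12, 9)], [(25, 10), (10, 2), (10, 6), (10, 19), (5, 15), (12, 11)], [(26, 2), (10, 4), (10, 7), (7, 6), (23, 22), (12, 13)], [(0, 3), (10, 16), (10, 13), (3, 1), (21, 23), (23, 13)], [(1, 0), (10, 13), (10, 17), (15, 18), (21, 18), (23, 16)], [(1, 20), (10, 10), (10, 12), (15, 21), (1, 10), (23, 14)], [(5, 3), (10, 17), (10, 16), (26, 18), (21, 24), (23, 17)], [(6, 4), (10, 11), (10, 15), (15, 25), (26, 10), (23, 15)], [(8, 6), (10,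 9), (10, 10), (3, 2), (1, 9), (23, 10)], [(10, 21), (10, 12), (10, 9), (26, 23), (1, 15), (23, 11)], [(13, 24), (10, 14), (10, 11), (3, 6), (26, 14), (23, 9)], [(21, 7), (10, 15), (10, 14), (26, 25), (26, 15), (23, 12)], [(0, 13), (10, 25), (10, 20), (11, 13), (5, 6), (4, 8)], [(9, 8), (10, 24), (10, 26), (3, 24), (24, 7), (4, 7)], [(11, 21), (10, 22), (10, 24), (8, 2), (24, 4), (4, 1)], [(17, 20), (10, 20), (10, 19), (8, 7), (5, 2), (4, 4)], [(18, 26), (10, 21), (10, 23), (8, 8), (3, 15), (4, 3)], [(22, 12), (10, 19), (10, 25), (3, 18), (5, 0), (4, 6)], [(22, 24), (10, 23), (10, 18), (3, 25), (3, 16), (4, 0)], [(23, 1), (10, 26), (10, 22), (11, 11), (24, 8), (4, 5)], [(24, 13), (10, 18), (10, 21), (11, 14), (3, 9), (4, 2)]],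
    [[(0, 7), (11, 1), (11, 4), (7, 19), (3, 0), (18, 4)], [(0, 18), (11, 7), (11, 5), (7, 21), (15, 22), (18, 5)], [(2, 12), (11, 6), (11, 7), (4, 19), (15, 21), (18, 8)], [(5, 13), (11, 4), (11, 2), (25, 8), (3, 6), (18, 0)], [(6, 1), (11, 5), (11, 6), (25, 1), (15, 20), (18, 7)], [(10, 7), (11, 3), (11, 8), (25, 3), (26, 21), (18, 6)], [(10, 25), (11, 8), (11, 0), (4, 24), (26, 26), (18, 2)], [(11, 12), (11, 0), (11, 3), (7, 26), (26, 18), (18, 3)], [(24, 2), (11, 2), (11, 1), (4, 18), (3, 3), (18, 1)], [(6, 12), (11, 12), (11, 15), (10, 8), (14, 3), (8, 7)], [(7, 16), (11, 17), (11, 13), (12, 15), (8, 17), (8, 5)], [(11, 20), (11, 14), (11, 16), (1, 23), (0, 6), (8, 0)], [(14, 20), (11, 16), (11, 10), (10, 4), (0, 8), (8, 2)], [(17, 21), (11, 11), (11, 12), (1, 20), (14, 2), (8, 4)], [(18, 21), (11, 13), (11, 9),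 (1, 26), (8, 12), (8, 3)], [(19, 3), (11, 10), (11, 14), (12, 11), (0, 3), (8, 1)], [(25, 19), (11, 9), (11, 17), (10, 0), (8, 9), (8, 8)], [(26, 5), (11, 15), (11, 11), (12, 14), (14, 6), (8, 6)], [(1, 15), (11, 21), (11, 22), (9, 4), (15, 12), (4, 15)], [(3, 6), (11, 25), (11, 23), (21, 15), (9, 15), (4, 11)], [(4, 24), (11, 24), (11, 26), (14, 22), (18, 22), (4, 9)], [(14, 15), (11, 26), (11, 19), (9, 3), (18, 24), (4, 17)], [(18, 6), (11, 19), (11, 24), (21, 9), (18, 18), (4, 14)], [(18, 15), (11, 20), (11, 21), (14, 18), (15, 9), (4, 13)], [(19, 15), (11, 23), (11, 18), (14, 25), (9, 14), (4, 10)], [(20, 21), (11, 22), (11, 20), (21, 14), (15, 15), (4, 12)], [(23, 12), (11, 18), (11, 25), (9, 0), (9, 9), (4, 16)]],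
    [[(0, 20), (12, 5), (12, 6), (17, 13), (18, 3), (20, 23)], [(2, 9), (12, 2), (12, 5), (18, 9), (18, 2), (20, 25)], [(4, 2), (12, 3), (12, 7), (18, 13), (20, 12), (20, 22)], [(5, 6), (12, 1), (12, 0), (18, 15), (11, 2), (20, 26)], [(6, 3), (12, 6), (12, 2), (12, 19), (18, 6), (20, 24)], [(8, 8), (12, 7), (12, 8), (17, 16), (20, 16), (20, 20)], [(12, 15), (12, 8), (12, 3), (12, 20), (20, 17), (20, 19)], [(14, 3), (12, 0), (12, 4), (17, 17), (11, 1), (20, 18)], [(23, 25), (12, 4), (12, 1), (12, 21), (11, 4), (20, 21)], [(2, 26), (12, 16), (12, 13), (7, 4), (23, 23), (1, 26)], [(6, 26), (12, 12), (12, 15), (10, 20), (1, 3), (1, 24)], [(11, 22), (12, 15), (12, 9), (4, 7), (1, 5), (1, 19)], [(16, 13), (12, 13), (12, 14), (10, 22), (23, 20), (1, 25)], [(16, 24), (12, 10), (12, 11), (10, 21), (5, 11), (1, 18)], [(17, 26),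 (12, 11), (12, 17), (4, 6), (5, 14), (1, 22)], [(18, 20), (12, 14), (12, 16), (4, 0), (23, 21), (1, 21)], [(19, 25), (12, 17), (12, 10), (7, 5), (5, 16), (1, 20)], [(21, 11), (12, 9), (12, 12), (7, 1), (1, 0), (1, 23)], [(1, 25), (12, 22), (12, 21), (1, 14), (7, 19), (18, 14)], [(2, 16), (12, 20), (12, 24), (21, 23), (4, 23), (18, 16)], [(4, 0), (12, 21), (12, 23), (21, 21), (7, 18), (18, 12)], [(5, 0), (12, 19), (12, 25), (21, 20), (25, 1), (18, 17)], [(5, 11), (12, 26), (12, 19), (1, 15), (25, 7), (18, 10)], [(8, 16), (12, 25), (12, 26), (26, 12), (25, 5), (18, 15)], [(11, 14), (12, 23), (12, 22), (26, 10), (7, 24), (18, 13)], [(13, 23), (12, 24), (12, 18), (26, 17), (4, 24), (18, 9)], [(20, 4), (12, 18), (12, 20), (1, 12), (4, 20), (18, 11)]],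
    [[(1, 3), (13, 4), (13, 3), (23, 17), (17, 13), (19, 17)], [(1, 18), (13, 0), (13, 8), (23, 11), (18, 10), (19, 14)], [(4, 6), (13, 8), (13, 7), (22, 6), (18, 17), (19, 12)], [(5, 21), (13, 2), (13, 6), (22, 5), (12, 20), (19, 10)], [(6, 0), (13, 1), (13, 2), (23, 12), (12, 18), (19, 16)], [(8, 25), (13, 6), (13, 1), (10, 13), (12, 24), (19, 15)], [(11, 13), (13, 7), (13, 0), (10, 11), (18, 15), (19, 13)], [(14, 4), (13, 5), (13, 4), (10, 10), (17, 14), (19, 9)], [(24, 7), (13, 3), (13, 5), (22, 8), (17, 12), (19, 11)], [(0, 0), (13, 10), (13, 17), (18, 0), (23, 9), (14, 13)], [(0, 25), (13, 15), (13, 16), (18, 7), (22, 6), (14, 14)], [(1, 6), (13, 17), (13, 13), (20, 12), (23, 15), (14, 16)], [(5, 1), (13, 13), (13, 10), (11, 0), (23, 12), (14, 17)], [(5, 22), (13, 14), (13, 15), (11, 1), (22, 4), (14, 11)], [(7,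 7), (13, 12), (13, 9), (11, 7), (10, 12), (14, 15)], [(11, 15), (13, 9), (13, 11), (18, 6), (10, 9), (14, 12)], [(12, 17), (13, 11), (13, 12), (20, 14), (10, 10), (14, 9)], [(20, 7), (13, 16), (13, 14), (20, 13), (22, 7), (14, 10)], [(0, 16), (13, 24), (13, 20), (6, 3), (11, 15), (0, 26)], [(9, 17), (13, 23), (13, 25), (20, 7), (3, 21), (0, 23)], [(11, 24), (13, 19), (13, 26), (20, 2), (8, 3), (0, 19)], [(14, 26), (13, 26), (13, 22), (2, 7), (8, 8), (0, 22)], [(16, 16), (13, 18), (13, 23), (6, 1), (3, 18), (0, 25)], [(17, 2), (13, 20), (13, 21), (20, 6), (11, 11), (0, 24)], [(19, 2), (13, 22), (13, 19), (6, 2), (8, 5), (0, 21)], [(19, 23), (13, 21), (13, 24), (2, 0), (11, 12), (0, 20)], [(22, 25), (13, 25), (13, 18), (2, 5), (3, 22), (0, 18)]],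
    [[(2, 23), (14, 7), (14, 5), (23, 24), (8, 23), (0, 8)], [(9, 26), (14, 2), (14, 3), (1, 6), (13, 20), (0, 5)], [(11, 23), (14, 4), (14, 0), (1, 2), (0, 23), (0, 1)], [(14, 21), (14, 0), (14, 8), (23, 22), (0, 18), (0, 4)], [(15, 11), (14, 1), (14, 7), (1, 0), (8, 19), (0, 6)], [(16, 26), (14, 6), (14, 2), (5, 13), (13, 24), (0, 0)], [(19, 8), (14, 8), (14, 4), (5, 14), (0, 25), (0, 2)], [(22, 13), (14, 3), (14, 6), (23, 20), (13, 21), (0, 7)], [(24, 16), (14, 5), (14, 1), (5, 15), (8, 20), (0, 3)], [(1, 23), (14, 16), (14, 17), (11, 6), (23, 16), (24, 23)], [(2, 1), (14, 9), (14, 15), (11, 2), (10, 11), (24, 22)], [(2, 11), (14, 15), (14, 12), (18, 5), (10, 15), (24, 26)], [(8, 1), (14, 13), (14, 16), (20, 9), (23, 13), (24, 19)], [(8, 17), (14, 14), (14, 10), (20, 17), (22, 5), (24, 25)], [(8, 18), (14, 12),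 (14, 9), (20, 10), (10, 14), (24, 24)], [(10, 20), (14, 17), (14, 13), (18, 3), (23, 17), (24, 20)], [(23, 23), (14, 10), (14, 11), (11, 8), (22, 0), (24, 21)], [(24, 3), (14, 11), (14, 14), (18, 4), (22, 1), (24, 18)], [(1, 10), (14, 22), (14, 20), (23, 2), (2, 22), (9, 5)], [(7, 22), (14, 23), (14, 25), (6, 21), (25, 18), (9, 8)], [(11, 7), (14, 26), (14, 23), (19, 1), (25, 26), (9, 3)], [(12, 7), (14, 20), (14, 19), (19, 5), (2, 20), (9, 4)], [(14, 9), (14, 25), (14, 26), (23, 1), (25, 22), (9, 7)], [(15, 8), (14, 24), (14, 18), (6, 25), (22, 24), (9, 2)], [(17, 10), (14, 19), (14, 22), (6, 18), (2, 18), (9, 1)], [(23, 15), (14, 18), (14, 21), (23, 8), (22, 18), (9, 6)], [(26, 25), (14, 21), (14, 24), (19, 4), (22, 21), (9, 0)]],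
    [[(0, 19), (15, 2), (15, 7), (22, 0), (17, 11), (13, 5)], [(2, 7), (15, 7), (15, 6), (10, 17), (17, 16), (13, 4)], [(3, 21), (15, 5), (15, 4), (22, 7), (12, 23), (13, 6)], [(5, 7), (15, 8), (15, 0), (23, 13), (18, 16), (13, 8)], [(5, 12), (15, 1), (15, 8), (10, 12), (18, 11), (13, 0)], [(8, 10), (15, 0), (15, 1), (22, 3), (18, 9), (13, 7)], [(10, 23), (15, 3), (15, 5), (23, 10), (12, 21), (13, 2)], [(12, 13), (15, 4), (15, 3), (10, 15), (12, 22), (13, 1)], [(21, 2), (15, 6), (15, 2), (23, 9), (17, 15), (13, 3)], [(4, 19), (15, 11), (15, 10), (2, 22), (17, 21), (18, 19)], [(10, 12), (15, 16), (15, 13), (25, 26), (9, 24), (18, 24)], [(13, 7), (15, 14), (15, 16), (2, 19), (9, 22), (18, 22)], [(14, 11), (15, 10), (15, 17), (25, 20), (17, 20), (18, 25)], [(16, 5), (15, 15), (15, 9), (22, 24), (17, 6), (18, 20)], [(17,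 11), (15, 9), (15, 12), (2, 26), (17, 0), (18, 21)], [(18, 7), (15, 17), (15, 11), (22, 20), (17, 26), (18, 23)], [(21, 19), (15, 12), (15, 15), (25, 19), (17, 3), (18, 26)], [(26, 21), (15, 13), (15, 14), (22, 22), (9, 21), (18, 18)], [(5, 4), (15, 25), (15, 19), (13, 7), (20, 25), (26, 26)], [(8, 22), (15, 22), (15, 20), (19, 16), (16, 7), (26, 25)], [(10, 3), (15, 26), (15, 18), (15, 6), (12, 8), (26, 24)], [(10, 18), (15, 18), (15, 23), (13, 6), (12, 3), (26, 20)], [(11, 9), (15, 23), (15, 26), (19, 14), (12, 7), (26, 23)], [(14, 0), (15, 19), (15, 24), (19, 17), (20, 23), (26, 18)], [(20, 0), (15, 20), (15, 21), (15, 8), (16, 5), (26, 19)], [(21, 0), (15, 21), (15, 22), (13, 5), (16, 6), (26, 22)], [(23, 19), (15, 24), (15, 25), (15, 3), (20, 24), (26, 21)]],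
    [[(1, 1), (16, 1), (16, 3), (17, 10), (20, 10), (12, 8)], [(2, 4), (16, 5), (16, 6), (17, 12), (11, 5), (12, 4)], [(3, 11), (16, 3), (16, 8), (12, 23), (20, 13), (12, 3)], [(5, 24), (16, 6), (16, 7), (12, 25), (11, 6), (12, 1)], [(8, 13), (16, 8), (16, 1), (18, 10), (20, 15), (12, 7)], [(10, 2), (16, 0), (16, 2), (17, 15), (18, 0), (12, 6)], [(10, 26), (16, 2), (16, 4), (12, 24), (18, 1), (12, 2)], [(11, 16), (16, 4), (16, 0), (18, 14), (18, 4), (12, 5)], [(13, 25), (16, 7), (16, 5), (18, 11), (11, 7), (12, 0)], [(4, 21), (16, 11), (16, 15), (18, 25), (0, 11), (24, 10)], [(11, 2), (16, 12), (16, 11), (15, 9), (0, 13), (24, 14)], [(13, 0), (16, 13), (16, 17), (18, 24), (26, 1), (24, 15)], [(15, 18), (16, 14), (16, 13), (15, 11), (26, 4), (24, 17)], [(17, 16), (16, 9), (16, 16), (18, 26), (16, 20), (24, 11)], [(20,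 22), (16, 10), (16, 9), (15, 14), (16, 22), (24, 13)], [(23, 13), (16, 17), (16, 14), (9, 13), (26, 7), (24, 16)], [(24, 24), (16, 15), (16, 12), (9, 10), (0, 17), (24, 12)], [(26, 14), (16, 16), (16, 10), (9, 15), (16, 26), (24, 9)], [(1, 16), (16, 26), (16, 22), (9, 21), (23, 7), (0, 16)], [(3, 7), (16, 25), (16, 23), (17, 4), (6, 23), (0, 13)], [(4, 26), (16, 24), (16, 21), (17, 25), (19, 4), (0, 9)], [(10, 14), (16, 18), (16, 25), (9, 18), (6, 18), (0, 17)], [(11, 8), (16, 19), (16, 24), (17, 0), (19, 0), (0, 14)], [(12, 26), (16, 20), (16, 26), (17, 18), (23, 0), (0, 15)], [(15, 7), (16, 23), (16, 18), (17, 20), (6, 19), (0, 11)], [(16, 3), (16, 22), (16, 20), (17, 2), (23, 1), (0, 10)], [(24, 25), (16, 21), (16, 19), (9, 19), (19, 2), (0, 12)]],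
    [[(4, 18), (17, 4), (17, 7), (19, 22), (4, 10), (17, 19)], [(12, 4), (17, 6), (17, 0), (22, 10), (11, 22), (17, 24)], [(12, 25), (17, 0), (17, 3), (19, 26), (11, 20), (17, 22)], [(14, 17), (17, 7), (17, 5), (6, 14), (4, 16), (17, 25)], [(15, 2), (17, 2), (17, 8), (19, 25), (25, 12), (17, 21)], [(15, 20), (17, 1), (17, 2), (22, 12), (25, 11), (17, 26)], [(18, 0), (17, 5), (17, 4), (22, 9), (4, 11), (17, 23)], [(22, 4), (17, 8), (17, 1), (6, 12), (25, 16), (17, 20)], [(26, 13), (17, 3), (17, 6), (6, 11), (11, 21), (17, 18)], [(0, 1), (17, 14), (17, 13), (21, 25), (7, 25), (12, 23)], [(3, 14), (17, 12), (17, 14), (1, 9), (7, 20), (12, 21)], [(3, 20), (17, 9), (17, 17), (21, 22), (4, 18), (12, 24)], [(5, 19), (17, 15), (17, 11), (1, 16), (25, 3), (12, 19)], [(6, 8), (17, 16), (17, 15), (26, 13), (25, 4), (12, 26)],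 [(8, 19), (17, 11), (17, 16), (21, 18), (25, 2), (12, 25)], [(10, 24), (17, 10), (17, 9), (1, 13), (4, 22), (12, 20)], [(12, 12), (17, 17), (17, 10), (26, 15), (4, 26), (12, 18)], [(23, 22), (17, 13), (17, 12), (26, 11), (7, 21), (12, 22)], [(1, 12), (17, 25), (17, 23), (22, 14), (4, 17), (9, 24)], [(7, 24), (17, 21), (17, 20), (6, 16), (25, 13), (9, 26)], [(10, 15), (17, 18), (17, 24), (22, 17), (11, 18), (9, 25)], [(13, 6), (17, 22), (17, 18), (6, 10), (11, 23), (9, 23)], [(18, 9), (17, 19), (17, 25), (6, 9), (4, 9), (9, 22)], [(20, 17), (17, 26), (17, 21), (19, 19), (25, 17), (9, 19)], [(20, 24), (17, 23), (17, 19), (19, 24), (4, 14), (9, 21)], [(24, 18), (17, 20), (17, 26), (22, 13), (25, 9), (9, 20)], [(26, 24), (17, 24), (17, 22), (19, 21), (11, 25), (9, 18)]],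
    [[(1, 4), (18, 7), (18, 8), (4, 22), (15, 24), (20, 17)], [(3, 9), (18, 8), (18, 5), (7, 24), (15, 25), (20, 12)], [(4, 5), (18, 1), (18, 4), (7, 23), (3, 4), (20, 14)], [(8, 2), (18, 4), (18, 0), (25, 4), (3, 8), (20, 11)], [(8, 9), (18, 5), (18, 7), (25, 0), (15, 19), (20, 16)], [(8, 26), (18, 3), (18, 6), (25, 7), (26, 23), (20, 15)], [(12, 11), (18, 0), (18, 1), (4, 23), (3, 1), (20, 9)], [(20, 3), (18, 6), (18, 2), (4, 25), (26, 24), (20, 10)], [(21, 6), (18, 2), (18, 3), (7, 25), (26, 20), (20, 13)], [(0, 24), (18, 13), (18, 14), (1, 11), (7, 23), (17, 14)], [(1, 7), (18, 11), (18, 16), (21, 26), (4, 21), (17, 17)], [(2, 0), (18, 14), (18, 12), (21, 24), (7, 26), (17, 13)], [(7, 8), (18, 17), (18, 15), (26, 14), (25, 8), (17, 15)], [(8, 3), (18, 15), (18, 10), (1, 17), (25, 6), (17, 11)], [(10, 0), (18, 10),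 (18, 17), (21, 19), (25, 0), (17, 16)], [(14, 2), (18, 9), (18, 11), (1, 10), (4, 19), (17, 9)], [(21, 4), (18, 12), (18, 13), (26, 9), (7, 22), (17, 12)], [(24, 6), (18, 16), (18, 9), (26, 16), (4, 25), (17, 10)], [(3, 1), (18, 20), (18, 21), (2, 24), (17, 1), (9, 13)], [(7, 25), (18, 22), (18, 24), (25, 23), (9, 23), (9, 17)], [(12, 6), (18, 23), (18, 19), (2, 21), (17, 23), (9, 15)], [(12, 24), (18, 19), (18, 25), (25, 25), (17, 19), (9, 14)], [(19, 9), (18, 21), (18, 26), (25, 22), (17, 2), (9, 12)], [(20, 10), (18, 18), (18, 22), (2, 18), (9, 18), (9, 10)], [(23, 17), (18, 26), (18, 20), (22, 19), (17, 8), (9, 16)], [(24, 26), (18, 24), (18, 18), (22, 25), (9, 25), (9, 11)], [(26, 15), (18, 25), (18, 23), (22, 21), (17, 25), (9, 9)]],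
    [[(3, 3), (19, 7), (19, 5), (4, 10), (16, 14), (6, 22)], [(7, 26), (19, 4), (19, 2), (25, 14), (7, 13), (6, 26)], [(10, 16), (19, 8), (19, 7), (11, 19), (16, 17), (6, 25)], [(13, 15), (19, 2), (19, 0), (11, 22), (7, 10), (6, 21)], [(15, 1), (19, 5), (19, 8), (25, 9), (16, 13), (6, 20)], [(17, 17), (19, 1), (19, 3), (25, 16), (24, 10), (6, 19)], [(18, 2), (19, 0), (19, 4), (4, 9), (7, 9), (6, 24)], [(20, 26), (19, 6), (19, 1), (4, 13), (24, 14), (6, 23)], [(26, 16), (19, 3), (19, 6), (11, 25), (24, 12), (6, 18)], [(0, 6), (19, 15), (19, 16), (23, 16), (12, 25), (15, 5)], [(2, 15), (19, 12), (19, 13), (10, 16), (18, 12), (15, 8)], [(3, 10), (19, 10), (19, 15), (10, 9), (12, 19), (15, 3)], [(7, 0), (19, 11), (19, 9), (10, 14), (17, 10), (15, 6)], [(8, 4), (19, 9), (19, 17), (23, 14), (17, 9), (15, 2)], [(10, 8), (19,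 17), (19, 11), (22, 4), (17, 17), (15, 7)], [(13, 20), (19, 13), (19, 14), (23, 15), (18, 13), (15, 0)], [(20, 8), (19, 14), (19, 12), (22, 1), (18, 14), (15, 1)], [(23, 24), (19, 16), (19, 10), (22, 2), (12, 26), (15, 4)], [(3, 5), (19, 23), (19, 24), (0, 11), (21, 13), (6, 12)], [(7, 18), (19, 21), (19, 25), (26, 0), (9, 2), (6, 17)], [(11, 0), (19, 18), (19, 21), (0, 9), (9, 0), (6, 14)], [(13, 2), (19, 24), (19, 26), (26, 5), (21, 14), (6, 15)], [(14, 16), (19, 25), (19, 18), (16, 22), (9, 6), (6, 16)], [(16, 8), (19, 20), (19, 19), (0, 15), (14, 20), (6, 11)], [(18, 16), (19, 19), (19, 22), (26, 7), (14, 19), (6, 13)], [(22, 7), (19, 26), (19, 23), (16, 19), (21, 17), (6, 10)], [(26, 17), (19, 22), (19, 20), (16, 25), (14, 22), (6, 9)]],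
    [[(4, 11), (20, 3), (20, 7), (21, 2), (10, 2), (2, 8)], [(7, 17), (20, 4), (20, 5), (2, 11), (12, 13), (2, 5)], [(14, 25), (20, 7), (20, 1), (5, 26), (10, 6), (2, 3)], [(15, 15), (20, 5), (20, 6), (21, 5), (12, 14), (2, 6)], [(16, 23), (20, 8), (20, 0), (2, 13), (1, 24), (2, 0)], [(17, 24), (20, 0), (20, 2), (21, 4), (1, 19), (2, 4)], [(19, 26), (20, 2), (20, 8), (5, 24), (1, 23), (2, 2)], [(22, 23), (20, 6), (20, 4), (5, 20), (12, 16), (2, 1)], [(23, 4), (20, 1), (20, 3), (2, 10), (10, 0), (2, 7)], [(1, 19), (20, 17), (20, 12), (7, 22), (15, 26), (11, 5)], [(2, 6), (20, 9), (20, 14), (7, 20), (3, 2), (11, 4)], [(3, 23), (20, 16), (20, 17), (4, 20), (15, 23), (11, 7)], [(5, 8), (20, 13), (20, 15), (25, 6), (26, 22), (11, 8)], [(5, 20), (20, 14), (20, 11), (25, 5), (3, 7), (11, 2)], [(7, 1), (20, 12), (20, 16),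 (25, 2), (15, 18), (11, 6)], [(13, 26), (20, 11), (20, 9), (4, 21), (3, 5), (11, 1)], [(14, 7), (20, 15), (20, 10), (4, 26), (26, 25), (11, 0)], [(23, 21), (20, 10), (20, 13), (7, 18), (26, 19), (11, 3)], [(0, 4), (20, 23), (20, 24), (12, 22), (18, 5), (16, 4)], [(1, 21), (20, 21), (20, 26), (18, 12), (11, 3), (16, 5)], [(3, 19), (20, 18), (20, 21), (12, 18), (11, 0), (16, 7)], [(5, 14), (20, 24), (20, 25), (18, 17), (18, 7), (16, 0)], [(7, 4), (20, 26), (20, 18), (17, 11), (11, 8), (16, 6)], [(8, 23), (20, 20), (20, 19), (12, 26), (20, 11), (16, 8)], [(20, 5), (20, 19), (20, 22), (18, 16), (20, 9), (16, 1)], [(21, 8), (20, 22), (20, 20), (17, 14), (20, 14), (16, 3)], [(24, 5), (20, 25), (20, 23), (17, 9), (18, 8), (16, 2)]],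
    [[(6, 22), (21, 6), (21, 3), (8, 25), (10, 26), (5, 26)], [(9, 24), (21, 7), (21, 2), (13, 25), (7, 7), (5, 25)], [(14, 23), (21, 5), (21, 6), (0, 21), (10, 24), (5, 21)], [(18, 25), (21, 1), (21, 4), (13, 26), (4, 4), (5, 22)], [(19, 24), (21, 2), (21, 0), (0, 26), (7, 2), (5, 19)], [(22, 20), (21, 4), (21, 8), (0, 25), (4, 6), (5, 18)], [(24, 14), (21, 8), (21, 1), (8, 21), (4, 8), (5, 20)], [(25, 9), (21, 3), (21, 5), (13, 21), (10, 22), (5, 23)], [(26, 4), (21, 0), (21, 7), (8, 19), (7, 1), (5, 24)], [(4, 23), (21, 15), (21, 10), (19, 3), (2, 24), (14, 19)], [(10, 13), (21, 17), (21, 13), (6, 22), (25, 25), (14, 25)], [(13, 16), (21, 10), (21, 12), (6, 24), (2, 19), (14, 22)], [(15, 19), (21, 13), (21, 14), (23, 4), (25, 19), (14, 26)], [(16, 4), (21, 16), (21, 9), (23, 3), (22, 25), (14, 21)], [(18, 17), (21,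 9), (21, 11), (19, 8), (22, 20), (14, 24)], [(19, 10), (21, 14), (21, 17), (19, 2), (25, 21), (14, 23)], [(20, 11), (21, 12), (21, 15), (23, 0), (2, 23), (14, 20)], [(26, 12), (21, 11), (21, 16), (6, 23), (22, 23), (14, 18)], [(6, 5), (21, 22), (21, 19), (20, 25), (13, 16), (26, 17)], [(7, 3), (21, 26), (21, 20), (16, 7), (14, 17), (26, 15)], [(8, 15), (21, 23), (21, 18), (12, 8), (24, 24), (26, 16)], [(11, 10), (21, 20), (21, 25), (12, 6), (14, 13), (26, 14)], [(12, 9), (21, 25), (21, 26), (20, 22), (14, 16), (26, 10)], [(13, 18), (21, 21), (21, 22), (12, 4), (13, 15), (26, 9)], [(21, 1), (21, 19), (21, 21), (16, 8), (13, 14), (26, 13)], [(23, 18), (21, 18), (21, 24), (20, 26), (24, 22), (26, 12)], [(24, 0), (21, 24), (21, 23), (16, 4), (24, 26), (26, 11)]],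
    [[(2, 3), (22, 7), (22, 4), (3, 3), (21, 22), (10, 13)], [(2, 10), (22, 4), (22, 6), (15, 19), (21, 19), (10, 17)], [(3, 13), (22, 1), (22, 5), (15, 23), (1, 12), (10, 12)], [(5, 17), (22, 0), (22, 1), (3, 4), (1, 11), (10, 10)], [(7, 6), (22, 2), (22, 8), (15, 22), (26, 11), (10, 15)], [(8, 24), (22, 6), (22, 7), (26, 19), (21, 21), (10, 16)], [(11, 17), (22, 8), (22, 3), (26, 24), (26, 16), (10, 14)], [(12, 16), (22, 3), (22, 2), (3, 7), (26, 12), (10, 11)], [(14, 8), (22, 5), (22, 0), (26, 21), (1, 16), (10, 9)], [(4, 22), (22, 12), (22, 16), (0, 12), (14, 23), (19, 19)], [(12, 19), (22, 9), (22, 11), (0, 16), (21, 9), (19, 24)], [(13, 11), (22, 16), (22, 17), (26, 3), (14, 25), (19, 22)], [(15, 6), (22, 10), (22, 15), (0, 17), (9, 1), (19, 21)], [(20, 16), (22, 17), (22, 12), (16, 20), (14, 26), (19, 20)],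 [(20, 23), (22, 13), (22, 9), (16, 23), (21, 16), (19, 23)], [(21, 18), (22, 11), (22, 13), (26, 4), (21, 11), (19, 26)], [(23, 14), (22, 15), (22, 14), (26, 8), (9, 5), (19, 25)], [(26, 23), (22, 14), (22, 10), (16, 24), (9, 4), (19, 18)], [(1, 17), (22, 23), (22, 25), (7, 11), (22, 11), (2, 26)], [(3, 8), (22, 21), (22, 24), (16, 11), (6, 11), (2, 23)], [(4, 25), (22, 22), (22, 26), (24, 12), (19, 21), (2, 18)], [(12, 5), (22, 25), (22, 20), (16, 13), (22, 13), (2, 25)], [(13, 8), (22, 24), (22, 18), (24, 16), (6, 13), (2, 24)], [(13, 17), (22, 26), (22, 19), (7, 15), (19, 25), (2, 22)], [(17, 15), (22, 20), (22, 23), (24, 9), (22, 9), (2, 21)], [(20, 15), (22, 19), (22, 22), (16, 9), (19, 18), (2, 20)], [(22, 3), (22, 18), (22, 21), (7, 9), (6, 9), (2, 19)]],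
    [[(4, 20), (23, 4), (23, 6), (4, 17), (24, 15), (19, 1)], [(11, 6), (23, 8), (23, 4), (11, 20), (24, 17), (19, 6)], [(12, 3), (23, 1), (23, 0), (11, 23), (16, 10), (19, 7)], [(18, 10), (23, 0), (23, 7), (4, 15), (16, 9), (19, 5)], [(19, 16), (23, 3), (23, 5), (4, 16), (7, 14), (19, 4)], [(21, 20), (23, 7), (23, 1), (25, 11), (16, 16), (19, 8)], [(22, 5), (23, 5), (23, 2), (25, 17), (7, 16), (19, 2)], [(24, 19), (23, 6), (23, 8), (25, 10), (24, 16), (19, 3)], [(26, 22), (23, 2), (23, 3), (11, 24), (7, 11), (19, 0)], [(0, 21), (23, 10), (23, 14), (15, 24), (1, 13), (22, 5)], [(3, 18), (23, 13), (23, 16), (15, 20), (21, 20), (22, 6)], [(4, 4), (23, 17), (23, 13), (3, 5), (21, 26), (22, 4)], [(5, 23), (23, 11), (23, 10), (3, 0), (1, 14), (22, 1)], [(8, 11), (23, 9), (23, 15), (15, 26), (26, 9), (22, 8)], [(10, 5),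 (23, 16), (23, 17), (26, 20), (21, 25), (22, 7)], [(20, 2), (23, 14), (23, 11), (26, 22), (1, 17), (22, 0)], [(23, 26), (23, 15), (23, 12), (26, 26), (26, 17), (22, 3)], [(24, 4), (23, 12), (23, 9), (3, 8), (26, 13), (22, 2)], [(9, 5), (23, 26), (23, 24), (24, 5), (6, 7), (5, 16)], [(9, 13), (23, 21), (23, 23), (5, 7), (20, 5), (5, 15)], [(16, 20), (23, 22), (23, 25), (3, 15), (2, 7), (5, 9)], [(17, 23), (23, 25), (23, 18), (5, 5), (2, 8), (5, 13)], [(19, 5), (23, 24), (23, 19), (3, 17), (6, 6), (5, 11)], [(19, 22), (23, 18), (23, 22), (24, 2), (2, 3), (5, 10)], [(24, 15), (23, 20), (23, 21), (3, 13), (20, 4), (5, 12)], [(25, 11), (23, 19), (23, 26), (5, 0), (6, 1), (5, 14)], [(25, 22), (23, 23), (23, 20), (24, 8), (20, 6), (5, 17)]],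
    [[(4, 15), (24, 4), (24, 7), (8, 13), (21, 3), (3, 17)], [(6, 17), (24, 6), (24, 5), (14, 5), (2, 15), (3, 16)], [(16, 22), (24, 5), (24, 0), (0, 5), (2, 14), (3, 9)], [(17, 3), (24, 0), (24, 6), (8, 9), (2, 10), (3, 15)], [(18, 24), (24, 3), (24, 1), (8, 14), (5, 25), (3, 13)], [(19, 7), (24, 8), (24, 4), (0, 1), (21, 6), (3, 11)], [(21, 14), (24, 7), (24, 8), (14, 6), (21, 5), (3, 14)], [(22, 22), (24, 1), (24, 2), (14, 8), (5, 19), (3, 10)], [(24, 17), (24, 2), (24, 3), (0, 6), (5, 24), (3, 12)], [(1, 13), (24, 12), (24, 14), (15, 13), (0, 12), (7, 16)], [(7, 21), (24, 15), (24, 16), (9, 11), (26, 2), (7, 17)], [(12, 18), (24, 10), (24, 12), (9, 9), (0, 9), (7, 14)], [(13, 10), (24, 16), (24, 17), (15, 15), (26, 5), (7, 12)], [(16, 6), (24, 14), (24, 10), (18, 21), (0, 14), (7, 11)], [(18, 8), (24, 17), (24,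 15), (18, 19), (26, 8), (7, 15)], [(19, 17), (24, 11), (24, 9), (9, 16), (16, 23), (7, 13)], [(22, 8), (24, 9), (24, 13), (15, 17), (16, 18), (7, 10)], [(26, 26), (24, 13), (24, 11), (18, 22), (16, 25), (7, 9)], [(3, 15), (24, 26), (24, 24), (20, 16), (10, 17), (13, 12)], [(3, 24), (24, 25), (24, 21), (11, 5), (22, 8), (13, 15)], [(4, 1), (24, 18), (24, 25), (20, 11), (22, 2), (13, 14)], [(5, 10), (24, 22), (24, 26), (18, 1), (10, 13), (13, 11)], [(6, 7), (24, 23), (24, 20), (18, 8), (23, 14), (13, 17)], [(10, 1), (24, 21), (24, 18), (18, 2), (22, 3), (13, 16)], [(13, 22), (24, 19), (24, 23), (11, 4), (23, 10), (13, 10)], [(14, 5), (24, 24), (24, 22), (11, 3), (10, 16), (13, 9)], [(21, 3), (24, 20), (24, 19), (20, 15), (23, 11), (13, 13)]],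
    [[(1, 8), (25, 7), (25, 1), (14, 17), (19, 16), (4, 26)], [(2, 17), (25, 3), (25, 2), (24, 24), (15, 6), (4, 25)], [(3, 26), (25, 6), (25, 0), (13, 16), (13, 7), (4, 24)], [(10, 19), (25, 8), (25, 6), (24, 19), (13, 8), (4, 23)], [(12, 10), (25, 0), (25, 8), (14, 15), (13, 0), (4, 20)], [(13, 19), (25, 2), (25, 4), (13, 17), (15, 2), (4, 19)], [(14, 1), (25, 5), (25, 7), (13, 11), (19, 15), (4, 18)], [(20, 1), (25, 4), (25, 3), (14, 11), (15, 7), (4, 21)], [(24, 1), (25, 1), (25, 5), (24, 25), (19, 10), (4, 22)], [(10, 17), (25, 16), (25, 11), (14, 26), (18, 26), (11, 26)], [(11, 5), (25, 17), (25, 13), (9, 8), (15, 17), (11, 22)], [(12, 8), (25, 10), (25, 15), (9, 1), (9, 10), (11, 25)], [(12, 23), (25, 15), (25, 14), (21, 17), (9, 17), (11, 23)], [(13, 5), (25, 12), (25, 16), (21, 10), (18, 21), (11, 24)], [(13,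 14), (25, 9), (25, 17), (14, 20), (15, 10), (11, 21)], [(25, 2), (25, 13), (25, 9), (21, 11), (15, 11), (11, 20)], [(26, 11), (25, 14), (25, 10), (14, 21), (9, 11), (11, 18)], [(26, 19), (25, 11), (25, 12), (9, 2), (18, 20), (11, 19)], [(15, 3), (25, 21), (25, 25), (16, 15), (19, 24), (22, 22)], [(16, 7), (25, 20), (25, 24), (7, 14), (6, 14), (22, 21)], [(18, 5), (25, 26), (25, 18), (7, 17), (22, 17), (22, 25)], [(18, 12), (25, 24), (25, 23), (16, 17), (6, 17), (22, 24)], [(23, 16), (25, 25), (25, 19), (24, 17), (19, 26), (22, 26)], [(24, 22), (25, 22), (25, 26), (24, 14), (22, 16), (22, 23)], [(25, 1), (25, 18), (25, 22), (16, 16), (22, 12), (22, 20)], [(26, 10), (25, 23), (25, 20), (24, 13), (6, 16), (22, 18)], [(26, 18), (25, 19), (25, 21), (7, 13), (19, 23), (22, 19)]],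
    [[(14, 13), (26, 5), (26, 8), (17, 23), (23, 6), (16, 26)], [(17, 13), (26, 6), (26, 0), (17, 8), (6, 26), (16, 23)], [(19, 14), (26, 1), (26, 7), (17, 7), (19, 5), (16, 24)], [(20, 12), (26, 8), (26, 2), (9, 26), (23, 8), (16, 22)], [(20, 25), (26, 3), (26, 6), (9, 22), (6, 24), (16, 25)], [(22, 6), (26, 7), (26, 4), (17, 26), (19, 8), (16, 21)], [(25, 0), (26, 2), (26, 5), (17, 3), (23, 4), (16, 20)], [(26, 9), (26, 0), (26, 3), (17, 24), (6, 21), (16, 18)], [(26, 20), (26, 4), (26, 1), (9, 23), (19, 7), (16, 19)], [(0, 26), (26, 14), (26, 10), (20, 24), (14, 12), (1, 16)], [(1, 26), (26, 12), (26, 11), (16, 6), (24, 21), (1, 17)], [(3, 17), (26, 13), (26, 9), (12, 7), (13, 13), (1, 15)], [(5, 16), (26, 17), (26, 13), (16, 2), (13, 17), (1, 10)], [(5, 25), (26, 15), (26, 14), (12, 0), (14, 15), (1, 12)], [(8,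 5), (26, 16), (26, 12), (20, 19), (24, 25), (1, 13)], [(10, 22), (26, 11), (26, 16), (12, 5), (24, 18), (1, 14)], [(14, 6), (26, 9), (26, 17), (20, 21), (13, 10), (1, 9)], [(20, 6), (26, 10), (26, 15), (16, 3), (14, 9), (1, 11)], [(0, 8), (26, 25), (26, 19), (15, 4), (16, 8), (3, 8)], [(2, 8), (26, 24), (26, 20), (13, 3), (12, 6), (3, 6)], [(4, 8), (26, 26), (26, 18), (19, 13), (20, 26), (3, 7)], [(5, 15), (26, 19), (26, 22), (13, 8), (16, 1), (3, 1)], [(5, 26), (26, 20), (26, 23), (19, 15), (12, 2), (3, 3)], [(8, 7), (26, 18), (26, 21), (15, 7), (20, 18), (3, 5)], [(12, 14), (26, 21), (26, 26), (13, 2), (20, 21), (3, 2)], [(13, 21), (26, 23), (26, 24), (15, 1), (12, 5), (3, 0)], [(24, 8), (26, 22), (26, 25), (19, 9), (16, 3), (3, 4)]]]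

/-- The certificate. -/
def cert : PcCover.Cert where
  n := 6
  rules := [([0, 0, 0], []),
    ([1, 1, 1], []),
    ([2, 2, 2], []),
    ([3, 3, 3], []),
    ([4, 4, 4], []),
    ([5, 5, 5], []),
    ([1, 0], [0, 1, 4, 5, 5]),
    ([2, 0], [0, 2, 3, 4, 5]),
    ([2, 1], [1, 2]),
    ([3, 0], [0, 3]),
    ([3, 1], [1, 3]),
    ([3, 2], [2, 3, 5, 5]),
    ([4, 0], [0, 4]),
    ([4, 1], [1, 4, 5, 5]),
    ([4, 2], [2, 4, 5, 5]),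
    ([4, 3], [3, 4]),
    ([5, 0], [0, 5]),
    ([5, 1], [1, 5]),
    ([5, 2], [2, 5]),
    ([5, 3], [3, 5]),
    ([5, 4], [4, 5])]
  rels := [.cons [1] 0,
    .cons [1, 1] 0,
    .cons [1, 1] 6,
    .cons [2] 0,
    .cons [2] 1,
    .cons [2] 6,
    .cons [1, 2] 0,
    .cons [1, 2] 6,
    .cons [1, 1, 2] 0,
    .cons [1, 1, 2] 6,
    .cons [2, 2] 0,
    .cons [2, 2] 6,
    .cons [2, 2] 7,
    .cons [1, 2, 2] 0,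
    .cons [3] 0,
    .cons [3] 1,
    .cons [3] 6,
    .cons [3] 7,
    .cons [4] 0,
    .fus 6 [2] [1] [1, 2, 3, 3, 4, 4, 5, 5] [1, 2, 2, 4, 4, 5],
    .fus 7 [2] [1] [2, 3, 3, 5, 5] [1, 3, 3, 4, 5],
    .fus 8 [3] [0] [3, 3, 4, 5, 5] [0, 0, 3, 3, 4, 4, 5],
    .fus 8 [0, 0, 2, 3] [0, 2, 2] [0, 1, 3, 3, 4, 4, 5] [0, 0, 1, 1, 4, 4, 5, 5]]
  cvec := [0, 0, 0, 0, 0, 0, 0, 0, 0, 0, 1, 0, 0, 0, 0, 0, 0, 0, 0, 0, 0]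
  m := 3
  mcomb := [29394902314, -3563013709, 39391174431, -51663777211, 0, 33650632806, -20685278402, -71161366956, 42954153297, 30978463965, 46517167008, 3266082828, 29394902316, -17122264692, 0, -34842, -6, 3, 0, 0, 0, 0, 0]
  basis := [(3, [0, 0, 0, 1, 1, 1, 0, 3, 0, 3, 0, 0, 3, 0, 0, 3, 3, 0, 0, 3, 3], [0, 0, 0, 0, 1, 0, 0, 0, 0, 0, 0, 0, 0, 0, 0, 0, 0, 0, 0, 0, 0, 0, 0, 0]),
    (4, [0, 0, 0, 0, 1, 2, 3, 0, 0, 0, 0, 0, 3, 0, 0, 0, 3, 0, 0, 0, 6], [0, 1, 0, 0, 0, 0, 0, 0, 0, 0, 0, 0, 0, 0, 0, 0, 0, 0, 0, 0, 0, 0, 0, 0]),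
    (5, [0, 0, 0, 0, 0, 2, 0, 0, 0, 0, 0, 0, -3, 3, 0, 0, -6, 6, 0, 0, -9], [0, -2, 1, 0, 0, 0, 0, 0, 0, 0, 0, 0, 0, 0, 0, 0, 0, 0, 0, 0, 0, 0, 0, 0]),
    (8, [0, 0, 0, 0, 0, 0, 0, 0, 1, 0, 2, 4, 6, -6, 2, -4, 12, -11, 0, 4, 20], [0, 4, -2, 0, 0, 1, 0, 0, 0, 0, 0, 0, 0, 0, 0, 0, 0, 0, 0, 0, -1, 0, 0, 0]),
    (9, [0, 0, 0, 0, 0, 0, 0, 0, 0, 1, -4, -2, -2, 6, -4, -8, -2, 13, -3, -3, -30], [0, -4, 2, 0, 3, 0, 0, 0, 0, 0, 0, -1, 0, 0, 0, 0, 0, 0, 0, 0, 0, 0, 0, 1]),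
    (10, [0, 0, 0, 0, 0, 0, 0, 0, 0, 0, 1, 0, 0, 1, -1, -1, 0, 1, -2, -1, -1], [0, 0, 0, 0, 0, 0, -1, 0, 0, 0, 0, 0, 0, 0, 0, 0, 0, 0, 0, 0, 0, 0, 0, 0]),
    (11, [0, 0, 0, 0, 0, 0, 0, 0, 0, 0, 0, 1, 0, -5, 4, 3, 0, -6, 6, 2, 18], [0, 2, -1, 0, -2, 0, 2, 0, 0, 0, 0, 1, 0, 0, 0, 1, 0, 0, 0, 0, 0, -1, 0, 0]),
    (12, [0, 0, 0, 0, 0, 0, 0, 0, 0, 0, 0, 0, 1, -9, 9, 8, -10, -6, 15, 4, 27], [0, 2, -1, 0, -4, 0, 6, 0, 0, 0, 0, 2, 0, 0, 0, 3, 0, 0, 0, 2, 0, -3, 1, 0]),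
    (13, [0, 0, 0, 0, 0, 0, 0, 0, 0, 0, 0, 0, 0, 1, -1, -1, 0, 1, -2, -1, -1], [-1, 0, 0, 0, 0, 0, -1, 0, 0, 0, 0, 0, 0, 0, 0, 0, 0, 0, 0, 0, 0, 0, 0, 0]),
    (15, [0, 0, 0, 0, 0, 0, 0, 0, 0, 0, 0, 0, 0, 0, 0, 1, 0, 0, 0, 2, 0], [0, 0, 0, 0, 0, 0, 0, 0, 0, 0, 0, 0, 0, 0, 0, 0, 0, 1, 0, 0, 0, 0, 0, 0]),
    (16, [0, 0, 0, 0, 0, 0, 0, 0, 0, 0, 0, 0, 0, 0, 0, 0, 1, -4, 0, 3, 9], [0, 1, -1, -1, 0, 0, 0, 0, 0, 0, 0, 0, 0, 0, 0, 0, 0, 1, -1, 0, 0, 0, 0, 0]),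
    (17, [0, 0, 0, 0, 0, 0, 0, 0, 0, 0, 0, 0, 0, 0, 0, 0, 0, 1, -4, -1, 0], [0, 0, 0, 0, 0, 0, -1, 0, 1, 0, 0, 0, 0, 0, 0, 0, 0, 0, 0, 0, 0, 0, 0, 0]),
    (18, [0, 0, 0, 0, 0, 0, 0, 0, 0, 0, 0, 0, 0, 0, 0, 0, 0, 0, 1, -11, 25], [0, 0, -2, -4, 4, 0, 8, -2, 0, -2, -6, 0, -1, 0, 0, 0, 0, 0, 0, 0, 0, 0, 0, 0]),
    (19, [0, 0, 0, 0, 0, 0, 0, 0, 0, 0, 0, 0, 0, 0, 0, 0, 0, 0, 0, 1, -91], [0, 10, 3, 16, -26, 0, -52, 3, -9, 13, 29, 10, 16, 10, 0, 0, 0, 0, 0, 0, 0, 0, 0, 0]),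
    (20, [0, 0, 0, 0, 0, 0, 0, 0, 0, 0, 0, 0, 0, 0, 0, 0, 0, 0, 0, 0, 1], [0, -843663, 102262, -1130566, 1482802, 0, -965806, 593688, 2042402, -1232827, -889113, -1335089, -93740, -843663, 491426, 0, 1, 0, 0, 0, 0, 0, 0, 0])]
  T := [([], []),
    ([4, 4, 5], [0, 0, 0, 0, -1, -1, -1, 0, 0, 0, 0, 0, 0, 0, 0, 0, 0, 0, 0, 0, -4]),
    ([3, 3, 4, 4, 5, 5], [0, 0, 0, -1, -1, -1, 0, -1, 0, 0, 0, 0, 0, 0, 0, -2, 0, 0, 0, -2, -2]),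
    ([4, 5, 5], [0, 0, 0, 0, 0, 0, 1, 0, 0, 0, 0, 0, 0, 0, 0, 0, 0, 0, 0, 0, 0]),
    ([5], [0, 0, 0, 0, 0, -1, 0, 0, 0, 0, 0, 0, 0, -1, 0, 0, 0, 0, 0, 0, 0]),
    ([3, 4, 5], [0, 0, 0, 0, 0, 0, 0, 1, 0, 0, 0, 0, 0, 0, 0, 0, 0, 0, 0, 0, 0]),
    ([5, 5], [0, 0, 0, 0, 0, 0, 0, 0, 0, 0, 0, 1, 0, 0, 0, 0, 0, 0, 0, 0, 0]),
    ([3, 3, 4], [0, 0, 0, -1, -1, -1, -1, -1, 0, 0, 0, 0, 0, 0, 0, 2, 0, 0, 0, 0, -4]),
    ([4, 4, 5, 5], [0, 0, 0, 0, -1, -2, -1, 0, 0, 0, 0, 0, 0, -1, 0, 0, 0, 0, 0, 0, -4]),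
    ([3, 5, 5], [0, 0, 0, 0, 0, -1, -1, 1, 0, 0, 0, 0, 0, 0, 0, 2, 0, 0, 0, 1, -3]),
    ([4, 4], [0, 0, 0, 0, -1, 0, -1, 0, 0, 0, 0, 1, 0, 0, 0, 0, 0, 0, 0, 0, -4]),
    ([3, 3, 5], [0, 0, 0, -1, 0, 0, 1, -1, 0, 0, 0, 0, 0, 0, 0, -2, 0, 0, 0, -2, 0]),
    ([3, 3, 4, 4], [0, 0, 0, -1, -1, -1, 0, -1, 0, 0, 0, 0, 0, -1, 0, -2, 0, 0, 0, -2, -2]),
    ([3, 3, 4, 4, 5], [0, 0, 0, -1, -1, 0, 0, -1, 0, 0, 0, 1, 0, 0, 0, -2, 0, 0, 0, -2, -2]),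
    ([4], [0, 0, 0, 0, 0, 0, 1, 0, 0, 0, 0, 0, 0, -1, 0, 0, 0, 0, 0, 0, 0]),
    ([3, 4, 4], [0, 0, 0, 0, 0, 1, 1, 1, 0, 0, 0, 0, 0, 0, 0, 1, 0, 0, 0, 2, 2]),
    ([4, 5], [0, 0, 0, 0, 0, 1, 1, 0, 0, 0, 0, 1, 0, 0, 0, 0, 0, 0, 0, 0, 0]),
    ([3, 4, 5, 5], [0, 0, 0, 0, 0, -1, 0, 1, 0, 0, 0, 0, 0, -1, 0, 0, 0, 0, 0, 1, 1]),
    ([3, 4], [0, 0, 0, 0, 0, 1, 0, 1, 0, 0, 0, 1, 0, 0, 0, 0, 0, 0, 0, 0, 0]),
    ([3, 3, 4, 5], [0, 0, 0, -1, -1, -2, -1, -1, 0, 0, 0, 0, 0, -1, 0, 2, 0, 0, 0, 0, -4]),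
    ([3, 3, 4, 5, 5], [0, 0, 0, -1, -1, -1, -1, -1, 0, 0, 0, 1, 0, 0, 0, 2, 0, 0, 0, 0, -4]),
    ([3], [0, 0, 0, 0, 0, -1, -1, 1, 0, 0, 0, 0, 0, -1, 0, 2, 0, 0, 0, 2, -2]),
    ([3, 5], [0, 0, 0, 0, 0, 0, -1, 1, 0, 0, 0, 1, 0, 0, 0, 2, 0, 0, 0, 1, -3]),
    ([3, 3, 5, 5], [0, 0, 0, -1, 0, -1, 1, -1, 0, 0, 0, 0, 0, -1, 0, -2, 0, 0, 0, -2, 0]),
    ([3, 3], [0, 0, 0, -1, 0, 1, 1, -1, 0, 0, 0, 1, 0, 0, 0, -2, 0, 0, 0, -2, 0]),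
    ([3, 4, 4, 5], [0, 0, 0, 0, 0, 0, 1, 1, 0, 0, 0, 0, 0, -1, 0, 1, 0, 0, 0, 0, 0]),
    ([3, 4, 4, 5, 5], [0, 0, 0, 0, 0, 1, 1, 1, 0, 0, 0, 1, 0, 0, 0, 1, 0, 0, 0, 2, 2])]
  elems := blocks.flatten
  order := 898128000
  p := 3

end Cfsg.Agent.MultiplierMcL.Three
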