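import Cfsg.Agent.Lib.PcCover.BoundFast

/-!
# One-generator certificates checked with indices

* `restOne`, `check_of` : the indexed checks imply the check of `Cert.bound`
-/

set_option autoImplicit false

namespace Cfsg.Agent.MultiplierMcL

open Cfsg.Agent.PcCover Cfsg.Agent.PcCover.Fast

/-- The other small checks. -/
def restOne (C : Cert) (eqw : List ℕ → List ℕ → Bool) : Bool :=
  ((C.rules.all fun r => eqw r.1 r.2) &&
  (C.rels.all (C.relOk eqw)) &&
  zeroV (subV (smulV (C.m : ℤ) C.cvec) (comb C.mcomb (C.rels.map C.relVec))) &&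
  (C.basis.all fun b => zeroV (subV b.2.1 (comb b.2.2 (C.cvec :: C.rels.map C.relVec)))) &&
  C.T.contains ([], []) &&
  (C.T.all fun t => !eqw t.1 [] || (t.1 == [] && zeroV t.2)) &&
  C.elems.contains [] &&
  (C.elems.all fun l => l.all (fun i => decide (i < C.n))) &&
  (C.order % C.elems.length == 0 && !(C.order / C.elems.length % C.p == 0)))

theorem check_of {F : Fast} {C : Cert} {eqw : List ℕ → List ℕ → Bool}
    (key : List ℕ → ℕ) (hkey : ∀ u w, eqw u w = true → key u = key w)
    (helems : C.elems = F.elemsB.flatten)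
    (hmul : ∀ a < C.T.length, F.mulRow C a = true) (hconj : ∀ i < C.n, F.conjRow C i = true)
    (hcomm : F.commOK C = true) (hclos : ∀ b < F.elemsB.length, F.closBlock C b = true)
    (hincr : incr (C.elems.map key) = true) (hrest : restOne C eqw = true) :
    C.check eqw = true := by
  simp only [restOne, Bool.and_eq_true] at hrest
  obtain ⟨⟨⟨⟨⟨⟨⟨⟨r2, r3⟩, r4⟩, r5⟩, r6⟩, r7⟩, r8⟩, r9⟩, r10⟩ := hrest
  have gmem : ∀ {a : ℕ}, a < C.T.length → C.T.getD a ([], []) ∈ C.T := fun ha => by
    rw [List.getD_eq_getElem _ _ ha]; exact List.getElem_mem _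
  have gget : ∀ t ∈ C.T, ∃ a, a < C.T.length ∧ C.T.getD a ([], []) = t := fun t ht => by
    obtain ⟨a, ha, rfl⟩ := List.getElem_of_mem ht
    exact ⟨a, ha, List.getD_eq_getElem _ _ ha⟩
  rw [Cert.check]
  simp only [Bool.and_eq_true]
  refine ⟨⟨⟨⟨⟨⟨⟨⟨⟨⟨⟨⟨⟨r2, r3⟩, r4⟩, r5⟩, r6⟩, ?_⟩, ?_⟩, ?_⟩, r7⟩, r8⟩, r9⟩, ?_⟩, ?_⟩, r10⟩
  · refine List.all_eq_true.2 fun t ht => List.all_eq_true.2 fun t' ht' => ?_
    obtain ⟨a, ha, rfl⟩ := gget t ht
    obtain ⟨b, hb, rfl⟩ := gget t' ht'
    exact Cert.inT_of_at (List.all_eq_true.1 (hmul a ha) b (List.mem_range.2 hb))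
  · refine List.all_eq_true.2 fun i hi => List.all_eq_true.2 fun t ht => ?_
    obtain ⟨a, ha, rfl⟩ := gget t ht
    have h := List.all_eq_true.1 (hconj i (List.mem_range.1 hi)) a (List.mem_range.2 ha)
    simp only [Bool.and_eq_true, Nat.blt_eq] at h
    refine List.any_eq_true.2 ⟨_, gmem h.1, ?_⟩
    simp only [Bool.and_eq_true]
    exact h.2
  · refine List.all_eq_true.2 fun x hx => List.all_eq_true.2 fun y hy => ?_
    exact Cert.inT_of_at (List.all_eq_true.1 (List.all_eq_true.1 hcomm x hx) y hy)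
  · refine List.all_eq_true.2 fun l hl => List.all_eq_true.2 fun i hi => ?_
    rw [helems] at hl
    obtain ⟨B, hB, hlB⟩ := List.mem_flatten.1 hl
    obtain ⟨b, hb, rfl⟩ := List.getElem_of_mem hB
    obtain ⟨q, hq, rfl⟩ := List.getElem_of_mem hlB
    have h := hclos b hb
    have e : F.elemsB.getD b [] = F.elemsB[b] := List.getD_eq_getElem _ _ hb
    simp only [closBlock, e, List.all_eq_true, List.mem_range, Bool.and_eq_true, Nat.blt_eq,
      beq_iff_eq] at h
    obtain ⟨h1, h2, h3⟩ := h q hq i (List.mem_range.1 hi)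
    rw [List.getD_eq_getElem _ _ hq] at h3
    rw [h3, helems, List.contains_iff_mem, List.mem_flatten, elemAt]
    refine ⟨F.elemsB.getD (((F.closI.getD b []).getD q []).getD i (0, 0)).1 [], ?_, ?_⟩
    · rw [List.getD_eq_getElem _ _ h1]; exact List.getElem_mem _
    · rw [List.getD_eq_getElem _ _ h2]; exact List.getElem_mem _
  · refine List.all_eq_true.2 fun i hi => List.all_eq_true.2 fun j hj => ?_
    rw [List.mem_range] at hi hj
    rw [Bool.not_eq_true', Bool.eq_false_iff]
    intro he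
    have hp := List.pairwise_iff_getElem.1 (incr_pairwise _ hincr) j i
      (by rw [List.length_map]; omega) (by rw [List.length_map]; omega) hj
    rw [List.getElem_map, List.getElem_map] at hp
    rw [List.getD_eq_getElem _ _ hi, List.getD_eq_getElem _ _ (show j < C.elems.length by omega)] at he
    exact absurd (hkey _ _ he) hp.ne'


end Cfsg.Agent.MultiplierMcL
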