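import Cfsg.Agent.Lib.MultiplierMcL.Sep
import Cfsg.Agent.Lib.MultiplierMcL.DataGroup
import Cfsg.Agent.Lib.MultiplierMcL.DataChain

/-!
# The McLaughlin group as permutations of 275 points

* `mclPerm`, `natCard_mclPerm`
* `gEl` : the letters in the group;  `gEl_agree` : equality of words on six points
* `natCard_sub_tail` : the order of the stabiliser of the first point
-/

set_option autoImplicit false
set_option maxRecDepth 100000
set_option Elab.async false

namespace Cfsg.Agent.MultiplierMcL

open Cfsg.Agent.StabCert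

/-- A point by number. -/
def gPt (i : ℕ) : Fin 275 := Fin.ofNat 275 i

theorem gPt_val (x : Fin 275) : gPt x.val = x := Fin.ext (Nat.mod_eq_of_lt x.isLt)

theorem gPt_injOn : Set.InjOn gPt {i | i < 275} := fun i hi j hj e => by
  simpa [gPt, Nat.mod_eq_of_lt hi, Nat.mod_eq_of_lt hj] using congrArg Fin.val e

theorem gTab_ok : ((List.range 12).all fun k => tableOK 9 275 (gTab.getD k 0) &&
    distinctFrom ((List.range 275).map (look 9 (gTab.getD k 0))) 0) = true := by decide +kernel

theorem gTab_spec {k : ℕ} (hk : k < 12) : (∀ i < 275, look 9 (gTab.getD k 0) i < 275) ∧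
    Function.Injective fun x : Fin 275 => gPt (look 9 (gTab.getD k 0) x.val) := by
  have h := gTab_ok
  simp only [tableOK, List.all_eq_true, Bool.and_eq_true, List.mem_range, Nat.blt_eq] at h
  obtain ⟨h1, h2⟩ := h k hk
  refine ⟨h1, fun x y e => ?_⟩
  have e' := gPt_injOn (h1 _ x.isLt) (h1 _ y.isLt) e
  have hn := (distinctFrom_spec _ _ h2).1
  exact Fin.ext (List.inj_on_of_nodup_map hn (List.mem_range.2 x.isLt) (List.mem_range.2 y.isLt) e')

/-- The permutation of a letter. -/
noncomputable def gPerm (k : ℕ) : Equiv.Perm (Fin 275) :=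
  if h : k < 12 then Equiv.ofBijective _
    ⟨(gTab_spec h).2, Finite.surjective_of_injective (gTab_spec h).2⟩ else 1

theorem gPerm_sound :
    TablesSound (MonoidHom.id (Equiv.Perm (Fin 275))) gPerm gPt 9 275 12 gTab := by
  intro k hk i hi
  refine ⟨(gTab_spec hk).1 i hi, ?_⟩
  rw [MonoidHom.id_apply, gPerm, dif_pos hk]
  show gPt (look 9 (gTab.getD k 0) (gPt i).val) = _
  rw [show (gPt i).val = i from Nat.mod_eq_of_lt hi]

/-- The group on 275 points. -/
noncomputable def mclPerm : Subgroup (Equiv.Perm (Fin 275)) := sub gPerm (List.range 12)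

/-- The letters in the group. -/
noncomputable def gEl (k : ℕ) : mclPerm :=
  if h : k < 12 then ⟨gPerm k, gen_mem_sub gPerm (List.mem_range.2 h)⟩ else 1

theorem gEl_sound : TablesSound mclPerm.subtype gEl gPt 9 275 12 gTab := by
  intro k hk i hi
  have h := gPerm_sound k hk i hi
  simpa only [gEl, dif_pos hk, Subgroup.coe_subtype, MonoidHom.id_apply] using h

theorem gNb_ok : nbOK 275 gNb gMk = true := by decide +kernel

theorem gRel0 : ((List.range' 0 3).all fun k => relInv 9 275 (gTab.getD k 0) gNb gMk) = true := by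
  decide +kernel

theorem gRel1 : ((List.range' 3 3).all fun k => relInv 9 275 (gTab.getD k 0) gNb gMk) = true := by
  decide +kernel

theorem gRel2 : ((List.range' 6 3).all fun k => relInv 9 275 (gTab.getD k 0) gNb gMk) = true := by
  decide +kernel

theorem gRel3 : ((List.range' 9 3).all fun k => relInv 9 275 (gTab.getD k 0) gNb gMk) = true := by
  decide +kernel

theorem gRel_ok : ((List.range 12).all fun k => relInv 9 275 (gTab.getD k 0) gNb gMk) = true := by
  simp only [List.all_eq_true, List.mem_range]
  intro t ht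
  by_cases h0 : t < 3
  · exact List.all_eq_true.1 gRel0 t (List.mem_range'_1.2 ⟨by omega, by omega⟩)
  by_cases h1 : t < 6
  · exact List.all_eq_true.1 gRel1 t (List.mem_range'_1.2 ⟨by omega, by omega⟩)
  by_cases h2 : t < 9
  · exact List.all_eq_true.1 gRel2 t (List.mem_range'_1.2 ⟨by omega, by omega⟩)
  exact List.all_eq_true.1 gRel3 t (List.mem_range'_1.2 ⟨by omega, by omega⟩)

theorem gSteps_ok : (stepsOK 275 gMk (maskL gBase) gSteps &&
    gBase.all fun β => Nat.blt β 275) = true := by decide +kernel

theorem gBase_lt : ∀ β ∈ gBase, β < 275 := by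
  have h := gSteps_ok
  simp only [Bool.and_eq_true, List.all_eq_true, Nat.blt_eq] at h
  exact h.2

theorem gEl_det : ∀ g ∈ sub gEl (List.range 12),
    (∀ β ∈ gBase, mclPerm.subtype g (gPt β) = gPt β) → g = 1 := fun g hg h => by
  have hs := gSteps_ok
  simp only [Bool.and_eq_true] at hs
  have hr := gRel_ok
  simp only [List.all_eq_true, List.mem_range] at hr
  exact det_of_steps gEl_sound gPt_injOn gNb_ok hr hs.1 Subtype.val_injective
    (fun x => ⟨x.val, x.isLt, gPt_val x⟩) hg h

theorem gEl_agree {u v : List ℕ} (hu : ∀ k ∈ u, k < 12) (hv : ∀ k ∈ v, k < 12) :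
    agreeB 9 gTab gBase u v = true ↔ wordEl gEl u = wordEl gEl v :=
  eq_of_agree gEl_sound gPt_injOn gBase_lt gEl_det hu hv

theorem gLev0_ok : levOK 9 275 12 gTab gBase gLev1.gens gLev0 = true := by decide +kernel

theorem gChain_tail : chainOK 9 275 12 gTab gBase [gLev1, gLev2, gLev3, gLev4] = true := by
  decide +kernel

theorem natCard_sub_tail : Nat.card (sub gEl gLev1.gens) = 3265920 := by
  have h := (chain_spec gEl_sound gPt_injOn gBase_lt gEl_det _ gChain_tail).2.1
  exact h.trans (by decide +kernel)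

theorem sub_gEl_eq_top : sub gEl (List.range 12) = ⊤ := by
  rw [eq_top_iff]
  intro g _
  have hg : g.1 ∈ (sub gEl (List.range 12)).map mclPerm.subtype := by
    rw [sub, MonoidHom.map_closure, ← Set.image_comp]
    refine Subgroup.closure_mono ?_ g.2
    rintro _ ⟨k, hk, rfl⟩
    exact ⟨k, hk, by simp [gEl, List.mem_range.1 hk]⟩
  obtain ⟨h, hh, e⟩ := hg
  rwa [← Subtype.val_injective e]

theorem gLev0_gens : (gLev0.gens == List.range 11 && agreeB 9 gTab gBase [11] []) = true := by
  decide +kernel

theorem gEl_eleven : gEl 11 = 1 := by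
  have h := gLev0_gens
  simp only [Bool.and_eq_true] at h
  have := (gEl_agree (u := [11]) (v := []) (by simp) (by simp)).1 h.2
  simpa [wordEl] using this

theorem natCard_mclPerm : Nat.card mclPerm = 898128000 := by
  have hch : chainOK 9 275 12 gTab gBase [gLev0, gLev1, gLev2, gLev3, gLev4] = true := by
    rw [chainOK, gChain_tail, Bool.and_true]
    exact gLev0_ok
  have h := (chain_spec gEl_sound gPt_injOn gBase_lt gEl_det _ hch).2.1
  have he : sub gEl gLev0.gens = ⊤ := by
    rw [eq_top_iff, ← sub_gEl_eq_top, sub, Subgroup.closure_le]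
    rintro _ ⟨k, hk, rfl⟩
    have hg := gLev0_gens
    simp only [Bool.and_eq_true, beq_iff_eq] at hg
    rw [hg.1]
    rcases Nat.lt_succ_iff_lt_or_eq.1 (List.mem_range.1 hk : k < 11 + 1) with h' | rfl
    · exact gen_mem_sub gEl (List.mem_range.2 h')
    · rw [gEl_eleven]; exact one_mem _
  rw [show nextGens [gLev0, gLev1, gLev2, gLev3, gLev4] = gLev0.gens from rfl, he] at h
  rw [← Subgroup.card_top, h]
  decide +kernel

end Cfsg.Agent.MultiplierMcL
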