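import Cfsg.Agent.Lib.MultiplierMcL.Group
import Cfsg.Agent.Lib.MultiplierMcL.DataPoints
import Cfsg.Agent.Lib.Leech.MclConfig
import Cfsg.Agent.Lib.Leech.McLInvol.Generators

/-!
# The permutation model is the McLaughlin group

* `mclPermEquiv`
-/

set_option autoImplicit false
set_option maxRecDepth 100000
set_option Elab.async false

open Cfsg
open scoped Pointwise

namespace Cfsg.Agent.MultiplierMcL

open Cfsg.Agent.Leech Cfsg.Agent.Golay Cfsg.Agent.StabCert MulAction

theorem vecs_ok : (vecs.length == 275 && vecs.all fun l => smallL l && inLatL l) = true := by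
  decide +kernel

theorem vecs_spec (i : Fin 275) : smallL (vecs.getD i.val []) = true ∧
    inLatL (vecs.getD i.val []) = true := by
  have h := vecs_ok
  simp only [Bool.and_eq_true, List.all_eq_true, beq_iff_eq] at h
  rw [List.getD_eq_getElem _ _ (lt_of_lt_of_eq i.isLt h.1.symm)]
  exact h.2 _ (List.getElem_mem _)

/-- The vector of a point. -/
def P (i : Fin 275) : leechLattice :=
  ⟨vOf (vecs.getD i.val []), mem_of_inLatL (vecs_spec i).2⟩

theorem P_dots : ∀ i : Fin 275, sqNorm (vOf (vecs.getD i.val [])) = 32 ∧
    dotInt (vOf (vecs.getD i.val [])) (vOf McLInvol.listF) = 24 ∧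
    dotInt (vOf (vecs.getD i.val [])) (vOf McLInvol.listU) = 16 := by decide +kernel

theorem P_mem (i : Fin 275) : P i ∈ mclBase := by
  obtain ⟨h1, h2, h3⟩ := P_dots i
  refine ⟨h1, ?_, ?_⟩
  · rw [McLInvol.bases_ok.1.1]; exact h2
  · rw [McLInvol.bases_ok.1.2]; exact h3

theorem vecs_nodup : vecs.Nodup := by decide +kernel

theorem P_injective : Function.Injective P := by
  intro i j h
  have hl : ∀ i : Fin 275, (vecs.getD i.val []).length = 24 := fun i => (smallL_spec (vecs_spec i).1).1
  have hv := vecs_ok
  simp only [Bool.and_eq_true, beq_iff_eq] at hv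
  have e : vecs.getD i.val [] = vecs.getD j.val [] := by
    refine List.ext_getElem ((hl i).trans (hl j).symm) fun k hk hk' => ?_
    have := congrFun (congrArg Subtype.val h) (pt k)
    simp only [P, vOf, idx_pt (hl i ▸ hk : k < 24)] at this
    rwa [List.getD_eq_getElem _ _ hk, List.getD_eq_getElem _ _ hk'] at this
  rw [List.getD_eq_getElem _ _ (lt_of_lt_of_eq i.isLt hv.1.symm), List.getD_eq_getElem _ _ (lt_of_lt_of_eq j.isLt hv.1.symm)] at e
  exact Fin.ext ((vecs_nodup.getElem_inj_iff).1 e)

theorem range_P : Set.range P = mclBase := by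
  refine Set.eq_of_subset_of_ncard_le (Set.range_subset_iff.2 P_mem) ?_
    (Set.finite_of_ncard_ne_zero (by rw [ncard_mclBase]; norm_num))
  rw [ncard_mclBase, ← Set.image_univ, Set.ncard_image_of_injective _ P_injective, Set.ncard_univ,
    Nat.card_fin]

theorem exists_image (g : mclGroup) (i : Fin 275) : ∃ j, P j = (g : Co0) • P i := by
  have h : (g : Co0) • P i ∈ mclBase := by
    obtain ⟨h1, h2, h3⟩ := P_mem i
    obtain ⟨f1, f2⟩ := mclGroup_fix g.2
    exact ⟨by rw [sqNorm_smul]; exact h1, by rw [dotInt_smul_of_eq f1]; exact h2,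
      by rw [dotInt_smul_of_eq f2]; exact h3⟩
  rwa [← range_P] at h

/-- The action on the points. -/
noncomputable def actFun (g : mclGroup) (i : Fin 275) : Fin 275 := (exists_image g i).choose

theorem P_actFun (g : mclGroup) (i : Fin 275) : P (actFun g i) = (g : Co0) • P i :=
  (exists_image g i).choose_spec

/-- The action as a homomorphism. -/
noncomputable def actHom : mclGroup →* Equiv.Perm (Fin 275) :=
  MonoidHom.toHomPerm
    { toFun := fun g => actFun g
      map_one' := funext fun i => P_injective (by rw [P_actFun]; exact one_smul _ _)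
      map_mul' := fun g h => funext fun i => P_injective (by
        show P (actFun (g * h) i) = P (actFun g (actFun h i))
        rw [P_actFun, P_actFun, P_actFun, Subgroup.coe_mul, mul_smul]) }

theorem actHom_apply (g : mclGroup) (i : Fin 275) : actHom g i = actFun g i := rfl

theorem perm_ok : (isAut permCode && Nat.beq (fn permCode 23) 23 && Nat.beq (fn permCode 0) 0 &&
    (List.range 275).all fun i => (List.range 24).all fun j =>
      (vecs.getD (look 9 (gTab.getD 1 0) i) []).getD (fn permCode j) 0 == (vecs.getD i []).getD j 0) =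
      true := by decide +kernel

theorem mat_ok : ((List.range 275).all fun i =>
    dotL (McLInvol.cols.getD 0 []) (vecs.getD i []) ==
      8 * pack (vecs.getD (look 9 (gTab.getD 0 0) i) [])) = true := by decide +kernel

theorem gPt_look {k : ℕ} (hk : k < 12) (i : Fin 275) :
    gPerm k i = gPt (look 9 (gTab.getD k 0) i.val) := by
  have h := (gPerm_sound k hk i.val i.isLt).2
  rwa [MonoidHom.id_apply, gPt_val] at h

/-- The second generator. -/
noncomputable def permGen : mclGroup :=
  ⟨permEl (Golay.toPerm permCode) (toPerm_mem_M24 (by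
      have h := perm_ok; simp only [Bool.and_eq_true] at h; exact h.1.1.1)), by
    have h := perm_ok
    simp only [Bool.and_eq_true, Nat.beq_eq] at h
    have hv := validPerm_of_isAut h.1.1.1
    have h23 : Golay.toPerm permCode none = none :=
      idx_injective (by rw [idx_toPerm hv, McLInvol.idx_marks.1]; exact h.1.1.2)
    have h0 : Golay.toPerm permCode pO = pO :=
      idx_injective (by rw [idx_toPerm hv, McLInvol.idx_marks.2]; exact h.1.2)
    exact (inf_le_left : stab3 ≤ mclGroup) (permEl_mem_stab3 _ h23 h0)⟩

theorem actHom_zero : actHom ⟨McLInvol.gen 0, McLInvol.gen_mem 0⟩ = gPerm 0 := by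
  refine Equiv.ext fun i => P_injective ?_
  rw [actHom_apply, P_actFun, gPt_look (by norm_num)]
  have hlt := (gTab_spec (k := 0) (by norm_num)).1 i.val i.isLt
  have hj : (gPt (look 9 (gTab.getD 0 0) i.val)).val = look 9 (gTab.getD 0 0) i.val := Nat.mod_eq_of_lt hlt
  have h := mat_ok
  simp only [List.all_eq_true, List.mem_range, beq_iff_eq] at h
  refine McLInvol.gen_smul 0 (vecs_spec i).1 (vecs_spec (gPt (look 9 (gTab.getD 0 0) i.val))).1
    ?_ rfl rfl
  rw [hj]
  exact h i.val i.isLt

theorem actHom_one : actHom permGen = gPerm 1 := by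
  refine Equiv.ext fun i => P_injective (Subtype.ext (funext fun p => ?_))
  rw [actHom_apply, P_actFun, gPt_look (by norm_num)]
  have hlt := (gTab_spec (k := 1) (by norm_num)).1 i.val i.isLt
  have hj : (gPt (look 9 (gTab.getD 1 0) i.val)).val = look 9 (gTab.getD 1 0) i.val := Nat.mod_eq_of_lt hlt
  have h := perm_ok
  simp only [Bool.and_eq_true, List.all_eq_true, List.mem_range, beq_iff_eq] at h
  have hv := validPerm_of_isAut h.1.1.1
  show ((permEl (Golay.toPerm permCode) (toPerm_mem_M24 h.1.1.1) • P i : leechLattice) : GolayPt → ℤ) p = _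
  rw [vec_permEl]
  show (vecs.getD i.val []).getD (idx ((Golay.toPerm permCode).symm p)) 0 =
    (vecs.getD (gPt (look 9 (gTab.getD 1 0) i.val)).val []).getD (idx p) 0
  rw [hj]
  conv_rhs => rw [← Equiv.apply_symm_apply (Golay.toPerm permCode) p, idx_toPerm hv]
  exact (h.2 i.val i.isLt _ (idx_lt _)).symm

theorem letters_ok : ((List.range 11).all fun k => Nat.blt k 2 ||
    ((gWords.getD k []).all (fun j => Nat.blt j k) && agreeB 9 gTab gBase [k] (gWords.getD k []))) =
      true := by decide +kernel

theorem gPerm_mem_range : ∀ k < 12, gPerm k ∈ actHom.range := by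
  intro k
  induction k using Nat.strong_induction_on with
  | _ k ih =>
    intro hk
    by_cases h11 : k = 11
    · subst h11
      have := congrArg Subtype.val gEl_eleven
      rw [gEl, dif_pos hk] at this
      rw [show gPerm 11 = 1 from this]
      exact one_mem _
    match k, hk, h11 with
    | 0, _, _ => exact ⟨_, actHom_zero⟩
    | 1, _, _ => exact ⟨_, actHom_one⟩
    | k + 2, hk, h11 =>
      have h := List.all_eq_true.1 letters_ok (k + 2) (List.mem_range.2 (by omega))
      rw [show Nat.blt (k + 2) 2 = false from by simp [Nat.blt, Nat.ble], Bool.false_or] at h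
      simp only [Bool.and_eq_true, List.all_eq_true, Nat.blt_eq] at h
      have e := (gEl_agree (u := [k + 2]) (by simp; omega)
        (fun j hj => (h.1 j hj).trans hk)).1 h.2
      have e' := congrArg mclPerm.subtype e
      simp only [wordEl, List.map_cons, List.map_nil, List.prod_singleton, map_list_prod,
        List.map_map, gEl, dif_pos hk, Subgroup.coe_subtype] at e'
      rw [e']
      refine Subgroup.list_prod_mem _ fun x hx => ?_
      obtain ⟨j, hj, rfl⟩ := List.mem_map.1 hx
      simp only [Function.comp_apply, gEl, dif_pos ((h.1 j hj).trans hk)]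
      exact ih j (h.1 j hj) ((h.1 j hj).trans hk)

theorem actHom_injective : Function.Injective actHom := by
  rw [← MonoidHom.ker_eq_bot_iff]
  have : IsSimpleGroup mclGroup := isSimpleGroup_mclGroup
  refine (IsSimpleGroup.eq_bot_or_eq_top_of_normal _ (MonoidHom.normal_ker actHom)).resolve_right
    fun h => ?_
  have h1 : gPerm 0 = 1 := by
    rw [← actHom_zero, ← MonoidHom.mem_ker, h]; exact Subgroup.mem_top _
  have h2 := congrArg (fun σ : Equiv.Perm (Fin 275) => (σ (gPt 0)).val) h1
  revert h2
  simp only [gPt_look (by norm_num : 0 < 12), Equiv.Perm.one_apply]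
  decide +kernel

theorem range_actHom : actHom.range = mclPerm := by
  have hle : mclPerm ≤ actHom.range := by
    rw [mclPerm, sub, Subgroup.closure_le]
    rintro _ ⟨k, hk, rfl⟩
    exact gPerm_mem_range k (List.mem_range.1 hk)
  refine (Subgroup.eq_of_le_of_card_ge hle ?_).symm
  rw [natCard_mclPerm, ← Nat.card_congr (MonoidHom.ofInjective actHom_injective).toEquiv,
    natCard_mclGroup]

/-- The isomorphism. -/
noncomputable def mclPermEquiv : mclGroup ≃* mclPerm :=
  (MonoidHom.ofInjective actHom_injective).trans (MulEquiv.subgroupCongr range_actHom)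

end Cfsg.Agent.MultiplierMcL
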