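import Cfsg.Agent.Lib.MultiplierMcL.Group
import Cfsg.Agent.Lib.MultiplierMcL.FastOne
import Cfsg.Agent.Lib.MultiplierMcL.DataFive
import Cfsg.Agent.Lib.PcCover.BaseLetter

/-!
# Indexed checks for the 5-part
-/

set_option autoImplicit false
set_option maxRecDepth 100000
set_option Elab.async false

namespace Cfsg.Agent.MultiplierMcL.Five

open Cfsg.Agent.PcCover

theorem mul0 : ((List.range' 0 5).all (fast.mulRow cert)) = true := by decide +kernel

theorem mul (a : ℕ) (h : a < 5) : (fast.mulRow cert) a = true := by
  exact List.all_eq_true.1 mul0 a (List.mem_range'_1.2 ⟨by omega, by omega⟩)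

theorem clos0 : ((List.range' 0 3).all (fast.closBlock cert)) = true := by decide +kernel

theorem clos1 : ((List.range' 3 2).all (fast.closBlock cert)) = true := by decide +kernel

theorem clos (a : ℕ) (h : a < 5) : (fast.closBlock cert) a = true := by
  by_cases h0 : a < 3
  · exact List.all_eq_true.1 clos0 a (List.mem_range'_1.2 ⟨by omega, by omega⟩)
  exact List.all_eq_true.1 clos1 a (List.mem_range'_1.2 ⟨by omega, by omega⟩)

theorem conj0 : ((List.range' 0 2).all (fast.conjRow cert)) = true := by decide +kernel

theorem conj1 : ((List.range' 2 1).all (fast.conjRow cert)) = true := by decide +kernel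

theorem conj (a : ℕ) (h : a < 3) : (fast.conjRow cert) a = true := by
  by_cases h0 : a < 2
  · exact List.all_eq_true.1 conj0 a (List.mem_range'_1.2 ⟨by omega, by omega⟩)
  exact List.all_eq_true.1 conj1 a (List.mem_range'_1.2 ⟨by omega, by omega⟩)

theorem comm : fast.commOK cert = true := by decide +kernel

theorem letters : PermLetter.letterOK 9 275 12 gTab words tabs = true := by decide +kernel

theorem incr : Fast.incr (cert.elems.map (BaseLetter.keyB 9 gBase tabs)) = true := by decide +kernel

theorem rest : restOne cert (BaseLetter.eqB 9 gBase tabs) = true := by decide +kernel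

theorem sizes : cert.T.length = 5 ∧ blocks.length = 5 ∧ cert.n = 3 := by decide +kernel

theorem ok : cert.check (BaseLetter.eqB 9 gBase tabs) = true :=
  check_of (F := fast) (BaseLetter.keyB 9 gBase tabs) (fun _ _ h => BaseLetter.keyB_eq h) rfl
    (fun a ha => mul a (sizes.1 ▸ ha)) (fun a ha => conj a (sizes.2.2 ▸ ha)) comm
    (fun b hb => clos b (sizes.2.1 ▸ hb)) incr rest

end Cfsg.Agent.MultiplierMcL.Five
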