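import Cfsg.Agent.Lib.MultiplierMcL.Group
import Cfsg.Agent.Lib.MultiplierMcL.FastOne
import Cfsg.Agent.Lib.MultiplierMcL.DataThree
import Cfsg.Agent.Lib.PcCover.BaseLetter

/-!
# Indexed checks for the 3-part
-/

set_option autoImplicit false
set_option maxRecDepth 100000
set_option Elab.async false

namespace Cfsg.Agent.MultiplierMcL.Three

open Cfsg.Agent.PcCover

theorem clos7 : ((List.range' 14 2).all (fast.closBlock cert)) = true := by decide +kernel

theorem clos8 : ((List.range' 16 2).all (fast.closBlock cert)) = true := by decide +kernel

theorem clos9 : ((List.range' 18 2).all (fast.closBlock cert)) = true := by decide +kernel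

theorem clos10 : ((List.range' 20 2).all (fast.closBlock cert)) = true := by decide +kernel

theorem clos11 : ((List.range' 22 2).all (fast.closBlock cert)) = true := by decide +kernel

theorem clos12 : ((List.range' 24 2).all (fast.closBlock cert)) = true := by decide +kernel

theorem clos13 : ((List.range' 26 1).all (fast.closBlock cert)) = true := by decide +kernel

end Cfsg.Agent.MultiplierMcL.Three
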