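import Cfsg.Agent.Lib.MultiplierMcL.Group
import Cfsg.Agent.Lib.MultiplierMcL.FastOne
import Cfsg.Agent.Lib.MultiplierMcL.DataThree
import Cfsg.Agent.Lib.PcCover.BaseLetter

/-!
# Indexed checks for the 3-part
-/

set_option autoImplicit false
set_option maxRecDepth 100000
set_option Elab.async false

namespace Cfsg.Agent.MultiplierMcL.Three

open Cfsg.Agent.PcCover

theorem mul0 : ((List.range' 0 6).all (fast.mulRow cert)) = true := by decide +kernel

theorem mul1 : ((List.range' 6 6).all (fast.mulRow cert)) = true := by decide +kernel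

theorem mul2 : ((List.range' 12 6).all (fast.mulRow cert)) = true := by decide +kernel

theorem mul3 : ((List.range' 18 6).all (fast.mulRow cert)) = true := by decide +kernel

theorem mul4 : ((List.range' 24 3).all (fast.mulRow cert)) = true := by decide +kernel

theorem mul (a : ℕ) (h : a < 27) : (fast.mulRow cert) a = true := by
  by_cases h0 : a < 6
  · exact List.all_eq_true.1 mul0 a (List.mem_range'_1.2 ⟨by omega, by omega⟩)
  by_cases h1 : a < 12
  · exact List.all_eq_true.1 mul1 a (List.mem_range'_1.2 ⟨by omega, by omega⟩)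
  by_cases h2 : a < 18
  · exact List.all_eq_true.1 mul2 a (List.mem_range'_1.2 ⟨by omega, by omega⟩)
  by_cases h3 : a < 24
  · exact List.all_eq_true.1 mul3 a (List.mem_range'_1.2 ⟨by omega, by omega⟩)
  exact List.all_eq_true.1 mul4 a (List.mem_range'_1.2 ⟨by omega, by omega⟩)

end Cfsg.Agent.MultiplierMcL.Three
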