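import Cfsg.Agent.Lib.MultiplierMcL.Group
import Cfsg.Agent.Lib.MultiplierMcL.FastOne
import Cfsg.Agent.Lib.MultiplierMcL.DataThree
import Cfsg.Agent.Lib.PcCover.BaseLetter
import Cfsg.Agent.Lib.MultiplierMcL.RowsThreeMul
import Cfsg.Agent.Lib.MultiplierMcL.RowsThreeClosA
import Cfsg.Agent.Lib.MultiplierMcL.RowsThreeClosB

/-!
# Indexed checks for the 3-part
-/

set_option autoImplicit false
set_option maxRecDepth 100000
set_option Elab.async false

namespace Cfsg.Agent.MultiplierMcL.Three

open Cfsg.Agent.PcCover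

theorem clos (a : ℕ) (h : a < 27) : (fast.closBlock cert) a = true := by
  by_cases h0 : a < 2
  · exact List.all_eq_true.1 clos0 a (List.mem_range'_1.2 ⟨by omega, by omega⟩)
  by_cases h1 : a < 4
  · exact List.all_eq_true.1 clos1 a (List.mem_range'_1.2 ⟨by omega, by omega⟩)
  by_cases h2 : a < 6
  · exact List.all_eq_true.1 clos2 a (List.mem_range'_1.2 ⟨by omega, by omega⟩)
  by_cases h3 : a < 8
  · exact List.all_eq_true.1 clos3 a (List.mem_range'_1.2 ⟨by omega, by omega⟩)
  by_cases h4 : a < 10
  · exact List.all_eq_true.1 clos4 a (List.mem_range'_1.2 ⟨by omega, by omega⟩)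
  by_cases h5 : a < 12
  · exact List.all_eq_true.1 clos5 a (List.mem_range'_1.2 ⟨by omega, by omega⟩)
  by_cases h6 : a < 14
  · exact List.all_eq_true.1 clos6 a (List.mem_range'_1.2 ⟨by omega, by omega⟩)
  by_cases h7 : a < 16
  · exact List.all_eq_true.1 clos7 a (List.mem_range'_1.2 ⟨by omega, by omega⟩)
  by_cases h8 : a < 18
  · exact List.all_eq_true.1 clos8 a (List.mem_range'_1.2 ⟨by omega, by omega⟩)
  by_cases h9 : a < 20
  · exact List.all_eq_true.1 clos9 a (List.mem_range'_1.2 ⟨by omega, by omega⟩)
  by_cases h10 : a < 22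
  · exact List.all_eq_true.1 clos10 a (List.mem_range'_1.2 ⟨by omega, by omega⟩)
  by_cases h11 : a < 24
  · exact List.all_eq_true.1 clos11 a (List.mem_range'_1.2 ⟨by omega, by omega⟩)
  by_cases h12 : a < 26
  · exact List.all_eq_true.1 clos12 a (List.mem_range'_1.2 ⟨by omega, by omega⟩)
  exact List.all_eq_true.1 clos13 a (List.mem_range'_1.2 ⟨by omega, by omega⟩)

theorem conj0 : ((List.range' 0 2).all (fast.conjRow cert)) = true := by decide +kernel

theorem conj1 : ((List.range' 2 2).all (fast.conjRow cert)) = true := by decide +kernel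

theorem conj2 : ((List.range' 4 2).all (fast.conjRow cert)) = true := by decide +kernel

theorem conj (a : ℕ) (h : a < 6) : (fast.conjRow cert) a = true := by
  by_cases h0 : a < 2
  · exact List.all_eq_true.1 conj0 a (List.mem_range'_1.2 ⟨by omega, by omega⟩)
  by_cases h1 : a < 4
  · exact List.all_eq_true.1 conj1 a (List.mem_range'_1.2 ⟨by omega, by omega⟩)
  exact List.all_eq_true.1 conj2 a (List.mem_range'_1.2 ⟨by omega, by omega⟩)

theorem comm : fast.commOK cert = true := by decide +kernel

theorem letters : PermLetter.letterOK 9 275 12 gTab words tabs = true := by decide +kernel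

theorem incr : Fast.incr (cert.elems.map (BaseLetter.keyB 9 gBase tabs)) = true := by decide +kernel

theorem rest : restOne cert (BaseLetter.eqB 9 gBase tabs) = true := by decide +kernel

theorem sizes : cert.T.length = 27 ∧ blocks.length = 27 ∧ cert.n = 6 := by decide +kernel

theorem ok : cert.check (BaseLetter.eqB 9 gBase tabs) = true :=
  check_of (F := fast) (BaseLetter.keyB 9 gBase tabs) (fun _ _ h => BaseLetter.keyB_eq h) rfl
    (fun a ha => mul a (sizes.1 ▸ ha)) (fun a ha => conj a (sizes.2.2 ▸ ha)) comm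
    (fun b hb => clos b (sizes.2.1 ▸ hb)) incr rest

end Cfsg.Agent.MultiplierMcL.Three
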