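import Cfsg.Agent.Lib.StabCert.Chain

/-!
# Points fixed through an invariant relation

* `relInv` : a table respects a relation given by lists and masks
* `stepsOK` : each step is determined by its relation to the points known before
* `eq_of_steps` : elements fixing the starting points fix all points
* `eq_of_ev` : words agreeing on the starting points are equal
-/

set_option autoImplicit false

namespace Cfsg.Agent.MultiplierMcL

open Cfsg.Agent.StabCert

/-- One table respects the relation. -/
def relInv (w d T : ℕ) (nb : ℕ → List ℕ) (mk : ℕ → ℕ) : Bool :=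
  (List.range d).all fun i => Nat.blt (look w T i) d &&
    Nat.beq (maskL ((nb i).map (look w T))) (mk (look w T i))

/-- The lists fit their masks. -/
def nbOK (d : ℕ) (nb : ℕ → List ℕ) (mk : ℕ → ℕ) : Bool :=
  (List.range d).all fun i => Nat.beq (mk i) (maskL (nb i)) &&
    (nb i).all fun b => Nat.blt b d

/-- Each step is the only point with its pattern on the points known before; at the end all points
are known. -/
def stepsOK (d : ℕ) (mk : ℕ → ℕ) : ℕ → List ℕ → Bool
  | K, [] => (List.range d).all fun i => K.testBit i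
  | K, i :: r => (Nat.blt i d && (List.range d).all fun j =>
      !Nat.beq (Nat.land (mk j) K) (Nat.land (mk i) K) || Nat.beq j i) &&
      stepsOK d mk (Nat.lor K (Nat.shiftLeft 1 i)) r

/-- The conditions on the steps alone. -/
def stepsPre (d : ℕ) (mk : ℕ → ℕ) : ℕ → List ℕ → Bool
  | _, [] => true
  | K, i :: r => (Nat.blt i d && (List.range d).all fun j =>
      !Nat.beq (Nat.land (mk j) K) (Nat.land (mk i) K) || Nat.beq j i) &&
      stepsPre d mk (Nat.lor K (Nat.shiftLeft 1 i)) r

/-- The points known after some steps. -/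
def known : ℕ → List ℕ → ℕ
  | K, [] => K
  | K, i :: r => known (Nat.lor K (Nat.shiftLeft 1 i)) r

theorem stepsOK_append (d : ℕ) (mk : ℕ → ℕ) : ∀ (a b : List ℕ) (K : ℕ),
    stepsPre d mk K a = true → stepsOK d mk (known K a) b = true → stepsOK d mk K (a ++ b) = true
  | [], _, _, _, h => h
  | i :: a, b, K, ha, hb => by
    rw [stepsPre, Bool.and_eq_true] at ha
    rw [List.cons_append, stepsOK, Bool.and_eq_true]
    exact ⟨ha.1, stepsOK_append d mk a b _ ha.2 hb⟩

section

variable {G X : Type*} [Group G] [Finite G] {ρ : G →* Equiv.Perm X} {gen : ℕ → G} {pt : ℕ → X}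
variable {w d m : ℕ} {tab : List ℕ} {nb : ℕ → List ℕ} {mk : ℕ → ℕ}

/-- An element fixing the starting points fixes every point. -/
theorem fix_of_steps (hact : TablesSound ρ gen pt w d m tab) (hinj : Set.InjOn pt {i | i < d})
    (hb : nbOK d nb mk = true) (ht : ∀ k < m, relInv w d (tab.getD k 0) nb mk = true)
    {g : G} (hg : g ∈ sub gen (List.range m)) :
    ∀ (st : List ℕ) (K : ℕ), stepsOK d mk K st = true →
      (∀ b < d, K.testBit b = true → ρ g (pt b) = pt b) → ∀ i < d, ρ g (pt i) = pt i := by
  simp only [nbOK, List.all_eq_true, List.mem_range, Bool.and_eq_true, Nat.beq_eq,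
    Nat.blt_eq] at hb
  have hmk : ∀ i < d, ∀ b, (mk i).testBit b = true ↔ b ∈ nb i := fun i hi b => by
    rw [(hb i hi).1, testBit_maskL]
  have key : ∀ g ∈ sub gen (List.range m), ∀ i < d, ∃ j < d, ρ g (pt i) = pt j ∧
      pt '' {b | b ∈ nb j} = ρ g '' (pt '' {b | b ∈ nb i}) := by
    intro g hg
    rw [sub, ← Subgroup.mem_toSubmonoid, Subgroup.closure_toSubmonoid_of_finite] at hg
    induction hg using Submonoid.closure_induction_left with
    | one => exact fun i hi => ⟨i, hi, by simp, by simp⟩
    | mul_left x hx y _ ih =>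
      intro i hi
      obtain ⟨j, hj, e1, e2⟩ := ih i hi
      obtain ⟨k, hk, rfl⟩ := hx
      have hk' : k < m := List.mem_range.1 hk
      have hr := ht k hk'
      simp only [relInv, Bool.and_eq_true, List.all_eq_true, List.mem_range, Nat.beq_eq,
        Nat.blt_eq] at hr
      obtain ⟨hl, he⟩ := hr j hj
      refine ⟨look w (tab.getD k 0) j, hl, ?_, ?_⟩
      · rw [map_mul, Equiv.Perm.mul_apply, e1, (hact k hk' j hj).2]
      · have hset : ∀ b, b ∈ nb (look w (tab.getD k 0) j) ↔
            ∃ a ∈ nb j, look w (tab.getD k 0) a = b := fun b => by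
          rw [← hmk _ hl, ← he, testBit_maskL, List.mem_map]
        rw [map_mul, Equiv.Perm.coe_mul, Set.image_comp, ← e2]
        ext z
        constructor
        · rintro ⟨b, hb', rfl⟩
          obtain ⟨a, ha, rfl⟩ := (hset b).1 hb'
          exact ⟨pt a, ⟨a, ha, rfl⟩, (hact k hk' a ((hb j hj).2 a ha)).2⟩
        · rintro ⟨_, ⟨a, ha, rfl⟩, rfl⟩
          exact ⟨_, (hset _).2 ⟨a, ha, rfl⟩, (hact k hk' a ((hb j hj).2 a ha)).2.symm⟩
  intro st
  induction st with
  | nil =>
    intro K h hK i hi
    simp only [stepsOK, List.all_eq_true, List.mem_range] at h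
    exact hK i hi (h i hi)
  | cons a r ih =>
    intro K h hK
    simp only [stepsOK, Bool.and_eq_true, List.all_eq_true, List.mem_range, Nat.blt_eq,
      Bool.or_eq_true, Bool.not_eq_true', Nat.beq_eq] at h
    obtain ⟨⟨ha, huniq⟩, hr⟩ := h
    obtain ⟨j, hj, e1, e2⟩ := key g hg a ha
    have hpat : Nat.land (mk j) K = Nat.land (mk a) K := by
      refine Nat.eq_of_testBit_eq fun b => ?_
      show (mk j &&& K).testBit b = (mk a &&& K).testBit b
      rw [Nat.testBit_and, Nat.testBit_and]
      by_cases hb' : K.testBit b = true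
      swap
      · simp [Bool.eq_false_iff.2 hb']
      rw [hb', Bool.and_true, Bool.and_true, Bool.eq_iff_iff, hmk j hj, hmk a ha]
      constructor
      · intro hm
        have hbd := (hb j hj).2 b hm
        have : pt b ∈ ρ g '' (pt '' {b | b ∈ nb a}) := e2 ▸ ⟨b, hm, rfl⟩
        obtain ⟨_, ⟨c, hc, rfl⟩, hc'⟩ := this
        rw [← hK b hbd hb'] at hc'
        exact (hinj ((hb a ha).2 c hc) hbd ((ρ g).injective hc')) ▸ hc
      · intro hm
        have hbd := (hb a ha).2 b hm
        have : pt b ∈ pt '' {b | b ∈ nb j} := e2 ▸ ⟨pt b, ⟨b, hm, rfl⟩, hK b hbd hb'⟩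
        obtain ⟨c, hc, hc'⟩ := this
        exact hinj ((hb j hj).2 c hc) hbd hc' ▸ hc
    have hja : j = a := by
      rcases huniq j hj with h' | h'
      · rw [← Nat.beq_eq, h'] at hpat
        exact absurd hpat (by simp)
      · exact h'
    refine ih _ hr fun b hbd hb' => ?_
    have hb'' : (K ||| 1 <<< a).testBit b = true := hb'
    rw [Nat.testBit_or, Bool.or_eq_true, Nat.one_shiftLeft, Nat.testBit_two_pow,
      decide_eq_true_eq] at hb''
    rcases hb'' with h' | rfl
    · exact hK b hbd h'
    · rw [e1, hja]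

variable {B : List ℕ} {st : List ℕ}

/-- The starting points determine the element, for a faithful action. -/
theorem det_of_steps (hact : TablesSound ρ gen pt w d m tab) (hinj : Set.InjOn pt {i | i < d})
    (hb : nbOK d nb mk = true) (ht : ∀ k < m, relInv w d (tab.getD k 0) nb mk = true)
    (hst : stepsOK d mk (maskL B) st = true) (hρ : Function.Injective ρ)
    (hsurj : ∀ x, ∃ i < d, pt i = x)
    {g : G} (hg : g ∈ sub gen (List.range m)) (hfix : ∀ β ∈ B, ρ g (pt β) = pt β) : g = 1 := by
  refine hρ (Equiv.ext fun x => ?_)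
  obtain ⟨i, hi, rfl⟩ := hsurj x
  rw [map_one]
  exact fix_of_steps hact hinj hb ht hg st _ hst
    (fun b _ hb' => hfix b ((testBit_maskL B b).1 hb')) i hi

/-- Two words agree on some points. -/
def agreeB (w : ℕ) (tab B : List ℕ) (u v : List ℕ) : Bool :=
  B.all fun β => Nat.beq (ev w tab u β) (ev w tab v β)

/-- Words agreeing on the starting points are equal. -/
theorem eq_of_agree (hact : TablesSound ρ gen pt w d m tab) (hinj : Set.InjOn pt {i | i < d})
    (hB : ∀ β ∈ B, β < d)
    (hdet : ∀ g ∈ sub gen (List.range m), (∀ β ∈ B, ρ g (pt β) = pt β) → g = 1)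
    {u v : List ℕ} (hu : ∀ k ∈ u, k < m) (hv : ∀ k ∈ v, k < m) :
    agreeB w tab B u v = true ↔ wordEl gen u = wordEl gen v := by
  simp only [agreeB, List.all_eq_true, Nat.beq_eq]
  refine ⟨fun h => ?_, fun h β hβ => ?_⟩
  · rw [← inv_mul_eq_one (a := wordEl gen v) |>.1 (hdet _ (mul_mem
      (inv_mem (wordEl_mem gen fun k hk => List.mem_range.2 (hv k hk)))
      (wordEl_mem gen fun k hk => List.mem_range.2 (hu k hk))) fun β hβ => ?_)]
    rw [map_mul, Equiv.Perm.mul_apply, (ev_spec hact u hu β (hB β hβ)).2, h β hβ,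
      ← (ev_spec hact v hv β (hB β hβ)).2, map_inv, Equiv.Perm.inv_def, Equiv.symm_apply_apply]
  · refine hinj (ev_spec hact u hu β (hB β hβ)).1 (ev_spec hact v hv β (hB β hβ)).1 ?_
    rw [← (ev_spec hact u hu β (hB β hβ)).2, ← (ev_spec hact v hv β (hB β hβ)).2, h]

end

end Cfsg.Agent.MultiplierMcL
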