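import Cfsg.Agent.Lib.MultiplierMcL.RowsTwo
import Cfsg.Agent.Lib.MultiplierMcL.RowsThree
import Cfsg.Agent.Lib.MultiplierMcL.RowsFive
import Cfsg.Agent.Lib.Schur.Basic

/-!
# Upper bound for the multiplier of the McLaughlin group

* `exists_surj_three`
-/

set_option autoImplicit false
set_option linter.style.haveILetI false

open Cfsg

universe u

namespace Cfsg.Agent.MultiplierMcL

open Cfsg.Agent.PcCover Cfsg.Agent.StabCert

theorem eq_iff {words : List (List ℕ)} {tabs : List ℕ}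
    (h : PermLetter.letterOK 9 275 12 gTab words tabs = true) (v w : List ℕ) :
    BaseLetter.eqB 9 gBase tabs v w = true ↔
      wp (PermLetter.el gEl words) v = wp (PermLetter.el gEl words) w :=
  BaseLetter.eqB_iff mclPerm.subtype gPt gPt_injOn gBase_lt
    (fun g hg => gEl_det g (sub_gEl_eq_top ▸ Subgroup.mem_top g) hg)
    (BaseLetter.letterSound mclPerm.subtype gPt gEl_sound h) v w

/-- The kernel of a stem extension is an image of a cyclic group of order three. -/
theorem exists_surj_three {Γ : Type u} [Group Γ] [Finite Γ] (σ : Γ →* mclPerm)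
    (hσ : Cfsg.IsStemExtension σ) :
    ∃ π : Multiplicative (ZMod 3) →* σ.ker, Function.Surjective π := by
  classical
  obtain ⟨c₂, h2⟩ := Cert.bound Two.cert (PermLetter.el gEl Two.words) _ (eq_iff Two.letters)
    natCard_mclPerm Nat.prime_two Two.ok hσ
  obtain ⟨c, h3⟩ := Cert.bound Three.cert (PermLetter.el gEl Three.words) _ (eq_iff Three.letters)
    natCard_mclPerm Nat.prime_three Three.ok hσ
  obtain ⟨c₅, h5⟩ := Cert.bound Five.cert (PermLetter.el gEl Five.words) _ (eq_iff Five.letters)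
    natCard_mclPerm Nat.prime_five Five.ok hσ
  have hnot : ∀ (p : ℕ), p.Prime → p ≠ 3 → ∀ (k : ℕ) (z : Γ), z ∈ σ.ker → z ^ p ^ k = 1 → z = 1 := by
    intro p hp hp3 k z hz hord
    by_cases hp2 : p = 2
    · subst hp2; exact (pow_one z).symm.trans (h2 k z hz hord).2
    by_cases hp5 : p = 5
    · subst hp5; exact (pow_one z).symm.trans (h5 k z hz hord).2
    haveI := Fact.mk hp
    have hns : ¬ p ^ 2 ∣ 898128000 := by
      intro hd
      have hpd : p ∣ 2 ^ 7 * (3 ^ 6 * (5 ^ 3 * (7 * 11))) :=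
        (dvd_pow_self p two_ne_zero).trans (by norm_num; exact hd)
      rcases hp.dvd_mul.1 hpd with h | h
      · exact hp2 ((Nat.prime_dvd_prime_iff_eq hp Nat.prime_two).1 (hp.dvd_of_dvd_pow h))
      rcases hp.dvd_mul.1 h with h | h
      · exact hp3 ((Nat.prime_dvd_prime_iff_eq hp Nat.prime_three).1 (hp.dvd_of_dvd_pow h))
      rcases hp.dvd_mul.1 h with h | h
      · exact hp5 ((Nat.prime_dvd_prime_iff_eq hp Nat.prime_five).1 (hp.dvd_of_dvd_pow h))
      rcases hp.dvd_mul.1 h with h | h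
      · rw [(Nat.prime_dvd_prime_iff_eq hp (by norm_num)).1 h] at hd; norm_num at hd
      · rw [(Nat.prime_dvd_prime_iff_eq hp (by norm_num)).1 h] at hd; norm_num at hd
    by_cases hd : p ∣ Nat.card mclPerm
    · obtain ⟨r, hr⟩ := exists_prime_orderOf_dvd_card' (G := mclPerm) p hd
      refine Schur.eq_one_of_cyclic hσ hp r (fun hdi => hns ?_) hz hord
      rw [← natCard_mclPerm, pow_two, ← (Subgroup.zpowers r).card_mul_index, Nat.card_zpowers, hr]
      exact Nat.mul_dvd_mul_left p hdi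
    · refine Schur.eq_one_of_cyclic hσ hp 1 (fun hdi => hd ?_) hz hord
      rwa [Subgroup.zpowers_one_eq_bot, Subgroup.index_bot] at hdi
  have hmem : σ.ker ≤ Subgroup.zpowers c := Schur.le_of_primary fun p hp k w hw hwk => by
    by_cases hp3 : p = 3
    · subst hp3; exact (h3 k w hw hwk).1
    · rw [hnot p hp hp3 k w hw hwk]; exact one_mem _
  haveI : IsCyclic σ.ker := Subgroup.isCyclic_of_le hmem
  obtain ⟨g, hg⟩ := IsCyclic.exists_generator (α := σ.ker)
  letI : CommGroup σ.ker :=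
    { (inferInstance : Group σ.ker) with
      mul_comm := fun x y => Subtype.ext ((Subgroup.mem_center_iff.1 (hσ.2.1 y.2)) x.1) }
  have hcube : ∀ z : σ.ker, z ^ 3 = 1 := by
    let K : Subgroup Γ := (powMonoidHom 3 : σ.ker →* σ.ker).ker.map σ.ker.subtype
    have hK : σ.ker ≤ K := Schur.le_of_primary fun p hp k w hw hwk => by
      refine ⟨⟨w, hw⟩, Subtype.ext ?_, rfl⟩
      show w ^ 3 = 1
      by_cases hp3 : p = 3
      · subst hp3; exact (h3 k w hw hwk).2
      · rw [hnot p hp hp3 k w hw hwk, one_pow]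
    intro z
    obtain ⟨w, hw, hwz⟩ := hK z.2
    rw [← Subtype.ext hwz]
    exact hw
  let f : ℤ →+ Additive σ.ker := zmultiplesHom _ (Additive.ofMul g)
  have hf : f ((3 : ℕ) : ℤ) = 0 := by
    show Additive.ofMul (g ^ ((3 : ℕ) : ℤ)) = 0
    rw [zpow_natCast, hcube]
    rfl
  refine ⟨AddMonoidHom.toMultiplicativeLeft (ZMod.lift 3 ⟨f, hf⟩), fun x => ?_⟩
  obtain ⟨i, hi⟩ := Subgroup.mem_zpowers_iff.1 (hg x)
  refine ⟨Multiplicative.ofAdd (i : ZMod 3), ?_⟩
  show Additive.toMul (ZMod.lift 3 ⟨f, hf⟩ (i : ZMod 3)) = x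
  rw [ZMod.lift_coe]
  exact hi

end Cfsg.Agent.MultiplierMcL
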